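import Mathlib
import Cfsg.Prelude.Def_OddOrderLocal
import Cfsg.Agent.Lib.helper86.BG1356Defs
import Cfsg.Agent.Lib.helper8.BG1355

/-!
# S1356, piece A2a (helper86's split): `M_σ` not nilpotent ⟹ type P1

If `M_σ` is not nilpotent then every prime of `|M|` outside `σ(M)` lies in `κ(M)` (landed S1429), so a
complement `E` of `M_σ` in `M` is a Hall `κ(M)`-subgroup, cyclic by the frozen S1351, and `(E, ⊥)` is a
σ-decomposition of `M` with `E ≠ ⊥`.
-/

set_option autoImplicit false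

namespace Cfsg.Agent.Lib.helper86.BG1356

open Cfsg Subgroup

variable {G : Type*} [Group G]

/-- **A2a.** If `M_σ` is not nilpotent then `M = K M_σ` with `K ≠ 1` a (cyclic) Hall
`κ(M)`-subgroup: `(K, ⊥)` is a σ-decomposition.  (S1429 contrapositive + S1351 + S1350.) -/
theorem p1_of_not_nilpotent [Finite G] (hG : IsMinSimpleOddOrder G) (h51 : H1351 G)
    (M : Subgroup G) (hM : IsCoatom M) (hnn : ¬ Group.IsNilpotent ↥(sigmaCore M)) :
    ∃ K : Subgroup G, IsSigmaDecomposition M K ⊥ ∧ K ≠ ⊥ := by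
  classical
  have hσc := Cfsg.Agent.Lib.helper8.BG1355.sigmaCore_le_commutator hG M hM
  have hclt := Cfsg.Agent.Lib.helper8.BG1355.commutator_lt hG M hM
  obtain ⟨E, hE⟩ := Cfsg.Agent.Lib.helper60.BGSylU.exists_compl_sigmaCore hG M hM
  obtain ⟨hEM, hσM, hEσ, hprod⟩ := id hE
  obtain ⟨hH1, -, -⟩ := Cfsg.Agent.S1350.result hG M hM
  have hall : ∀ q : ℕ, q.Prime → q ∣ Nat.card M → q ∉ sigma M → q ∈ kappa M := by
    by_contra hP1
    have hP1' := hP1
    push Not at hP1'
    obtain ⟨q, hq, hqM, hqσ, hqκ⟩ := hP1'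
    have : Fact q.Prime := ⟨hq⟩
    obtain ⟨S⟩ : Nonempty (Sylow q ↥M) := inferInstance
    have hq' : q ∉ sigma M ∪ kappa M := by
      intro h
      rcases h with h | h
      · exact hqσ h
      · exact hqκ h
    exact hnn (Cfsg.Agent.S1429.result hG M hM hP1 q hqM hq' S).2.2
  have hcard := Cfsg.Agent.Lib.helper60.BGCentU.card_of_isComplIn hE
  -- `E` is a Hall `κ(M)`-subgroup
  have hHallE : IsPiHallOf (kappa M) E M := by
    refine ⟨hEM, ?_, ?_⟩
    · intro p hp hpE
      exact hall p hp (hpE.trans (Subgroup.card_dvd_of_le hEM))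
        (Cfsg.Agent.Lib.helper8.BGT3.t3_not_sigma_of_dvd_compl hG M hM E hE p hp hpE)
    · intro p hp hpκ hpd
      have hpσ : p ∉ sigma M := hpκ.2.2.1
      have h1 := Subgroup.card_mul_index (E.subgroupOf M)
      have h2 : Nat.card ↥(E.subgroupOf M) = Nat.card ↥E :=
        Nat.card_congr (Subgroup.subgroupOfEquivOfLe hEM).toEquiv
      rw [h2, ← hcard] at h1
      have h3 : (E.subgroupOf M).index = Nat.card ↥(sigmaCore M) :=
        Nat.eq_of_mul_eq_mul_left Nat.card_pos h1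
      have h4 : p ∣ Nat.card ↥(sigmaCore M) := h3 ▸ hpd
      exact hpσ (hH1.2.1 p hp h4)
  have hE1 : E ≠ ⊥ := by
    intro hbot
    have hMσ : M ≤ sigmaCore M := by
      intro m hm
      obtain ⟨e, he, s, hs, rfl⟩ := hprod m hm
      rw [hbot, Subgroup.mem_bot] at he
      rw [he, one_mul]; exact hs
    exact (lt_of_le_of_lt (hMσ.trans hσc) hclt).false
  have hEc : IsCyclic ↥E := (h51 M hM).2 E hHallE
  have hKU : IsSigmaDecomposition M E ⊥ := by
    refine ⟨hEc, hHallE, ⟨bot_le, sup_le hEM hσM, bot_inf_eq _, ?_⟩, ?_⟩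
    · intro m hm
      obtain ⟨e, he, s, hs, rfl⟩ := hprod m hm
      exact ⟨1, Subgroup.mem_bot.mpr rfl, e * s,
        Subgroup.mul_mem _ (Subgroup.mem_sup_left he) (Subgroup.mem_sup_right hs), by simp⟩
    · intro x _
      rw [Subgroup.mem_normalizer_iff]
      intro y
      simp
  exact ⟨E, hKU, hE1⟩

end Cfsg.Agent.Lib.helper86.BG1356
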