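import Mathlib
import Cfsg.Prelude.Def_OddOrderLocal
import Cfsg.Agent.Lib.helper65.Fitting

/-!
Bender–Glauberman 14.7(f),(g) (row S1369) from the frozen statements of earlier rows, taken as
explicit hypotheses `H13xx G` (the statement of row `S13xx` for the group `G`, without `hG`).

* `two_classes`: every maximal subgroup `H` with `κ(H) ≠ ∅` is conjugate to `M` or to `M*`
  (from `H1351`, `H1352`, `H1354`, `H1366`, `H1367`, `H1434`; no `S1379`).
* `not_both_P1`: `U = 1` and `U* = 1` cannot both hold (counting with `H1377`, `H1379`, `H1431`,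
  `H1434`).
* `s1369_of_frozen`: the statement of S1369.
-/

set_option autoImplicit false
open Cfsg

namespace Cfsg.Agent.Lib.helper10.BG1369

variable {G : Type*} [Group G]

/-- `K* = M_σ ∩ C_G(K)`. -/
abbrev ks (M K : Subgroup G) : Subgroup G :=
  Cfsg.sigmaCore M ⊓ Subgroup.centralizer (K : Set G)

/-- `Ẑ = K K* − (K ∪ K*)`. -/
abbrev zh (M K : Subgroup G) : Set G :=
  (↑(K ⊔ ks M K) : Set G) \ ((K : Set G) ∪ ↑(ks M K))

/-- the union of the conjugates of `Ẑ`. -/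
abbrev cz (M K : Subgroup G) : Set G :=
  {a : G | ∃ g : G, ∃ z ∈ zh M K, a = g * z * g⁻¹}

/-- `M̃`. -/
abbrev tl (M : Subgroup G) : Set G :=
  Cfsg.tildeOf M ((Cfsg.sigmaCore M : Set G) \ {1})

/-- frozen S1351 -/
def H1351 (G : Type*) [Group G] : Prop :=
  ∀ M : Subgroup G, IsCoatom M →
    (∃ K : Subgroup G, Cfsg.IsPiHallOf (Cfsg.kappa M) K M) ∧
      ∀ K : Subgroup G, Cfsg.IsPiHallOf (Cfsg.kappa M) K M → IsCyclic K

/-- frozen S1352 -/
def H1352 (G : Type*) [Group G] : Prop :=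
  ∀ M : Subgroup G, IsCoatom M → ∀ K : Subgroup G, IsCyclic K →
    Cfsg.IsPiHallOf (Cfsg.kappa M) K M →
    (∃ U : Subgroup G, Cfsg.IsSigmaDecomposition M K U) ∧
      ∀ U : Subgroup G, Cfsg.IsSigmaDecomposition M K U →
        M ≤ Subgroup.normalizer ((U ⊔ Cfsg.sigmaCore M : Subgroup G) : Set G)

/-- frozen S1354 -/
def H1354 (G : Type*) [Group G] : Prop :=
  ∀ M : Subgroup G, IsCoatom M → ∀ K : Subgroup G, IsCyclic K →
    Cfsg.IsPiHallOf (Cfsg.kappa M) K M →
    ks M K ≠ ⊥ ∧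
      (K ≠ ⊥ → ∀ k ∈ K, k ≠ 1 →
        M ⊓ Subgroup.centralizer ({k} : Set G) = K ⊔ ks M K)

/-- frozen S1366 -/
def H1366 (G : Type*) [Group G] : Prop :=
  ∀ M : Subgroup G, IsCoatom M → ∀ K U : Subgroup G, Cfsg.IsSigmaDecomposition M K U → K ≠ ⊥ →
    ∃! Mstar : Subgroup G, IsCoatom Mstar ∧ K = ks Mstar (ks M K) ∧
        Cfsg.IsPiHallOf (Cfsg.kappa Mstar) (ks M K) Mstar

/-- frozen S1367 -/
def H1367 (G : Type*) [Group G] : Prop :=
  ∀ M : Subgroup G, IsCoatom M → ∀ K U : Subgroup G, Cfsg.IsSigmaDecomposition M K U → K ≠ ⊥ →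
    ∀ Mstar : Subgroup G, IsCoatom Mstar → K = ks Mstar (ks M K) →
    Cfsg.IsPiHallOf (Cfsg.kappa Mstar) (ks M K) Mstar →
    (∀ X : Subgroup G, X ≤ ks M K → (Nat.card X).Prime →
        Subgroup.centralizer (X : Set G) ≤ M ∧
          ∀ L : Subgroup G, IsCoatom L → Subgroup.centralizer (X : Set G) ≤ L → L = M) ∧
      (∀ Y : Subgroup G, Y ≤ K → (Nat.card Y).Prime →
        Subgroup.centralizer (Y : Set G) ≤ Mstar ∧
          ∀ L : Subgroup G, IsCoatom L → Subgroup.centralizer (Y : Set G) ≤ L → L = Mstar)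

/-- frozen S1434 -/
def H1434 (G : Type*) [Group G] : Prop :=
  ∀ M : Subgroup G, IsCoatom M → ∀ K U : Subgroup G, Cfsg.IsSigmaDecomposition M K U → K ≠ ⊥ →
    ∀ Mstar : Subgroup G, IsCoatom Mstar → K = ks Mstar (ks M K) →
    Cfsg.IsPiHallOf (Cfsg.kappa Mstar) (ks M K) Mstar →
    Cfsg.kappa M = Cfsg.tau1 M ∧ Cfsg.IsPiHallOf (Cfsg.sigma M) (ks M K) Mstar ∧
      (∀ x ∈ K, x ≠ 1 → ∀ y ∈ ks M K, y ≠ 1 →
        M ⊓ Subgroup.centralizer ({x} : Set G) = K ⊔ ks M K ∧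
        Mstar ⊓ Subgroup.centralizer ({y} : Set G) = K ⊔ ks M K ∧
        Subgroup.centralizer ({x * y} : Set G) = K ⊔ ks M K) ∧
      (∀ g : G, g ∉ M → ∀ z ∈ zh M K, z ∉ M.map (MulAut.conj g).toMonoidHom) ∧
      Nat.card K * Nat.card ↥(ks M K) * Set.ncard (cz M K) =
        (Nat.card K * Nat.card ↥(ks M K) - Nat.card K - Nat.card ↥(ks M K) + 1) * Nat.card G ∧
      Nat.card G < 2 * Set.ncard (cz M K)

/-- frozen S1431 -/
def H1431 (G : Type*) [Group G] : Prop :=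
  ∀ M : Subgroup G, IsCoatom M → ∀ K : Subgroup G, Cfsg.IsPiHallOf (Cfsg.kappa M) K M → K ≠ ⊥ →
    (∀ g : G, g ∉ M → ks M K ⊓ M.map (MulAut.conj g).toMonoidHom = ⊥) ∧
      (∀ g ∈ M, g ∉ K ⊔ ks M K → K ⊓ K.map (MulAut.conj g).toMonoidHom = ⊥) ∧
      (∀ (p : ℕ), p.Prime → p ∣ Nat.card ↥(ks M K) → ∀ S : Sylow p ↥(Cfsg.sigmaCore M),
        Cfsg.InUniqueMaximal ((S : Subgroup ↥(Cfsg.sigmaCore M)).map (Cfsg.sigmaCore M).subtype) ∧
        (S : Subgroup ↥(Cfsg.sigmaCore M)).map (Cfsg.sigmaCore M).subtype ≤ M ∧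
        ¬ (S : Subgroup ↥(Cfsg.sigmaCore M)).map (Cfsg.sigmaCore M).subtype ≤ ks M K) ∧
      ∀ Y : Subgroup G, (∀ p : ℕ, p.Prime → p ∣ Nat.card Y → p ∈ Cfsg.sigma M) →
        Y ⊓ ks M K ≠ ⊥ → Y ≤ Cfsg.sigmaCore M

/-- frozen S1377 -/
def H1377 (G : Type*) [Group G] : Prop :=
  ∀ M : Subgroup G, IsCoatom M →
    Set.ncard (tl M) = (Nat.card (Cfsg.sigmaCore M) - 1) * M.index

/-- frozen S1379 -/
def H1379 (G : Type*) [Group G] : Prop :=
  (∀ M N : Subgroup G, IsCoatom M → IsCoatom N →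
      (∀ g : G, N ≠ M.map (MulAut.conj g).toMonoidHom) → tl M ∩ tl N = ∅) ∧
    ((∀ M : Subgroup G, IsCoatom M → Cfsg.kappa M = ∅) →
      ∀ g : G, g ≠ 1 → ∃ M : Subgroup G, IsCoatom M ∧ g ∈ tl M) ∧
    ∀ (M K U : Subgroup G), IsCoatom M → Cfsg.IsSigmaDecomposition M K U → K ≠ ⊥ →
      (∀ g : G, g ≠ 1 → (∃ N : Subgroup G, IsCoatom N ∧ g ∈ tl N) ∨
          ∃ y : G, ∃ z ∈ zh M K, g = y * z * y⁻¹) ∧
      ∀ N : Subgroup G, IsCoatom N → ∀ y : G, ∀ z ∈ zh M K, y * z * y⁻¹ ∉ tl N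

/-! ## Small general lemmas -/

/-- Two subsets of a finite type, each with more than half of the elements, meet. -/
theorem inter_nonempty_of_big {α : Type*} [Finite α] (S T : Set α)
    (hS : Nat.card α < 2 * S.ncard) (hT : Nat.card α < 2 * T.ncard) : (S ∩ T).Nonempty := by
  by_contra h
  rw [Set.not_nonempty_iff_eq_empty] at h
  have hd : Disjoint S T := Set.disjoint_iff_inter_eq_empty.mpr h
  have h1 := Set.ncard_union_eq hd (Set.toFinite S) (Set.toFinite T)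
  have h2 : (S ∪ T).ncard ≤ Nat.card α := by
    rw [← Set.ncard_univ]
    exact Set.ncard_le_ncard (Set.subset_univ _) (Set.toFinite _)
  omega

/-- Elements of the join of two elementwise commuting subgroups are products. -/
theorem mem_sup_of_comm {A B : Subgroup G} (hc : ∀ a ∈ A, ∀ b ∈ B, a * b = b * a) {z : G}
    (hz : z ∈ A ⊔ B) : ∃ a ∈ A, ∃ b ∈ B, z = a * b := by
  rw [Subgroup.sup_eq_closure_mul] at hz
  induction hz using Subgroup.closure_induction with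
  | mem x hx =>
    obtain ⟨a, ha, b, hb, rfl⟩ := Set.mem_mul.mp hx
    exact ⟨a, ha, b, hb, rfl⟩
  | one => exact ⟨1, A.one_mem, 1, B.one_mem, by simp⟩
  | mul x y _ _ hx hy =>
    obtain ⟨a, ha, b, hb, rfl⟩ := hx
    obtain ⟨a', ha', b', hb', rfl⟩ := hy
    refine ⟨a * a', A.mul_mem ha ha', b * b', B.mul_mem hb hb', ?_⟩
    have h := hc a' ha' b hb
    calc a * b * (a' * b') = a * (b * a') * b' := by group
      _ = a * (a' * b) * b' := by rw [h]
      _ = a * a' * (b * b') := by group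
  | inv x _ hx =>
    obtain ⟨a, ha, b, hb, rfl⟩ := hx
    refine ⟨a⁻¹, A.inv_mem ha, b⁻¹, B.inv_mem hb, ?_⟩
    have h := hc a⁻¹ (A.inv_mem ha) b⁻¹ (B.inv_mem hb)
    rw [h]; group

/-- The centralizer of a conjugate element. -/
theorem centralizer_conj_singleton (c z : G) :
    Subgroup.centralizer ({c * z * c⁻¹} : Set G) =
      (Subgroup.centralizer ({z} : Set G)).map (MulAut.conj c).toMonoidHom := by
  ext w
  simp only [Subgroup.mem_map, Subgroup.mem_centralizer_iff, Set.mem_singleton_iff, forall_eq,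
    MulEquiv.coe_toMonoidHom, MulAut.conj_apply]
  constructor
  · intro h
    refine ⟨c⁻¹ * w * c, ?_, by group⟩
    calc z * (c⁻¹ * w * c) = c⁻¹ * (c * z * c⁻¹ * w) * c := by group
      _ = c⁻¹ * (w * (c * z * c⁻¹)) * c := by rw [h]
      _ = c⁻¹ * w * c * z := by group
  · rintro ⟨v, hv, rfl⟩
    calc c * z * c⁻¹ * (c * v * c⁻¹) = c * (z * v) * c⁻¹ := by group
      _ = c * (v * z) * c⁻¹ := by rw [hv]
      _ = c * v * c⁻¹ * (c * z * c⁻¹) := by group

/-- The centralizer of a conjugate subgroup. -/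
theorem centralizer_conj_subgroup (c : G) (X : Subgroup G) :
    Subgroup.centralizer ((X.map (MulAut.conj c).toMonoidHom : Subgroup G) : Set G) =
      (Subgroup.centralizer (X : Set G)).map (MulAut.conj c).toMonoidHom := by
  ext w
  simp only [Subgroup.mem_map, Subgroup.mem_centralizer_iff, SetLike.mem_coe,
    MulEquiv.coe_toMonoidHom, MulAut.conj_apply]
  constructor
  · intro h
    refine ⟨c⁻¹ * w * c, ?_, by group⟩
    intro v hv
    have h1 := h (c * v * c⁻¹) ⟨v, hv, rfl⟩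
    calc v * (c⁻¹ * w * c) = c⁻¹ * (c * v * c⁻¹ * w) * c := by group
      _ = c⁻¹ * (w * (c * v * c⁻¹)) * c := by rw [h1]
      _ = c⁻¹ * w * c * v := by group
  · rintro ⟨t, ht, rfl⟩ u ⟨v, hv, rfl⟩
    have h1 := ht v hv
    calc c * v * c⁻¹ * (c * t * c⁻¹) = c * (v * t) * c⁻¹ := by group
      _ = c * (t * v) * c⁻¹ := by rw [h1]
      _ = c * t * c⁻¹ * (c * v * c⁻¹) := by group

/-- A conjugate of a maximal subgroup is maximal. -/
theorem isCoatom_map_conj {M : Subgroup G} (hM : IsCoatom M) (c : G) :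
    IsCoatom (M.map (MulAut.conj c).toMonoidHom) := by
  have h := (OrderIso.isCoatom_iff (MulEquiv.mapSubgroup (MulAut.conj c)) M).mpr hM
  exact h

/-- Primes dividing `|M_σ|` lie in `σ(M)`. -/
theorem sigma_of_dvd_sigmaCore [Finite G] (M : Subgroup G) {q : ℕ} (hq : q.Prime)
    (h : q ∣ Nat.card (Cfsg.sigmaCore M)) : q ∈ Cfsg.sigma M := by
  have hcard : Nat.card (Cfsg.sigmaCore M) = Nat.card (Cfsg.piCore (Cfsg.sigma M) ↥M) := by
    unfold Cfsg.sigmaCore
    exact Subgroup.card_map_of_injective M.subtype_injective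
  rw [hcard] at h
  exact Cfsg.Agent.Lib.helper65.piCore_isPiGrp (G := M) (Cfsg.sigma M) q hq h

/-- A `κ(M)`-group and `M_σ` have coprime orders. -/
theorem coprime_kappa_sigmaCore [Finite G] (M K : Subgroup G)
    (hK : ∀ p : ℕ, p.Prime → p ∣ Nat.card K → p ∈ Cfsg.kappa M) :
    (Nat.card K).Coprime (Nat.card (Cfsg.sigmaCore M)) := by
  by_contra h
  obtain ⟨p, hp, hpd⟩ := Nat.exists_prime_and_dvd h
  have h1 : p ∣ Nat.card K := hpd.trans (Nat.gcd_dvd_left _ _)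
  have h2 : p ∣ Nat.card (Cfsg.sigmaCore M) := hpd.trans (Nat.gcd_dvd_right _ _)
  exact (hK p hp h1).2.2.1 (sigma_of_dvd_sigmaCore M hp h2)


/-- A nontrivial subgroup of a finite group has an element of prime order. -/
theorem exists_prime_order [Finite G] {X : Subgroup G} (hX : X ≠ ⊥) :
    ∃ y ∈ X, (orderOf y).Prime := by
  have h1 : Nat.card X ≠ 1 := fun h => hX (Subgroup.card_eq_one.mp h)
  obtain ⟨p, hp, hpd⟩ := Nat.exists_prime_and_dvd h1
  have : Fact p.Prime := ⟨hp⟩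
  obtain ⟨y, hy⟩ := exists_prime_orderOf_dvd_card' (G := X) p hpd
  refine ⟨(y : G), y.2, ?_⟩
  rw [Subgroup.orderOf_coe, hy]
  exact hp

/-- An element of prime order of `K K*` lies in `K` or in `K*`. -/
theorem prime_order_mem_or [Finite G] (M K : Subgroup G)
    (hK : ∀ p : ℕ, p.Prime → p ∣ Nat.card K → p ∈ Cfsg.kappa M)
    {w : G} (hw : w ∈ K ⊔ ks M K) (hwp : (orderOf w).Prime) : w ∈ K ∨ w ∈ ks M K := by
  have hc : ∀ a ∈ K, ∀ b ∈ ks M K, a * b = b * a := fun a ha b hb =>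
    (Subgroup.mem_centralizer_iff.mp hb.2) a ha
  obtain ⟨a, ha, b, hb, rfl⟩ := mem_sup_of_comm hc hw
  have hcop : (orderOf a).Coprime (orderOf b) := by
    have h1 := coprime_kappa_sigmaCore M K hK
    have ha' : orderOf a ∣ Nat.card K := Subgroup.orderOf_dvd_natCard K ha
    have hb' : orderOf b ∣ Nat.card (Cfsg.sigmaCore M) := Subgroup.orderOf_dvd_natCard _ hb.1
    exact Nat.Coprime.coprime_dvd_left ha' (Nat.Coprime.coprime_dvd_right hb' h1)
  have hmul : orderOf (a * b) = orderOf a * orderOf b :=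
    Commute.orderOf_mul_eq_mul_orderOf_of_coprime (hc a ha b hb) hcop
  rw [hmul] at hwp
  rcases Nat.prime_mul_iff.mp hwp with ⟨_, h1⟩ | ⟨_, h1⟩
  · left
    have hb1 : b = 1 := orderOf_eq_one_iff.mp h1
    rw [hb1, mul_one]
    exact ha
  · right
    have ha1 : a = 1 := orderOf_eq_one_iff.mp h1
    rw [ha1, one_mul]
    exact hb

/-- The centralizer of an element of `Ẑ`. -/
theorem cent_of_mem_zh {M K Z : Subgroup G}
    (hc : ∀ x ∈ K, x ≠ 1 → ∀ y ∈ ks M K, y ≠ 1 →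
      Subgroup.centralizer ({x * y} : Set G) = Z)
    {z : G} (hz : z ∈ zh M K) : Subgroup.centralizer ({z} : Set G) = Z := by
  obtain ⟨hz1, hz2⟩ := hz
  have hcomm : ∀ a ∈ K, ∀ b ∈ ks M K, a * b = b * a := fun a ha b hb =>
    (Subgroup.mem_centralizer_iff.mp hb.2) a ha
  obtain ⟨x, hx, y, hy, rfl⟩ := mem_sup_of_comm hcomm hz1
  have hx1 : x ≠ 1 := by
    rintro rfl
    apply hz2
    right
    simpa using hy
  have hy1 : y ≠ 1 := by
    rintro rfl
    apply hz2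
    left
    simpa using hx
  exact hc x hx hx1 y hy hy1

/-! ## Clause 2: two classes of maximal subgroups with `κ ≠ ∅` -/

/-- B-G 14.7(g): every maximal subgroup `H` with `κ(H) ≠ ∅` is conjugate to `M` or `M*`
(from the frozen rows S1351, S1352, S1354, S1366, S1367, S1434). -/
theorem two_classes [Finite G] (h51 : H1351 G) (h52 : H1352 G) (h54 : H1354 G) (h66 : H1366 G)
    (h67 : H1367 G) (h34 : H1434 G)
    (M : Subgroup G) (hM : IsCoatom M) (K U : Subgroup G) (hKU : Cfsg.IsSigmaDecomposition M K U)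
    (hK1 : K ≠ ⊥) (Mstar : Subgroup G) (hMstar : IsCoatom Mstar)
    (hKst : K = ks Mstar (ks M K))
    (hKstH : Cfsg.IsPiHallOf (Cfsg.kappa Mstar) (ks M K) Mstar) :
    ∀ H : Subgroup G, IsCoatom H → (Cfsg.kappa H).Nonempty →
      ∃ g : G, H = M.map (MulAut.conj g).toMonoidHom ∨
        H = Mstar.map (MulAut.conj g).toMonoidHom := by
  intro H hH hκ
  obtain ⟨⟨KH, hKH⟩, hcyc⟩ := h51 H hH
  have hKHc : IsCyclic KH := hcyc KH hKH
  have hKH1 : KH ≠ ⊥ := by
    obtain ⟨p, hp⟩ := hκ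
    intro h
    apply hKH.2.2 p hp.1 hp
    rw [h, Subgroup.relIndex_bot_left]
    exact hp.2.1
  obtain ⟨⟨UH, hUH⟩, -⟩ := h52 H hH KH hKHc hKH
  obtain ⟨Hst, ⟨hHst, hKHst, hKHstH⟩, -⟩ := h66 H hH KH UH hUH hKH1
  obtain ⟨-, -, hcA, -, -, hbigA⟩ := h34 M hM K U hKU hK1 Mstar hMstar hKst hKstH
  obtain ⟨-, -, hcB, -, -, hbigB⟩ := h34 H hH KH UH hUH hKH1 Hst hHst hKHst hKHstH
  obtain ⟨a, haA, haB⟩ := inter_nonempty_of_big _ _ hbigA hbigB
  obtain ⟨g, z, hz, rfl⟩ := haA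
  obtain ⟨h, z', hz', hEq⟩ := haB
  have hCz : Subgroup.centralizer ({z} : Set G) = K ⊔ ks M K :=
    cent_of_mem_zh (fun x hx hx1 y hy hy1 => (hcA x hx hx1 y hy hy1).2.2) hz
  have hCz' : Subgroup.centralizer ({z'} : Set G) = KH ⊔ ks H KH :=
    cent_of_mem_zh (fun x hx hx1 y hy hy1 => (hcB x hx hx1 y hy hy1).2.2) hz'
  obtain ⟨c, hc⟩ : ∃ c : G, c = h⁻¹ * g := ⟨_, rfl⟩
  have hz'c : z' = c * z * c⁻¹ := by
    have h1 : z' = h⁻¹ * (h * z' * h⁻¹) * h := by group
    rw [h1, ← hEq, hc]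
    group
  have hZ : KH ⊔ ks H KH = (K ⊔ ks M K).map (MulAut.conj c).toMonoidHom := by
    rw [← hCz', hz'c, centralizer_conj_singleton, hCz]
  have hKHs1 : ks H KH ≠ ⊥ := (h54 H hH KH hKHc hKH).1
  obtain ⟨y, hy, hyp⟩ := exists_prime_order hKHs1
  have hyZ : y ∈ (K ⊔ ks M K).map (MulAut.conj c).toMonoidHom := by
    rw [← hZ]
    exact Subgroup.mem_sup_right hy
  obtain ⟨w, hw, hwy⟩ := Subgroup.mem_map.mp hyZ
  have hwp : (orderOf w).Prime := by
    have h1 : orderOf y = orderOf w := by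
      rw [← hwy]
      exact MulEquiv.orderOf_eq (MulAut.conj c) w
    rwa [← h1]
  have hcardw : Nat.card (Subgroup.zpowers w) = orderOf w := Nat.card_zpowers w
  have hYmap : (Subgroup.zpowers w).map (MulAut.conj c).toMonoidHom = Subgroup.zpowers y := by
    rw [MonoidHom.map_zpowers, hwy]
  have hYle : Subgroup.zpowers y ≤ ks H KH := (Subgroup.zpowers_le).mpr hy
  have hYp : (Nat.card (Subgroup.zpowers y)).Prime := by
    rw [Nat.card_zpowers]
    exact hyp
  have hH67 := (h67 H hH KH UH hUH hKH1 Hst hHst hKHst hKHstH).1 (Subgroup.zpowers y) hYle hYp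
  have hCY : Subgroup.centralizer ((Subgroup.zpowers y : Subgroup G) : Set G) =
      (Subgroup.centralizer ((Subgroup.zpowers w : Subgroup G) : Set G)).map
        (MulAut.conj c).toMonoidHom := by
    rw [← hYmap, centralizer_conj_subgroup]
  have hKκ : ∀ p : ℕ, p.Prime → p ∣ Nat.card K → p ∈ Cfsg.kappa M := hKU.hall.2.1
  have hM67 := h67 M hM K U hKU hK1 Mstar hMstar hKst hKstH
  have hwcard : (Nat.card (Subgroup.zpowers w)).Prime := by
    rw [hcardw]
    exact hwp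
  refine ⟨c, ?_⟩
  rcases prime_order_mem_or M K hKκ hw hwp with hwK | hwKs
  · right
    have h1 := (hM67.2 (Subgroup.zpowers w) ((Subgroup.zpowers_le).mpr hwK) hwcard).1
    have h2 : Subgroup.centralizer ((Subgroup.zpowers y : Subgroup G) : Set G) ≤
        Mstar.map (MulAut.conj c).toMonoidHom := by
      rw [hCY]
      exact Subgroup.map_mono h1
    exact (hH67.2 _ (isCoatom_map_conj hMstar c) h2).symm
  · left
    have h1 := (hM67.1 (Subgroup.zpowers w) ((Subgroup.zpowers_le).mpr hwKs) hwcard).1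
    have h2 : Subgroup.centralizer ((Subgroup.zpowers y : Subgroup G) : Set G) ≤
        M.map (MulAut.conj c).toMonoidHom := by
      rw [hCY]
      exact Subgroup.map_mono h1
    exact (hH67.2 _ (isCoatom_map_conj hM c) h2).symm

/-! ## Clause 1: `U = 1 = U*` is impossible (counting) -/

/-- Elements of `A ⊔ N`, with `A` normalizing `N` elementwise, are products. -/
theorem mem_sup_of_conj {A N : Subgroup G} (hn : ∀ a ∈ A, ∀ n ∈ N, a * n * a⁻¹ ∈ N) {z : G}
    (hz : z ∈ A ⊔ N) : ∃ a ∈ A, ∃ n ∈ N, z = a * n := by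
  rw [Subgroup.sup_eq_closure_mul] at hz
  induction hz using Subgroup.closure_induction with
  | mem x hx =>
    obtain ⟨a, ha, b, hb, rfl⟩ := Set.mem_mul.mp hx
    exact ⟨a, ha, b, hb, rfl⟩
  | one => exact ⟨1, A.one_mem, 1, N.one_mem, by simp⟩
  | mul x y _ _ hx hy =>
    obtain ⟨a, ha, b, hb, rfl⟩ := hx
    obtain ⟨a', ha', b', hb', rfl⟩ := hy
    refine ⟨a * a', A.mul_mem ha ha', a'⁻¹ * b * a'⁻¹⁻¹ * b',
      N.mul_mem (hn a'⁻¹ (A.inv_mem ha') b hb) hb', ?_⟩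
    group
  | inv x _ hx =>
    obtain ⟨a, ha, b, hb, rfl⟩ := hx
    refine ⟨a⁻¹, A.inv_mem ha, a * b⁻¹ * a⁻¹, hn a ha b⁻¹ (N.inv_mem hb), ?_⟩
    group

/-- `M` normalizes `M_σ`. -/
theorem sigmaCore_conj_mem (M : Subgroup G) {k s : G} (hk : k ∈ M)
    (hs : s ∈ Cfsg.sigmaCore M) : k * s * k⁻¹ ∈ Cfsg.sigmaCore M := by
  unfold Cfsg.sigmaCore at hs ⊢
  obtain ⟨s', hs', rfl⟩ := Subgroup.mem_map.mp hs
  refine Subgroup.mem_map.mpr ⟨⟨k, hk⟩ * s' * ⟨k, hk⟩⁻¹, ?_, by simp⟩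
  exact (Cfsg.piCore_normal (Cfsg.sigma M) ↥M).conj_mem s' hs' ⟨k, hk⟩

/-- `|M| ≤ |K| |M_σ|` when `U = 1`. -/
theorem card_le_of_U_bot [Finite G] {M K U : Subgroup G}
    (hKU : Cfsg.IsSigmaDecomposition M K U) (hU : U = ⊥) :
    Nat.card M ≤ Nat.card K * Nat.card (Cfsg.sigmaCore M) := by
  have hKM : K ≤ M := hKU.hall.1
  have hn : ∀ a ∈ K, ∀ n ∈ Cfsg.sigmaCore M, a * n * a⁻¹ ∈ Cfsg.sigmaCore M :=
    fun a ha n hn => sigmaCore_conj_mem M (hKM ha) hn
  have hdec : ∀ x : M, ∃ q : K × Cfsg.sigmaCore M, (x : G) = (q.1 : G) * (q.2 : G) := by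
    intro x
    obtain ⟨u, hu, b, hb, hxb⟩ := hKU.compl.2.2.2 x x.2
    rw [hU, Subgroup.mem_bot] at hu
    subst hu
    obtain ⟨k, hk, s, hs, rfl⟩ := mem_sup_of_conj hn hb
    exact ⟨(⟨k, hk⟩, ⟨s, hs⟩), by simpa using hxb⟩
  choose f hf using hdec
  have hinj : Function.Injective f := by
    intro x y hxy
    apply Subtype.ext
    rw [hf x, hf y, hxy]
  calc Nat.card M ≤ Nat.card (K × Cfsg.sigmaCore M) := Nat.card_le_card_of_injective f hinj
    _ = Nat.card K * Nat.card (Cfsg.sigmaCore M) := Nat.card_prod _ _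

/-- In a group of odd order a proper subgroup has index at least 3. -/
theorem three_mul_card_le [Finite G] (hodd : Odd (Nat.card G)) {A B : Subgroup G} (hAB : A ≤ B)
    (hne : A ≠ B) : 3 * Nat.card A ≤ Nat.card B := by
  obtain ⟨j, hj⟩ := Subgroup.card_dvd_of_le hAB
  have hBodd : Odd (Nat.card B) := Odd.of_dvd_nat hodd (Subgroup.card_subgroup_dvd_card B)
  have hj1 : j ≠ 1 := by
    rintro rfl
    apply hne
    exact Subgroup.eq_of_le_of_card_ge hAB (by rw [hj]; simp)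
  have hjodd : Odd j := Odd.of_dvd_nat hBodd ⟨Nat.card A, by rw [hj, mul_comm]⟩
  have hj3 : 3 ≤ j := by
    obtain ⟨t, ht⟩ := hjodd
    omega
  rw [hj]
  calc 3 * Nat.card A = Nat.card A * 3 := mul_comm _ _
    _ ≤ Nat.card A * j := Nat.mul_le_mul_left _ hj3

/-- The arithmetic of the count. -/
theorem count_contra (n k a m m' iM iS cM cS c : ℕ)
    (hn : 0 < n) (hk : 2 ≤ k) (ha : 2 ≤ a)
    (hcM : cM ≤ k * m) (hcS : cS ≤ a * m')
    (hiM : iM * cM = n) (hiS : iS * cS = n)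
    (hC : k * a * c = (k * a - k - a + 1) * n)
    (hsum : (m - 1) * iM + (m' - 1) * iS + c ≤ n)
    (hm : 3 * a ≤ m) (hm' : 3 * k ≤ m') : False := by
  have hm1 : 1 ≤ m := by omega
  have hm1' : 1 ≤ m' := by omega
  have hka : k + a ≤ k * a := by nlinarith
  have e1 : (n : ℤ) ≤ iM * (k * m) := by
    have h : n ≤ iM * (k * m) := by
      rw [← hiM]
      exact Nat.mul_le_mul_left _ hcM
    exact_mod_cast h
  have e2 : (n : ℤ) ≤ iS * (a * m') := by
    have h : n ≤ iS * (a * m') := by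
      rw [← hiS]
      exact Nat.mul_le_mul_left _ hcS
    exact_mod_cast h
  have e3 : (k : ℤ) * a * c = ((k : ℤ) * a - k - a + 1) * n := by
    have h : k * a * c = (k * a - (k + a) + 1) * n := by
      rw [← Nat.sub_sub]
      exact hC
    have h' : ((k * a * c : ℕ) : ℤ) = (((k * a - (k + a) + 1) * n : ℕ) : ℤ) := by rw [h]
    push_cast [Nat.cast_sub hka] at h'
    linarith
  have e4 : ((m : ℤ) - 1) * iM + ((m' : ℤ) - 1) * iS + c ≤ n := by
    have h' : (((m - 1) * iM + (m' - 1) * iS + c : ℕ) : ℤ) ≤ (n : ℤ) := by exact_mod_cast hsum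
    push_cast [Nat.cast_sub hm1, Nat.cast_sub hm1'] at h'
    linarith
  have zm : (1 : ℤ) ≤ m := by exact_mod_cast hm1
  have zm' : (1 : ℤ) ≤ m' := by exact_mod_cast hm1'
  have zk : (0 : ℤ) ≤ k := by positivity
  have za : (0 : ℤ) ≤ a := by positivity
  have zn : (0 : ℤ) < n := by exact_mod_cast hn
  have z3a : (3 : ℤ) * a ≤ m := by exact_mod_cast hm
  have z3k : (3 : ℤ) * k ≤ m' := by exact_mod_cast hm'
  have P1 := mul_le_mul_of_nonneg_left e1
    (show (0 : ℤ) ≤ a * m' * (m - 1) from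
      mul_nonneg (mul_nonneg za (by linarith)) (by linarith))
  have P2 := mul_le_mul_of_nonneg_left e2
    (show (0 : ℤ) ≤ k * m * (m' - 1) from
      mul_nonneg (mul_nonneg zk (by linarith)) (by linarith))
  have P3 := mul_le_mul_of_nonneg_left e4
    (show (0 : ℤ) ≤ k * a * m * m' from
      mul_nonneg (mul_nonneg (mul_nonneg zk za) (by linarith)) (by linarith))
  have e3' : (m : ℤ) * m' * (k * a * c) = m * m' * (((k : ℤ) * a - k - a + 1) * n) := by
    rw [e3]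
  have Q1 := mul_le_mul_of_nonneg_right z3a
    (show (0 : ℤ) ≤ m' * n from mul_nonneg (by linarith) zn.le)
  have Q2 := mul_le_mul_of_nonneg_right z3k
    (show (0 : ℤ) ≤ m * n from mul_nonneg (by linarith) zn.le)
  have Q3 : (0 : ℤ) < m * m' * n := mul_pos (mul_pos (by linarith) (by linarith)) zn
  nlinarith [P1, P2, P3, e3', Q1, Q2, Q3]

/-- tilde sets of non-conjugate maximal subgroups are disjoint (= first clause of S1379). -/
def HTD (G : Type*) [Group G] : Prop :=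
  ∀ M N : Subgroup G, IsCoatom M → IsCoatom N →
    (∀ g : G, N ≠ M.map (MulAut.conj g).toMonoidHom) → tl M ∩ tl N = ∅

/-- `M*` is not conjugate to `M`. -/
theorem not_conj_star [Finite G]
    (hσc : ∀ (M : Subgroup G) (g : G),
      Cfsg.sigma (M.map (MulAut.conj g).toMonoidHom) = Cfsg.sigma M)
    (M K U : Subgroup G) (hKU : Cfsg.IsSigmaDecomposition M K U)
    (hK1 : K ≠ ⊥) (Mstar : Subgroup G) (hKst : K = ks Mstar (ks M K)) :
    ∀ g : G, Mstar ≠ M.map (MulAut.conj g).toMonoidHom := by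
  intro g heq
  have h1 : Nat.card ↥K ≠ 1 := fun h => hK1 (Subgroup.card_eq_one.mp h)
  obtain ⟨p, hp, hpd⟩ := Nat.exists_prime_and_dvd h1
  have h2 : p ∈ Cfsg.sigma Mstar :=
    sigma_of_dvd_sigmaCore Mstar hp
      (hpd.trans (Subgroup.card_dvd_of_le (hKst.le.trans inf_le_left)))
  rw [heq, hσc] at h2
  exact (hKU.hall.2.1 p hp hpd).2.2.1 h2

/-- B-G 14.7(f), core: `U = 1` and `U* = 1` cannot both hold, given the disjointness of the
tilde sets and of the conjugates of `Ẑ` from the tilde sets. -/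
theorem not_both_P1_core [Finite G] (hG : Cfsg.IsMinSimpleOddOrder G)
    (hσc : ∀ (M : Subgroup G) (g : G),
      Cfsg.sigma (M.map (MulAut.conj g).toMonoidHom) = Cfsg.sigma M)
    (h54 : H1354 G) (h34 : H1434 G) (h31 : H1431 G) (h77 : H1377 G) (hD1 : HTD G)
    (M : Subgroup G) (hM : IsCoatom M) (K U : Subgroup G) (hKU : Cfsg.IsSigmaDecomposition M K U)
    (hK1 : K ≠ ⊥) (Mstar : Subgroup G) (hMstar : IsCoatom Mstar)
    (hKst : K = ks Mstar (ks M K))
    (hKstH : Cfsg.IsPiHallOf (Cfsg.kappa Mstar) (ks M K) Mstar)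
    (hD2 : ∀ N : Subgroup G, IsCoatom N → ∀ y : G, ∀ z ∈ zh M K, y * z * y⁻¹ ∉ tl N)
    (hU : U = ⊥) (Ustar : Subgroup G)
    (hdec : Cfsg.IsSigmaDecomposition Mstar (ks M K) Ustar) (hUs : Ustar = ⊥) : False := by
  have hodd : Odd (Nat.card G) := hG.1
  have hKs1 : ks M K ≠ ⊥ := (h54 M hM K hKU.cyclic hKU.hall).1
  have hcM := card_le_of_U_bot hKU hU
  have hcS := card_le_of_U_bot hdec hUs
  have hKs_ne : ks M K ≠ Cfsg.sigmaCore M := by
    intro heq
    have h1 : Nat.card ↥(ks M K) ≠ 1 := fun h => hKs1 (Subgroup.card_eq_one.mp h)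
    obtain ⟨p, hp, hpd⟩ := Nat.exists_prime_and_dvd h1
    have : Fact p.Prime := ⟨hp⟩
    obtain ⟨S⟩ : Nonempty (Sylow p ↥(Cfsg.sigmaCore M)) := inferInstance
    have h3 := ((h31 M hM K hKU.hall hK1).2.2.1 p hp hpd S).2.2
    apply h3
    rw [heq]
    exact Subgroup.map_subtype_le _
  have hK_ne : K ≠ Cfsg.sigmaCore Mstar := by
    intro heq
    have h1 : Nat.card ↥K ≠ 1 := fun h => hK1 (Subgroup.card_eq_one.mp h)
    obtain ⟨p, hp, hpd⟩ := Nat.exists_prime_and_dvd h1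
    have : Fact p.Prime := ⟨hp⟩
    obtain ⟨S⟩ : Nonempty (Sylow p ↥(Cfsg.sigmaCore Mstar)) := inferInstance
    have hpd' : p ∣ Nat.card ↥(ks Mstar (ks M K)) := by
      rw [← hKst]
      exact hpd
    have h3 := ((h31 Mstar hMstar (ks M K) hKstH hKs1).2.2.1 p hp hpd' S).2.2
    apply h3
    rw [← hKst, heq]
    exact Subgroup.map_subtype_le _
  have hm3 : 3 * Nat.card ↥(ks M K) ≤ Nat.card (Cfsg.sigmaCore M) :=
    three_mul_card_le hodd inf_le_left hKs_ne
  have hm3' : 3 * Nat.card K ≤ Nat.card (Cfsg.sigmaCore Mstar) :=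
    three_mul_card_le hodd (hKst.le.trans inf_le_left) hK_ne
  have hnc := not_conj_star hσc M K U hKU hK1 Mstar hKst
  have hAB : tl M ∩ tl Mstar = ∅ := hD1 M Mstar hM hMstar hnc
  have hAC : Disjoint (tl M) (cz M K) := by
    rw [Set.disjoint_left]
    rintro a haA ⟨g, z, hz, rfl⟩
    exact hD2 M hM g z hz haA
  have hBC : Disjoint (tl Mstar) (cz M K) := by
    rw [Set.disjoint_left]
    rintro a haB ⟨g, z, hz, rfl⟩
    exact hD2 Mstar hMstar g z hz haB
  have hsum : (tl M).ncard + (tl Mstar).ncard + (cz M K).ncard ≤ Nat.card G := by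
    have h1 := Set.ncard_union_eq (Set.disjoint_iff_inter_eq_empty.mpr hAB)
      (Set.toFinite (tl M)) (Set.toFinite (tl Mstar))
    have h2 := Set.ncard_union_eq (Set.disjoint_union_left.mpr ⟨hAC, hBC⟩)
      (Set.toFinite (tl M ∪ tl Mstar)) (Set.toFinite (cz M K))
    have h3 : (tl M ∪ tl Mstar ∪ cz M K).ncard ≤ Nat.card G := by
      rw [← Set.ncard_univ]
      exact Set.ncard_le_ncard (Set.subset_univ _) (Set.toFinite _)
    omega
  have hA := h77 M hM
  have hB := h77 Mstar hMstar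
  obtain ⟨-, -, -, -, hC, -⟩ := h34 M hM K U hKU hK1 Mstar hMstar hKst hKstH
  have hiM := Subgroup.index_mul_card M
  have hiS := Subgroup.index_mul_card Mstar
  rw [hA, hB] at hsum
  have hk2 : 2 ≤ Nat.card K := by
    have h0 : 0 < Nat.card K := Nat.card_pos
    have h1 : Nat.card ↥K ≠ 1 := fun h => hK1 (Subgroup.card_eq_one.mp h)
    omega
  have ha2 : 2 ≤ Nat.card ↥(ks M K) := by
    have h0 : 0 < Nat.card ↥(ks M K) := Nat.card_pos
    have h1 : Nat.card ↥(ks M K) ≠ 1 := fun h => hKs1 (Subgroup.card_eq_one.mp h)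
    omega
  exact count_contra (Nat.card G) (Nat.card K) (Nat.card ↥(ks M K))
    (Nat.card (Cfsg.sigmaCore M)) (Nat.card (Cfsg.sigmaCore Mstar)) M.index Mstar.index
    (Nat.card M) (Nat.card Mstar) (cz M K).ncard Nat.card_pos hk2 ha2 hcM hcS hiM hiS hC hsum
    hm3 hm3'

/-- B-G 14.7(f): `U = 1` and `U* = 1` cannot both hold. -/
theorem not_both_P1 [Finite G] (hG : Cfsg.IsMinSimpleOddOrder G)
    (hσc : ∀ (M : Subgroup G) (g : G),
      Cfsg.sigma (M.map (MulAut.conj g).toMonoidHom) = Cfsg.sigma M)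
    (h54 : H1354 G) (h34 : H1434 G) (h31 : H1431 G) (h77 : H1377 G) (h79 : H1379 G)
    (M : Subgroup G) (hM : IsCoatom M) (K U : Subgroup G) (hKU : Cfsg.IsSigmaDecomposition M K U)
    (hK1 : K ≠ ⊥) (Mstar : Subgroup G) (hMstar : IsCoatom Mstar)
    (hKst : K = ks Mstar (ks M K))
    (hKstH : Cfsg.IsPiHallOf (Cfsg.kappa Mstar) (ks M K) Mstar)
    (hU : U = ⊥) (Ustar : Subgroup G)
    (hdec : Cfsg.IsSigmaDecomposition Mstar (ks M K) Ustar) (hUs : Ustar = ⊥) : False :=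
  not_both_P1_core hG hσc h54 h34 h31 h77 h79.1 M hM K U hKU hK1 Mstar hMstar hKst hKstH
    (h79.2.2 M K U hM hKU hK1).2 hU Ustar hdec hUs

/-- The statement of S1369 from the frozen statements of S1351, S1352, S1354, S1366, S1367,
S1434, S1431, S1377, S1379 (and conjugation invariance of `σ`). -/
theorem s1369_of_frozen [Finite G] (hG : Cfsg.IsMinSimpleOddOrder G)
    (hσc : ∀ (M : Subgroup G) (g : G),
      Cfsg.sigma (M.map (MulAut.conj g).toMonoidHom) = Cfsg.sigma M)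
    (h51 : H1351 G) (h52 : H1352 G) (h54 : H1354 G) (h66 : H1366 G) (h67 : H1367 G)
    (h34 : H1434 G) (h31 : H1431 G) (h77 : H1377 G) (h79 : H1379 G)
    (M : Subgroup G) (hM : IsCoatom M) (K U : Subgroup G) (hKU : Cfsg.IsSigmaDecomposition M K U)
    (hK1 : K ≠ ⊥) (Mstar : Subgroup G) (hMstar : IsCoatom Mstar)
    (hKst : K = ks Mstar (ks M K))
    (hKstH : Cfsg.IsPiHallOf (Cfsg.kappa Mstar) (ks M K) Mstar) :
    (U ≠ ⊥ ∨ ∀ Ustar : Subgroup G,
        Cfsg.IsSigmaDecomposition Mstar (ks M K) Ustar → Ustar ≠ ⊥) ∧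
      ∀ H : Subgroup G, IsCoatom H → (Cfsg.kappa H).Nonempty →
        ∃ g : G, H = M.map (MulAut.conj g).toMonoidHom ∨
          H = Mstar.map (MulAut.conj g).toMonoidHom := by
  refine ⟨?_, two_classes h51 h52 h54 h66 h67 h34 M hM K U hKU hK1 Mstar hMstar hKst hKstH⟩
  by_cases hU : U = ⊥
  · right
    intro Ustar hdec hUs
    exact not_both_P1 hG hσc h54 h34 h31 h77 h79 M hM K U hKU hK1 Mstar hMstar hKst hKstH hU
      Ustar hdec hUs
  · left
    exact hU

/-! ## No conjugate of an element of `Ẑ` lies in a tilde set (= last clause of S1379) -/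

/-- frozen S1378 -/
def H1378 (G : Type*) [Group G] : Prop :=
  (∀ p : ℕ, p.Prime → p ∣ Nat.card G → ∃ M : Subgroup G, IsCoatom M ∧ p ∈ Cfsg.sigma M) ∧
    ∀ M N : Subgroup G, IsCoatom M → IsCoatom N → (Cfsg.sigma M ∩ Cfsg.sigma N).Nonempty →
      ∃ g : G, N = M.map (MulAut.conj g).toMonoidHom

/-- frozen S1375 -/
def H1375 (G : Type*) [Group G] : Prop :=
  ∀ M : Subgroup G, IsCoatom M → ∀ x : G, x ∈ Cfsg.sigmaCore M → x ≠ 1 →
    ¬ Subgroup.centralizer ({x} : Set G) ≤ M →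
    ∃ N : Subgroup G, (IsCoatom N ∧ Subgroup.centralizer ({x} : Set G) ≤ N) ∧
      (∀ L : Subgroup G, IsCoatom L → Subgroup.centralizer ({x} : Set G) ≤ L → L = N) ∧
      Cfsg.sigmaCore N = Cfsg.fittingHallOf N ∧
      Subgroup.centralizer ({x} : Set G) ≤ Subgroup.normalizer
        ((Cfsg.sigmaCore N ⊓ Subgroup.centralizer ({x} : Set G) : Subgroup G) : Set G) ∧
      Cfsg.IsComplIn (M ⊓ Subgroup.centralizer ({x} : Set G))
        (Cfsg.sigmaCore N ⊓ Subgroup.centralizer ({x} : Set G))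
        (Subgroup.centralizer ({x} : Set G)) ∧
      Cfsg.IsComplIn (M ⊓ N) (Cfsg.sigmaCore N) N ∧
      ∀ K' U' : Subgroup G, Cfsg.IsSigmaDecomposition N K' U' →
        U' ≠ ⊥ ∧ x ∈ Cfsg.sigmaA N U' ∧ x ∉ Cfsg.sigmaCore N

/-- Unfolding `R(x)`: an element of `supportR N x` is `1`, or `C_G(x) ⊄ N` lies in a unique
maximal subgroup `L` and the element lies in `L_F ∩ C_G(x)`. -/
theorem supportR_cases (N : Subgroup G) (x r : G) (hr : r ∈ Cfsg.supportR N x) :
    r = 1 ∨ (¬ Subgroup.centralizer ({x} : Set G) ≤ N ∧ ∃ L : Subgroup G, IsCoatom L ∧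
      Subgroup.centralizer ({x} : Set G) ≤ L ∧
      (∀ L' : Subgroup G, IsCoatom L' → Subgroup.centralizer ({x} : Set G) ≤ L' → L' = L) ∧
      r ∈ Cfsg.fittingHallOf L ∧ r ∈ Subgroup.centralizer ({x} : Set G)) := by
  unfold Cfsg.supportR at hr
  split_ifs at hr with h
  · right
    have hspec := Classical.choose_spec h.2.exists
    refine ⟨h.1, Classical.choose h.2.exists, hspec.1, hspec.2, ?_, hr.1, hr.2⟩
    intro L' hL' hxL'
    exact h.2.unique ⟨hL', hxL'⟩ hspec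
  · left
    exact Subgroup.mem_bot.mp hr

/-- Conjugation preserves the order. -/
theorem orderOf_conj_eq (d x : G) : orderOf (d * x * d⁻¹) = orderOf x := by
  have h := MulEquiv.orderOf_eq (MulAut.conj d) x
  simpa [MulAut.conj_apply] using h

/-- An element of `K K*` whose order has no prime in `σ(M)` lies in `K`. -/
theorem mem_left_of_primes [Finite G] (M K : Subgroup G)
    (hK : ∀ p : ℕ, p.Prime → p ∣ Nat.card K → p ∈ Cfsg.kappa M)
    {w : G} (hw : w ∈ K ⊔ ks M K)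
    (hp : ∀ p : ℕ, p.Prime → p ∣ orderOf w → p ∉ Cfsg.sigma M) : w ∈ K := by
  have hc : ∀ a ∈ K, ∀ b ∈ ks M K, a * b = b * a := fun a ha b hb =>
    (Subgroup.mem_centralizer_iff.mp hb.2) a ha
  obtain ⟨a, ha, b, hb, rfl⟩ := mem_sup_of_comm hc hw
  have hcop : (orderOf a).Coprime (orderOf b) := by
    have h1 := coprime_kappa_sigmaCore M K hK
    have ha' : orderOf a ∣ Nat.card K := Subgroup.orderOf_dvd_natCard K ha
    have hb' : orderOf b ∣ Nat.card (Cfsg.sigmaCore M) := Subgroup.orderOf_dvd_natCard _ hb.1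
    exact Nat.Coprime.coprime_dvd_left ha' (Nat.Coprime.coprime_dvd_right hb' h1)
  have hmul : orderOf (a * b) = orderOf a * orderOf b :=
    Commute.orderOf_mul_eq_mul_orderOf_of_coprime (hc a ha b hb) hcop
  have hb1 : b = 1 := by
    by_contra hb1
    have h1 : orderOf b ≠ 1 := fun h => hb1 (orderOf_eq_one_iff.mp h)
    obtain ⟨p, hpp, hpd⟩ := Nat.exists_prime_and_dvd h1
    have h2 : p ∣ orderOf (a * b) := by
      rw [hmul]
      exact Dvd.dvd.mul_left hpd _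
    have h3 : p ∣ Nat.card (Cfsg.sigmaCore M) :=
      hpd.trans (Subgroup.orderOf_dvd_natCard _ hb.1)
    exact hp p hpp h2 (sigma_of_dvd_sigmaCore M hpp h3)
  rw [hb1, mul_one]
  exact ha

/-- An element of `K K*` whose order has no prime in `κ(M)` lies in `K*`. -/
theorem mem_right_of_primes [Finite G] (M K : Subgroup G)
    (hK : ∀ p : ℕ, p.Prime → p ∣ Nat.card K → p ∈ Cfsg.kappa M)
    {w : G} (hw : w ∈ K ⊔ ks M K)
    (hp : ∀ p : ℕ, p.Prime → p ∣ orderOf w → p ∉ Cfsg.kappa M) : w ∈ ks M K := by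
  have hc : ∀ a ∈ K, ∀ b ∈ ks M K, a * b = b * a := fun a ha b hb =>
    (Subgroup.mem_centralizer_iff.mp hb.2) a ha
  obtain ⟨a, ha, b, hb, rfl⟩ := mem_sup_of_comm hc hw
  have hcop : (orderOf a).Coprime (orderOf b) := by
    have h1 := coprime_kappa_sigmaCore M K hK
    have ha' : orderOf a ∣ Nat.card K := Subgroup.orderOf_dvd_natCard K ha
    have hb' : orderOf b ∣ Nat.card (Cfsg.sigmaCore M) := Subgroup.orderOf_dvd_natCard _ hb.1
    exact Nat.Coprime.coprime_dvd_left ha' (Nat.Coprime.coprime_dvd_right hb' h1)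
  have hmul : orderOf (a * b) = orderOf a * orderOf b :=
    Commute.orderOf_mul_eq_mul_orderOf_of_coprime (hc a ha b hb) hcop
  have ha1 : a = 1 := by
    by_contra ha1
    have h1 : orderOf a ≠ 1 := fun h => ha1 (orderOf_eq_one_iff.mp h)
    obtain ⟨p, hpp, hpd⟩ := Nat.exists_prime_and_dvd h1
    have h2 : p ∣ orderOf (a * b) := by
      rw [hmul]
      exact Dvd.dvd.mul_right hpd _
    exact hp p hpp h2 (hK p hpp (hpd.trans (Subgroup.orderOf_dvd_natCard K ha)))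
  rw [ha1, one_mul]
  exact hb

/-- `C_G(x) ≤ C_G(X)` for `X ≤ ⟨x⟩`. -/
theorem centralizer_singleton_le_of_le_zpowers {x : G} {X : Subgroup G}
    (hX : X ≤ Subgroup.zpowers x) :
    Subgroup.centralizer ({x} : Set G) ≤ Subgroup.centralizer (X : Set G) := by
  intro w hw
  rw [Subgroup.mem_centralizer_iff] at hw ⊢
  intro v hv
  obtain ⟨j, rfl⟩ := Subgroup.mem_zpowers_iff.mp (hX hv)
  have h1 : Commute x w := hw x (Set.mem_singleton x)
  exact (Commute.zpow_left h1 j).eq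

/-- B-G 14.7 / last clause of S1379: no conjugate of an element of `Ẑ` lies in a tilde set
(from the frozen rows S1367, S1434, S1378, S1375). -/
theorem zhat_not_tilde [Finite G]
    (hσc : ∀ (M : Subgroup G) (g : G),
      Cfsg.sigma (M.map (MulAut.conj g).toMonoidHom) = Cfsg.sigma M)
    (h67 : H1367 G) (h34 : H1434 G) (h78 : H1378 G) (h75 : H1375 G)
    (M : Subgroup G) (hM : IsCoatom M) (K U : Subgroup G) (hKU : Cfsg.IsSigmaDecomposition M K U)
    (hK1 : K ≠ ⊥) (Mstar : Subgroup G) (hMstar : IsCoatom Mstar)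
    (hKst : K = ks Mstar (ks M K))
    (hKstH : Cfsg.IsPiHallOf (Cfsg.kappa Mstar) (ks M K) Mstar) :
    ∀ N : Subgroup G, IsCoatom N → ∀ y : G, ∀ z ∈ zh M K, y * z * y⁻¹ ∉ tl N := by
  intro N hN y z hz hmem
  obtain ⟨x, ⟨hxN, hx1'⟩, r, hr, t, hEq⟩ := hmem
  have hx1 : x ≠ 1 := fun h => hx1' (by rw [h]; rfl)
  obtain ⟨-, -, hcA, -, -, -⟩ := h34 M hM K U hKU hK1 Mstar hMstar hKst hKstH
  have hCz : Subgroup.centralizer ({z} : Set G) = K ⊔ ks M K :=
    cent_of_mem_zh (fun x hx hx1 y hy hy1 => (hcA x hx hx1 y hy hy1).2.2) hz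
  obtain ⟨d, hd⟩ : ∃ d : G, d = y⁻¹ * t := ⟨_, rfl⟩
  obtain ⟨x', hx'⟩ : ∃ x' : G, x' = d * x * d⁻¹ := ⟨_, rfl⟩
  obtain ⟨r', hr'⟩ : ∃ r' : G, r' = d * r * d⁻¹ := ⟨_, rfl⟩
  have hzx : z = x' * r' := by
    have h1 : z = y⁻¹ * (y * z * y⁻¹) * y := by group
    rw [h1, hEq, hx', hr', hd]
    group
  have hcases := supportR_cases N x r hr
  have hxr : x * r = r * x := by
    rcases hcases with h | ⟨-, L, -, -, -, -, hrc⟩
    · rw [h]
      simp
    · exact Subgroup.mem_centralizer_iff.mp hrc x (Set.mem_singleton x)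
  have hx'r' : x' * r' = r' * x' := by
    rw [hx', hr']
    calc d * x * d⁻¹ * (d * r * d⁻¹) = d * (x * r) * d⁻¹ := by group
      _ = d * (r * x) * d⁻¹ := by rw [hxr]
      _ = d * r * d⁻¹ * (d * x * d⁻¹) := by group
  have hx'Z : x' ∈ K ⊔ ks M K := by
    rw [← hCz, Subgroup.mem_centralizer_iff]
    intro v hv
    rw [Set.mem_singleton_iff.mp hv, hzx, mul_assoc, ← hx'r']
  have hr'Z : r' ∈ K ⊔ ks M K := by
    rw [← hCz, Subgroup.mem_centralizer_iff]
    intro v hv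
    rw [Set.mem_singleton_iff.mp hv, hzx, ← mul_assoc, ← hx'r']
  have hox : orderOf x' = orderOf x := by
    rw [hx']
    exact orderOf_conj_eq d x
  have hor : orderOf r' = orderOf r := by
    rw [hr']
    exact orderOf_conj_eq d r
  have hx'1 : x' ≠ 1 := by
    intro h
    apply hx1
    rw [← orderOf_eq_one_iff, ← hox, h, orderOf_one]
  have hprN : ∀ p : ℕ, p.Prime → p ∣ orderOf x' → p ∈ Cfsg.sigma N := by
    intro p hp hpd
    rw [hox] at hpd
    exact sigma_of_dvd_sigmaCore N hp (hpd.trans (Subgroup.orderOf_dvd_natCard _ hxN))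
  have hKκ : ∀ p : ℕ, p.Prime → p ∣ Nat.card K → p ∈ Cfsg.kappa M := hKU.hall.2.1
  have hnc := not_conj_star hσc M K U hKU hK1 Mstar hKst
  have hdisj : ∀ p : ℕ, p ∈ Cfsg.sigma M → p ∈ Cfsg.sigma Mstar → False := by
    intro p hpM hpS
    obtain ⟨g, hg⟩ := h78.2 M Mstar hM hMstar ⟨p, hpM, hpS⟩
    exact hnc g hg
  have key : ∀ Q : Subgroup G, IsCoatom Q →
      (∀ X : Subgroup G, X ≤ Subgroup.zpowers x' → (Nat.card X).Prime →
        Subgroup.centralizer (X : Set G) ≤ Q) → r ≠ 1 →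
      ∀ p : ℕ, p.Prime → p ∣ orderOf r' → p ∈ Cfsg.sigma Q := by
    intro Q hQ hX hr1 p hp hpd
    rcases hcases with h | ⟨hnot, L, hL, hxL, huniq, hrF, -⟩
    · exact absurd h hr1
    obtain ⟨N', -, huniq', hFit, -⟩ := h75 N hN x hxN hx1 hnot
    have hLN' : L = N' := huniq' L hL hxL
    obtain ⟨y₀, hy₀, hy₀p⟩ := exists_prime_order (Subgroup.zpowers_ne_bot.mpr hx'1)
    have hXle : Subgroup.zpowers y₀ ≤ Subgroup.zpowers x' := (Subgroup.zpowers_le).mpr hy₀
    have hXp : (Nat.card (Subgroup.zpowers y₀)).Prime := by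
      rw [Nat.card_zpowers]
      exact hy₀p
    have h1 : Subgroup.centralizer ({x'} : Set G) ≤ Q :=
      (centralizer_singleton_le_of_le_zpowers hXle).trans (hX _ hXle hXp)
    have h2 : Subgroup.centralizer ({x} : Set G) ≤ Q.map (MulAut.conj d⁻¹).toMonoidHom := by
      have hx_eq : x = d⁻¹ * x' * d⁻¹⁻¹ := by
        rw [hx']
        group
      rw [hx_eq, centralizer_conj_singleton]
      exact Subgroup.map_mono h1
    have hLQ : Q.map (MulAut.conj d⁻¹).toMonoidHom = L :=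
      huniq _ (isCoatom_map_conj hQ d⁻¹) h2
    have hrσ : r ∈ Cfsg.sigmaCore N' := by
      rw [hFit, ← hLN']
      exact hrF
    have hpL : p ∈ Cfsg.sigma N' := by
      rw [hor] at hpd
      exact sigma_of_dvd_sigmaCore N' hp (hpd.trans (Subgroup.orderOf_dvd_natCard _ hrσ))
    rw [← hLN', ← hLQ, hσc] at hpL
    exact hpL
  have h67M := h67 M hM K U hKU hK1 Mstar hMstar hKst hKstH
  by_cases hcase : (Cfsg.sigma M ∩ Cfsg.sigma N).Nonempty
  · obtain ⟨g, hg⟩ := h78.2 M N hM hN hcase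
    have hσN : Cfsg.sigma N = Cfsg.sigma M := by rw [hg, hσc]
    have hx'Ks : x' ∈ ks M K :=
      mem_right_of_primes M K hKκ hx'Z
        (fun p hp hpd hκ => hκ.2.2.1 (hσN ▸ hprN p hp hpd))
    have hr'Ks : r' ∈ ks M K := by
      by_cases hr1 : r = 1
      · rw [hr', hr1]
        simp
      · apply mem_right_of_primes M K hKκ hr'Z
        intro p hp hpd hκ
        have h3 := key M hM
          (fun X hXle hXp =>
            (h67M.1 X (hXle.trans ((Subgroup.zpowers_le).mpr hx'Ks)) hXp).1) hr1 p hp hpd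
        exact hκ.2.2.1 h3
    exact hz.2 (Or.inr (by rw [hzx]; exact (ks M K).mul_mem hx'Ks hr'Ks))
  · have hx'K : x' ∈ K :=
      mem_left_of_primes M K hKκ hx'Z
        (fun p hp hpd hσM => hcase ⟨p, hσM, hprN p hp hpd⟩)
    have hr'K : r' ∈ K := by
      by_cases hr1 : r = 1
      · rw [hr', hr1]
        simp
      · apply mem_left_of_primes M K hKκ hr'Z
        intro p hp hpd hσM
        have h3 := key Mstar hMstar
          (fun X hXle hXp =>
            (h67M.2 X (hXle.trans ((Subgroup.zpowers_le).mpr hx'K)) hXp).1) hr1 p hp hpd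
        exact hdisj p hσM h3
    exact hz.2 (Or.inl (by rw [hzx]; exact K.mul_mem hx'K hr'K))

/-- The statement of S1369 from the frozen statements of S1351, S1352, S1354, S1366, S1367,
S1434, S1431, S1377, S1378, S1375, the disjointness of tilde sets of non-conjugate maximal
subgroups, and conjugation invariance of `σ` (no use of the full S1379). -/
theorem s1369_of_frozen' [Finite G] (hG : Cfsg.IsMinSimpleOddOrder G)
    (hσc : ∀ (M : Subgroup G) (g : G),
      Cfsg.sigma (M.map (MulAut.conj g).toMonoidHom) = Cfsg.sigma M)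
    (h51 : H1351 G) (h52 : H1352 G) (h54 : H1354 G) (h66 : H1366 G) (h67 : H1367 G)
    (h34 : H1434 G) (h31 : H1431 G) (h77 : H1377 G) (h78 : H1378 G) (h75 : H1375 G)
    (hD1 : HTD G)
    (M : Subgroup G) (hM : IsCoatom M) (K U : Subgroup G) (hKU : Cfsg.IsSigmaDecomposition M K U)
    (hK1 : K ≠ ⊥) (Mstar : Subgroup G) (hMstar : IsCoatom Mstar)
    (hKst : K = ks Mstar (ks M K))
    (hKstH : Cfsg.IsPiHallOf (Cfsg.kappa Mstar) (ks M K) Mstar) :
    (U ≠ ⊥ ∨ ∀ Ustar : Subgroup G,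
        Cfsg.IsSigmaDecomposition Mstar (ks M K) Ustar → Ustar ≠ ⊥) ∧
      ∀ H : Subgroup G, IsCoatom H → (Cfsg.kappa H).Nonempty →
        ∃ g : G, H = M.map (MulAut.conj g).toMonoidHom ∨
          H = Mstar.map (MulAut.conj g).toMonoidHom := by
  refine ⟨?_, two_classes h51 h52 h54 h66 h67 h34 M hM K U hKU hK1 Mstar hMstar hKst hKstH⟩
  by_cases hU : U = ⊥
  · right
    intro Ustar hdec hUs
    exact not_both_P1_core hG hσc h54 h34 h31 h77 hD1 M hM K U hKU hK1 Mstar hMstar hKst hKstH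
      (zhat_not_tilde hσc h67 h34 h78 h75 M hM K U hKU hK1 Mstar hMstar hKst hKstH)
      hU Ustar hdec hUs
  · left
    exact hU

end Cfsg.Agent.Lib.helper10.BG1369
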