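import Mathlib
import Cfsg.Prelude.Def_OddOrderLocal
import Cfsg.Agent.Lib.helper86.BG1356Defs
import Cfsg.Agent.Lib.helper86.BG1356L
import Cfsg.Agent.Lib.helper8.BG1355
import Cfsg.Agent.Lib.helper29.FittingHall
import Cfsg.Agent.Lib.helper10.BG1369
import Cfsg.Agent.S1430

/-!
# S1356, piece A2c (helper86's split): in type P1, `D'` centralizes `M_F`

`D` a `K`-invariant complement of `M_F` in `M_σ`.  The Frobenius-action lemma A1b
(`frob_derived_centralizes`) is taken as a hypothesis in `p1_derived_cent_of`; the verbatim piece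
`p1_derived_cent` is in `BG1356A2cFin.lean`.
-/

set_option autoImplicit false

namespace Cfsg.Agent.Lib.helper86.BG1356

open Cfsg Subgroup

variable {G : Type*} [Group G]

/-- A subgroup of `M` meeting `M_F` trivially has order coprime to `|M_F|`. -/
theorem h10_coprime_of_inf_fittingHallOf [Finite G] (M Q : Subgroup G) (hQM : Q ≤ M)
    (h : Q ⊓ fittingHallOf M = ⊥) : (Nat.card Q).Coprime (Nat.card (fittingHallOf M)) := by
  have h1 : Nat.card Q ∣ (fittingHall M).index := by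
    let f : Q →* M ⧸ fittingHall M :=
      (QuotientGroup.mk' (fittingHall M)).comp (Subgroup.inclusion hQM)
    have hinj : Function.Injective f := by
      rw [injective_iff_map_eq_one]
      intro x hx
      have hx1 : (Subgroup.inclusion hQM x) ∈ fittingHall M := by
        have : (QuotientGroup.mk' (fittingHall M)) (Subgroup.inclusion hQM x) = 1 := hx
        rwa [QuotientGroup.mk'_apply, QuotientGroup.eq_one_iff] at this
      have hx' : (x : G) ∈ fittingHallOf M :=
        (Cfsg.Agent.Lib.helper29.mem_fittingHallOf_iff M (hQM x.2)).mpr hx1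
      have hmem : (x : G) ∈ Q ⊓ fittingHallOf M := ⟨x.2, hx'⟩
      rw [h] at hmem
      exact Subtype.ext (Subgroup.mem_bot.mp hmem)
    have := Subgroup.card_dvd_of_injective f hinj
    rwa [← Subgroup.index_eq_card] at this
  have h6 := Cfsg.Agent.Lib.helper29.fittingHall_coprime M
  rw [Cfsg.Agent.Lib.helper29.card_fittingHallOf]
  exact (Nat.Coprime.coprime_dvd_right h1 h6).symm

/-- The statement of piece A1b for subgroups of `G` (a hypothesis of `p1_derived_cent_of`). -/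
def h10_A1b (G : Type*) [Group G] : Prop :=
  ∀ (F D K : Subgroup G), Group.IsNilpotent F → D ≤ normalizer (F : Set G) →
    K ≤ normalizer (F : Set G) → K ≤ normalizer (D : Set G) → K ≠ ⊥ → D ⊓ K = ⊥ →
    (∀ k ∈ K, k ≠ 1 → D ⊓ centralizer ({k} : Set G) = ⊥) →
    Group.IsSolvable ↥(D ⊔ K) → Odd (Nat.card ↥(D ⊔ K)) →
    (Nat.card ↥(D ⊔ K)).Coprime (Nat.card F) →
    ∀ C : Subgroup G, IsCyclic C → (∀ k ∈ K, k ≠ 1 → F ⊓ centralizer ({k} : Set G) = C) →
    ⁅D, D⁆ ≤ centralizer (F : Set G)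

/-- **A2c**, with A1b as a hypothesis. -/
theorem p1_derived_cent_of [Finite G] (hA1b : h10_A1b G) (hG : IsMinSimpleOddOrder G)
    (h64 : H1364 G)
    (M : Subgroup G) (hM : IsCoatom M) (K : Subgroup G) (hKU : IsSigmaDecomposition M K ⊥)
    (hK1 : K ≠ ⊥) (D : Subgroup G) (hD : IsComplIn (fittingHallOf M) D (sigmaCore M))
    (hKD : K ≤ normalizer (D : Set G)) :
    ⁅D, D⁆ ≤ centralizer (fittingHallOf M : Set G) := by
  classical
  obtain ⟨-, hDσ, hFD, -⟩ := id hD
  have hKM : K ≤ M := hKU.hall.1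
  have hσM : sigmaCore M ≤ M := by
    unfold sigmaCore
    rintro _ ⟨x, _, rfl⟩
    exact x.2
  have hDM : D ≤ M := hDσ.trans hσM
  have hFσ : fittingHallOf M ≤ sigmaCore M :=
    Cfsg.Agent.Lib.helper8.BG1355.fittingHallOf_le_sigmaCore hG M hM
  obtain ⟨hKsc, -, hKsF, -⟩ := h64 M hM K ⊥ hKU hK1
  have hpa := (Cfsg.Agent.S1430.result hG M hM K hKU.hall hK1).1
  have hNF := Cfsg.Agent.Lib.helper29.le_normalizer_fittingHallOf M
  have hcopK : (Nat.card K).Coprime (Nat.card (sigmaCore M)) :=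
    Cfsg.Agent.Lib.helper10.BG1369.coprime_kappa_sigmaCore M K hKU.hall.2.1
  have hKσ : K ⊓ sigmaCore M = ⊥ := (Subgroup.disjoint_of_coprime_natCard hcopK).eq_bot
  have hDK : D ⊓ K = ⊥ := by
    rw [eq_bot_iff]
    intro g hg
    have : g ∈ K ⊓ sigmaCore M := ⟨hg.2, hDσ hg.1⟩
    rw [hKσ] at this
    exact this
  have hfrob : ∀ k ∈ K, k ≠ 1 → D ⊓ centralizer ({k} : Set G) = ⊥ := by
    intro k hk hk1
    rw [eq_bot_iff]
    intro g hg
    have h1 : g ∈ sigmaCore M ⊓ centralizer ({k} : Set G) := ⟨hDσ hg.1, hg.2⟩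
    rw [hpa k hk hk1] at h1
    have h2 : g ∈ fittingHallOf M ⊓ D := ⟨hKsF h1, hg.1⟩
    rw [hFD] at h2
    exact h2
  have hpr : ∀ k ∈ K, k ≠ 1 → fittingHallOf M ⊓ centralizer ({k} : Set G) =
      sigmaCore M ⊓ centralizer (K : Set G) := by
    intro k hk hk1
    apply le_antisymm
    · intro g hg
      have h1 : g ∈ sigmaCore M ⊓ centralizer ({k} : Set G) := ⟨hFσ hg.1, hg.2⟩
      rw [hpa k hk hk1] at h1
      exact h1
    · intro g hg
      refine ⟨hKsF hg, ?_⟩
      have h1 : g ∈ sigmaCore M ⊓ centralizer ({k} : Set G) := by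
        rw [hpa k hk hk1]
        exact hg
      exact h1.2
  have hDKM : D ⊔ K ≤ M := sup_le hDM hKM
  have hsolvM : Group.IsSolvable ↥M := by
    obtain ⟨-, -, -, hsolv⟩ := id hG
    exact hsolv M hM.1
  have hsolv : Group.IsSolvable ↥(D ⊔ K) :=
    Group.isSolvable_of_isSolvable_injective (Subgroup.inclusion_injective hDKM)
  have hodd : Odd (Nat.card ↥(D ⊔ K)) := by
    obtain ⟨hoddG, -⟩ := id hG
    exact Odd.of_dvd_nat hoddG (Subgroup.card_subgroup_dvd_card _)
  have hinf : (D ⊔ K) ⊓ fittingHallOf M = ⊥ := by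
    rw [eq_bot_iff]
    intro g hg
    obtain ⟨hg1, hg2⟩ := hg
    rw [sup_comm] at hg1
    have hn : ∀ a ∈ K, ∀ n ∈ D, a * n * a⁻¹ ∈ D := by
      intro a ha n hn
      exact ((Subgroup.mem_normalizer_iff).mp (hKD ha) n).mp hn
    obtain ⟨k, hk, d, hd, rfl⟩ :=
      Cfsg.Agent.Lib.helper10.BG1369.mem_sup_of_conj (A := K) (N := D) hn hg1
    have hkσ : k ∈ sigmaCore M := by
      have : k = (k * d) * d⁻¹ := by group
      rw [this]
      exact (sigmaCore M).mul_mem (hFσ hg2) ((sigmaCore M).inv_mem (hDσ hd))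
    have hk1 : k = 1 := by
      have : k ∈ K ⊓ sigmaCore M := ⟨hk, hkσ⟩
      rw [hKσ] at this
      exact Subgroup.mem_bot.mp this
    rw [hk1, one_mul] at hg2 ⊢
    have : d ∈ fittingHallOf M ⊓ D := ⟨hg2, hd⟩
    rw [hFD] at this
    exact this
  have hcop : (Nat.card ↥(D ⊔ K)).Coprime (Nat.card (fittingHallOf M)) :=
    h10_coprime_of_inf_fittingHallOf M (D ⊔ K) hDKM hinf
  exact hA1b (fittingHallOf M) D K (fittingHallOf_isNilpotent M)
    (hDM.trans hNF) (hKM.trans hNF) hKD hK1 hDK hfrob hsolv hodd hcop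
    (sigmaCore M ⊓ centralizer (K : Set G)) hKsc hpr

end Cfsg.Agent.Lib.helper86.BG1356
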