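import Mathlib
import Cfsg.Prelude.Def_OddOrderLocal
import Cfsg.Agent.Lib.helper10.BG1356A2c
import Cfsg.Agent.Lib.helper43.BG1356A1b

/-!
# S1356, piece A2c (helper86's split), verbatim statement

`p1_derived_cent`: in type P1 the derived group of a `K`-invariant complement `D` of `M_F` in
`M_σ` centralizes `M_F`.  This is `p1_derived_cent_of` (file `BG1356A2c`) with the landed piece
A1b (`frob_derived_centralizes`, helper43) plugged in.
-/

set_option autoImplicit false

namespace Cfsg.Agent.Lib.helper86.BG1356

open Cfsg Subgroup

variable {G : Type*} [Group G]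

/-- **A2c.** In type P1 the derived group of such a complement centralizes `M_F`. -/
theorem p1_derived_cent [Finite G] (hG : IsMinSimpleOddOrder G) (h64 : H1364 G)
    (M : Subgroup G) (hM : IsCoatom M) (K : Subgroup G) (hKU : IsSigmaDecomposition M K ⊥)
    (hK1 : K ≠ ⊥) (D : Subgroup G) (hD : IsComplIn (fittingHallOf M) D (sigmaCore M))
    (hKD : K ≤ normalizer (D : Set G)) :
    ⁅D, D⁆ ≤ centralizer (fittingHallOf M : Set G) :=
  p1_derived_cent_of
    (fun F D K a b c d e f g h i j C k l =>
      frob_derived_centralizes F D K a b c d e f g h i j C k l)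
    hG h64 M hM K hKU hK1 D hD hKD

end Cfsg.Agent.Lib.helper86.BG1356
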