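import Mathlib
import Cfsg.Prelude.Def_OddOrderLocal
import Cfsg.Agent.S1350
import Cfsg.Agent.S1352
import Cfsg.Agent.S1417
import Cfsg.Agent.S1418
import Cfsg.Agent.S1419
import Cfsg.Agent.S1430
import Cfsg.Agent.S1431
import Cfsg.Agent.Lib.helper12.FrobFixB
import Cfsg.Agent.Lib.helper1.Coprime
import Cfsg.Agent.Lib.helper37.CoprimeGen
import Cfsg.Agent.Lib.helper97.BGSeven1
import Cfsg.Agent.Lib.helper87.BG1425Main
import Cfsg.Agent.Lib.helper60.BG36G
import Cfsg.Agent.Lib.helper60.BGU0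
import Cfsg.Agent.Lib.helper29.FittingHall
import Cfsg.Agent.Lib.helper54.BGSigmaNe
import Cfsg.Agent.Lib.helper86.BG1356L
import Cfsg.Agent.Lib.helper8.BG1355
import Cfsg.Agent.Lib.helper1.ThompsonFpf
import Cfsg.Agent.Lib.helper10.BG1369

/-!
# `τ₂(M) = ∅` in the setting of B-G 14.4 with `N` of type `P₂` (helper10)

Setting: `N` a maximal subgroup with `σ`-decomposition `(K, U)`, `|K|` prime, `Nst` its partner
(`K = C_{Nst_σ}(K*)`, `K* = C_{N_σ}(K)` a Hall `κ(Nst)`-subgroup of `Nst`), `M ≠ Nst` a maximal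
subgroup with `M ∩ Nst` a complement of `M_σ` in `M` and `K ≤ F(M ∩ Nst)`, and an element
`x ∈ M_σ` with `C_M(x) ≤ M_σ`.  Then `τ₂(M) = ∅`.

Inputs: the landed rows S1350, S1352, S1417, S1418, S1419, S1430, S1431, the fixed point formula
of helper12, and the row S1364 as a hypothesis in `∀`-form.
-/

set_option autoImplicit false

open Cfsg Subgroup

namespace Cfsg.Agent.Lib.helper10.BGTau2P2

variable {G : Type*} [Group G]

/-- The statement of row S1364 for all maximal subgroups of `G`. -/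
def H1364 (G : Type*) [Group G] : Prop :=
  ∀ M : Subgroup G, IsCoatom M → ∀ K U : Subgroup G, Cfsg.IsSigmaDecomposition M K U → K ≠ ⊥ →
    IsCyclic ↥(Cfsg.sigmaCore M ⊓ Subgroup.centralizer (K : Set G)) ∧
      (Cfsg.sigmaCore M ⊓ Subgroup.centralizer (K : Set G)) ≠ ⊥ ∧
      (Cfsg.sigmaCore M ⊓ Subgroup.centralizer (K : Set G)) ≤ Cfsg.fittingHallOf M ∧
      ¬ IsCyclic (Cfsg.fittingHallOf M)

/-- An element of `M` of `p`-power order, `p ∈ σ(M)`, lies in `M_σ`. -/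
theorem t2p_mem_sigmaCore [Finite G] (hG : IsMinSimpleOddOrder G) (M : Subgroup G)
    (hM : IsCoatom M) {a : G} (haM : a ∈ M) {p : ℕ} (hp : p ∈ sigma M) {n : ℕ}
    (ha : a ^ p ^ n = 1) : a ∈ sigmaCore M := by
  obtain ⟨⟨-, -, hidx⟩, -, -⟩ := Cfsg.Agent.S1350.result hG M hM
  apply Cfsg.Agent.Lib.helper60.BG36.mem_of_coprime_relIndex (sigmaCore M) M
    (Cfsg.Agent.Lib.helper71.BGA.sigmaCore_le M)
    (Cfsg.Agent.Lib.helper71.BGA.le_normalizer_sigmaCore M) a haM
  have h1 : orderOf a ∣ p ^ n := orderOf_dvd_of_pow_eq_one ha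
  have h2 : (p ^ n).Coprime ((sigmaCore M).relIndex M) :=
    Nat.Coprime.pow_left n ((Nat.Prime.coprime_iff_not_dvd hp.1).mpr (hidx p hp.1 hp))
  exact Nat.Coprime.coprime_dvd_left h1 h2

/-- An element of `N` of `p`-power order, `p ∣ |N_F|`, lies in `N_F`. -/
theorem t2p_mem_fittingHallOf [Finite G] (N : Subgroup G) {a : G} (haN : a ∈ N) {p : ℕ}
    (hpF : p ∣ Nat.card (fittingHallOf N)) {n : ℕ} (ha : a ^ p ^ n = 1) :
    a ∈ fittingHallOf N := by
  apply Cfsg.Agent.Lib.helper60.BG36.mem_of_coprime_relIndex (fittingHallOf N) N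
    (Cfsg.Agent.Lib.helper29.fittingHallOf_le N)
    (Cfsg.Agent.Lib.helper29.le_normalizer_fittingHallOf N) a haN
  have h1 : orderOf a ∣ p ^ n := orderOf_dvd_of_pow_eq_one ha
  have hcop := Cfsg.Agent.Lib.helper29.fittingHallOf_coprime N
  have h3 : p.Coprime ((fittingHallOf N).relIndex N) := Nat.Coprime.coprime_dvd_left hpF hcop
  exact Nat.Coprime.coprime_dvd_left h1 (Nat.Coprime.pow_left n h3)

/-- A noncyclic elementary abelian `s`-subgroup of `M`, `s ∉ σ(M)`, has a non-identity element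
with a nontrivial fixed point on `M_σ`. -/
theorem t2p_exists_singular [Finite G] (hG : IsMinSimpleOddOrder G) (M : Subgroup G)
    (hM : IsCoatom M) (s : ℕ) [Fact s.Prime] (hsσ : s ∉ sigma M) (A : Subgroup G) (hAM : A ≤ M)
    (hAe : IsElementaryAbelian s A) (hAc : Nat.card A = s ^ 2) :
    ∃ a ∈ A, a ≠ 1 ∧ sigmaCore M ⊓ centralizer ({a} : Set G) ≠ ⊥ := by
  have hs : s.Prime := Fact.out
  have hX1 := Cfsg.Agent.Lib.helper54.sigmaCore_ne_bot hG M hM
  have hAcomm : ∀ a ∈ A, ∀ b ∈ A, a * b = b * a := fun a ha b hb =>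
    congrArg Subtype.val (hAe.1.is_comm.comm (⟨a, ha⟩ : A) ⟨b, hb⟩)
  have hXs : ¬ s ∣ Nat.card (sigmaCore M) := fun h =>
    hsσ (Cfsg.Agent.Lib.helper10.BG1369.sigma_of_dvd_sigmaCore M hs h)
  have hAX : A ≤ normalizer (sigmaCore M : Set G) :=
    hAM.trans (Cfsg.Agent.Lib.helper71.BGA.le_normalizer_sigmaCore M)
  have hgen := Cfsg.Agent.Lib.helper37.coprime_gen_hyperplane s A (sigmaCore M) hAcomm hAe.2 hXs hAX
  by_contra hcon
  push Not at hcon
  apply hX1
  rw [hgen, eq_bot_iff]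
  apply iSup_le
  rintro ⟨B, hBA, hBi⟩
  have hB1 : B ≠ ⊥ := by
    rintro rfl
    rw [Subgroup.relIndex_bot_left, hAc] at hBi
    nlinarith [hs.one_lt]
  obtain ⟨a, ha1⟩ := (Subgroup.ne_bot_iff_exists_ne_one).mp hB1
  have ha1' : (a : G) ≠ 1 := fun h => ha1 (Subtype.ext h)
  have h2 := hcon (a : G) (hBA a.2) ha1'
  show sigmaCore M ⊓ centralizer (B : Set G) ≤ ⊥
  rw [← h2]
  exact inf_le_inf_left _ (Subgroup.centralizer_le (by
    intro z hz
    rw [Set.mem_singleton_iff] at hz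
    rw [hz]; exact a.2))

/-- The end of every case: a Sylow `t`-subgroup of `Nst_σ`, `t ∣ |C_{Nst_σ}(K*)|`, lies in no
maximal subgroup other than `Nst`. -/
theorem t2p_unique_end [Finite G] (hG : IsMinSimpleOddOrder G) (M Nst Ks : Subgroup G)
    (hM : IsCoatom M) (hNst : IsCoatom Nst) (hKsH : IsPiHallOf (kappa Nst) Ks Nst)
    (hKs1 : Ks ≠ ⊥) (hMN : M ≠ Nst) (t : ℕ) (ht : t.Prime)
    (htd : t ∣ Nat.card ↥(sigmaCore Nst ⊓ centralizer (Ks : Set G)))
    (S : Sylow t ↥(sigmaCore Nst))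
    (hSM : (S : Subgroup ↥(sigmaCore Nst)).map (sigmaCore Nst).subtype ≤ M) : False := by
  obtain ⟨-, -, h3, -⟩ := Cfsg.Agent.S1431.result hG Nst hNst Ks hKsH hKs1
  obtain ⟨⟨L, -, huniq⟩, hSN, -⟩ := h3 t ht htd S
  have h1 : M = L := huniq M ⟨hM, hSM⟩
  have h2 : Nst = L := huniq Nst ⟨hNst, hSN⟩
  exact hMN (h1.trans h2.symm)

/-- If one Sylow `p`-subgroup of `G` is abelian, then every `p`-subgroup is. -/
theorem t2p_comm_of_sylow_comm [Finite G] {p : ℕ} [Fact p.Prime] (S₀ : Sylow p G)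
    (h : IsMulCommutative (S₀ : Subgroup G)) (Q : Subgroup G) (hQ : IsPGroup p Q) :
    ∀ u ∈ Q, ∀ v ∈ Q, u * v = v * u := by
  obtain ⟨S₁, hQS⟩ := hQ.exists_le_sylow
  obtain ⟨g, hg⟩ := MulAction.exists_smul_eq G S₀ S₁
  intro u hu v hv
  have hu' : u ∈ ((g • S₀ : Sylow p G) : Subgroup G) := by rw [hg]; exact hQS hu
  have hv' : v ∈ ((g • S₀ : Sylow p G) : Subgroup G) := by rw [hg]; exact hQS hv
  rw [Sylow.coe_subgroup_smul, Cfsg.Agent.Lib.helper1.mem_conj_smul] at hu' hv'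
  have hc := congrArg Subtype.val (h.is_comm.comm (⟨_, hu'⟩ : (S₀ : Subgroup G)) ⟨_, hv'⟩)
  have hc' : g⁻¹ * (u * v) * g = g⁻¹ * (v * u) * g := by simpa [mul_assoc] using hc
  exact mul_left_cancel (mul_right_cancel hc')

/-- The Sylow `t`-subgroups of `N_σ` lie in `N_F` when `t ∣ |N_F|`. -/
theorem t2p_sylow_le_fittingHall [Finite G] (N : Subgroup G) (t : ℕ)
    (htF : t ∣ Nat.card (fittingHallOf N)) (S : Sylow t ↥(sigmaCore N)) :
    (S : Subgroup ↥(sigmaCore N)).map (sigmaCore N).subtype ≤ fittingHallOf N := by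
  rintro _ ⟨u, hu, rfl⟩
  obtain ⟨k, hk⟩ := S.isPGroup' ⟨u, hu⟩
  have h1 : (u : G) ^ t ^ k = 1 := by
    have := congrArg Subtype.val (congrArg Subtype.val hk)
    simpa using this
  exact t2p_mem_fittingHallOf N (Cfsg.Agent.Lib.helper71.BGA.sigmaCore_le N u.2) htF h1

/-- The abelian case: an element `a ∈ Nst_σ` of order `s` whose centralizer lies in `M`, when the
Sylow `s`-subgroups of `G` are abelian. -/
theorem t2p_abelian_case [Finite G] (M Nst : Subgroup G) (s : ℕ) [Fact s.Prime]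
    (S₀ : Sylow s G) (hS₀ : IsMulCommutative (S₀ : Subgroup G)) (a : G)
    (haσ : a ∈ sigmaCore Nst) (has : a ^ s = 1) (hCaM : centralizer ({a} : Set G) ≤ M) :
    ∃ S : Sylow s ↥(sigmaCore Nst),
      (S : Subgroup ↥(sigmaCore Nst)).map (sigmaCore Nst).subtype ≤ M := by
  have hsp : s.Prime := Fact.out
  have hzp : IsPGroup s (zpowers (⟨a, haσ⟩ : sigmaCore Nst)) := by
    have hdvd : orderOf (⟨a, haσ⟩ : sigmaCore Nst) ∣ s :=
      orderOf_dvd_of_pow_eq_one (Subtype.ext (by simpa using has))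
    rcases (Nat.dvd_prime hsp).mp hdvd with h | h
    · exact IsPGroup.of_card (n := 0) (by rw [Nat.card_zpowers, h, pow_zero])
    · exact IsPGroup.of_card (n := 1) (by rw [Nat.card_zpowers, h, pow_one])
  obtain ⟨Q, hQ⟩ := hzp.exists_le_sylow
  refine ⟨Q, ?_⟩
  have hQp : IsPGroup s ((Q : Subgroup ↥(sigmaCore Nst)).map (sigmaCore Nst).subtype) :=
    Q.isPGroup'.map _
  have haQ : a ∈ (Q : Subgroup ↥(sigmaCore Nst)).map (sigmaCore Nst).subtype :=
    ⟨⟨a, haσ⟩, hQ (mem_zpowers _), rfl⟩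
  intro u hu
  apply hCaM
  rw [mem_centralizer_iff]
  intro z hz
  rw [Set.mem_singleton_iff] at hz
  subst hz
  exact t2p_comm_of_sylow_comm S₀ hS₀ _ hQp z haQ u hu

/-- The coprime case: `s ≠ |K|`, `s ∤ |Nst_F|`, `a ∈ C_{Nst_σ}(K)` of order `s`.  Then `Nst_F`
centralizes `a` (fixed point formula for the Frobenius group `P K*`, `P` a `K*`-invariant Sylow
`s`-subgroup of `C_{Nst_σ}(K)`). -/
theorem t2p_coprime_case [Finite G] (hG : IsMinSimpleOddOrder G) (Nst K Ks : Subgroup G)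
    (hNst : IsCoatom Nst) (hKs1 : Ks ≠ ⊥) (hKsH : IsPiHallOf (kappa Nst) Ks Nst)
    (hKst : K = sigmaCore Nst ⊓ centralizer (Ks : Set G)) (hKsK : Ks ≤ centralizer (K : Set G))
    (hKp : (Nat.card K).Prime) (hKF : K ≤ fittingHallOf Nst)
    (s : ℕ) [Fact s.Prime] (hst : s ≠ Nat.card K) (hsF : ¬ s ∣ Nat.card (fittingHallOf Nst))
    (a : G) (haσ : a ∈ sigmaCore Nst) (has : a ^ s = 1) (haK : a ∈ centralizer (K : Set G)) :
    fittingHallOf Nst ≤ centralizer ({a} : Set G) := by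
  have hsp : s.Prime := Fact.out
  have hσN : sigmaCore Nst ≤ Nst := Cfsg.Agent.Lib.helper71.BGA.sigmaCore_le Nst
  have hKsN : Ks ≤ Nst := hKsH.1
  have hsolvN : Group.IsSolvable Nst := hG.2.2.2 Nst hNst.1
  obtain ⟨Y, hYdef⟩ : ∃ Y : Subgroup G, Y = sigmaCore Nst ⊓ centralizer (K : Set G) := ⟨_, rfl⟩
  have hYσ : Y ≤ sigmaCore Nst := by rw [hYdef]; exact inf_le_left
  have hYK : Y ≤ centralizer (K : Set G) := by rw [hYdef]; exact inf_le_right
  have hYN : Y ≤ Nst := hYσ.trans hσN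
  -- `K*` normalizes `Y`
  have hKsY : Ks ≤ normalizer (Y : Set G) := by
    rw [Subgroup.le_normalizer_iff]
    intro e he y hy
    rw [hYdef]
    refine Subgroup.mem_inf.mpr ⟨?_, ?_⟩
    · exact Cfsg.Agent.Lib.helper10.BG1369.sigmaCore_conj_mem Nst (hKsN he) (hYσ hy)
    · rw [mem_centralizer_iff]
      intro k hk
      have c1 : Commute k e := mem_centralizer_iff.mp (hKsK he) k hk
      have c2 : Commute k y := mem_centralizer_iff.mp (hYK hy) k hk
      exact ((c1.mul_right c2).mul_right c1.inv_right).eq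
  have hcopKY : (Nat.card Ks).Coprime (Nat.card Y) :=
    Nat.Coprime.coprime_dvd_right (Subgroup.card_dvd_of_le hYσ)
      (Cfsg.Agent.Lib.helper10.BG1369.coprime_kappa_sigmaCore Nst Ks hKsH.2.1)
  have hsolvY : Group.IsSolvable Y :=
    Group.isSolvable_of_isSolvable_injective (Subgroup.inclusion_injective hYN)
  obtain ⟨P, hP⟩ := Cfsg.Agent.Lib.helper1.exists_invariant_sylow (p := s) Ks Y hKsY hcopKY
    (Or.inr hsolvY)
  obtain ⟨Pm, hPmdef⟩ : ∃ Pm : Subgroup G, Pm = (P : Subgroup Y).map Y.subtype := ⟨_, rfl⟩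
  rw [← hPmdef] at hP
  have hPmY : Pm ≤ Y := by
    rw [hPmdef]
    rintro _ ⟨u, -, rfl⟩
    exact u.2
  have hPmp : IsPGroup s Pm := by
    rw [hPmdef]
    exact P.isPGroup'.map _
  -- conjugate `a` into `P`
  have haY : a ∈ Y := by rw [hYdef]; exact Subgroup.mem_inf.mpr ⟨haσ, haK⟩
  obtain ⟨y, hyY, hay⟩ : ∃ y ∈ Y, y * a * y⁻¹ ∈ Pm := by
    have hzp : IsPGroup s (zpowers (⟨a, haY⟩ : Y)) := by
      have hdvd : orderOf (⟨a, haY⟩ : Y) ∣ s :=
        orderOf_dvd_of_pow_eq_one (Subtype.ext (by simpa using has))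
      rcases (Nat.dvd_prime hsp).mp hdvd with h | h
      · exact IsPGroup.of_card (n := 0) (by rw [Nat.card_zpowers, h, pow_zero])
      · exact IsPGroup.of_card (n := 1) (by rw [Nat.card_zpowers, h, pow_one])
    obtain ⟨Q, hQ⟩ := hzp.exists_le_sylow
    obtain ⟨y, hyQ⟩ := MulAction.exists_smul_eq Y Q P
    refine ⟨(y : G), y.2, ?_⟩
    have h1 : (⟨a, haY⟩ : Y) ∈ (Q : Subgroup Y) := hQ (mem_zpowers _)
    have h2 : y * ⟨a, haY⟩ * y⁻¹ ∈ ((y • Q : Sylow s Y) : Subgroup Y) := by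
      rw [Sylow.coe_subgroup_smul]
      exact Cfsg.Agent.Lib.helper1.conj_mem_conj_smul h1
    rw [hyQ] at h2
    rw [hPmdef]
    exact ⟨_, h2, by simp⟩
  -- `K*` acts fixed-point-freely on `P`
  have hfpf : ∀ e ∈ Ks, e ≠ 1 → ∀ u ∈ Pm, e * u = u * e → u = 1 := by
    intro e he he1 u hu hcomm
    obtain ⟨h30, -, -⟩ := Cfsg.Agent.S1430.result hG Nst hNst Ks hKsH hKs1
    have h1 : u ∈ sigmaCore Nst ⊓ centralizer ({e} : Set G) := by
      refine Subgroup.mem_inf.mpr ⟨hYσ (hPmY hu), ?_⟩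
      rw [mem_centralizer_iff]
      intro z hz
      rw [Set.mem_singleton_iff] at hz
      subst hz
      exact hcomm
    rw [h30 e he he1, ← hKst] at h1
    have h2 : u ^ Nat.card K = 1 := by
      have h := congrArg Subtype.val (pow_card_eq_one' (G := K) (x := ⟨u, h1⟩))
      rw [Subgroup.coe_pow] at h
      exact h
    obtain ⟨k, hk⟩ := hPmp ⟨u, hu⟩
    have h3 : u ^ s ^ k = 1 := by
      have := congrArg Subtype.val hk
      simpa using this
    have hcop : (Nat.card K).Coprime (s ^ k) :=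
      Nat.Coprime.pow_right k ((Nat.coprime_primes hKp hsp).mpr (Ne.symm hst))
    have h4 : orderOf u ∣ Nat.gcd (Nat.card K) (s ^ k) :=
      Nat.dvd_gcd (orderOf_dvd_of_pow_eq_one h2) (orderOf_dvd_of_pow_eq_one h3)
    rw [hcop.gcd_eq_one, Nat.dvd_one] at h4
    exact orderOf_eq_one_iff.mp h4
  obtain ⟨F, hFdef⟩ : ∃ F : Subgroup G, F = fittingHallOf Nst := ⟨_, rfl⟩
  rw [← hFdef] at hKF hsF ⊢
  have hFN : F ≤ Nst := by rw [hFdef]; exact Cfsg.Agent.Lib.helper29.fittingHallOf_le Nst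
  have hNF : Nst ≤ normalizer (F : Set G) := by
    rw [hFdef]; exact Cfsg.Agent.Lib.helper29.le_normalizer_fittingHallOf Nst
  have hFσ : F ≤ sigmaCore Nst := by
    rw [hFdef]; exact Cfsg.Agent.Lib.helper8.BG1355.fittingHallOf_le_sigmaCore hG Nst hNst
  have hUn : ∀ e ∈ Ks, ∀ u ∈ Pm, e * u * e⁻¹ ∈ Pm := Subgroup.le_normalizer_iff.mp hP
  have hsupN : Pm ⊔ Ks ≤ Nst := sup_le (hPmY.trans hYN) hKsN
  have hHn : ∀ z ∈ Pm ⊔ Ks, ∀ h ∈ F, z * h * z⁻¹ ∈ F := fun z hz =>
    Subgroup.le_normalizer_iff.mp hNF z (hsupN hz)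
  have hsolvF : Group.IsSolvable F :=
    Group.isSolvable_of_isSolvable_injective (Subgroup.inclusion_injective hFN)
  have hcop : (Nat.card F).Coprime (Nat.card ↥(Pm ⊔ Ks)) := by
    have h1 : Nat.card ↥(Ks ⊔ Pm) ∣ Nat.card Ks * Nat.card Pm :=
      Cfsg.Agent.Lib.helper60.BGU0.card_sup_dvd_mul_of_le_normalizer hP
    rw [sup_comm] at h1
    apply Nat.Coprime.coprime_dvd_right h1
    apply Nat.Coprime.mul_right
    · have := Cfsg.Agent.Lib.helper10.BG1369.coprime_kappa_sigmaCore Nst Ks hKsH.2.1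
      exact (Nat.Coprime.coprime_dvd_right (Subgroup.card_dvd_of_le hFσ) this).symm
    · obtain ⟨k, hk⟩ := IsPGroup.iff_card.mp hPmp
      rw [hk]
      exact Nat.Coprime.pow_right k ((Nat.Prime.coprime_iff_not_dvd hsp).mpr hsF).symm
  have hff := Cfsg.Agent.Lib.helper12.ff_formula Pm Ks F hKs1 hUn hfpf hHn hsolvF hcop
  have hKcKs : K ≤ centralizer (Ks : Set G) := hKst.le.trans inf_le_right
  have hPmK : Pm ≤ centralizer (K : Set G) := hPmY.trans hYK
  have h1 : F ⊓ centralizer (Ks : Set G) = K := by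
    apply le_antisymm
    · exact (inf_le_inf_right _ hFσ).trans hKst.ge
    · exact le_inf hKF hKcKs
  have h2 : F ⊓ centralizer ((Pm ⊔ Ks : Subgroup G) : Set G) = K := by
    apply le_antisymm
    · refine le_trans ?_ h1.le
      exact inf_le_inf_left _ (Subgroup.centralizer_le
        (by exact_mod_cast (le_sup_right : Ks ≤ Pm ⊔ Ks)))
    · refine le_inf hKF ?_
      rw [Subgroup.le_centralizer_iff]
      exact sup_le hPmK hKsK
  rw [h1, h2] at hff
  have h3 : Nat.card F = Nat.card ↥(F ⊓ centralizer (Pm : Set G)) :=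
    Nat.eq_of_mul_eq_mul_left (pow_pos Nat.card_pos _) hff
  have h4 : F ⊓ centralizer (Pm : Set G) = F := Subgroup.eq_of_le_of_card_ge inf_le_left h3.le
  have hFP : F ≤ centralizer (Pm : Set G) := h4.ge.trans inf_le_right
  intro h hh
  rw [mem_centralizer_iff]
  intro z hz
  rw [Set.mem_singleton_iff] at hz
  subst hz
  have hyN : y ∈ Nst := hYN hyY
  have h5 : y * h * y⁻¹ ∈ F := Subgroup.le_normalizer_iff.mp hNF y hyN h hh
  have h6 := mem_centralizer_iff.mp (hFP h5) (y * z * y⁻¹) hay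
  have h7 : y * (z * h) * y⁻¹ = y * (h * z) * y⁻¹ := by simpa [mul_assoc] using h6
  exact mul_left_cancel (mul_right_cancel h7)

/-- **`τ₂(M) = ∅`** in the `P₂` setting of B-G 14.4: `N` with `σ`-decomposition `(K, U)`, `|K|`
prime, `Nst` the partner of `N`, `M ≠ Nst` with `M ∩ Nst` a complement of `M_σ` in `M`,
`K ≤ F(M ∩ Nst)`, and `x ∈ M_σ` with `C_M(x) ≤ M_σ`. -/
theorem tau2_empty_of_setting [Finite G] (hG : IsMinSimpleOddOrder G) (h1364 : H1364 G)
    (M : Subgroup G) (hM : IsCoatom M) (N : Subgroup G) (hN : IsCoatom N) (K U : Subgroup G)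
    (hKU : IsSigmaDecomposition N K U) (hK1 : K ≠ ⊥) (hKp : (Nat.card K).Prime)
    (Nst : Subgroup G) (hNst : IsCoatom Nst)
    (hKst : K = sigmaCore Nst ⊓
      centralizer ((sigmaCore N ⊓ centralizer (K : Set G) : Subgroup G) : Set G))
    (hKstH : IsPiHallOf (kappa Nst) (sigmaCore N ⊓ centralizer (K : Set G)) Nst)
    (hE : IsComplIn (M ⊓ Nst) (sigmaCore M) M) (hKF : K ≤ fittingOf (M ⊓ Nst)) (hMN : M ≠ Nst)
    (x : G) (hx : x ∈ sigmaCore M) (hxc : M ⊓ centralizer ({x} : Set G) ≤ sigmaCore M) :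
    tau2 M = ∅ := by
  by_contra hne
  obtain ⟨s, hs⟩ := Set.nonempty_iff_ne_empty.mpr hne
  have hsp : s.Prime := hs.1
  have : Fact s.Prime := ⟨hsp⟩
  obtain ⟨Ks, hKsdef⟩ : ∃ Ks : Subgroup G, Ks = sigmaCore N ⊓ centralizer (K : Set G) := ⟨_, rfl⟩
  rw [← hKsdef] at hKst hKstH
  obtain ⟨E, hEdef⟩ : ∃ E : Subgroup G, E = M ⊓ Nst := ⟨_, rfl⟩
  rw [← hEdef] at hE hKF
  obtain ⟨hKsc, hKs1, -, -⟩ := h1364 N hN K U hKU hK1
  rw [← hKsdef] at hKsc hKs1
  obtain ⟨⟨Ust, hdec⟩, -⟩ := Cfsg.Agent.S1352.result hG Nst hNst Ks hKsc hKstH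
  obtain ⟨-, -, hKF', -⟩ := h1364 Nst hNst Ks Ust hdec hKs1
  rw [← hKst] at hKF'
  have hKsK : Ks ≤ centralizer (K : Set G) := by rw [hKsdef]; exact inf_le_right
  have hEM : E ≤ M := by rw [hEdef]; exact inf_le_left
  have hEN : E ≤ Nst := by rw [hEdef]; exact inf_le_right
  have hKE : K ≤ E := hKF.trans (Cfsg.Agent.Lib.helper86.BG1356.fittingOf_le_self E)
  have hKσ : K ≤ sigmaCore Nst := hKst.le.trans inf_le_left
  obtain ⟨A, hAE, hAe, hAc⟩ := Cfsg.Agent.Lib.helper97.bg7_exists_elemAb_compl M E hE s hs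
  have hAM : A ≤ M := hAE.trans hEM
  have hAN : A ≤ Nst := hAE.trans hEN
  obtain ⟨a, haA, ha1, hasing⟩ := t2p_exists_singular hG M hM s hs.2.1 A hAM hAe hAc
  have has : a ^ s = 1 := hAe.2 a haA
  have hao : orderOf a = s := orderOf_eq_prime has ha1
  obtain ⟨⟨hEnA, -⟩, -, h18c⟩ := Cfsg.Agent.S1418.result hG M hM E hE s hs A ⟨hAE, hAe, hAc⟩
  have hzc : Nat.card (zpowers a) = s := by rw [Nat.card_zpowers, hao]
  have hcz : centralizer ((zpowers a : Subgroup G) : Set G) = centralizer ({a} : Set G) :=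
    Cfsg.Agent.Lib.helper71.BGA.centralizer_zpowers a
  have hzA : zpowers a ≤ A := by rw [zpowers_le]; exact haA
  have hCaM : centralizer ({a} : Set G) ≤ M := by
    have h := (h18c (zpowers a) hzA hzc (by rw [hcz]; exact hasing)).1
    rwa [hcz] at h
  have hsN : s ∈ sigma Nst := by
    by_contra hsN
    have hτ : s ∈ tau2 Nst :=
      Cfsg.Agent.Lib.helper87.BG133.mem_tau2_of hG Nst hNst hsp hsN hAN hAe hAc
    obtain ⟨-, -, -, -, h5, -⟩ := Cfsg.Agent.S1417.result hG Nst hNst s hτ A ⟨hAN, hAe, hAc⟩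
    have h6 := h5 M hM hMN hAM
    apply hK1
    rw [eq_bot_iff, ← h6]
    exact le_inf hKσ (hKE.trans hEM)
  have haσ : a ∈ sigmaCore Nst :=
    t2p_mem_sigmaCore hG Nst hNst (hAN haA) hsN (n := 1) (by rw [pow_one]; exact has)
  have haE1 : a ∉ sigmaCore M := by
    intro h
    have h' : a ∈ E ⊓ sigmaCore M := Subgroup.mem_inf.mpr ⟨hAE haA, h⟩
    rw [hE.2.2.1] at h'
    exact ha1 (Subgroup.mem_bot.mp h')
  have htF : Nat.card K ∣ Nat.card (fittingHallOf Nst) := Subgroup.card_dvd_of_le hKF'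
  have htd : Nat.card K ∣ Nat.card ↥(sigmaCore Nst ⊓ centralizer (Ks : Set G)) :=
    Subgroup.card_dvd_of_le hKst.le
  by_cases hst : s = Nat.card K
  · -- the case `s = |K|`
    have hend : ∀ S : Sylow s ↥(sigmaCore Nst),
        ¬ (S : Subgroup ↥(sigmaCore Nst)).map (sigmaCore Nst).subtype ≤ M := fun S hS =>
      t2p_unique_end hG M Nst Ks hM hNst hKstH hKs1 hMN s hsp ((dvd_of_eq hst).trans htd) S hS
    by_cases hS : ∀ S : Sylow s G, ¬ IsMulCommutative (S : Subgroup G)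
    · obtain ⟨-, -, h19⟩ := Cfsg.Agent.S1419.result hG M hM E hE s hs hS A ⟨hAE, hAe, hAc⟩
      by_cases hX : zpowers a = A ⊓ centralizer (sigmaCore M : Set G)
      · have haC : a ∈ centralizer (sigmaCore M : Set G) := by
          have h : a ∈ zpowers a := mem_zpowers a
          rw [hX] at h
          exact (Subgroup.mem_inf.mp h).2
        have hax : a ∈ centralizer ({x} : Set G) := by
          rw [mem_centralizer_iff]
          intro z hz
          rw [Set.mem_singleton_iff] at hz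
          rw [hz]
          exact mem_centralizer_iff.mp haC x hx
        exact haE1 (hxc (Subgroup.mem_inf.mpr ⟨hAM haA, hax⟩))
      · have h := (h19 (zpowers a) (hzA.trans hAE) hzc hX).1
        rw [hcz] at h
        exact hasing h
    · push Not at hS
      obtain ⟨S₀, hS₀⟩ := hS
      obtain ⟨S, hS⟩ := t2p_abelian_case M Nst s S₀ hS₀ a haσ has hCaM
      exact hend S hS
  · -- the case `s ≠ |K|`
    have hend : ∀ S : Sylow (Nat.card K) ↥(sigmaCore Nst),
        ¬ (S : Subgroup ↥(sigmaCore Nst)).map (sigmaCore Nst).subtype ≤ M := fun S hS =>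
      t2p_unique_end hG M Nst Ks hM hNst hKstH hKs1 hMN (Nat.card K) hKp htd S hS
    have : Fact (Nat.card K).Prime := ⟨hKp⟩
    obtain ⟨S⟩ : Nonempty (Sylow (Nat.card K) ↥(sigmaCore Nst)) := inferInstance
    have hSF := t2p_sylow_le_fittingHall Nst (Nat.card K) htF S
    apply hend S
    -- `a` centralizes `K`
    have haK : a ∈ centralizer (K : Set G) := by
      rw [mem_centralizer_iff]
      intro k hk
      have hAF : A ≤ fittingOf E := Cfsg.Agent.Lib.helper86.BG1356.le_fittingOf E A hAE hEnA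
        (IsPGroup.isNilpotent (IsPGroup.of_card hAc))
      have := Cfsg.Agent.Lib.helper86.BG1356.fittingOf_isNilpotent E
      have hk' : k ^ Nat.card K = 1 := by
        have h := congrArg Subtype.val (pow_card_eq_one' (G := K) (x := ⟨k, hk⟩))
        rw [Subgroup.coe_pow] at h
        exact h
      have hc := Cfsg.Agent.Lib.helper1.commute_of_coprime_orderOf_of_isNilpotent ↥(fittingOf E)
        ⟨k, hKF hk⟩ ⟨a, hAF haA⟩ (by
          rw [Subgroup.orderOf_mk, Subgroup.orderOf_mk, hao]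
          exact Nat.Coprime.coprime_dvd_left (orderOf_dvd_of_pow_eq_one hk')
            ((Nat.coprime_primes hKp hsp).mpr (Ne.symm hst)))
      exact congrArg Subtype.val hc.eq
    by_cases hsF : s ∣ Nat.card (fittingHallOf Nst)
    · -- `a ∈ Nst_F`, which is nilpotent
      have haF : a ∈ fittingHallOf Nst :=
        t2p_mem_fittingHallOf Nst (hAN haA) hsF (n := 1) (by rw [pow_one]; exact has)
      have := Cfsg.Agent.Lib.helper86.BG1356.fittingHallOf_isNilpotent Nst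
      intro u hu
      apply hCaM
      rw [mem_centralizer_iff]
      intro z hz
      rw [Set.mem_singleton_iff] at hz
      rw [hz]
      have huF := hSF hu
      obtain ⟨u', hu', rfl⟩ := hu
      obtain ⟨k, hk⟩ := S.isPGroup' ⟨u', hu'⟩
      have h1 : ((u' : ↥(sigmaCore Nst)) : G) ^ (Nat.card K) ^ k = 1 := by
        have := congrArg Subtype.val (congrArg Subtype.val hk)
        simpa using this
      have hc := Cfsg.Agent.Lib.helper1.commute_of_coprime_orderOf_of_isNilpotent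
        ↥(fittingHallOf Nst) ⟨a, haF⟩ ⟨_, huF⟩ (by
          rw [Subgroup.orderOf_mk, Subgroup.orderOf_mk, hao]
          exact Nat.Coprime.coprime_dvd_right (orderOf_dvd_of_pow_eq_one h1)
            (Nat.Coprime.pow_right k ((Nat.coprime_primes hsp hKp).mpr hst)))
      exact congrArg Subtype.val hc.eq
    · have hFa := t2p_coprime_case hG Nst K Ks hNst hKs1 hKstH hKst hKsK hKp hKF' s hst hsF a
        haσ has haK
      exact hSF.trans (hFa.trans hCaM)

end Cfsg.Agent.Lib.helper10.BGTau2P2
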