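import Mathlib
import Cfsg.Prelude.Def_OddOrderLocal
import Cfsg.Agent.S1353
import Cfsg.Agent.S1430
import Cfsg.Agent.Lib.helper10.BGTau2P2
import Cfsg.Agent.Lib.helper59.BG1376A
import Cfsg.Agent.Lib.helper27.BGKPrime

/-!
# `τ₂(M) = ∅` for helper59's `Setting` of S1376 (helper10)

`tau2_empty_of_Setting`: the lemma `tau2_empty_of_setting` of `BGTau2P2` fed from the structure
`Cfsg.Agent.Lib.helper59.BG1376.Setting`: `|K|` is prime (Lemma P, `U ≠ 1`), `M ≠ N*`, and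
`C_M(x) ≤ M_σ` (the Frobenius group `U K`: every element of `U K` outside `U` is conjugate to an
element of `K`, and `K` acts fixed-point-freely on `U` by S1353).
-/

set_option autoImplicit false

open Cfsg Subgroup

namespace Cfsg.Agent.Lib.helper10.BGTau2P2

variable {G : Type*} [Group G]

/-- Frobenius covering: if `k` normalizes `U` and has no fixed point on `U`, every element of the
coset `U k` is a `U`-conjugate of `k`. -/
theorem t2p_frob_cover [Finite G] (U : Subgroup G) (k : G)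
    (hkU : ∀ u ∈ U, k * u * k⁻¹ ∈ U) (hreg : U ⊓ centralizer ({k} : Set G) = ⊥)
    (u₀ : G) (hu₀ : u₀ ∈ U) : ∃ u ∈ U, u₀ * k = u⁻¹ * k * u := by
  let f : U → U := fun u => ⟨(u : G)⁻¹ * (k * u * k⁻¹), U.mul_mem (U.inv_mem u.2) (hkU u u.2)⟩
  have hinj : Function.Injective f := by
    intro u v huv
    have h1 : (u : G)⁻¹ * (k * u * k⁻¹) = (v : G)⁻¹ * (k * v * k⁻¹) := congrArg Subtype.val huv
    have h2 : (v : G) * (u : G)⁻¹ ∈ U ⊓ centralizer ({k} : Set G) := by
      refine Subgroup.mem_inf.mpr ⟨U.mul_mem v.2 (U.inv_mem u.2), ?_⟩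
      rw [mem_centralizer_iff]
      intro z hz
      rw [Set.mem_singleton_iff] at hz
      rw [hz]
      have h3 : k * (u : G) * k⁻¹ = (u : G) * ((v : G)⁻¹ * (k * v * k⁻¹)) := by
        rw [← h1]; group
      have h4 : k * (u : G) = (u : G) * (v : G)⁻¹ * k * v := by
        calc k * (u : G) = (k * (u : G) * k⁻¹) * k := by group
          _ = (u : G) * ((v : G)⁻¹ * (k * v * k⁻¹)) * k := by rw [h3]
          _ = (u : G) * (v : G)⁻¹ * k * v := by group
      calc k * ((v : G) * (u : G)⁻¹) = (v : G) * ((v : G)⁻¹ * k * v) * (u : G)⁻¹ := by group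
        _ = (v : G) * ((u : G)⁻¹ * ((u : G) * (v : G)⁻¹ * k * v)) * (u : G)⁻¹ := by group
        _ = (v : G) * ((u : G)⁻¹ * (k * (u : G))) * (u : G)⁻¹ := by rw [← h4]
        _ = (v : G) * (u : G)⁻¹ * k := by group
    rw [hreg, Subgroup.mem_bot] at h2
    have h5 : (v : G) = (u : G) := by
      calc (v : G) = (v : G) * (u : G)⁻¹ * u := by group
        _ = u := by rw [h2, one_mul]
    exact Subtype.ext h5.symm
  have hsurj : Function.Surjective f := Finite.surjective_of_injective hinj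
  obtain ⟨u, hu⟩ := hsurj ⟨u₀, hu₀⟩
  refine ⟨(u : G), u.2, ?_⟩
  have h1 : (u : G)⁻¹ * (k * u * k⁻¹) = u₀ := congrArg Subtype.val hu
  rw [← h1]
  group

/-- In the Frobenius group `U K` (`N ∩ M = U K`, `C_G(x) ≤ N`, `x ∈ U#`, `U ≤ M_σ`):
`C_M(x) ≤ M_σ`. -/
theorem t2p_cent_le [Finite G] (hG : IsMinSimpleOddOrder G) (M N K U : Subgroup G)
    (hN : IsCoatom N) (hKU : IsSigmaDecomposition N K U) (x : G) (hxU : x ∈ U) (hx1 : x ≠ 1)
    (hxN : centralizer ({x} : Set G) ≤ N) (hMN : N ⊓ M = U ⊔ K) (hUσ : U ≤ sigmaCore M) :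
    M ⊓ centralizer ({x} : Set G) ≤ sigmaCore M := by
  intro c hc
  obtain ⟨hcM, hcx⟩ := Subgroup.mem_inf.mp hc
  have hcUK : c ∈ K ⊔ U := by
    rw [sup_comm, ← hMN]
    exact Subgroup.mem_inf.mpr ⟨hxN hcx, hcM⟩
  have hKn : ∀ k ∈ K, ∀ u ∈ U, k * u * k⁻¹ ∈ U := Subgroup.le_normalizer_iff.mp hKU.normal
  obtain ⟨k, hk, u, hu, rfl⟩ := Cfsg.Agent.Lib.helper10.BG1369.mem_sup_of_conj hKn hcUK
  by_cases hk1 : k = 1
  · rw [hk1, one_mul]
    exact hUσ hu
  · exfalso
    have hreg := Cfsg.Agent.S1353.result hG N hN K U hKU k hk hk1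
    obtain ⟨v, hv, hvk⟩ := t2p_frob_cover U k (hKn k hk) hreg (k * u * k⁻¹) (hKn k hk u hu)
    have hc' : k * u = v⁻¹ * k * v := by
      rw [← hvk]; group
    have hcomm : x * (k * u) = (k * u) * x := mem_centralizer_iff.mp hcx x rfl
    rw [hc'] at hcomm
    have hx' : v * x * v⁻¹ ∈ U ⊓ centralizer ({k} : Set G) := by
      refine Subgroup.mem_inf.mpr ⟨U.mul_mem (U.mul_mem hv hxU) (U.inv_mem hv), ?_⟩
      rw [mem_centralizer_iff]
      intro z hz
      rw [Set.mem_singleton_iff] at hz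
      rw [hz]
      calc k * (v * x * v⁻¹) = v * (v⁻¹ * k * v * x) * v⁻¹ := by group
        _ = v * (x * (v⁻¹ * k * v)) * v⁻¹ := by rw [hcomm]
        _ = v * x * v⁻¹ * k := by group
    rw [hreg, Subgroup.mem_bot] at hx'
    apply hx1
    calc x = v⁻¹ * (v * x * v⁻¹) * v := by group
      _ = 1 := by rw [hx']; group

/-- **`τ₂(M) = ∅`** in helper59's setting of S1376 (`H1364 G` = row S1364 in `∀`-form). -/
theorem tau2_empty_of_Setting [Finite G] (hG : IsMinSimpleOddOrder G) (h1364 : H1364 G)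
    {M N K U Ns : Subgroup G} {x : G}
    (s : Cfsg.Agent.Lib.helper59.BG1376.Setting M N K U Ns x) : tau2 M = ∅ := by
  have hKp : (Nat.card K).Prime :=
    Cfsg.Agent.Lib.helper27.BGKP.kappa_card_prime hG
      (fun M hM K hK hK1 => Cfsg.Agent.S1430.result hG M hM K hK hK1)
      N s.hN K s.hKU.hall s.hK1 U s.hKU.compl s.hU1
  have hMN : M ≠ Ns := by
    intro h
    have h1 := s.hE.2.2.1
    rw [← h, inf_idem] at h1
    apply Cfsg.Agent.Lib.helper54.sigmaCore_ne_bot hG M s.hM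
    rw [eq_bot_iff, ← h1]
    exact le_inf (Cfsg.Agent.Lib.helper71.BGA.sigmaCore_le M) le_rfl
  exact tau2_empty_of_setting hG h1364 M s.hM N s.hN K U s.hKU s.hK1 hKp Ns s.hNs s.hKst
    s.hKstH s.hE s.hKF hMN x s.hx
    (t2p_cent_le hG M N K U s.hN s.hKU x s.hxU s.hx1 s.hxN s.hMN s.hUσ)

end Cfsg.Agent.Lib.helper10.BGTau2P2
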