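/-
Counting in Steiner systems, specialised to S(3, 6, 22): numbers of blocks through an `i`-set
(77, 21, 5, 1), and intersection numbers of the blocks with a fixed point set.
-/
import Mathlib
import Cfsg.Prelude.Def_Sporadic_a

set_option autoImplicit false
set_option linter.unusedSectionVars false

namespace Cfsg.Agent.Lib.helper10

open Finset

section Steiner

variable {α : Type*} [Fintype α] [DecidableEq α]

open scoped Classical in
/-- The blocks of a set system as a finset. -/
noncomputable def blk (B : Set (Finset α)) : Finset (Finset α) := Finset.univ.filter (· ∈ B)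

theorem mem_blk {B : Set (Finset α)} {b : Finset α} : b ∈ blk B ↔ b ∈ B := by
  classical
  simp [blk]

/-- Number of blocks containing a given set. -/
noncomputable def thru (B : Set (Finset α)) (s : Finset α) : ℕ :=
  ((blk B).filter fun b => s ⊆ b).card

/-- Number of blocks meeting `Y` in exactly `k` points. -/
noncomputable def meetN (B : Set (Finset α)) (Y : Finset α) (k : ℕ) : ℕ :=
  ((blk B).filter fun b => (b ∩ Y).card = k).card

theorem thru_top {t k : ℕ} {B : Set (Finset α)} (hB : Cfsg.IsSteinerSystem t k B)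
    (s : Finset α) (hs : s.card = t) : thru B s = 1 := by
  obtain ⟨b, ⟨hbB, hsb⟩, huniq⟩ := hB.2 s hs
  rw [thru, Finset.card_eq_one]
  refine ⟨b, ?_⟩
  ext b'
  simp only [Finset.mem_filter, mem_blk, Finset.mem_singleton]
  constructor
  · rintro ⟨h1, h2⟩; exact huniq b' ⟨h1, h2⟩
  · rintro rfl; exact ⟨hbB, hsb⟩

/-- The double count behind the recursion for the numbers of blocks through a set. -/
theorem thru_step {t k : ℕ} {B : Set (Finset α)} (hB : Cfsg.IsSteinerSystem t k B)
    (s : Finset α) (l : ℕ) (h : ∀ x, x ∉ s → thru B (insert x s) = l) :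
    thru B s * (k - s.card) = (Fintype.card α - s.card) * l := by
  have hswap : ∑ x ∈ sᶜ, ∑ _b ∈ (blk B).filter (fun b => insert x s ⊆ b), 1
      = ∑ b ∈ (blk B).filter (fun b => s ⊆ b), ∑ _x ∈ b \ s, 1 := by
    refine Finset.sum_comm' ?_
    intro x b
    simp only [Finset.mem_compl, Finset.mem_filter, Finset.mem_sdiff, Finset.insert_subset_iff]
    tauto
  have hL : ∑ x ∈ sᶜ, ∑ _b ∈ (blk B).filter (fun b => insert x s ⊆ b), 1
      = (Fintype.card α - s.card) * l := by
    have : ∀ x ∈ sᶜ, ∑ _b ∈ (blk B).filter (fun b => insert x s ⊆ b), 1 = l := by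
      intro x hx
      rw [Finset.mem_compl] at hx
      rw [← Finset.card_eq_sum_ones]
      exact h x hx
    rw [Finset.sum_congr rfl this, Finset.sum_const, Finset.card_compl, smul_eq_mul]
  have hR : ∑ b ∈ (blk B).filter (fun b => s ⊆ b), ∑ _x ∈ b \ s, 1
      = thru B s * (k - s.card) := by
    have : ∀ b ∈ (blk B).filter (fun b => s ⊆ b), ∑ _x ∈ b \ s, 1 = k - s.card := by
      intro b hb
      rw [Finset.mem_filter, mem_blk] at hb
      rw [← Finset.card_eq_sum_ones, Finset.card_sdiff_of_subset hb.2, hB.1 b hb.1]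
    rw [Finset.sum_congr rfl this, Finset.sum_const, smul_eq_mul, thru]
  rw [← hR, ← hswap, hL]

/-- Double count: pairs (`j`-subset `T` of `Y`, block through `T`). -/
theorem sum_thru_eq (B : Set (Finset α)) (Y : Finset α) (j : ℕ) :
    ∑ T ∈ Y.powersetCard j, thru B T = ∑ b ∈ blk B, ((b ∩ Y).card).choose j := by
  have hswap : ∑ T ∈ Y.powersetCard j, ∑ _b ∈ (blk B).filter (fun b => T ⊆ b), 1
      = ∑ b ∈ blk B, ∑ _T ∈ (b ∩ Y).powersetCard j, 1 := by
    refine Finset.sum_comm' ?_
    intro T b
    simp only [Finset.mem_powersetCard, Finset.mem_filter, Finset.subset_inter_iff]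
    tauto
  have h1 : ∀ T ∈ Y.powersetCard j, ∑ _b ∈ (blk B).filter (fun b => T ⊆ b), 1 = thru B T := by
    intro T _
    rw [← Finset.card_eq_sum_ones, thru]
  have h2 : ∀ b ∈ blk B, ∑ _T ∈ (b ∩ Y).powersetCard j, 1 = ((b ∩ Y).card).choose j := by
    intro b _
    rw [← Finset.card_eq_sum_ones, Finset.card_powersetCard]
  rw [← Finset.sum_congr rfl h1, hswap, Finset.sum_congr rfl h2]

/-- Splitting a sum over blocks according to the size of the intersection with `Y`. -/
theorem sum_blk_fibre (B : Set (Finset α)) (Y : Finset α) (n : ℕ)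
    (hn : ∀ d ∈ blk B, (d ∩ Y).card < n) (f : ℕ → ℕ) :
    ∑ d ∈ blk B, f (d ∩ Y).card = ∑ k ∈ Finset.range n, meetN B Y k * f k := by
  have hmaps : ∀ d ∈ blk B, (d ∩ Y).card ∈ Finset.range n := by
    intro d hd
    rw [Finset.mem_range]
    exact hn d hd
  rw [← Finset.sum_fiberwise_of_maps_to hmaps]
  refine Finset.sum_congr rfl fun k _ => ?_
  rw [meetN, Finset.card_eq_sum_ones, Finset.sum_mul]
  refine Finset.sum_congr rfl fun b hb => ?_
  rw [Finset.mem_filter] at hb
  rw [hb.2, one_mul]

theorem card_insert_eq' {s : Finset α} {x : α} {i : ℕ} (hs : s.card = i) (hx : x ∉ s) :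
    (insert x s).card = i + 1 := by
  rw [Finset.card_insert_of_notMem hx, hs]

/-! ### S(3, 6, 22) -/

variable {B : Set (Finset α)}

theorem s3622_thru_three (hB : Cfsg.IsSteinerSystem 3 6 B) (s : Finset α) (hs : s.card = 3) :
    thru B s = 1 := thru_top hB s hs

theorem s3622_thru_two (hB : Cfsg.IsSteinerSystem 3 6 B) (hα : Fintype.card α = 22)
    (s : Finset α) (hs : s.card = 2) : thru B s = 5 := by
  have := thru_step hB s 1 (fun x hx => s3622_thru_three hB _ (card_insert_eq' hs hx))
  rw [hα, hs] at this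
  omega

theorem s3622_thru_one (hB : Cfsg.IsSteinerSystem 3 6 B) (hα : Fintype.card α = 22)
    (s : Finset α) (hs : s.card = 1) : thru B s = 21 := by
  have := thru_step hB s 5 (fun x hx => s3622_thru_two hB hα _ (card_insert_eq' hs hx))
  rw [hα, hs] at this
  omega

theorem s3622_thru_zero (hB : Cfsg.IsSteinerSystem 3 6 B) (hα : Fintype.card α = 22)
    (s : Finset α) (hs : s.card = 0) : thru B s = 77 := by
  have := thru_step hB s 21 (fun x hx => s3622_thru_one hB hα _ (card_insert_eq' hs hx))
  rw [hα, hs] at this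
  omega

/-- An S(3, 6, 22) has 77 blocks. -/
theorem s3622_card_blk (hB : Cfsg.IsSteinerSystem 3 6 B) (hα : Fintype.card α = 22) :
    (blk B).card = 77 := by
  have := s3622_thru_zero hB hα ∅ rfl
  rw [thru] at this
  rw [← this]
  congr 1
  ext b; simp

/-- Two distinct blocks of an S(3, 6, 22) share at most two points. -/
theorem s3622_inter_le_two (hB : Cfsg.IsSteinerSystem 3 6 B) {b c : Finset α} (hb : b ∈ B)
    (hc : c ∈ B) (hne : b ≠ c) : (b ∩ c).card ≤ 2 := by
  by_contra hcon
  obtain ⟨s, hs, hs3⟩ := Finset.exists_subset_card_eq (show 3 ≤ (b ∩ c).card by omega)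
  obtain ⟨d, -, huniq⟩ := hB.2 s hs3
  have h1 := huniq b ⟨hb, hs.trans Finset.inter_subset_left⟩
  have h2 := huniq c ⟨hc, hs.trans Finset.inter_subset_right⟩
  exact hne (h1.trans h2.symm)

/-- The master equations: for any point set `Y` and `j ≤ 3`, counting pairs
(`j`-subset of `Y`, block through it). -/
theorem s3622_master (hB : Cfsg.IsSteinerSystem 3 6 B) (hα : Fintype.card α = 22)
    (Y : Finset α) :
    Y.card.choose 0 * 77 = ∑ k ∈ Finset.range 7, meetN B Y k * k.choose 0 ∧
    Y.card.choose 1 * 21 = ∑ k ∈ Finset.range 7, meetN B Y k * k.choose 1 ∧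
    Y.card.choose 2 * 5 = ∑ k ∈ Finset.range 7, meetN B Y k * k.choose 2 ∧
    Y.card.choose 3 * 1 = ∑ k ∈ Finset.range 7, meetN B Y k * k.choose 3 := by
  have hn : ∀ d ∈ blk B, (d ∩ Y).card < 7 := by
    intro d hd
    have h1 := Finset.card_le_card (Finset.inter_subset_left (s₁ := d) (s₂ := Y))
    have h2 := hB.1 d (mem_blk.mp hd)
    omega
  have key : ∀ (j l : ℕ), (∀ T : Finset α, T.card = j → thru B T = l) →
      Y.card.choose j * l = ∑ k ∈ Finset.range 7, meetN B Y k * k.choose j := by
    intro j l hl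
    rw [← sum_blk_fibre B Y 7 hn (fun n => n.choose j), ← sum_thru_eq B Y j,
      Finset.sum_congr rfl (fun T hT => hl T (Finset.mem_powersetCard.mp hT).2),
      Finset.sum_const, Finset.card_powersetCard, smul_eq_mul]
  exact ⟨key 0 77 (s3622_thru_zero hB hα), key 1 21 (s3622_thru_one hB hα),
    key 2 5 (s3622_thru_two hB hα), key 3 1 (s3622_thru_three hB)⟩

theorem meetN_eq_zero {Y : Finset α} {k : ℕ} (h : ∀ d ∈ B, (d ∩ Y).card ≠ k) :
    meetN B Y k = 0 := by
  rw [meetN, Finset.card_eq_zero, Finset.filter_eq_empty_iff]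
  intro d hd
  exact h d (mem_blk.mp hd)

theorem meetN_eq_card {Y : Finset α} {k : ℕ} (S : Finset (Finset α))
    (h : ∀ d, (d ∈ B ∧ (d ∩ Y).card = k) ↔ d ∈ S) : meetN B Y k = S.card := by
  rw [meetN]
  congr 1
  ext d
  rw [Finset.mem_filter, mem_blk]
  exact h d

theorem filter_card_eq_meetN {Y : Finset α} {k : ℕ} (P : Finset α → Prop) [DecidablePred P]
    (h : ∀ d ∈ B, P d ↔ (d ∩ Y).card = k) : ((blk B).filter P).card = meetN B Y k := by
  rw [meetN]
  congr 1
  ext d
  rw [Finset.mem_filter, Finset.mem_filter, mem_blk]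
  constructor
  · rintro ⟨h1, h2⟩; exact ⟨h1, (h d h1).mp h2⟩
  · rintro ⟨h1, h2⟩; exact ⟨h1, (h d h1).mpr h2⟩

/-- Intersection numbers of the blocks with a fixed block. -/
theorem s3622_meet_block (hB : Cfsg.IsSteinerSystem 3 6 B) (hα : Fintype.card α = 22)
    {b : Finset α} (hb : b ∈ B) :
    meetN B b 0 = 16 ∧ meetN B b 1 = 0 ∧ meetN B b 2 = 60 := by
  have hb6 := hB.1 b hb
  have hle : ∀ d ∈ B, d ≠ b → (d ∩ b).card ≤ 2 := fun d hd hne => s3622_inter_le_two hB hd hb hne
  have h6 : meetN B b 6 = 1 := by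
    rw [meetN_eq_card {b}, Finset.card_singleton]
    intro d
    rw [Finset.mem_singleton]
    constructor
    · rintro ⟨hd, h⟩
      by_contra hne
      have := hle d hd hne
      omega
    · rintro rfl
      exact ⟨hb, by rw [Finset.inter_self, hb6]⟩
  have hz : ∀ k, 2 < k → k < 6 → meetN B b k = 0 := by
    intro k hk1 hk2
    refine meetN_eq_zero fun d hd h => ?_
    by_cases hne : d = b
    · subst hne
      rw [Finset.inter_self, hb6] at h
      omega
    · have := hle d hd hne
      omega
  have h3 := hz 3 (by norm_num) (by norm_num)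
  have h4 := hz 4 (by norm_num) (by norm_num)
  have h5 := hz 5 (by norm_num) (by norm_num)
  obtain ⟨e0, e1, e2, -⟩ := s3622_master hB hα b
  rw [hb6] at e0 e1 e2
  simp only [Finset.sum_range_succ, Finset.sum_range_zero, h3, h4, h5, h6] at e0 e1 e2
  norm_num [Nat.choose] at e0 e1 e2
  omega

/-- Two distinct blocks of an S(3, 6, 22) meet in 0 or 2 points. -/
theorem s3622_inter_zero_or_two (hB : Cfsg.IsSteinerSystem 3 6 B) (hα : Fintype.card α = 22)
    {b c : Finset α} (hb : b ∈ B) (hc : c ∈ B) (hne : b ≠ c) :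
    (b ∩ c).card = 0 ∨ (b ∩ c).card = 2 := by
  have h1 := (s3622_meet_block hB hα hc).2.1
  rw [meetN, Finset.card_eq_zero, Finset.filter_eq_empty_iff] at h1
  have h2 := h1 (mem_blk.mpr hb)
  have h3 := s3622_inter_le_two hB hb hc hne
  omega

/-- The number of blocks disjoint from a given block is 16. -/
theorem s3622_card_disjoint (hB : Cfsg.IsSteinerSystem 3 6 B) (hα : Fintype.card α = 22)
    {b : Finset α} (hb : b ∈ B) :
    ((blk B).filter fun d => Disjoint b d).card = 16 := by
  rw [filter_card_eq_meetN (Y := b) (k := 0), (s3622_meet_block hB hα hb).1]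
  intro d _
  rw [Finset.card_eq_zero, Finset.disjoint_iff_inter_eq_empty, Finset.inter_comm]

/-- Intersection numbers of the blocks with the union of two distinct blocks. -/
theorem s3622_meet_union (hB : Cfsg.IsSteinerSystem 3 6 B) (hα : Fintype.card α = 22)
    {b c : Finset α} (hb : b ∈ B) (hc : c ∈ B) (hne : b ≠ c) :
    ((b ∩ c).card = 0 → meetN B (b ∪ c) 0 = 0) ∧ ((b ∩ c).card = 2 → meetN B (b ∪ c) 0 = 4) := by
  have hb6 := hB.1 b hb
  have hc6 := hB.1 c hc
  have hY := Finset.card_union_add_card_inter b c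
  rw [hb6, hc6] at hY
  have hdb : ∀ d ∈ B, d ≠ b → (d ∩ b).card = 0 ∨ (d ∩ b).card = 2 :=
    fun d hd h => s3622_inter_zero_or_two hB hα hd hb h
  have hdc : ∀ d ∈ B, d ≠ c → (d ∩ c).card = 0 ∨ (d ∩ c).card = 2 :=
    fun d hd h => s3622_inter_zero_or_two hB hα hd hc h
  have hsub1 : ∀ d : Finset α, (d ∩ b).card ≤ (d ∩ (b ∪ c)).card := fun d =>
    Finset.card_le_card (Finset.inter_subset_inter_left Finset.subset_union_left)
  have hsub2 : ∀ d : Finset α, (d ∩ c).card ≤ (d ∩ (b ∪ c)).card := fun d =>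
    Finset.card_le_card (Finset.inter_subset_inter_left Finset.subset_union_right)
  have hle : ∀ d : Finset α, (d ∩ (b ∪ c)).card ≤ (d ∩ b).card + (d ∩ c).card := by
    intro d
    rw [Finset.inter_union_distrib_left]
    exact Finset.card_union_le _ _
  have hbY : (b ∩ (b ∪ c)).card = 6 := by
    rw [Finset.inter_eq_left.mpr Finset.subset_union_left, hb6]
  have hcY : (c ∩ (b ∪ c)).card = 6 := by
    rw [Finset.inter_eq_left.mpr Finset.subset_union_right, hc6]
  have hother : ∀ d ∈ B, d ≠ b → d ≠ c →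
      (d ∩ (b ∪ c)).card ≤ 4 ∧ (d ∩ (b ∪ c)).card ≠ 1 := by
    intro d hd h1 h2
    have := hdb d hd h1
    have := hdc d hd h2
    have := hle d
    have := hsub1 d
    have := hsub2 d
    omega
  have h6 : meetN B (b ∪ c) 6 = 2 := by
    rw [meetN_eq_card {b, c}, Finset.card_pair hne]
    intro d
    rw [Finset.mem_insert, Finset.mem_singleton]
    constructor
    · rintro ⟨hd, h⟩
      by_contra hcon
      push Not at hcon
      have := (hother d hd hcon.1 hcon.2).1
      omega
    · rintro (rfl | rfl)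
      · exact ⟨hb, hbY⟩
      · exact ⟨hc, hcY⟩
  have hz : ∀ k, (k = 1 ∨ k = 5) → meetN B (b ∪ c) k = 0 := by
    intro k hk
    refine meetN_eq_zero fun d hd h => ?_
    by_cases h1 : d = b
    · subst h1
      omega
    · by_cases h2 : d = c
      · subst h2
        omega
      · have := hother d hd h1 h2
        omega
  have h1 := hz 1 (Or.inl rfl)
  have h5 := hz 5 (Or.inr rfl)
  obtain ⟨e0, e1, e2, e3⟩ := s3622_master hB hα (b ∪ c)
  simp only [Finset.sum_range_succ, Finset.sum_range_zero, h1, h5, h6] at e0 e1 e2 e3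
  constructor
  · intro h0
    have hY' : (b ∪ c).card = 12 := by omega
    rw [hY'] at e0 e1 e2 e3
    norm_num [Nat.choose] at e0 e1 e2 e3
    omega
  · intro h0
    have hY' : (b ∪ c).card = 10 := by omega
    rw [hY'] at e0 e1 e2 e3
    norm_num [Nat.choose] at e0 e1 e2 e3
    omega

/-- The number of blocks disjoint from two given distinct blocks: 0 if these are disjoint,
4 if they meet. -/
theorem s3622_card_disjoint_two (hB : Cfsg.IsSteinerSystem 3 6 B) (hα : Fintype.card α = 22)
    {b c : Finset α} (hb : b ∈ B) (hc : c ∈ B) (hne : b ≠ c) :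
    (Disjoint b c → ((blk B).filter fun d => Disjoint b d ∧ Disjoint c d).card = 0) ∧
    (¬ Disjoint b c → ((blk B).filter fun d => Disjoint b d ∧ Disjoint c d).card = 4) := by
  have key : ((blk B).filter fun d => Disjoint b d ∧ Disjoint c d).card = meetN B (b ∪ c) 0 := by
    refine filter_card_eq_meetN _ fun d _ => ?_
    rw [Finset.card_eq_zero, ← Finset.disjoint_iff_inter_eq_empty, Finset.disjoint_union_right,
      disjoint_comm (a := d) (b := b), disjoint_comm (a := d) (b := c)]
  rw [key]
  obtain ⟨h0, h2⟩ := s3622_meet_union hB hα hb hc hne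
  constructor
  · intro hd
    exact h0 (by rw [Finset.card_eq_zero, ← Finset.disjoint_iff_inter_eq_empty]; exact hd)
  · intro hd
    refine h2 ?_
    rcases s3622_inter_zero_or_two hB hα hb hc hne with h | h
    · exact absurd (by rw [Finset.disjoint_iff_inter_eq_empty, ← Finset.card_eq_zero]; exact h) hd
    · exact h

/-- Transfer of a count over the subtype of blocks to a count over `blk B`. -/
theorem card_filter_blocks (B : Set (Finset α)) [Fintype B] (P : Finset α → Prop)
    [DecidablePred P] :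
    (Finset.univ.filter (fun c : B => P c.1)).card = ((blk B).filter P).card := by
  rw [← Finset.card_map (Function.Embedding.subtype _)]
  congr 1
  ext d
  simp only [Finset.mem_map, Finset.mem_filter, Finset.mem_univ, true_and,
    Function.Embedding.coe_subtype, mem_blk]
  constructor
  · rintro ⟨c, hc, rfl⟩
    exact ⟨c.2, hc⟩
  · rintro ⟨h1, h2⟩
    exact ⟨⟨d, h1⟩, h2, rfl⟩

theorem card_blocks_eq (B : Set (Finset α)) [Fintype B] : Fintype.card B = (blk B).card :=
  Fintype.card_of_subtype (blk B) (fun _ => mem_blk)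

end Steiner

end Cfsg.Agent.Lib.helper10
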