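/-
Projective planes of order 4 as abstract Steiner systems S(2, 5, 21): any two lines meet,
arcs (sets meeting every line in at most two points), the number of points extending an arc of
size at most 4, the numbers of arcs of sizes 1, ..., 4 and 6, and the unique completion of a
4-arc to a hyperoval.
-/
import Mathlib
import Cfsg.Prelude.Def_Sporadic_a
import Cfsg.Agent.Lib.helper10.Steiner3622

set_option autoImplicit false
set_option linter.unusedSectionVars false

namespace Cfsg.Agent.Lib.helper10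

open Finset

section Plane21

variable {α : Type*} [Fintype α] [DecidableEq α] {L : Set (Finset α)}

/-- No line meets `S` in more than two points. -/
def Arc (L : Set (Finset α)) (S : Finset α) : Prop := ∀ l ∈ L, (l ∩ S).card ≤ 2

theorem Arc.mono {S T : Finset α} (hS : Arc L S) (h : T ⊆ S) : Arc L T :=
  fun l hl =>
    (Finset.card_le_card (Finset.inter_subset_inter (Finset.Subset.refl l) h)).trans (hS l hl)

theorem p21_exists_line (hL : Cfsg.IsSteinerSystem 2 5 L) {p q : α} (hpq : p ≠ q) :
    ∃ l ∈ L, p ∈ l ∧ q ∈ l := by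
  obtain ⟨l, ⟨hl, hsub⟩, -⟩ := hL.2 {p, q} (Finset.card_pair hpq)
  exact ⟨l, hl, hsub (by simp), hsub (by simp)⟩

theorem p21_line_unique (hL : Cfsg.IsSteinerSystem 2 5 L) {l l' : Finset α} (hl : l ∈ L)
    (hl' : l' ∈ L) {p q : α} (hpq : p ≠ q) (hp : p ∈ l) (hq : q ∈ l) (hp' : p ∈ l')
    (hq' : q ∈ l') : l = l' := by
  obtain ⟨m, -, huniq⟩ := hL.2 {p, q} (Finset.card_pair hpq)
  have h1 := huniq l ⟨hl, by
    intro x hx
    rw [Finset.mem_insert, Finset.mem_singleton] at hx
    rcases hx with rfl | rfl <;> assumption⟩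
  have h2 := huniq l' ⟨hl', by
    intro x hx
    rw [Finset.mem_insert, Finset.mem_singleton] at hx
    rcases hx with rfl | rfl <;> assumption⟩
  rw [h1, h2]

theorem p21_thru_two (hL : Cfsg.IsSteinerSystem 2 5 L) (s : Finset α) (hs : s.card = 2) :
    thru L s = 1 := thru_top hL s hs

theorem p21_thru_one (hL : Cfsg.IsSteinerSystem 2 5 L) (hα : Fintype.card α = 21)
    (s : Finset α) (hs : s.card = 1) : thru L s = 5 := by
  have := thru_step hL s 1 (fun x hx => p21_thru_two hL _ (card_insert_eq' hs hx))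
  rw [hα, hs] at this
  omega

theorem p21_thru_zero (hL : Cfsg.IsSteinerSystem 2 5 L) (hα : Fintype.card α = 21)
    (s : Finset α) (hs : s.card = 0) : thru L s = 21 := by
  have := thru_step hL s 5 (fun x hx => p21_thru_one hL hα _ (card_insert_eq' hs hx))
  rw [hα, hs] at this
  omega

theorem p21_card_blk (hL : Cfsg.IsSteinerSystem 2 5 L) (hα : Fintype.card α = 21) :
    (blk L).card = 21 := by
  have := p21_thru_zero hL hα ∅ rfl
  rw [thru] at this
  rw [← this]
  congr 1
  refine (Finset.filter_true_of_mem fun b _ => Finset.empty_subset b).symm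

theorem p21_inter_le_one (hL : Cfsg.IsSteinerSystem 2 5 L) {l l' : Finset α} (hl : l ∈ L)
    (hl' : l' ∈ L) (hne : l ≠ l') : (l ∩ l').card ≤ 1 := by
  by_contra h
  rw [not_le] at h
  obtain ⟨p, hp, q, hq, hpq⟩ := Finset.one_lt_card.mp h
  rw [Finset.mem_inter] at hp hq
  exact hne (p21_line_unique hL hl hl' hpq hp.1 hq.1 hp.2 hq.2)

/-- Any two lines meet. -/
theorem p21_meet (hL : Cfsg.IsSteinerSystem 2 5 L) (hα : Fintype.card α = 21) {l l' : Finset α}
    (hl : l ∈ L) (hl' : l' ∈ L) : (l ∩ l').Nonempty := by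
  by_cases hne : l = l'
  · subst hne
    rw [Finset.inter_self]
    exact Finset.card_pos.mp (by rw [hL.1 l hl]; norm_num)
  · by_contra hemp
    rw [Finset.not_nonempty_iff_eq_empty] at hemp
    have h1 := sum_thru_eq L l 1
    have h2 : ∑ T ∈ l.powersetCard 1, thru L T = 25 := by
      rw [Finset.sum_congr rfl
        (fun T hT => p21_thru_one hL hα T (Finset.mem_powersetCard.mp hT).2),
        Finset.sum_const, Finset.card_powersetCard, hL.1 l hl]
      rfl
    rw [h2] at h1
    simp only [Nat.choose_one_right] at h1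
    have hlb : l ∈ blk L := mem_blk.mpr hl
    have hl'b : l' ∈ (blk L).erase l := Finset.mem_erase.mpr ⟨Ne.symm hne, mem_blk.mpr hl'⟩
    rw [← Finset.add_sum_erase _ _ hlb, ← Finset.add_sum_erase _ _ hl'b, Finset.inter_self,
      hL.1 l hl, Finset.inter_comm l' l, hemp, Finset.card_empty] at h1
    have h3 : ∑ b ∈ ((blk L).erase l).erase l', (b ∩ l).card ≤ 19 := by
      calc ∑ b ∈ ((blk L).erase l).erase l', (b ∩ l).card
          ≤ ∑ _b ∈ ((blk L).erase l).erase l', 1 := Finset.sum_le_sum (fun b hb => by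
            have hb1 := Finset.mem_erase.mp hb
            have hb2 := Finset.mem_erase.mp hb1.2
            exact p21_inter_le_one hL (mem_blk.mp hb2.2) hl hb2.1)
        _ = 19 := by
            rw [Finset.sum_const, smul_eq_mul, mul_one, Finset.card_erase_of_mem hl'b,
              Finset.card_erase_of_mem hlb, p21_card_blk hL hα]
    omega

/-- The lines through a point. -/
noncomputable def pencil (L : Set (Finset α)) (a : α) : Finset (Finset α) :=
  (blk L).filter fun l => a ∈ l

theorem mem_pencil {a : α} {l : Finset α} : l ∈ pencil L a ↔ l ∈ L ∧ a ∈ l := by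
  rw [pencil, Finset.mem_filter, mem_blk]

theorem card_pencil (hL : Cfsg.IsSteinerSystem 2 5 L) (hα : Fintype.card α = 21) (a : α) :
    (pencil L a).card = 5 := by
  have := p21_thru_one hL hα {a} (Finset.card_singleton a)
  rw [thru] at this
  rw [← this, pencil]
  congr 1
  exact Finset.filter_congr (fun l _ => by rw [Finset.singleton_subset_iff])

/-- The lines through `a` partition the other points. -/
theorem card_eq_sum_pencil (hL : Cfsg.IsSteinerSystem 2 5 L) (a : α) (Y : Finset α)
    (ha : a ∉ Y) : Y.card = ∑ l ∈ pencil L a, (l ∩ Y).card := by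
  have h1 : Y = (pencil L a).biUnion (fun l => l ∩ Y) := by
    ext x
    simp only [Finset.mem_biUnion, Finset.mem_inter]
    constructor
    · intro hx
      have hxa : x ≠ a := fun h => ha (h ▸ hx)
      obtain ⟨l, hl, hxl, hal⟩ := p21_exists_line hL hxa
      exact ⟨l, mem_pencil.mpr ⟨hl, hal⟩, hxl, hx⟩
    · rintro ⟨l, -, -, hx⟩
      exact hx
  conv_lhs => rw [h1]
  apply Finset.card_biUnion
  intro l hl l' hl' hne
  rw [Function.onFun, Finset.disjoint_left]
  intro x hx hx'
  rw [Finset.mem_inter] at hx hx'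
  have hxa : x ≠ a := fun h => ha (h ▸ hx.2)
  have hl2 := mem_pencil.mp (Finset.mem_coe.mp hl)
  have hl2' := mem_pencil.mp (Finset.mem_coe.mp hl')
  exact hne (p21_line_unique hL hl2.1 hl2'.1 hxa hx.1 hl2.2 hx'.1 hl2'.2)

open scoped Classical in
/-- The points extending an arc to a larger arc. -/
noncomputable def arcExt (L : Set (Finset α)) (S : Finset α) : Finset α :=
  Finset.univ.filter fun x => x ∉ S ∧ Arc L (insert x S)

theorem mem_arcExt {S : Finset α} {x : α} : x ∈ arcExt L S ↔ x ∉ S ∧ Arc L (insert x S) := by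
  classical
  simp [arcExt]

theorem mem_arcExt_iff {S : Finset α} (hS : Arc L S) {x : α} :
    x ∈ arcExt L S ↔ x ∉ S ∧ ∀ l ∈ L, x ∈ l → (l ∩ S).card ≤ 1 := by
  rw [mem_arcExt]
  refine and_congr_right fun hx => ?_
  constructor
  · intro h l hl hxl
    have h1 := h l hl
    rw [Finset.inter_insert_of_mem hxl,
      Finset.card_insert_of_notMem (fun h2 => hx (Finset.mem_inter.mp h2).2)] at h1
    omega
  · intro h l hl
    by_cases hxl : x ∈ l
    · rw [Finset.inter_insert_of_mem hxl]
      have := h l hl hxl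
      exact (Finset.card_insert_le _ _).trans (by omega)
    · rw [Finset.inter_insert_of_notMem hxl]
      exact hS l hl

theorem card_inter_erase (S : Finset α) {a : α} (ha : a ∈ S) {l : Finset α} (hal : a ∈ l) :
    (l ∩ S).card = (l ∩ S.erase a).card + 1 := by
  have h1 : l ∩ S = insert a (l ∩ S.erase a) := by
    ext x
    rw [Finset.mem_insert, Finset.mem_inter, Finset.mem_inter, Finset.mem_erase]
    constructor
    · rintro ⟨hxl, hxS⟩
      by_cases hxa : x = a
      · exact Or.inl hxa
      · exact Or.inr ⟨hxl, hxa, hxS⟩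
    · rintro (rfl | ⟨hxl, -, hxS⟩)
      · exact ⟨hal, ha⟩
      · exact ⟨hxl, hxS⟩
  rw [h1, Finset.card_insert_of_notMem]
  intro h
  exact Finset.notMem_erase a S (Finset.mem_inter.mp h).2

theorem inter_erase_of_notMem (S : Finset α) {a : α} {l : Finset α} (hal : a ∉ l) :
    l ∩ S.erase a = l ∩ S := by
  ext y
  rw [Finset.mem_inter, Finset.mem_inter, Finset.mem_erase]
  constructor
  · rintro ⟨hyl, -, hyS⟩
    exact ⟨hyl, hyS⟩
  · rintro ⟨hyl, hyS⟩
    exact ⟨hyl, fun h => hal (h ▸ hyl), hyS⟩

/-- The number of secants of an arc. -/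
theorem card_secants (hL : Cfsg.IsSteinerSystem 2 5 L) {Y : Finset α} (hY : Arc L Y) :
    ((blk L).filter fun l => 2 ≤ (l ∩ Y).card).card = Y.card.choose 2 := by
  have h1 := sum_thru_eq L Y 2
  rw [Finset.sum_congr rfl (fun T hT => thru_top hL T (Finset.mem_powersetCard.mp hT).2),
    Finset.sum_const, Finset.card_powersetCard, smul_eq_mul, mul_one] at h1
  rw [h1, Finset.card_filter]
  refine Finset.sum_congr rfl fun b hb => ?_
  have h2 := hY b (mem_blk.mp hb)
  generalize (b ∩ Y).card = n at h2
  interval_cases n <;> rfl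

theorem arcExt_inter_secant {S : Finset α} (hS : Arc L S) {l : Finset α} (hl : l ∈ L)
    (h2 : 2 ≤ (l ∩ S).card) : l ∩ arcExt L S = ∅ := by
  rw [Finset.eq_empty_iff_forall_notMem]
  intro x hx
  rw [Finset.mem_inter, mem_arcExt_iff hS] at hx
  have := hx.2.2 l hl hx.1
  omega

/-- On a tangent at a point `a` of an arc `S` of size at most 4, the points extending `S` are
those other than `a` which lie on no secant of `S` missing `a`. -/
theorem arcExt_inter_tangent (hL : Cfsg.IsSteinerSystem 2 5 L) (hα : Fintype.card α = 21)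
    {S : Finset α} (hS : Arc L S) {a : α} (ha : a ∈ S) (hk : S.card ≤ 4) {t : Finset α}
    (ht : t ∈ L) (hat : a ∈ t) (htS : t ∩ S.erase a = ∅) :
    (t ∩ arcExt L S).card + (S.card - 1).choose 2 = 4 := by
  classical
  have hS'arc : Arc L (S.erase a) := hS.mono (Finset.erase_subset a S)
  have hS'card : (S.erase a).card = S.card - 1 := Finset.card_erase_of_mem ha
  set Sec := (blk L).filter (fun l => 2 ≤ (l ∩ S.erase a).card) with hSec
  have hSeccard : Sec.card = (S.card - 1).choose 2 := by
    rw [hSec, card_secants hL hS'arc, hS'card]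
  have hsec : ∀ l ∈ Sec, l ∈ L ∧ 2 ≤ (l ∩ S.erase a).card ∧ a ∉ l := by
    intro l hl
    rw [hSec, Finset.mem_filter, mem_blk] at hl
    refine ⟨hl.1, hl.2, fun hal => ?_⟩
    have h5 := card_inter_erase S ha hal
    have h6 := hS l hl.1
    omega
  have htS1 : ∀ x ∈ t, x ∈ S → x = a := by
    intro x hxt hxS
    by_contra hxa
    have : x ∈ t ∩ S.erase a := Finset.mem_inter.mpr ⟨hxt, Finset.mem_erase.mpr ⟨hxa, hxS⟩⟩
    rw [htS] at this
    exact absurd this (Finset.notMem_empty x)
  set Bad := Sec.biUnion (fun l => l ∩ t) with hBad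
  have hBadcard : Bad.card = Sec.card := by
    rw [hBad, Finset.card_biUnion]
    · rw [Finset.card_eq_sum_ones]
      refine Finset.sum_congr rfl fun l hl => ?_
      obtain ⟨hlL, -, hal⟩ := hsec l hl
      have hne : l ≠ t := fun h => hal (h ▸ hat)
      have h1 := p21_inter_le_one hL hlL ht hne
      have h2 := Finset.card_pos.mpr (p21_meet hL hα hlL ht)
      omega
    · intro l hl l' hl' hne
      rw [Function.onFun, Finset.disjoint_left]
      intro y hy hy'
      rw [Finset.mem_inter] at hy hy'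
      obtain ⟨hlL, hl2, hal⟩ := hsec l (Finset.mem_coe.mp hl)
      obtain ⟨hl'L, hl'2, hal'⟩ := hsec l' (Finset.mem_coe.mp hl')
      have h7 : ((l ∩ S.erase a) ∩ (l' ∩ S.erase a)).Nonempty := by
        by_contra hemp
        rw [Finset.not_nonempty_iff_eq_empty] at hemp
        have h8 : ((l ∩ S.erase a) ∪ (l' ∩ S.erase a)).card
            = (l ∩ S.erase a).card + (l' ∩ S.erase a).card := by
          rw [← Finset.card_union_add_card_inter, hemp, Finset.card_empty, add_zero]
        have h9 : ((l ∩ S.erase a) ∪ (l' ∩ S.erase a)).card ≤ (S.erase a).card :=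
          Finset.card_le_card
            (Finset.union_subset Finset.inter_subset_right Finset.inter_subset_right)
        omega
      obtain ⟨p, hp⟩ := h7
      rw [Finset.mem_inter, Finset.mem_inter, Finset.mem_inter] at hp
      have hpy : p ≠ y := by
        rintro rfl
        have : p ∈ t ∩ S.erase a := Finset.mem_inter.mpr ⟨hy.2, hp.1.2⟩
        rw [htS] at this
        exact absurd this (Finset.notMem_empty p)
      exact hne (p21_line_unique hL hlL hl'L hpy hp.1.1 hy.1 hp.2.1 hy'.1)
  have hBadsub : Bad ⊆ t.erase a := by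
    intro y hy
    rw [hBad, Finset.mem_biUnion] at hy
    obtain ⟨l, hl, hyl⟩ := hy
    rw [Finset.mem_inter] at hyl
    obtain ⟨-, -, hal⟩ := hsec l hl
    exact Finset.mem_erase.mpr ⟨fun h => hal (h ▸ hyl.1), hyl.2⟩
  have hext : t ∩ arcExt L S = t.erase a \ Bad := by
    ext x
    rw [Finset.mem_inter, mem_arcExt_iff hS, Finset.mem_sdiff, Finset.mem_erase]
    constructor
    · rintro ⟨hxt, hxS, hx⟩
      refine ⟨⟨fun h => hxS (h ▸ ha), hxt⟩, fun hxB => ?_⟩
      rw [hBad, Finset.mem_biUnion] at hxB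
      obtain ⟨l, hl, hxl⟩ := hxB
      obtain ⟨hlL, hl2, hal⟩ := hsec l hl
      have h1 := hx l hlL (Finset.mem_inter.mp hxl).1
      rw [inter_erase_of_notMem S hal] at hl2
      omega
    · rintro ⟨⟨hxa, hxt⟩, hxB⟩
      refine ⟨hxt, fun hxS => hxa (htS1 x hxt hxS), fun l hl hxl => ?_⟩
      by_cases hal : a ∈ l
      · have hlt : l = t := p21_line_unique hL hl ht hxa hxl hal hxt hat
        rw [hlt]
        have : t ∩ S ⊆ {a} := by
          intro y hy
          rw [Finset.mem_inter] at hy
          exact Finset.mem_singleton.mpr (htS1 y hy.1 hy.2)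
        exact (Finset.card_le_card this).trans (by rw [Finset.card_singleton])
      · rw [← inter_erase_of_notMem S hal]
        by_contra h2
        rw [not_le] at h2
        apply hxB
        rw [hBad, Finset.mem_biUnion]
        exact ⟨l, by rw [hSec, Finset.mem_filter, mem_blk]; exact ⟨hl, h2⟩,
          Finset.mem_inter.mpr ⟨hxl, hxt⟩⟩
  have hC : (S.card - 1).choose 2 ≤ 3 := by
    have h3 : S.card - 1 ≤ 3 := by omega
    calc (S.card - 1).choose 2 ≤ Nat.choose 3 2 := Nat.choose_le_choose 2 h3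
      _ = 3 := rfl
  rw [hext, Finset.card_sdiff_of_subset hBadsub, Finset.card_erase_of_mem hat, hL.1 t ht, hBadcard,
    hSeccard]
  omega

/-- The number of tangents at a point of an arc. -/
theorem card_tangents (hL : Cfsg.IsSteinerSystem 2 5 L) (hα : Fintype.card α = 21)
    {S : Finset α} (hS : Arc L S) {a : α} (ha : a ∈ S) :
    ((pencil L a).filter fun l => l ∩ S.erase a = ∅).card + (S.card - 1) = 5 := by
  have h1 := card_eq_sum_pencil hL a (S.erase a) (Finset.notMem_erase a S)
  rw [Finset.card_erase_of_mem ha] at h1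
  have h2 : ∀ l ∈ pencil L a,
      (l ∩ S.erase a).card = if ¬ (l ∩ S.erase a = ∅) then 1 else 0 := by
    intro l hl
    rw [mem_pencil] at hl
    by_cases h : l ∩ S.erase a = ∅
    · rw [if_neg (not_not.mpr h), h, Finset.card_empty]
    · rw [if_pos h]
      have h3 : 0 < (l ∩ S.erase a).card :=
        Finset.card_pos.mpr (Finset.nonempty_iff_ne_empty.mpr h)
      have h5 := card_inter_erase S ha hl.2
      have h6 := hS l hl.1
      omega
  rw [Finset.sum_congr rfl h2, ← Finset.card_filter] at h1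
  have h3 := Finset.card_filter_add_card_filter_not (s := pencil L a)
    (fun l => l ∩ S.erase a = ∅)
  rw [card_pencil hL hα] at h3
  omega

/-- The number of points extending an arc of size between 1 and 4. -/
theorem card_arcExt (hL : Cfsg.IsSteinerSystem 2 5 L) (hα : Fintype.card α = 21)
    {S : Finset α} (hS : Arc L S) (hk1 : 1 ≤ S.card) (hk : S.card ≤ 4) :
    (arcExt L S).card = (6 - S.card) * (4 - (S.card - 1).choose 2) := by
  obtain ⟨a, ha⟩ := Finset.card_pos.mp hk1
  have haE : a ∉ arcExt L S := fun h => (mem_arcExt.mp h).1 ha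
  rw [card_eq_sum_pencil hL a _ haE,
    ← Finset.sum_filter_add_sum_filter_not (pencil L a) (fun l => l ∩ S.erase a = ∅)]
  have h1 : ∀ l ∈ (pencil L a).filter (fun l => l ∩ S.erase a = ∅),
      (l ∩ arcExt L S).card = 4 - (S.card - 1).choose 2 := by
    intro l hl
    rw [Finset.mem_filter, mem_pencil] at hl
    have := arcExt_inter_tangent hL hα hS ha hk hl.1.1 hl.1.2 hl.2
    omega
  have h2 : ∀ l ∈ (pencil L a).filter (fun l => ¬ (l ∩ S.erase a = ∅)),
      (l ∩ arcExt L S).card = 0 := by
    intro l hl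
    rw [Finset.mem_filter, mem_pencil] at hl
    have h3 : 0 < (l ∩ S.erase a).card :=
      Finset.card_pos.mpr (Finset.nonempty_iff_ne_empty.mpr hl.2)
    have h5 := card_inter_erase S ha hl.1.2
    rw [arcExt_inter_secant hS hl.1.1 (by omega), Finset.card_empty]
  rw [Finset.sum_congr rfl h1, Finset.sum_congr rfl h2, Finset.sum_const, Finset.sum_const_zero,
    add_zero, smul_eq_mul]
  have h3 := card_tangents hL hα hS ha
  congr 1
  omega

/-- A line through a point of a 4-arc contains at most one point extending the arc. -/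
theorem arcExt_inter_le_one (hL : Cfsg.IsSteinerSystem 2 5 L) (hα : Fintype.card α = 21)
    {S : Finset α} (hS : Arc L S) (hk : S.card = 4) {l : Finset α} (hl : l ∈ L)
    (h : (l ∩ S).Nonempty) : (l ∩ arcExt L S).card ≤ 1 := by
  obtain ⟨a, ha⟩ := h
  rw [Finset.mem_inter] at ha
  by_cases htan : l ∩ S.erase a = ∅
  · have := arcExt_inter_tangent hL hα hS ha.2 (by omega) hl ha.1 htan
    rw [hk] at this
    have h3 : (4 - 1).choose 2 = 3 := rfl
    omega
  · have h3 : 0 < (l ∩ S.erase a).card :=
      Finset.card_pos.mpr (Finset.nonempty_iff_ne_empty.mpr htan)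
    have h5 := card_inter_erase S ha.2 ha.1
    rw [arcExt_inter_secant hS hl (by omega), Finset.card_empty]
    exact Nat.zero_le 1

open scoped Classical in
/-- The arcs of a given size. -/
noncomputable def arcs (L : Set (Finset α)) (k : ℕ) : Finset (Finset α) :=
  (Finset.powersetCard k Finset.univ).filter (Arc L)

theorem mem_arcs {k : ℕ} {S : Finset α} : S ∈ arcs L k ↔ S.card = k ∧ Arc L S := by
  classical
  simp [arcs, Finset.mem_powersetCard]

/-- Double count of the pairs (arc of size `k + 1`, one of its points). -/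
theorem arcs_step (k e : ℕ) (h : ∀ S ∈ arcs L k, (arcExt L S).card = e) :
    (arcs L (k + 1)).card * (k + 1) = (arcs L k).card * e := by
  have h1 : ((arcs L (k + 1)).sigma fun T => T).card
      = ((arcs L k).sigma fun S => arcExt L S).card := by
    apply Finset.card_bij' (fun p _ => (⟨p.1.erase p.2, p.2⟩ : Σ _ : Finset α, α))
      (fun p _ => (⟨insert p.2 p.1, p.2⟩ : Σ _ : Finset α, α))
    · rintro ⟨T, x⟩ hp
      rw [Finset.mem_sigma, mem_arcs] at hp
      obtain ⟨⟨hT, hTa⟩, hx⟩ := hp
      rw [Finset.mem_sigma, mem_arcs, mem_arcExt]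
      refine ⟨⟨?_, hTa.mono (Finset.erase_subset x T)⟩, Finset.notMem_erase x T, ?_⟩
      · show (T.erase x).card = k
        rw [Finset.card_erase_of_mem hx, hT]; rfl
      · show Arc L (insert x (T.erase x))
        rw [Finset.insert_erase hx]
        exact hTa
    · rintro ⟨S, x⟩ hp
      rw [Finset.mem_sigma, mem_arcs, mem_arcExt] at hp
      obtain ⟨⟨hS, -⟩, hx, hxa⟩ := hp
      rw [Finset.mem_sigma, mem_arcs]
      refine ⟨⟨?_, hxa⟩, Finset.mem_insert_self x S⟩
      show (insert x S).card = k + 1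
      rw [Finset.card_insert_of_notMem hx, hS]
    · rintro ⟨T, x⟩ hp
      rw [Finset.mem_sigma] at hp
      show (⟨insert x (T.erase x), x⟩ : Σ _ : Finset α, α) = ⟨T, x⟩
      rw [Finset.insert_erase hp.2]
    · rintro ⟨S, x⟩ hp
      rw [Finset.mem_sigma, mem_arcExt] at hp
      show (⟨(insert x S).erase x, x⟩ : Σ _ : Finset α, α) = ⟨S, x⟩
      rw [Finset.erase_insert hp.2.1]
  rw [Finset.card_sigma, Finset.card_sigma, Finset.sum_congr rfl h,
    Finset.sum_congr rfl (fun T hT => (mem_arcs.mp hT).1), Finset.sum_const, Finset.sum_const,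
    smul_eq_mul, smul_eq_mul] at h1
  exact h1

theorem card_arcs_one (hα : Fintype.card α = 21) : (arcs L 1).card = 21 := by
  classical
  have : arcs L 1 = Finset.powersetCard 1 Finset.univ := by
    rw [arcs]
    refine Finset.filter_true_of_mem fun S hS l _ => ?_
    rw [Finset.mem_powersetCard] at hS
    exact (Finset.card_le_card Finset.inter_subset_right).trans (by rw [hS.2]; norm_num)
  rw [this, Finset.card_powersetCard, Finset.card_univ, hα]
  rfl

theorem card_arcs_two (hL : Cfsg.IsSteinerSystem 2 5 L) (hα : Fintype.card α = 21) :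
    (arcs L 2).card = 210 := by
  have h : (arcs L 2).card * 2 = (arcs L 1).card * 20 :=
    arcs_step (L := L) 1 20 (fun S hS => by
      rw [mem_arcs] at hS
      rw [card_arcExt hL hα hS.2 (by omega) (by omega), hS.1]
      rfl)
  rw [card_arcs_one hα] at h
  omega

theorem card_arcs_three (hL : Cfsg.IsSteinerSystem 2 5 L) (hα : Fintype.card α = 21) :
    (arcs L 3).card = 1120 := by
  have h : (arcs L 3).card * 3 = (arcs L 2).card * 16 :=
    arcs_step (L := L) 2 16 (fun S hS => by
      rw [mem_arcs] at hS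
      rw [card_arcExt hL hα hS.2 (by omega) (by omega), hS.1]
      rfl)
  rw [card_arcs_two hL hα] at h
  omega

theorem card_arcs_four (hL : Cfsg.IsSteinerSystem 2 5 L) (hα : Fintype.card α = 21) :
    (arcs L 4).card = 2520 := by
  have h : (arcs L 4).card * 4 = (arcs L 3).card * 9 :=
    arcs_step (L := L) 3 9 (fun S hS => by
      rw [mem_arcs] at hS
      rw [card_arcExt hL hα hS.2 (by omega) (by omega), hS.1]
      rfl)
  rw [card_arcs_three hL hα] at h
  omega

/-- Every 4-arc lies in exactly one hyperoval. -/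
theorem arc_completion (hL : Cfsg.IsSteinerSystem 2 5 L) (hα : Fintype.card α = 21)
    {S : Finset α} (hS : Arc L S) (hk : S.card = 4) :
    ∃! H : Finset α, (H.card = 6 ∧ Arc L H) ∧ S ⊆ H := by
  have hE : (arcExt L S).card = 2 := by
    rw [card_arcExt hL hα hS (by omega) (by omega), hk]
    rfl
  have hdisj : Disjoint S (arcExt L S) := by
    rw [Finset.disjoint_left]
    intro x hx hx'
    exact (mem_arcExt.mp hx').1 hx
  refine ⟨S ∪ arcExt L S, ⟨⟨?_, ?_⟩, Finset.subset_union_left⟩, ?_⟩
  · rw [Finset.card_union_of_disjoint hdisj, hk, hE]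
  · intro l hl
    rw [Finset.inter_union_distrib_left]
    have h1 := Finset.card_union_le (l ∩ S) (l ∩ arcExt L S)
    by_cases hlS : (l ∩ S).Nonempty
    · by_cases hlE : (l ∩ arcExt L S).Nonempty
      · obtain ⟨x, hx⟩ := hlE
        rw [Finset.mem_inter, mem_arcExt_iff hS] at hx
        have h2 := hx.2.2 l hl hx.1
        have h3 := arcExt_inter_le_one hL hα hS hk hl hlS
        omega
      · rw [Finset.not_nonempty_iff_eq_empty] at hlE
        rw [hlE, Finset.union_empty]
        exact hS l hl
    · rw [Finset.not_nonempty_iff_eq_empty] at hlS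
      rw [hlS, Finset.empty_union]
      have : (l ∩ arcExt L S).card ≤ (arcExt L S).card :=
        Finset.card_le_card Finset.inter_subset_right
      omega
  · rintro H ⟨⟨hH6, hHa⟩, hSH⟩
    have hsub : H ⊆ S ∪ arcExt L S := by
      intro x hx
      rw [Finset.mem_union]
      by_cases hxS : x ∈ S
      · exact Or.inl hxS
      · refine Or.inr (mem_arcExt.mpr ⟨hxS, hHa.mono ?_⟩)
        exact Finset.insert_subset hx hSH
    refine Finset.eq_of_subset_of_card_le hsub ?_
    rw [Finset.card_union_of_disjoint hdisj, hk, hE, hH6]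

theorem card_arcs_six (hL : Cfsg.IsSteinerSystem 2 5 L) (hα : Fintype.card α = 21) :
    (arcs L 6).card = 168 := by
  classical
  have hswap : ∑ H ∈ arcs L 6, ∑ _S ∈ (arcs L 4).filter (fun S => S ⊆ H), 1
      = ∑ S ∈ arcs L 4, ∑ _H ∈ (arcs L 6).filter (fun H => S ⊆ H), 1 := by
    refine Finset.sum_comm' ?_
    intro H S
    simp only [Finset.mem_filter]
    tauto
  have h1 : ∀ H ∈ arcs L 6, ∑ _S ∈ (arcs L 4).filter (fun S => S ⊆ H), 1 = 15 := by
    intro H hH
    rw [mem_arcs] at hH
    have : (arcs L 4).filter (fun S => S ⊆ H) = H.powersetCard 4 := by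
      ext S
      rw [Finset.mem_filter, mem_arcs, Finset.mem_powersetCard]
      constructor
      · rintro ⟨⟨h4, -⟩, hsub⟩
        exact ⟨hsub, h4⟩
      · rintro ⟨hsub, h4⟩
        exact ⟨⟨h4, hH.2.mono hsub⟩, hsub⟩
    rw [← Finset.card_eq_sum_ones, this, Finset.card_powersetCard, hH.1]
    rfl
  have h2 : ∀ S ∈ arcs L 4, ∑ _H ∈ (arcs L 6).filter (fun H => S ⊆ H), 1 = 1 := by
    intro S hS
    rw [mem_arcs] at hS
    obtain ⟨H₀, ⟨⟨h6, ha⟩, hsub⟩, huniq⟩ := arc_completion hL hα hS.2 hS.1
    rw [← Finset.card_eq_sum_ones, Finset.card_eq_one]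
    refine ⟨H₀, ?_⟩
    ext H
    rw [Finset.mem_filter, mem_arcs, Finset.mem_singleton]
    constructor
    · rintro ⟨⟨h6', ha'⟩, hsub'⟩
      exact huniq H ⟨⟨h6', ha'⟩, hsub'⟩
    · rintro rfl
      exact ⟨⟨h6, ha⟩, hsub⟩
  rw [Finset.sum_congr rfl h1, Finset.sum_congr rfl h2, Finset.sum_const, Finset.sum_const,
    smul_eq_mul, smul_eq_mul, mul_one, card_arcs_four hL hα] at hswap
  omega

/-- Independent 4-sets, hyperovals and unique completion in a projective plane of order 4. -/
theorem plane21_arcs (hα : Fintype.card α = 21) (hL : Cfsg.IsSteinerSystem 2 5 L) :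
    {S : Finset α | (S.card = 4 ∧ ∀ l ∈ L, (l ∩ S).card ≤ 2)}.ncard = 2520 ∧
    {H : Finset α | (H.card = 6 ∧ ∀ l ∈ L, (l ∩ H).card ≤ 2)}.ncard = 168 ∧
    ∀ S : Finset α, (S.card = 4 ∧ ∀ l ∈ L, (l ∩ S).card ≤ 2) →
      ∃! H : Finset α, (H.card = 6 ∧ ∀ l ∈ L, (l ∩ H).card ≤ 2) ∧ S ⊆ H := by
  refine ⟨?_, ?_, ?_⟩
  · have : {S : Finset α | (S.card = 4 ∧ ∀ l ∈ L, (l ∩ S).card ≤ 2)} = ↑(arcs L 4) := by
      ext S
      rw [Finset.mem_coe, mem_arcs]
      rfl
    rw [this, Set.ncard_coe_finset, card_arcs_four hL hα]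
  · have : {H : Finset α | (H.card = 6 ∧ ∀ l ∈ L, (l ∩ H).card ≤ 2)} = ↑(arcs L 6) := by
      ext S
      rw [Finset.mem_coe, mem_arcs]
      rfl
    rw [this, Set.ncard_coe_finset, card_arcs_six hL hα]
  · rintro S ⟨hk, hS⟩
    exact arc_completion hL hα hS hk

end Plane21

end Cfsg.Agent.Lib.helper10
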