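/-
Hyperovals in projective planes of order 4 (Steiner systems S(2, 5, 21)): every line meets a
hyperoval in 0 or 2 points; a point off the hyperoval pairs up its six points; and a bijection
between hyperovals of two such planes extends uniquely to an isomorphism of the planes.
-/
import Mathlib
import Cfsg.Prelude.Def_Sporadic_a
import Cfsg.Agent.Lib.helper10.Plane21

set_option autoImplicit false
set_option linter.unusedSectionVars false

namespace Cfsg.Agent.Lib.helper10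

open Finset
open scoped Pointwise

section Hyperoval

variable {α : Type*} [Fintype α] [DecidableEq α] {L : Set (Finset α)}

/-- Three points on a common line. -/
def Col3 (L : Set (Finset α)) (x a b : α) : Prop := ∃ l ∈ L, x ∈ l ∧ a ∈ l ∧ b ∈ l

theorem Col3.swap {x a b : α} (h : Col3 L x a b) : Col3 L x b a := by
  obtain ⟨l, hl, hx, ha, hb⟩ := h
  exact ⟨l, hl, hx, hb, ha⟩

/-- A third point of an arc on the line through two of its points is one of the two. -/
theorem arc_third {H : Finset α} (hH : Arc L H) {l : Finset α} (hl : l ∈ L) {a b y : α}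
    (ha : a ∈ H) (hb : b ∈ H) (hy : y ∈ H) (hal : a ∈ l) (hbl : b ∈ l) (hyl : y ∈ l)
    (hab : a ≠ b) : y = a ∨ y = b := by
  by_contra hcon
  rw [not_or] at hcon
  have h3 : ({a, b, y} : Finset α) ⊆ l ∩ H := by
    intro z hz
    rw [Finset.mem_insert, Finset.mem_insert, Finset.mem_singleton] at hz
    rcases hz with rfl | rfl | rfl
    · exact Finset.mem_inter.mpr ⟨hal, ha⟩
    · exact Finset.mem_inter.mpr ⟨hbl, hb⟩
    · exact Finset.mem_inter.mpr ⟨hyl, hy⟩
  have h4 : ({a, b, y} : Finset α).card = 3 :=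
    Finset.card_eq_three.mpr ⟨a, b, y, hab, Ne.symm hcon.1, Ne.symm hcon.2, rfl⟩
  have h5 := Finset.card_le_card h3
  have h6 := hH l hl
  omega

/-- A line meeting a hyperoval meets it in exactly two points. -/
theorem hov_inter (hL : Cfsg.IsSteinerSystem 2 5 L) (hα : Fintype.card α = 21) {H : Finset α}
    (hH6 : H.card = 6) (hH : Arc L H) {l : Finset α} (hl : l ∈ L) (hne : (l ∩ H).Nonempty) :
    (l ∩ H).card = 2 := by
  obtain ⟨a, ha⟩ := hne
  rw [Finset.mem_inter] at ha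
  have h1 := card_eq_sum_pencil hL a (H.erase a) (Finset.notMem_erase a H)
  rw [Finset.card_erase_of_mem ha.2, hH6] at h1
  have hlp : l ∈ pencil L a := mem_pencil.mpr ⟨hl, ha.1⟩
  rw [← Finset.add_sum_erase _ _ hlp] at h1
  have h2 : ∑ m ∈ (pencil L a).erase l, (m ∩ H.erase a).card ≤ 4 := by
    calc ∑ m ∈ (pencil L a).erase l, (m ∩ H.erase a).card
        ≤ ∑ _m ∈ (pencil L a).erase l, 1 := Finset.sum_le_sum (fun m hm => by
          have hm1 := mem_pencil.mp (Finset.mem_erase.mp hm).2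
          have h5 := card_inter_erase H ha.2 hm1.2
          have h6 := hH m hm1.1
          omega)
      _ = 4 := by
          rw [Finset.sum_const, smul_eq_mul, mul_one, Finset.card_erase_of_mem hlp,
            card_pencil hL hα]
  have h5 := card_inter_erase H ha.2 ha.1
  have h6 := hH l hl
  omega

theorem exists_partner (hL : Cfsg.IsSteinerSystem 2 5 L) (hα : Fintype.card α = 21)
    {H : Finset α} (hH6 : H.card = 6) (hH : Arc L H) {x a : α} (hx : x ∉ H) (ha : a ∈ H) :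
    ∃ b, b ∈ H ∧ b ≠ a ∧ Col3 L x a b := by
  have hxa : x ≠ a := fun h => hx (h ▸ ha)
  obtain ⟨l, hl, hxl, hal⟩ := p21_exists_line hL hxa
  have h2 := hov_inter hL hα hH6 hH hl ⟨a, Finset.mem_inter.mpr ⟨hal, ha⟩⟩
  obtain ⟨b, hb, hba⟩ := Finset.exists_mem_ne (by omega : 1 < (l ∩ H).card) a
  rw [Finset.mem_inter] at hb
  exact ⟨b, hb.2, hba, l, hl, hxl, hal, hb.1⟩

theorem partner_unique (hL : Cfsg.IsSteinerSystem 2 5 L) {H : Finset α} (hH : Arc L H)
    {x a b b' : α} (hx : x ∉ H) (ha : a ∈ H) (hb : b ∈ H) (hb' : b' ∈ H) (hba : b ≠ a)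
    (hb'a : b' ≠ a) (h : Col3 L x a b) (h' : Col3 L x a b') : b = b' := by
  obtain ⟨l, hl, hxl, hal, hbl⟩ := h
  obtain ⟨l', hl', hxl', hal', hbl'⟩ := h'
  have hxa : x ≠ a := fun h => hx (h ▸ ha)
  have := p21_line_unique hL hl hl' hxa hxl hal hxl' hal'
  subst this
  rcases arc_third hH hl ha hb hb' hal hbl hbl' (Ne.symm hba) with h | h
  · exact absurd h hb'a
  · exact h.symm

open scoped Classical in
/-- The partner of a point `a` of the hyperoval with respect to a point `x` off it: the other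
point of the hyperoval on the line through `x` and `a`. -/
noncomputable def ptn (L : Set (Finset α)) (H : Finset α) (x a : α) : α :=
  if h : ∃ b, b ∈ H ∧ b ≠ a ∧ Col3 L x a b then h.choose else a

theorem ptn_spec (hL : Cfsg.IsSteinerSystem 2 5 L) (hα : Fintype.card α = 21)
    {H : Finset α} (hH6 : H.card = 6) (hH : Arc L H) {x a : α} (hx : x ∉ H) (ha : a ∈ H) :
    ptn L H x a ∈ H ∧ ptn L H x a ≠ a ∧ Col3 L x a (ptn L H x a) := by
  have h := exists_partner hL hα hH6 hH hx ha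
  rw [ptn, dif_pos h]
  exact h.choose_spec

theorem ptn_eq (hL : Cfsg.IsSteinerSystem 2 5 L) (hα : Fintype.card α = 21)
    {H : Finset α} (hH6 : H.card = 6) (hH : Arc L H) {x a b : α} (hx : x ∉ H) (ha : a ∈ H)
    (hb : b ∈ H) (hba : b ≠ a) (h : Col3 L x a b) : ptn L H x a = b := by
  obtain ⟨h1, h2, h3⟩ := ptn_spec hL hα hH6 hH hx ha
  exact partner_unique hL hH hx ha h1 hb h2 hba h3 h

theorem ptn_ptn (hL : Cfsg.IsSteinerSystem 2 5 L) (hα : Fintype.card α = 21)
    {H : Finset α} (hH6 : H.card = 6) (hH : Arc L H) {x a : α} (hx : x ∉ H) (ha : a ∈ H) :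
    ptn L H x (ptn L H x a) = a := by
  obtain ⟨h1, h2, h3⟩ := ptn_spec hL hα hH6 hH hx ha
  exact ptn_eq hL hα hH6 hH hx h1 ha (Ne.symm h2) h3.swap

/-- Two secants through disjoint pairs of points of an arc meet off the arc. -/
theorem exists_secant_meet (hL : Cfsg.IsSteinerSystem 2 5 L) (hα : Fintype.card α = 21)
    {H : Finset α} (hH : Arc L H) {a b c d : α} (ha : a ∈ H) (hb : b ∈ H) (hc : c ∈ H)
    (hd : d ∈ H) (hab : a ≠ b) (hcd : c ≠ d) (hac : a ≠ c) (had : a ≠ d) (hbc : b ≠ c)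
    (hbd : b ≠ d) : ∃ y, y ∉ H ∧ Col3 L y a b ∧ Col3 L y c d := by
  obtain ⟨l, hl, hal, hbl⟩ := p21_exists_line hL hab
  obtain ⟨m, hm, hcm, hdm⟩ := p21_exists_line hL hcd
  obtain ⟨y, hy⟩ := p21_meet hL hα hl hm
  rw [Finset.mem_inter] at hy
  refine ⟨y, fun hyH => ?_, ⟨l, hl, hy.1, hal, hbl⟩, ⟨m, hm, hy.2, hcm, hdm⟩⟩
  have h1 := arc_third hH hl ha hb hyH hal hbl hy.1 hab
  have h2 := arc_third hH hm hc hd hyH hcm hdm hy.2 hcd
  rcases h1 with h1 | h1 <;> rcases h2 with h2 | h2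
  · exact hac (h1.symm.trans h2)
  · exact had (h1.symm.trans h2)
  · exact hbc (h1.symm.trans h2)
  · exact hbd (h1.symm.trans h2)

/-- A point is determined by two secants through it. -/
theorem pt_unique_of_two (hL : Cfsg.IsSteinerSystem 2 5 L) {H : Finset α} (hH : Arc L H)
    {x x' a b c d : α} (ha : a ∈ H) (hb : b ∈ H) (hc : c ∈ H) (hab : a ≠ b) (hcd : c ≠ d)
    (hca : c ≠ a) (hcb : c ≠ b) (h1 : Col3 L x a b) (h1' : Col3 L x' a b) (h2 : Col3 L x c d)
    (h2' : Col3 L x' c d) : x = x' := by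
  by_contra hne
  obtain ⟨l, hl, hxl, hal, hbl⟩ := h1
  obtain ⟨l', hl', hx'l', hal', hbl'⟩ := h1'
  have e1 : l = l' := p21_line_unique hL hl hl' hab hal hbl hal' hbl'
  subst e1
  obtain ⟨m, hm, hxm, hcm, hdm⟩ := h2
  obtain ⟨m', hm', hx'm', hcm', hdm'⟩ := h2'
  have e2 : m = m' := p21_line_unique hL hm hm' hcd hcm hdm hcm' hdm'
  subst e2
  have e3 : l = m := p21_line_unique hL hl hm hne hxl hx'l' hxm hx'm'
  subst e3
  rcases arc_third hH hl ha hb hc hal hbl hcm hab with h | h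
  · exact hca h
  · exact hcb h

theorem card_five_of_ne {a b c d e : α} (hab : a ≠ b) (hac : a ≠ c) (had : a ≠ d) (hae : a ≠ e)
    (hbc : b ≠ c) (hbd : b ≠ d) (hbe : b ≠ e) (hcd : c ≠ d) (hce : c ≠ e) (hde : d ≠ e) :
    ({a, b, c, d, e} : Finset α).card = 5 := by
  rw [Finset.card_insert_of_notMem, Finset.card_insert_of_notMem, Finset.card_insert_of_notMem,
    Finset.card_insert_of_notMem, Finset.card_singleton]
  · simpa using hde
  · simp [hcd, hce]
  · simp [hbc, hbd, hbe]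
  · simp [hab, hac, had, hae]

/-- Every fixed-point-free involution of a hyperoval is the pairing induced by a point off it. -/
theorem exists_pt_of_invol (hL : Cfsg.IsSteinerSystem 2 5 L) (hα : Fintype.card α = 21)
    {H : Finset α} (hH6 : H.card = 6) (hH : Arc L H) (τ : α → α) (hτH : ∀ h ∈ H, τ h ∈ H)
    (hτne : ∀ h ∈ H, τ h ≠ h) (hτinv : ∀ h ∈ H, τ (τ h) = h) :
    ∃ y, y ∉ H ∧ ∀ h ∈ H, Col3 L y h (τ h) := by
  obtain ⟨h₁, hh₁⟩ : H.Nonempty := Finset.card_pos.mp (by omega)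
  obtain ⟨h₂, hh₂⟩ : (H \ {h₁, τ h₁}).Nonempty := by
    apply Finset.card_pos.mp
    have h1 := Finset.le_card_sdiff ({h₁, τ h₁} : Finset α) H
    have h2 : ({h₁, τ h₁} : Finset α).card ≤ 2 := Finset.card_le_two
    omega
  rw [Finset.mem_sdiff, Finset.mem_insert, Finset.mem_singleton, not_or] at hh₂
  obtain ⟨hh₂H, hh₂1, hh₂2⟩ := hh₂
  have hτ2 : τ h₂ ≠ h₁ := fun h => hh₂2 (by rw [← h, hτinv h₂ hh₂H])
  have hτ2' : τ h₂ ≠ τ h₁ := fun h => hh₂1 (by rw [← hτinv h₂ hh₂H, h, hτinv h₁ hh₁])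
  obtain ⟨y, hyH, hy1, hy2⟩ := exists_secant_meet hL hα hH hh₁ (hτH h₁ hh₁) hh₂H (hτH h₂ hh₂H)
    (hτne h₁ hh₁).symm (hτne h₂ hh₂H).symm (Ne.symm hh₂1) (Ne.symm hτ2) (Ne.symm hh₂2)
    (Ne.symm hτ2')
  refine ⟨y, hyH, fun h hh => ?_⟩
  by_cases c1 : h = h₁
  · subst c1; exact hy1
  by_cases c2 : h = τ h₁
  · subst c2; rw [hτinv h₁ hh₁]; exact hy1.swap
  by_cases c3 : h = h₂
  · subst c3; exact hy2
  by_cases c4 : h = τ h₂
  · subst c4; rw [hτinv _ hh₂H]; exact hy2.swap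
  obtain ⟨k, hkH, hkh, hcol⟩ := exists_partner hL hα hH6 hH hyH hh
  -- `k` avoids the four points already paired
  have hk1 : k ≠ h₁ := by
    rintro rfl
    exact c2 (partner_unique hL hH hyH hkH hh (hτH k hkH) (Ne.symm hkh) (hτne k hkH)
      hcol.swap hy1)
  have hk2 : k ≠ τ h₁ := by
    rintro rfl
    exact c1 (partner_unique hL hH hyH hkH hh hh₁ (Ne.symm hkh) (hτne h₁ hh₁).symm
      hcol.swap hy1.swap)
  have hk3 : k ≠ h₂ := by
    rintro rfl
    exact c4 (partner_unique hL hH hyH hkH hh (hτH k hkH) (Ne.symm hkh) (hτne k hkH)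
      hcol.swap hy2)
  have hk4 : k ≠ τ h₂ := by
    rintro rfl
    exact c3 (partner_unique hL hH hyH hkH hh hh₂H (Ne.symm hkh) (hτne h₂ hh₂H).symm
      hcol.swap hy2.swap)
  -- so does `τ h`
  have ht1 : τ h ≠ h₁ := fun e => c2 (by rw [← e, hτinv h hh])
  have ht2 : τ h ≠ τ h₁ := fun e => c1 (by rw [← hτinv h hh, e, hτinv h₁ hh₁])
  have ht3 : τ h ≠ h₂ := fun e => c4 (by rw [← e, hτinv h hh])
  have ht4 : τ h ≠ τ h₂ := fun e => c3 (by rw [← hτinv h hh, e, hτinv h₂ hh₂H])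
  have hS5 : ({h₁, τ h₁, h₂, τ h₂, h} : Finset α).card = 5 :=
    card_five_of_ne (hτne h₁ hh₁).symm (Ne.symm hh₂1) (Ne.symm hτ2) (Ne.symm c1) (Ne.symm hh₂2)
      (Ne.symm hτ2') (Ne.symm c2) (hτne h₂ hh₂H).symm (Ne.symm c3) (Ne.symm c4)
  have hSsub : ({h₁, τ h₁, h₂, τ h₂, h} : Finset α) ⊆ H := by
    intro z hz
    simp only [Finset.mem_insert, Finset.mem_singleton] at hz
    rcases hz with rfl | rfl | rfl | rfl | rfl
    · exact hh₁
    · exact hτH _ hh₁
    · exact hh₂H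
    · exact hτH _ hh₂H
    · exact hh
  have hT : (H \ ({h₁, τ h₁, h₂, τ h₂, h} : Finset α)).card ≤ 1 := by
    rw [Finset.card_sdiff_of_subset hSsub, hS5, hH6]
  have hkT : k ∈ H \ ({h₁, τ h₁, h₂, τ h₂, h} : Finset α) := by
    rw [Finset.mem_sdiff]
    refine ⟨hkH, ?_⟩
    simp only [Finset.mem_insert, Finset.mem_singleton, not_or]
    exact ⟨hk1, hk2, hk3, hk4, hkh⟩
  have htT : τ h ∈ H \ ({h₁, τ h₁, h₂, τ h₂, h} : Finset α) := by
    rw [Finset.mem_sdiff]
    refine ⟨hτH h hh, ?_⟩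
    simp only [Finset.mem_insert, Finset.mem_singleton, not_or]
    exact ⟨ht1, ht2, ht3, ht4, hτne h hh⟩
  have hkt : k = τ h := Finset.card_le_one.mp hT k hkT (τ h) htT
  rw [← hkt]
  exact hcol

/-- Through a point off a hyperoval there are exactly two lines missing the hyperoval. -/
theorem card_external (hL : Cfsg.IsSteinerSystem 2 5 L) (hα : Fintype.card α = 21)
    {H : Finset α} (hH6 : H.card = 6) (hH : Arc L H) {y : α} (hy : y ∉ H) :
    ((pencil L y).filter fun m => m ∩ H = ∅).card = 2 := by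
  have h1 := card_eq_sum_pencil hL y H hy
  have h2 : ∀ m ∈ pencil L y, (m ∩ H).card = if ¬ (m ∩ H = ∅) then 2 else 0 := by
    intro m hm
    rw [mem_pencil] at hm
    by_cases h : m ∩ H = ∅
    · rw [if_neg (not_not.mpr h), h, Finset.card_empty]
    · rw [if_pos h]
      exact hov_inter hL hα hH6 hH hm.1 (Finset.nonempty_iff_ne_empty.mpr h)
  rw [Finset.sum_congr rfl h2, Finset.sum_ite, Finset.sum_const, Finset.sum_const_zero,
    smul_eq_mul, add_zero, hH6] at h1
  have h3 := Finset.card_filter_add_card_filter_not (s := pencil L y) (fun m => m ∩ H = ∅)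
  rw [card_pencil hL hα] at h3
  omega

/-- The external lines through a point off a hyperoval are any two distinct ones among them. -/
theorem external_cases (hL : Cfsg.IsSteinerSystem 2 5 L) (hα : Fintype.card α = 21)
    {H : Finset α} (hH6 : H.card = 6) (hH : Arc L H) {y : α} (hy : y ∉ H) {m m' n : Finset α}
    (hm : m ∈ L) (hm' : m' ∈ L) (hn : n ∈ L) (hym : y ∈ m) (hym' : y ∈ m') (hyn : y ∈ n)
    (hmH : m ∩ H = ∅) (hm'H : m' ∩ H = ∅) (hnH : n ∩ H = ∅) (hne : m ≠ m') :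
    n = m ∨ n = m' := by
  by_contra hcon
  rw [not_or] at hcon
  have h3 : ({m, m', n} : Finset (Finset α)) ⊆ (pencil L y).filter fun m => m ∩ H = ∅ := by
    intro z hz
    rw [Finset.mem_insert, Finset.mem_insert, Finset.mem_singleton] at hz
    rw [Finset.mem_filter, mem_pencil]
    rcases hz with rfl | rfl | rfl
    · exact ⟨⟨hm, hym⟩, hmH⟩
    · exact ⟨⟨hm', hym'⟩, hm'H⟩
    · exact ⟨⟨hn, hyn⟩, hnH⟩
  have h4 : ({m, m', n} : Finset (Finset α)).card = 3 :=
    Finset.card_eq_three.mpr ⟨m, m', n, hne, Ne.symm hcon.1, Ne.symm hcon.2, rfl⟩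
  have h5 := Finset.card_le_card h3
  rw [card_external hL hα hH6 hH hy] at h5
  omega

/-- Two points joined by a line missing `H`. -/
def ExtJoin (L : Set (Finset α)) (H : Finset α) (y y' : α) : Prop :=
  ∃ m ∈ L, y ∈ m ∧ y' ∈ m ∧ m ∩ H = ∅

/-- Among four points off a hyperoval, pairwise joined by external lines, any three are
collinear. -/
theorem ext_clique_collinear (hL : Cfsg.IsSteinerSystem 2 5 L) (hα : Fintype.card α = 21)
    {H : Finset α} (hH6 : H.card = 6) (hH : Arc L H) {y1 y2 y3 y4 : α} (h1 : y1 ∉ H)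
    (h2 : y2 ∉ H) (h3 : y3 ∉ H) (h12 : y1 ≠ y2) (h14 : y1 ≠ y4)
    (h24 : y2 ≠ y4) (h34 : y3 ≠ y4) (j12 : ExtJoin L H y1 y2) (j13 : ExtJoin L H y1 y3)
    (j14 : ExtJoin L H y1 y4) (j23 : ExtJoin L H y2 y3) (j24 : ExtJoin L H y2 y4)
    (j34 : ExtJoin L H y3 y4) {m : Finset α} (hm : m ∈ L) (hy1 : y1 ∈ m) (hy2 : y2 ∈ m) :
    y3 ∈ m := by
  by_contra hy3
  obtain ⟨m0, hm0, a1, a2, hm0H⟩ := j12
  have e0 : m0 = m := p21_line_unique hL hm0 hm h12 a1 a2 hy1 hy2
  subst e0
  obtain ⟨m2, hm2, b1, b3, hm2H⟩ := j13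
  obtain ⟨m1, hm1, c2, c3, hm1H⟩ := j23
  obtain ⟨n1, hn1, d1, d4, hn1H⟩ := j14
  obtain ⟨n2, hn2, e2, e4, hn2H⟩ := j24
  obtain ⟨n3, hn3, f3, f4, hn3H⟩ := j34
  have hmm2 : m0 ≠ m2 := fun h => hy3 (h ▸ b3)
  have hmm1 : m0 ≠ m1 := fun h => hy3 (h ▸ c3)
  have hm12 : m1 ≠ m2 := by
    intro h
    subst h
    exact hmm1 (p21_line_unique hL hm0 hm1 h12 a1 a2 b1 c2)
  have k1 := external_cases hL hα hH6 hH h1 hm0 hm2 hn1 a1 b1 d1 hm0H hm2H hn1H hmm2
  have k2 := external_cases hL hα hH6 hH h2 hm0 hm1 hn2 a2 c2 e2 hm0H hm1H hn2H hmm1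
  have k3 := external_cases hL hα hH6 hH h3 hm1 hm2 hn3 c3 b3 f3 hm1H hm2H hn3H hm12
  by_cases hy4 : y4 ∈ m0
  · rcases k3 with k3 | k3
    · subst k3
      exact hmm1 (p21_line_unique hL hm0 hn3 h24 a2 hy4 c2 f4)
    · subst k3
      exact hmm2 (p21_line_unique hL hm0 hn3 h14 a1 hy4 b1 f4)
  · have q1 : n1 = m2 := by
      rcases k1 with k1 | k1
      · exact absurd (k1 ▸ d4) hy4
      · exact k1
    have q2 : n2 = m1 := by
      rcases k2 with k2 | k2
      · exact absurd (k2 ▸ e4) hy4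
      · exact k2
    subst q1 q2
    exact hm12 (p21_line_unique hL hn2 hn1 h34 c3 e4 b3 d4)

/-- Auxiliary: two points of the hyperoval not paired by `x`. -/
theorem exists_two_pairs {H : Finset α} (hH6 : H.card = 6) (x : α) :
    ∃ a c, a ∈ H ∧ c ∈ H ∧ c ≠ a ∧ c ≠ ptn L H x a := by
  obtain ⟨a, ha⟩ : H.Nonempty := Finset.card_pos.mp (by omega)
  obtain ⟨c, hc⟩ : (H \ {a, ptn L H x a}).Nonempty := by
    apply Finset.card_pos.mp
    have h1 := Finset.le_card_sdiff ({a, ptn L H x a} : Finset α) H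
    have h2 : ({a, ptn L H x a} : Finset α).card ≤ 2 := Finset.card_le_two
    omega
  rw [Finset.mem_sdiff, Finset.mem_insert, Finset.mem_singleton, not_or] at hc
  exact ⟨a, c, ha, hc.1, hc.2.1, hc.2.2⟩

/-! ### Extending a bijection of hyperovals -/

variable {β : Type*} [Fintype β] [DecidableEq β] {L' : Set (Finset β)}

/-- The relation defining the extension of `σ` (on the hyperoval) to all points. -/
def HovRel (L : Set (Finset α)) (H : Finset α) (L' : Set (Finset β)) (H' : Finset β)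
    (σ : α ≃ β) (x : α) (y : β) : Prop :=
  (x ∈ H ∧ y = σ x) ∨ (x ∉ H ∧ y ∉ H' ∧ ∀ a ∈ H, Col3 L' y (σ a) (σ (ptn L H x a)))

section Ext

variable (hL : Cfsg.IsSteinerSystem 2 5 L) (hα : Fintype.card α = 21) {H : Finset α}
  (hH6 : H.card = 6) (hH : Arc L H) (hL' : Cfsg.IsSteinerSystem 2 5 L')
  (hβ : Fintype.card β = 21) {H' : Finset β} (hH'6 : H'.card = 6) (hH' : Arc L' H')
  (σ : α ≃ β) (hσ : ∀ a, a ∈ H ↔ σ a ∈ H')

include hL hα hH6 hH hL' hβ hH'6 hH' hσ

theorem hovRel_exists (x : α) : ∃ y, HovRel L H L' H' σ x y := by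
  by_cases hx : x ∈ H
  · exact ⟨σ x, Or.inl ⟨hx, rfl⟩⟩
  · have hmem : ∀ h' ∈ H', σ.symm h' ∈ H := by
      intro h' hh'
      rw [hσ, Equiv.apply_symm_apply]
      exact hh'
    obtain ⟨y, hy, hcol⟩ := exists_pt_of_invol hL' hβ hH'6 hH'
      (fun h' => σ (ptn L H x (σ.symm h')))
      (fun h' hh' => (hσ _).mp (ptn_spec hL hα hH6 hH hx (hmem h' hh')).1)
      (fun h' hh' e => (ptn_spec hL hα hH6 hH hx (hmem h' hh')).2.1
        (by rw [← σ.symm_apply_apply (ptn L H x (σ.symm h')), e]))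
      (fun h' hh' => by
        rw [Equiv.symm_apply_apply, ptn_ptn hL hα hH6 hH hx (hmem h' hh'),
          Equiv.apply_symm_apply])
    refine ⟨y, Or.inr ⟨hx, hy, fun a ha => ?_⟩⟩
    have := hcol (σ a) ((hσ a).mp ha)
    rw [Equiv.symm_apply_apply] at this
    exact this

theorem hovRel_unique {x : α} {y y' : β} (h : HovRel L H L' H' σ x y)
    (h' : HovRel L H L' H' σ x y') : y = y' := by
  rcases h with ⟨hx, rfl⟩ | ⟨hx, hy, hcol⟩
  · rcases h' with ⟨-, rfl⟩ | ⟨hx', -, -⟩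
    · rfl
    · exact absurd hx hx'
  · rcases h' with ⟨hx', -⟩ | ⟨-, hy', hcol'⟩
    · exact absurd hx' hx
    · obtain ⟨a, c, ha, hc, hca, hcb⟩ := exists_two_pairs (L := L) hH6 x
      obtain ⟨pa1, pa2, -⟩ := ptn_spec hL hα hH6 hH hx ha
      obtain ⟨pc1, pc2, -⟩ := ptn_spec hL hα hH6 hH hx hc
      exact pt_unique_of_two hL' hH' ((hσ a).mp ha) ((hσ _).mp pa1) ((hσ c).mp hc)
        (fun e => pa2 (σ.injective e).symm) (fun e => pc2 (σ.injective e).symm)
        (fun e => hca (σ.injective e)) (fun e => hcb (σ.injective e))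
        (hcol a ha) (hcol' a ha) (hcol c hc) (hcol' c hc)

theorem hovRel_inj {x x' : α} {y : β} (h : HovRel L H L' H' σ x y)
    (h' : HovRel L H L' H' σ x' y) : x = x' := by
  rcases h with ⟨hx, rfl⟩ | ⟨hx, hy, hcol⟩
  · rcases h' with ⟨-, e⟩ | ⟨-, hy', -⟩
    · exact σ.injective e
    · exact absurd ((hσ x).mp hx) hy'
  · rcases h' with ⟨hx', e⟩ | ⟨hx', -, hcol'⟩
    · exact absurd (e ▸ (hσ x').mp hx') hy
    · have hp : ∀ a ∈ H, ptn L H x a = ptn L H x' a := by
        intro a ha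
        obtain ⟨p1, p2, -⟩ := ptn_spec hL hα hH6 hH hx ha
        obtain ⟨q1, q2, -⟩ := ptn_spec hL hα hH6 hH hx' ha
        exact σ.injective (partner_unique hL' hH' hy ((hσ a).mp ha) ((hσ _).mp p1)
          ((hσ _).mp q1) (fun e => p2 (σ.injective e)) (fun e => q2 (σ.injective e))
          (hcol a ha) (hcol' a ha))
      obtain ⟨a, c, ha, hc, hca, hcb⟩ := exists_two_pairs (L := L) hH6 x
      obtain ⟨pa1, pa2, pa3⟩ := ptn_spec hL hα hH6 hH hx ha
      obtain ⟨pc1, pc2, pc3⟩ := ptn_spec hL hα hH6 hH hx hc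
      obtain ⟨-, -, qa3⟩ := ptn_spec hL hα hH6 hH hx' ha
      obtain ⟨-, -, qc3⟩ := ptn_spec hL hα hH6 hH hx' hc
      rw [← hp a ha] at qa3
      rw [← hp c hc] at qc3
      exact pt_unique_of_two hL hH ha pa1 hc (Ne.symm pa2) (Ne.symm pc2) hca hcb pa3 qa3 pc3 qc3

/-- A map realising the relation sends lines to lines. -/
theorem hov_map_line (f : α → β) (hf : ∀ x, HovRel L H L' H' σ x (f x))
    (hinj : Function.Injective f) {l : Finset α} (hl : l ∈ L) : l.image f ∈ L' := by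
  have hfH : ∀ a ∈ H, f a = σ a := by
    intro a ha
    rcases hf a with ⟨-, e⟩ | ⟨ha', -, -⟩
    · exact e
    · exact absurd ha ha'
  have hfO : ∀ x, x ∉ H → f x ∉ H' ∧ ∀ a ∈ H, Col3 L' (f x) (σ a) (σ (ptn L H x a)) := by
    intro x hx
    rcases hf x with ⟨hx', -⟩ | ⟨-, h1, h2⟩
    · exact absurd hx' hx
    · exact ⟨h1, h2⟩
  have hcard : (l.image f).card = 5 := by
    rw [Finset.card_image_of_injective _ hinj, hL.1 l hl]
  by_cases hlH : (l ∩ H).Nonempty
  · -- a secant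
    have h2 := hov_inter hL hα hH6 hH hl hlH
    obtain ⟨a, b, hab, hlab⟩ := Finset.card_eq_two.mp h2
    have ha : a ∈ l ∩ H := by rw [hlab]; exact Finset.mem_insert_self a _
    have hb : b ∈ l ∩ H := by
      rw [hlab]; exact Finset.mem_insert_of_mem (Finset.mem_singleton_self b)
    rw [Finset.mem_inter] at ha hb
    obtain ⟨l', hl', hal', hbl'⟩ := p21_exists_line hL' (fun e => hab (σ.injective e))
    have hsub : l.image f ⊆ l' := by
      intro y hy
      obtain ⟨x, hxl, rfl⟩ := Finset.mem_image.mp hy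
      by_cases hxH : x ∈ H
      · have : x ∈ l ∩ H := Finset.mem_inter.mpr ⟨hxl, hxH⟩
        rw [hlab, Finset.mem_insert, Finset.mem_singleton] at this
        rcases this with rfl | rfl
        · rw [hfH x hxH]; exact hal'
        · rw [hfH x hxH]; exact hbl'
      · have hp : ptn L H x a = b :=
          ptn_eq hL hα hH6 hH hxH ha.2 hb.2 (Ne.symm hab) ⟨l, hl, hxl, ha.1, hb.1⟩
        obtain ⟨m, hm, hxm, ham, hbm⟩ := (hfO x hxH).2 a ha.2
        rw [hp] at hbm
        have : m = l' :=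
          p21_line_unique hL' hm hl' (fun e => hab (σ.injective e)) ham hbm hal' hbl'
        rw [← this]
        exact hxm
    have : l.image f = l' :=
      Finset.eq_of_subset_of_card_le hsub (by rw [hcard, hL'.1 l' hl'])
    rw [this]
    exact hl'
  · -- an external line
    rw [Finset.not_nonempty_iff_eq_empty] at hlH
    have hnotH : ∀ x ∈ l, x ∉ H := by
      intro x hxl hxH
      have : x ∈ l ∩ H := Finset.mem_inter.mpr ⟨hxl, hxH⟩
      rw [hlH] at this
      exact absurd this (Finset.notMem_empty x)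
    -- images of two points of `l` are joined by an external line
    have hjoin : ∀ x ∈ l, ∀ x' ∈ l, x ≠ x' → ExtJoin L' H' (f x) (f x') := by
      intro x hxl x' hx'l hne
      obtain ⟨m, hm, hxm, hx'm⟩ := p21_exists_line hL' (fun e => hne (hinj e))
      refine ⟨m, hm, hxm, hx'm, ?_⟩
      by_contra hmH
      obtain ⟨h', hh'⟩ := Finset.nonempty_iff_ne_empty.mpr hmH
      rw [Finset.mem_inter] at hh'
      have haH : σ.symm h' ∈ H := by
        rw [hσ, Equiv.apply_symm_apply]; exact hh'.2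
      have hσa : σ (σ.symm h') = h' := Equiv.apply_symm_apply σ h'
      obtain ⟨p1, p2, p3⟩ := ptn_spec hL hα hH6 hH (hnotH x hxl) haH
      obtain ⟨q1, q2, q3⟩ := ptn_spec hL hα hH6 hH (hnotH x' hx'l) haH
      have hfx := hfO x (hnotH x hxl)
      have hfx' := hfO x' (hnotH x' hx'l)
      -- the partners of `σ.symm h'` with respect to `x` and `x'` coincide
      obtain ⟨m₁, hm₁, r1, r2, r3⟩ := hfx.2 _ haH
      obtain ⟨m₂, hm₂, s1, s2, s3⟩ := hfx'.2 _ haH
      rw [hσa] at r2 s2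
      have e1 : m₁ = m := p21_line_unique hL' hm₁ hm
        (fun e : f x = h' => hfx.1 (by rw [e]; exact hh'.2)) r1 r2 hxm hh'.1
      have e2 : m₂ = m := p21_line_unique hL' hm₂ hm
        (fun e : f x' = h' => hfx'.1 (by rw [e]; exact hh'.2)) s1 s2 hx'm hh'.1
      subst e1
      rw [e2] at s3
      have hpq : ptn L H x (σ.symm h') = ptn L H x' (σ.symm h') := by
        rcases arc_third hH' hm₁ hh'.2 ((hσ _).mp p1) ((hσ _).mp q1) hh'.1 r3 s3
          (fun e => p2 (σ.injective (by rw [hσa]; exact e.symm))) with h | h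
        · exact absurd (σ.injective (by rw [hσa]; exact h)) q2
        · exact (σ.injective h).symm
      -- hence `x`, `x'` lie on a secant, which must be `l`
      obtain ⟨n, hn, t1, t2, t3⟩ := p3
      obtain ⟨n', hn', u1, u2, u3⟩ := q3
      rw [← hpq] at u3
      have e3 : n = n' := p21_line_unique hL hn hn' (Ne.symm p2) t2 t3 u2 u3
      subst e3
      have e4 : n = l := p21_line_unique hL hn hl hne t1 u1 hxl hx'l
      subst e4
      exact hnotH _ t2 haH
    obtain ⟨x1, hx1, x2, hx2, h12⟩ := Finset.one_lt_card.mp (by rw [hL.1 l hl]; norm_num)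
    obtain ⟨m', hm', hy1, hy2⟩ := p21_exists_line hL' (fun e => h12 (hinj e))
    have hsub : l.image f ⊆ m' := by
      intro y hy
      obtain ⟨x3, hx3, rfl⟩ := Finset.mem_image.mp hy
      by_cases c1 : x3 = x1
      · rw [c1]; exact hy1
      by_cases c2 : x3 = x2
      · rw [c2]; exact hy2
      obtain ⟨x4, hx4⟩ : (l \ {x1, x2, x3}).Nonempty := by
        apply Finset.card_pos.mp
        have h1 := Finset.le_card_sdiff ({x1, x2, x3} : Finset α) l
        have h2 : ({x1, x2, x3} : Finset α).card ≤ 3 := Finset.card_le_three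
        rw [hL.1 l hl] at h1
        omega
      rw [Finset.mem_sdiff, Finset.mem_insert, Finset.mem_insert, Finset.mem_singleton, not_or,
        not_or] at hx4
      obtain ⟨hx4l, d1, d2, d3⟩ := hx4
      exact ext_clique_collinear hL' hβ hH'6 hH' (hfO x1 (hnotH x1 hx1)).1
        (hfO x2 (hnotH x2 hx2)).1 (hfO x3 (hnotH x3 hx3)).1 (fun e => h12 (hinj e))
        (fun e => d1 (hinj e).symm) (fun e => d2 (hinj e).symm) (fun e => d3 (hinj e).symm)
        (hjoin x1 hx1 x2 hx2 h12) (hjoin x1 hx1 x3 hx3 (Ne.symm c1))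
        (hjoin x1 hx1 x4 hx4l (Ne.symm d1)) (hjoin x2 hx2 x3 hx3 (Ne.symm c2))
        (hjoin x2 hx2 x4 hx4l (Ne.symm d2)) (hjoin x3 hx3 x4 hx4l (Ne.symm d3)) hm' hy1 hy2
    have : l.image f = m' :=
      Finset.eq_of_subset_of_card_le hsub (by rw [hcard, hL'.1 m' hm'])
    rw [this]
    exact hm'

/-- A bijection between hyperovals of two projective planes of order 4 extends uniquely to an
isomorphism of the planes. -/
theorem hov_extension :
    ∃ e : α ≃ β, (∀ a ∈ H, e a = σ a) ∧ (∀ l ∈ L, l.image e ∈ L') ∧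
      ∀ g : α ≃ β, (∀ a ∈ H, g a = σ a) → (∀ l ∈ L, l.image g ∈ L') → g = e := by
  choose f hf using hovRel_exists hL hα hH6 hH hL' hβ hH'6 hH' σ hσ
  have hinj : Function.Injective f := by
    intro x x' e
    have h1 := hf x
    rw [e] at h1
    exact hovRel_inj hL hα hH6 hH hL' hβ hH'6 hH' σ hσ h1 (hf x')
  have hbij : Function.Bijective f :=
    (Fintype.bijective_iff_injective_and_card f).mpr ⟨hinj, by rw [hα, hβ]⟩
  refine ⟨Equiv.ofBijective f hbij, ?_, ?_, ?_⟩
  · intro a ha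
    rcases hf a with ⟨-, e⟩ | ⟨ha', -, -⟩
    · exact e
    · exact absurd ha ha'
  · intro l hl
    exact hov_map_line hL hα hH6 hH hL' hβ hH'6 hH' σ hσ f hf hinj hl
  · intro g hg hgl
    apply Equiv.ext
    intro x
    show g x = f x
    refine hovRel_unique hL hα hH6 hH hL' hβ hH'6 hH' σ hσ (x := x) ?_ (hf x)
    by_cases hx : x ∈ H
    · exact Or.inl ⟨hx, hg x hx⟩
    · refine Or.inr ⟨hx, fun hgx => ?_, fun a ha => ?_⟩
      · -- `g x ∈ H'` would force `x ∈ H`
        have h1 : σ.symm (g x) ∈ H := by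
          rw [hσ, Equiv.apply_symm_apply]; exact hgx
        have h2 := hg _ h1
        rw [Equiv.apply_symm_apply] at h2
        exact hx (g.injective h2 ▸ h1)
      · obtain ⟨p1, -, l, hl, t1, t2, t3⟩ := ptn_spec hL hα hH6 hH hx ha
        refine ⟨l.image g, hgl l hl, Finset.mem_image_of_mem g t1, ?_, ?_⟩
        · rw [← hg a ha]; exact Finset.mem_image_of_mem g t2
        · rw [← hg _ p1]; exact Finset.mem_image_of_mem g t3

end Ext

/-- A projective plane of order 4 has a hyperoval. -/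
theorem exists_hyperoval (hL : Cfsg.IsSteinerSystem 2 5 L) (hα : Fintype.card α = 21) :
    ∃ H : Finset α, H.card = 6 ∧ Arc L H := by
  have h := card_arcs_six hL hα
  obtain ⟨H, hH⟩ : (arcs L 6).Nonempty := Finset.card_pos.mp (by rw [h]; norm_num)
  exact ⟨H, mem_arcs.mp hH⟩

/-- A bijection of two finite types of the same size carrying a given finset onto another of the
same size. -/
theorem exists_equiv_of_card (hαβ : Fintype.card α = Fintype.card β) (H : Finset α)
    (H' : Finset β) (h : H.card = H'.card) : ∃ σ : α ≃ β, ∀ a, a ∈ H ↔ σ a ∈ H' := by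
  have e1 : {x // x ∈ H} ≃ {y // y ∈ H'} :=
    Fintype.equivOfCardEq (by rw [Fintype.card_coe, Fintype.card_coe, h])
  have e2 : {x // x ∉ H} ≃ {y // y ∉ H'} :=
    Fintype.equivOfCardEq (by
      rw [Fintype.card_subtype_compl, Fintype.card_subtype_compl, Fintype.card_coe,
        Fintype.card_coe, h, hαβ])
  refine ⟨(Equiv.sumCompl (· ∈ H)).symm.trans ((Equiv.sumCongr e1 e2).trans
    (Equiv.sumCompl (· ∈ H'))), fun a => ?_⟩
  by_cases ha : a ∈ H
  · simp only [ha, true_iff, Equiv.trans_apply, Equiv.sumCompl_symm_apply_of_pos ha,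
      Equiv.sumCongr_apply, Sum.map_inl, Equiv.sumCompl_apply_inl]
    exact (e1 ⟨a, ha⟩).2
  · simp only [ha, false_iff, Equiv.trans_apply, Equiv.sumCompl_symm_apply_of_neg ha,
      Equiv.sumCongr_apply, Sum.map_inr, Equiv.sumCompl_apply_inr]
    exact (e2 ⟨a, ha⟩).2

/-- Uniqueness of the projective plane of order 4. -/
theorem plane21_unique (hα : Fintype.card α = 21) (hβ : Fintype.card β = 21)
    (hL : Cfsg.IsSteinerSystem 2 5 L) (hL' : Cfsg.IsSteinerSystem 2 5 L') :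
    Cfsg.SetSystemIso L L' := by
  obtain ⟨H, hH6, hH⟩ := exists_hyperoval hL hα
  obtain ⟨H', hH'6, hH'⟩ := exists_hyperoval hL' hβ
  obtain ⟨σ, hσ⟩ := exists_equiv_of_card (hα.trans hβ.symm) H H' (hH6.trans hH'6.symm)
  obtain ⟨e, -, he, -⟩ := hov_extension hL hα hH6 hH hL' hβ hH'6 hH' σ hσ
  refine ⟨e, ?_⟩
  ext l'
  constructor
  · rintro ⟨l, hl, rfl⟩
    exact he l hl
  · intro hl'
    obtain ⟨y1, hy1, y2, hy2, h12⟩ := Finset.one_lt_card.mp (by rw [hL'.1 l' hl']; norm_num)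
    obtain ⟨l, hl, hx1, hx2⟩ := p21_exists_line hL (fun h => h12 (e.symm.injective h))
    refine ⟨l, hl, ?_⟩
    refine p21_line_unique hL' (he l hl) hl' h12 ?_ ?_ hy1 hy2
    · exact Finset.mem_image.mpr ⟨_, hx1, Equiv.apply_symm_apply e y1⟩
    · exact Finset.mem_image.mpr ⟨_, hx2, Equiv.apply_symm_apply e y2⟩

/-- Every permutation of the points of a hyperoval is induced by exactly one automorphism of
the plane. -/
theorem hov_perm_extends (hα : Fintype.card α = 21) (L : Set (Finset α))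
    (hL : Cfsg.IsSteinerSystem 2 5 L) (H : Finset α)
    (hH : (H.card = 6 ∧ ∀ l ∈ L, (l ∩ H).card ≤ 2)) (σ : Equiv.Perm ↥H) :
    ∃! g : Equiv.Perm α, g ∈ Cfsg.setSystemAut L ∧ ∀ p : ↥H, g p = σ p := by
  have hσ : ∀ a, a ∈ H ↔ Equiv.Perm.ofSubtype σ a ∈ H := by
    intro a
    by_cases ha : a ∈ H
    · rw [Equiv.Perm.ofSubtype_apply_of_mem σ ha]
      simp only [ha, true_iff]
      exact (σ ⟨a, ha⟩).2
    · rw [Equiv.Perm.ofSubtype_apply_of_not_mem σ ha]
  obtain ⟨e, he1, he2, he3⟩ :=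
    hov_extension hL hα hH.1 hH.2 hL hα hH.1 hH.2 (Equiv.Perm.ofSubtype σ) hσ
  refine ⟨e, ⟨?_, fun p => ?_⟩, ?_⟩
  · rw [MulAction.mem_stabilizer_set' (Set.toFinite L)]
    intro b hb
    exact he2 b hb
  · rw [he1 p p.2, Equiv.Perm.ofSubtype_apply_of_mem σ p.2]
  · rintro g ⟨hg1, hg2⟩
    rw [MulAction.mem_stabilizer_set' (Set.toFinite L)] at hg1
    refine he3 g (fun a ha => ?_) (fun l hl => hg1 hl)
    rw [Equiv.Perm.ofSubtype_apply_of_mem σ ha]
    exact hg2 ⟨a, ha⟩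

end Hyperoval

end Cfsg.Agent.Lib.helper10
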