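/-
The involutory automorphism of a projective plane of order 4 inducing a transposition on a
hyperoval: its fixed points off the hyperoval lie on the secant through the two swapped points,
and it moves every hyperoval meeting the given one in three fixed points.
-/
import Mathlib
import Cfsg.Prelude.Def_Sporadic_a
import Cfsg.Agent.Lib.helper10.Steiner3622
import Cfsg.Agent.Lib.helper10.Plane21
import Cfsg.Agent.Lib.helper10.Hyperoval
import Cfsg.Agent.Lib.helper10.HovCount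

set_option autoImplicit false
set_option linter.unusedSectionVars false

namespace Cfsg.Agent.Lib.helper10

open Finset

section BaerInv

variable {α : Type*} [Fintype α] [DecidableEq α] {L : Set (Finset α)}

variable (hL : Cfsg.IsSteinerSystem 2 5 L) (hα : Fintype.card α = 21) {H : Finset α}
  (hH6 : H.card = 6) (hH : Arc L H)

include hL hα hH6 hH

/-- The automorphism inducing a transposition on a hyperoval. -/
theorem exists_baer {u₁ u₂ : α} (hu₁ : u₁ ∈ H) (hu₂ : u₂ ∈ H) :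
    ∃ t : α ≃ α, (∀ l ∈ L, l.image t ∈ L) ∧ (∀ a, t (t a) = a) ∧ t u₁ = u₂ ∧ t u₂ = u₁ ∧
      ∀ a ∈ H, a ≠ u₁ → a ≠ u₂ → t a = a := by
  have hτ : ∀ a, a ∈ H ↔ Equiv.swap u₁ u₂ a ∈ H := by
    intro a
    by_cases h1 : a = u₁
    · subst h1
      rw [Equiv.swap_apply_left]
      exact ⟨fun _ => hu₂, fun _ => hu₁⟩
    · by_cases h2 : a = u₂
      · subst h2
        rw [Equiv.swap_apply_right]
        exact ⟨fun _ => hu₁, fun _ => hu₂⟩
      · rw [Equiv.swap_apply_of_ne_of_ne h1 h2]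
  obtain ⟨t, ht1, ht2, -⟩ := hov_extension hL hα hH6 hH hL hα hH6 hH (Equiv.swap u₁ u₂) hτ
  obtain ⟨e₀, -, -, he₀⟩ := hov_extension hL hα hH6 hH hL hα hH6 hH (Equiv.refl α)
    (fun a => Iff.rfl)
  have hrefl : Equiv.refl α = e₀ := he₀ _ (fun a _ => rfl) (fun l hl => by
    have : l.image (Equiv.refl α) = l := by
      ext y
      simp
    rw [this]
    exact hl)
  have htt : t.trans t = e₀ := he₀ _ (fun a ha => by
    rw [Equiv.trans_apply, ht1 a ha, ht1 _ ((hτ a).mp ha), Equiv.swap_apply_self]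
    rfl) (fun l hl => by
    have : l.image (t.trans t) = (l.image t).image t := by
      rw [Finset.image_image]
      rfl
    rw [this]
    exact ht2 _ (ht2 l hl))
  refine ⟨t, ht2, fun a => ?_, ?_, ?_, fun a ha h1 h2 => ?_⟩
  · have := congrArg (fun f : α ≃ α => f a) (htt.trans hrefl.symm)
    exact this
  · rw [ht1 u₁ hu₁, Equiv.swap_apply_left]
  · rw [ht1 u₂ hu₂, Equiv.swap_apply_right]
  · rw [ht1 a ha, Equiv.swap_apply_of_ne_of_ne h1 h2]

/-- A fixed point off the hyperoval of a line-preserving bijection which swaps two points of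
the hyperoval and fixes its other points lies on the secant through the two swapped points. -/
theorem baer_fixed_col (t : α ≃ α) (ht : ∀ l ∈ L, l.image t ∈ L) {u₁ u₂ : α} (hu₁ : u₁ ∈ H)
    (hu₂ : u₂ ∈ H) (hne : u₁ ≠ u₂) (h12 : t u₁ = u₂)
    (hfix : ∀ a ∈ H, a ≠ u₁ → a ≠ u₂ → t a = a) {w : α} (hw : w ∉ H) (hwf : t w = w) :
    Col3 L w u₁ u₂ := by
  obtain ⟨a, haH, hau, l, hl, hwl, hul, hal⟩ := exists_partner hL hα hH6 hH hw hu₁
  by_cases ha2 : a = u₂
  · subst ha2
    exact ⟨l, hl, hwl, hul, hal⟩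
  · exfalso
    have hta : t a = a := hfix a haH hau ha2
    have hwa : w ≠ a := fun h => hw (h ▸ haH)
    have e : l.image t = l := by
      refine p21_line_unique hL (ht l hl) hl hwa ?_ ?_ hwl hal
      · rw [← hwf]
        exact Finset.mem_image_of_mem t hwl
      · rw [← hta]
        exact Finset.mem_image_of_mem t hal
    have hu2l : u₂ ∈ l := by
      rw [← e, ← h12]
      exact Finset.mem_image_of_mem t hul
    rcases arc_third hH hl hu₁ haH hu₂ hul hal hu2l (Ne.symm hau) with h | h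
    · exact hne h.symm
    · exact ha2 h.symm

/-- The automorphism inducing a transposition `(u₁ u₂)` on the hyperoval `H` moves every
hyperoval `K` meeting `H` in three points other than `u₁`, `u₂`. -/
theorem baer_moves (t : α ≃ α) (ht : ∀ l ∈ L, l.image t ∈ L) (ht2 : ∀ a, t (t a) = a)
    {u₁ u₂ : α} (hu₁ : u₁ ∈ H) (hu₂ : u₂ ∈ H) (hne : u₁ ≠ u₂) (h12 : t u₁ = u₂)
    (hfix : ∀ a ∈ H, a ≠ u₁ → a ≠ u₂ → t a = a) {K T : Finset α} (hK6 : K.card = 6)
    (hK : Arc L K) (hT : T.card = 3) (hKH : K ∩ H = T) (hu₁T : u₁ ∉ T) (hu₂T : u₂ ∉ T) :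
    K.image t ≠ K := by
  intro himg
  have hTK : T ⊆ K := hKH ▸ Finset.inter_subset_left
  have hTH : T ⊆ H := hKH ▸ Finset.inter_subset_right
  have hWc : (K \ T).card = 3 := by rw [Finset.card_sdiff_of_subset hTK, hK6, hT]
  -- `t` preserves `K \ T`
  have hW : ∀ w ∈ K \ T, t w ∈ K \ T := by
    intro w hw
    rw [Finset.mem_sdiff] at hw ⊢
    refine ⟨himg ▸ Finset.mem_image_of_mem t hw.1, fun h => ?_⟩
    have h1 : t (t w) = t w :=
      hfix _ (hTH h) (fun h' => hu₁T (h' ▸ h)) (fun h' => hu₂T (h' ▸ h))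
    rw [ht2] at h1
    exact hw.2 (h1 ▸ h)
  -- a fixed point in `K \ T`
  obtain ⟨w, hwW, hwf⟩ : ∃ w ∈ K \ T, t w = w := by
    obtain ⟨w₁, w₂, w₃, h12', h13, h23, hWe⟩ := Finset.card_eq_three.mp hWc
    have m1 : w₁ ∈ K \ T := by rw [hWe]; simp
    have m2 : w₂ ∈ K \ T := by rw [hWe]; simp
    have m3 : w₃ ∈ K \ T := by rw [hWe]; simp
    have c1 := hW w₁ m1
    have c3 := hW w₃ m3
    have c2 := hW w₂ m2
    rw [hWe, Finset.mem_insert, Finset.mem_insert, Finset.mem_singleton] at c1 c2 c3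
    by_cases f1 : t w₁ = w₁
    · exact ⟨w₁, m1, f1⟩
    · rcases c1 with c1 | c1 | c1
      · exact absurd c1 f1
      · -- `t w₁ = w₂`, so `t w₂ = w₁` and `t w₃ = w₃`
        have h21 : t w₂ = w₁ := by rw [← c1, ht2]
        refine ⟨w₃, m3, ?_⟩
        rcases c3 with c3 | c3 | c3
        · exact absurd (t.injective (c3.trans h21.symm)) (Ne.symm h23)
        · exact absurd (t.injective (c3.trans c1.symm)) (Ne.symm h13)
        · exact c3
      · -- `t w₁ = w₃`, so `t w₃ = w₁` and `t w₂ = w₂`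
        have h31 : t w₃ = w₁ := by rw [← c1, ht2]
        refine ⟨w₂, m2, ?_⟩
        rcases c2 with c2 | c2 | c2
        · exact absurd (t.injective (c2.trans h31.symm)) h23
        · exact c2
        · exact absurd (t.injective (c2.trans c1.symm)) (Ne.symm h12')
  rw [Finset.mem_sdiff] at hwW
  have hwH : w ∉ H := fun h => hwW.2 (hKH ▸ Finset.mem_inter.mpr ⟨hwW.1, h⟩)
  obtain ⟨l, hl, hwl, hu1l, hu2l⟩ :=
    baer_fixed_col hL hα hH6 hH t ht hu₁ hu₂ hne h12 hfix hwH hwf
  -- the partner of a point of `T` with respect to `w` is the sixth point of `H`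
  have hpart : ∀ a ∈ T, ∃ p, p ∈ H \ (T ∪ {u₁, u₂}) ∧ Col3 L w a p := by
    intro a haT
    obtain ⟨p, hpH, hpa, m, hm, hwm, ham, hpm⟩ := exists_partner hL hα hH6 hH hwH (hTH haT)
    refine ⟨p, ?_, m, hm, hwm, ham, hpm⟩
    rw [Finset.mem_sdiff, Finset.mem_union, Finset.mem_insert, Finset.mem_singleton]
    refine ⟨hpH, ?_⟩
    have hwp : w ≠ p := fun h => hwH (h ▸ hpH)
    rintro (hpT | hp1 | hp2)
    · rcases arc_third hK hm (hTK haT) (hTK hpT) hwW.1 ham hpm hwm (Ne.symm hpa) with h | h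
      · exact hwH (h ▸ hTH haT)
      · exact hwH (h ▸ hpH)
    · have e : m = l := p21_line_unique hL hm hl hwp hwm hpm hwl (hp1 ▸ hu1l)
      subst e
      rcases arc_third hH hm hu₁ hu₂ (hTH haT) hu1l hu2l ham hne with h | h
      · exact hu₁T (h ▸ haT)
      · exact hu₂T (h ▸ haT)
    · have e : m = l := p21_line_unique hL hm hl hwp hwm hpm hwl (hp2 ▸ hu2l)
      subst e
      rcases arc_third hH hm hu₁ hu₂ (hTH haT) hu1l hu2l ham hne with h | h
      · exact hu₁T (h ▸ haT)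
      · exact hu₂T (h ▸ haT)
  have hc1 : (H \ (T ∪ {u₁, u₂})).card ≤ 1 := by
    have h1 : T ∪ {u₁, u₂} ⊆ H := by
      intro y hy
      rw [Finset.mem_union, Finset.mem_insert, Finset.mem_singleton] at hy
      rcases hy with hy | rfl | rfl
      · exact hTH hy
      · exact hu₁
      · exact hu₂
    have h2 : (T ∪ {u₁, u₂}).card = 5 := by
      rw [Finset.card_union_of_disjoint, hT, Finset.card_pair hne]
      rw [Finset.disjoint_left]
      intro y hy hy'
      rw [Finset.mem_insert, Finset.mem_singleton] at hy'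
      rcases hy' with rfl | rfl
      · exact hu₁T hy
      · exact hu₂T hy
    rw [Finset.card_sdiff_of_subset h1, hH6, h2]
  obtain ⟨a₁, ha₁, a₂, ha₂, ha12⟩ := Finset.one_lt_card.mp (by rw [hT]; norm_num : 1 < T.card)
  obtain ⟨p₁, hp₁, m₁, hm₁, hwm₁, ham₁, hpm₁⟩ := hpart a₁ ha₁
  obtain ⟨p₂, hp₂, m₂, hm₂, hwm₂, ham₂, hpm₂⟩ := hpart a₂ ha₂
  have hpp : p₁ = p₂ := Finset.card_le_one.mp hc1 p₁ hp₁ p₂ hp₂
  subst hpp
  rw [Finset.mem_sdiff, Finset.mem_union] at hp₁
  have hwp : w ≠ p₁ := fun h => hwH (h ▸ hp₁.1)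
  have e : m₁ = m₂ := p21_line_unique hL hm₁ hm₂ hwp hwm₁ hpm₁ hwm₂ hpm₂
  subst e
  rcases arc_third hH hm₁ (hTH ha₁) (hTH ha₂) hp₁.1 ham₁ ham₂ hpm₁ ha12 with h | h
  · exact hp₁.2 (Or.inl (h ▸ ha₁))
  · exact hp₁.2 (Or.inl (h ▸ ha₂))

end BaerInv

end Cfsg.Agent.Lib.helper10
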