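/-
Hyperovals of a projective plane of order 4: numbers of hyperovals through an arc
(168, 48, 12, 3, 1) and intersection numbers with a fixed hyperoval (10, 72, 45, 40, 0, 0, 1).
-/
import Mathlib
import Cfsg.Prelude.Def_Sporadic_a
import Cfsg.Agent.Lib.helper10.Steiner3622
import Cfsg.Agent.Lib.helper10.Plane21
import Cfsg.Agent.Lib.helper10.Hyperoval

set_option autoImplicit false
set_option linter.unusedSectionVars false

namespace Cfsg.Agent.Lib.helper10

open Finset

section HovCount

variable {α : Type*} [Fintype α] [DecidableEq α] {L : Set (Finset α)}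

/-- The hyperovals of a set system: the 6-sets meeting every block in at most two points. -/
def hov (L : Set (Finset α)) : Set (Finset α) := {H | H.card = 6 ∧ Arc L H}

theorem mem_hov {H : Finset α} : H ∈ hov L ↔ H.card = 6 ∧ Arc L H := Iff.rfl

theorem blk_hov : blk (hov L) = arcs L 6 := by
  ext H
  rw [mem_blk, mem_arcs, mem_hov]

/-- Double count behind the recursion for the number of hyperovals through an arc. -/
theorem hov_thru_step (S : Finset α) (k l : ℕ) (hk : S.card = k)
    (h : ∀ x ∈ arcExt L S, thru (hov L) (insert x S) = l) :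
    thru (hov L) S * (6 - k) = (arcExt L S).card * l := by
  have hswap : ∑ x ∈ arcExt L S, ∑ _b ∈ (blk (hov L)).filter (fun b => insert x S ⊆ b), 1
      = ∑ b ∈ (blk (hov L)).filter (fun b => S ⊆ b), ∑ _x ∈ b \ S, 1 := by
    refine Finset.sum_comm' ?_
    intro x b
    simp only [Finset.mem_filter, Finset.mem_sdiff, Finset.insert_subset_iff, mem_blk, mem_hov,
      mem_arcExt]
    constructor
    · rintro ⟨⟨hx, -⟩, hb, hxb, hSb⟩
      exact ⟨⟨hxb, hx⟩, hb, hSb⟩
    · rintro ⟨⟨hxb, hx⟩, hb, hSb⟩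
      exact ⟨⟨hx, hb.2.mono (Finset.insert_subset hxb hSb)⟩, hb, hxb, hSb⟩
  have hL : ∑ x ∈ arcExt L S, ∑ _b ∈ (blk (hov L)).filter (fun b => insert x S ⊆ b), 1
      = (arcExt L S).card * l := by
    have : ∀ x ∈ arcExt L S,
        ∑ _b ∈ (blk (hov L)).filter (fun b => insert x S ⊆ b), 1 = l := by
      intro x hx
      rw [← Finset.card_eq_sum_ones]
      exact h x hx
    rw [Finset.sum_congr rfl this, Finset.sum_const, smul_eq_mul]
  have hR : ∑ b ∈ (blk (hov L)).filter (fun b => S ⊆ b), ∑ _x ∈ b \ S, 1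
      = thru (hov L) S * (6 - k) := by
    have : ∀ b ∈ (blk (hov L)).filter (fun b => S ⊆ b), ∑ _x ∈ b \ S, 1 = 6 - k := by
      intro b hb
      rw [Finset.mem_filter, mem_blk, mem_hov] at hb
      rw [← Finset.card_eq_sum_ones, Finset.card_sdiff_of_subset hb.2, hb.1.1, hk]
    rw [Finset.sum_congr rfl this, Finset.sum_const, smul_eq_mul, thru]
  rw [← hR, ← hswap, hL]

variable (hL : Cfsg.IsSteinerSystem 2 5 L) (hα : Fintype.card α = 21)

include hL hα

theorem hov_thru_four {S : Finset α} (hS : Arc L S) (hk : S.card = 4) :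
    thru (hov L) S = 1 := by
  obtain ⟨H₀, ⟨hH₀, hsub⟩, huniq⟩ := arc_completion hL hα hS hk
  rw [thru, Finset.card_eq_one]
  refine ⟨H₀, ?_⟩
  ext H
  rw [Finset.mem_filter, mem_blk, mem_hov, Finset.mem_singleton]
  constructor
  · rintro ⟨h1, h2⟩
    exact huniq H ⟨h1, h2⟩
  · rintro rfl
    exact ⟨hH₀, hsub⟩

theorem hov_thru_three {S : Finset α} (hS : Arc L S) (hk : S.card = 3) :
    thru (hov L) S = 3 := by
  have h1 := hov_thru_step (L := L) S 3 1 hk (fun x hx => by
    rw [mem_arcExt] at hx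
    exact hov_thru_four hL hα hx.2 (card_insert_eq' hk hx.1))
  have h2 := card_arcExt hL hα hS (by omega) (by omega)
  rw [hk] at h2
  have h3 : (6 - 3) * (4 - (3 - 1).choose 2) = 9 := by decide
  rw [h2, h3] at h1
  omega

theorem hov_thru_two {S : Finset α} (hS : Arc L S) (hk : S.card = 2) :
    thru (hov L) S = 12 := by
  have h1 := hov_thru_step (L := L) S 2 3 hk (fun x hx => by
    rw [mem_arcExt] at hx
    exact hov_thru_three hL hα hx.2 (card_insert_eq' hk hx.1))
  have h2 := card_arcExt hL hα hS (by omega) (by omega)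
  rw [hk] at h2
  have h3 : (6 - 2) * (4 - (2 - 1).choose 2) = 16 := by decide
  rw [h2, h3] at h1
  omega

theorem hov_thru_one {S : Finset α} (hS : Arc L S) (hk : S.card = 1) :
    thru (hov L) S = 48 := by
  have h1 := hov_thru_step (L := L) S 1 12 hk (fun x hx => by
    rw [mem_arcExt] at hx
    exact hov_thru_two hL hα hx.2 (card_insert_eq' hk hx.1))
  have h2 := card_arcExt hL hα hS (by omega) (by omega)
  rw [hk] at h2
  have h3 : (6 - 1) * (4 - (1 - 1).choose 2) = 20 := by decide
  rw [h2, h3] at h1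
  omega

theorem hov_thru_zero {S : Finset α} (hk : S.card = 0) : thru (hov L) S = 168 := by
  rw [Finset.card_eq_zero] at hk
  subst hk
  rw [thru, ← card_arcs_six hL hα, ← blk_hov]
  congr 1
  ext b; simp

/-- Two hyperovals sharing four points coincide. -/
theorem hov_eq_of_four {H H₀ : Finset α} (hH : H ∈ hov L) (hH₀ : H₀ ∈ hov L)
    (h : 4 ≤ (H ∩ H₀).card) : H = H₀ := by
  obtain ⟨S, hS, hS4⟩ := Finset.exists_subset_card_eq h
  have hSa : Arc L S := hH.2.mono (hS.trans Finset.inter_subset_left)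
  obtain ⟨K, -, huniq⟩ := arc_completion hL hα hSa hS4
  have h1 := huniq H ⟨hH, hS.trans Finset.inter_subset_left⟩
  have h2 := huniq H₀ ⟨hH₀, hS.trans Finset.inter_subset_right⟩
  exact h1.trans h2.symm

/-- Intersection numbers of the hyperovals with a fixed hyperoval. -/
theorem hov_meet {H₀ : Finset α} (hH₀ : H₀ ∈ hov L) :
    meetN (hov L) H₀ 0 = 10 ∧ meetN (hov L) H₀ 1 = 72 ∧ meetN (hov L) H₀ 2 = 45 ∧
    meetN (hov L) H₀ 3 = 40 ∧ meetN (hov L) H₀ 4 = 0 ∧ meetN (hov L) H₀ 5 = 0 ∧
    meetN (hov L) H₀ 6 = 1 := by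
  have h6 : meetN (hov L) H₀ 6 = 1 := by
    rw [meetN_eq_card {H₀}, Finset.card_singleton]
    intro d
    rw [Finset.mem_singleton]
    constructor
    · rintro ⟨hd, h⟩
      exact hov_eq_of_four hL hα hd hH₀ (by omega)
    · rintro rfl
      exact ⟨hH₀, by rw [Finset.inter_self, hH₀.1]⟩
  have hz : ∀ k, 4 ≤ k → k < 6 → meetN (hov L) H₀ k = 0 := by
    intro k hk1 hk2
    refine meetN_eq_zero fun d hd h => ?_
    have := hov_eq_of_four hL hα hd hH₀ (by omega)
    subst this
    rw [Finset.inter_self, hH₀.1] at h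
    omega
  have h4 := hz 4 (by norm_num) (by norm_num)
  have h5 := hz 5 (by norm_num) (by norm_num)
  have hn : ∀ d ∈ blk (hov L), (d ∩ H₀).card < 7 := by
    intro d _
    have h1 := Finset.card_le_card (Finset.inter_subset_right (s₁ := d) (s₂ := H₀))
    have h2 := hH₀.1
    omega
  have key : ∀ (j l : ℕ), (∀ T : Finset α, Arc L T → T.card = j → thru (hov L) T = l) →
      (6).choose j * l = ∑ k ∈ Finset.range 7, meetN (hov L) H₀ k * k.choose j := by
    intro j l hl
    rw [← sum_blk_fibre (hov L) H₀ 7 hn (fun n => n.choose j), ← sum_thru_eq (hov L) H₀ j,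
      Finset.sum_congr rfl (fun T hT => hl T (hH₀.2.mono (Finset.mem_powersetCard.mp hT).1)
        (Finset.mem_powersetCard.mp hT).2),
      Finset.sum_const, Finset.card_powersetCard, smul_eq_mul, hH₀.1]
  have e0 := key 0 168 (fun T _ hT => hov_thru_zero hL hα hT)
  have e1 := key 1 48 (fun T hTa hT => hov_thru_one hL hα hTa hT)
  have e2 := key 2 12 (fun T hTa hT => hov_thru_two hL hα hTa hT)
  have e3 := key 3 3 (fun T hTa hT => hov_thru_three hL hα hTa hT)
  simp only [Finset.sum_range_succ, Finset.sum_range_zero, h4, h5, h6] at e0 e1 e2 e3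
  norm_num [Nat.choose] at e0 e1 e2 e3
  omega

/-- The hyperovals meeting a fixed hyperoval `H₀` in an even number of points. -/
noncomputable def evenHov (L : Set (Finset α)) (H₀ : Finset α) : Finset (Finset α) :=
  (blk (hov L)).filter fun H => (H ∩ H₀).card = 0 ∨ (H ∩ H₀).card = 2 ∨ (H ∩ H₀).card = 6

omit hL hα in
theorem mem_evenHov {H₀ H : Finset α} : H ∈ evenHov L H₀ ↔
    H ∈ hov L ∧ ((H ∩ H₀).card = 0 ∨ (H ∩ H₀).card = 2 ∨ (H ∩ H₀).card = 6) := by
  rw [evenHov, Finset.mem_filter, mem_blk]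

/-- Exactly 56 hyperovals meet a given hyperoval evenly. -/
theorem card_evenHov {H₀ : Finset α} (hH₀ : H₀ ∈ hov L) : (evenHov L H₀).card = 56 := by
  have hn : ∀ d ∈ blk (hov L), (d ∩ H₀).card < 7 := by
    intro d _
    have h1 := Finset.card_le_card (Finset.inter_subset_right (s₁ := d) (s₂ := H₀))
    have h2 := hH₀.1
    omega
  have h1 := sum_blk_fibre (hov L) H₀ 7 hn
    (fun k => if k = 0 ∨ k = 2 ∨ k = 6 then 1 else 0)
  obtain ⟨m0, -, m2, -, -, -, m6⟩ := hov_meet hL hα hH₀
  rw [evenHov, Finset.card_filter, h1]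
  simp only [Finset.sum_range_succ, Finset.sum_range_zero, m0, m2, m6]
  norm_num

end HovCount

end Cfsg.Agent.Lib.helper10
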