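/-
Uniqueness of the Steiner system S(3, 6, 22): the derived design at a point is a projective
plane of order 4, the blocks missing the point are the 56 hyperovals meeting one of them
evenly, and a bijection of hyperovals extends to an isomorphism of planes.
-/
import Mathlib
import Cfsg.Prelude.Def_Sporadic_a
import Cfsg.Agent.Lib.helper10.Steiner3622
import Cfsg.Agent.Lib.helper10.Plane21
import Cfsg.Agent.Lib.helper10.Hyperoval
import Cfsg.Agent.Lib.helper10.HovCount

set_option autoImplicit false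
set_option linter.unusedSectionVars false

namespace Cfsg.Agent.Lib.helper10

open Finset

section Derived

variable {α : Type*} [Fintype α] [DecidableEq α]

/-- The inclusion of the complement of a point. -/
def ptEmb (x : α) : {y : α // y ≠ x} ↪ α := Function.Embedding.subtype _

theorem ptEmb_apply (x : α) (y : {y : α // y ≠ x}) : ptEmb x y = y.1 := rfl

theorem notMem_map_ptEmb (x : α) (l : Finset {y : α // y ≠ x}) : x ∉ l.map (ptEmb x) := by
  intro h
  obtain ⟨y, -, hy⟩ := Finset.mem_map.mp h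
  exact y.2 hy

/-- The derived system at `x`: blocks through `x` with `x` removed. -/
def der (B : Set (Finset α)) (x : α) : Set (Finset {y : α // y ≠ x}) :=
  {l | insert x (l.map (ptEmb x)) ∈ B}

/-- The residual system at `x`: the blocks missing `x`. -/
def res (B : Set (Finset α)) (x : α) : Set (Finset {y : α // y ≠ x}) :=
  {l | l.map (ptEmb x) ∈ B}

theorem subtype_insert_map (x : α) (l : Finset {y : α // y ≠ x}) :
    (insert x (l.map (ptEmb x))).subtype (· ≠ x) = l := by
  ext y
  rw [Finset.mem_subtype, Finset.mem_insert]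
  constructor
  · rintro (h | h)
    · exact absurd h y.2
    · obtain ⟨z, hz, e⟩ := Finset.mem_map.mp h
      have : z = y := Subtype.ext e
      exact this ▸ hz
  · intro h
    exact Or.inr (Finset.mem_map.mpr ⟨y, h, rfl⟩)

theorem subtype_map_ptEmb (x : α) (l : Finset {y : α // y ≠ x}) :
    (l.map (ptEmb x)).subtype (· ≠ x) = l := by
  ext y
  rw [Finset.mem_subtype]
  constructor
  · intro h
    obtain ⟨z, hz, e⟩ := Finset.mem_map.mp h
    have : z = y := Subtype.ext e
    exact this ▸ hz
  · intro h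
    exact Finset.mem_map.mpr ⟨y, h, rfl⟩

theorem insert_map_subtype {x : α} {b : Finset α} (hx : x ∈ b) :
    insert x ((b.subtype (· ≠ x)).map (ptEmb x)) = b := by
  ext y
  rw [Finset.mem_insert, Finset.mem_map]
  constructor
  · rintro (rfl | ⟨z, hz, rfl⟩)
    · exact hx
    · exact Finset.mem_subtype.mp hz
  · intro hy
    by_cases hyx : y = x
    · exact Or.inl hyx
    · exact Or.inr ⟨⟨y, hyx⟩, Finset.mem_subtype.mpr hy, rfl⟩

theorem map_subtype_of_notMem {x : α} {b : Finset α} (hx : x ∉ b) :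
    (b.subtype (· ≠ x)).map (ptEmb x) = b := by
  ext y
  rw [Finset.mem_map]
  constructor
  · rintro ⟨z, hz, rfl⟩
    exact Finset.mem_subtype.mp hz
  · intro hy
    exact ⟨⟨y, fun h => hx (h ▸ hy)⟩, Finset.mem_subtype.mpr hy, rfl⟩

theorem subtype_mem_der {B : Set (Finset α)} {x : α} {b : Finset α} (hb : b ∈ B) (hx : x ∈ b) :
    b.subtype (· ≠ x) ∈ der B x := by
  show insert x ((b.subtype (· ≠ x)).map (ptEmb x)) ∈ B
  rw [insert_map_subtype hx]
  exact hb

theorem subtype_mem_res {B : Set (Finset α)} {x : α} {b : Finset α} (hb : b ∈ B) (hx : x ∉ b) :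
    b.subtype (· ≠ x) ∈ res B x := by
  show (b.subtype (· ≠ x)).map (ptEmb x) ∈ B
  rw [map_subtype_of_notMem hx]
  exact hb

theorem card_ptCompl (x : α) : Fintype.card {y : α // y ≠ x} = Fintype.card α - 1 := by
  rw [Fintype.card_subtype_compl, Fintype.card_subtype_eq]

/-- The derived system of a Steiner system `S(t + 1, k + 1, v)` is an `S(t, k, v - 1)`. -/
theorem der_steiner {t k : ℕ} {B : Set (Finset α)} (hB : Cfsg.IsSteinerSystem (t + 1) (k + 1) B)
    (x : α) : Cfsg.IsSteinerSystem t k (der B x) := by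
  refine ⟨fun l hl => ?_, fun s hs => ?_⟩
  · have h1 := hB.1 _ hl
    rw [Finset.card_insert_of_notMem (notMem_map_ptEmb x l), Finset.card_map] at h1
    omega
  · have h1 : (insert x (s.map (ptEmb x))).card = t + 1 := by
      rw [Finset.card_insert_of_notMem (notMem_map_ptEmb x s), Finset.card_map, hs]
    obtain ⟨b, ⟨hbB, hsb⟩, huniq⟩ := hB.2 _ h1
    have hxb : x ∈ b := hsb (Finset.mem_insert_self _ _)
    refine ⟨b.subtype (· ≠ x), ⟨subtype_mem_der hbB hxb, ?_⟩, ?_⟩
    · intro y hy
      rw [Finset.mem_subtype]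
      exact hsb (Finset.mem_insert_of_mem (Finset.mem_map_of_mem _ hy))
    · rintro l ⟨hl, hsl⟩
      have h2 := huniq _ ⟨hl, Finset.insert_subset_insert x (Finset.map_subset_map.mpr hsl)⟩
      rw [← h2, subtype_insert_map]

/-! ### The residual blocks of an S(3, 6, 22) -/

variable {B : Set (Finset α)}

theorem res_mem_hov (hB : Cfsg.IsSteinerSystem 3 6 B) {x : α} {H : Finset {y : α // y ≠ x}}
    (hH : H ∈ res B x) : H ∈ hov (der B x) := by
  refine ⟨?_, fun l hl => ?_⟩
  · have h1 := hB.1 _ hH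
    rw [Finset.card_map] at h1
    exact h1
  · have hne : insert x (l.map (ptEmb x)) ≠ H.map (ptEmb x) := by
      intro h
      exact notMem_map_ptEmb x H (h ▸ Finset.mem_insert_self _ _)
    have h1 := s3622_inter_le_two hB hl hH hne
    have h2 : ((l ∩ H).map (ptEmb x)) ⊆ insert x (l.map (ptEmb x)) ∩ H.map (ptEmb x) := by
      rw [Finset.map_inter]
      exact Finset.inter_subset_inter_right (Finset.subset_insert _ _)
    have h3 := Finset.card_le_card h2
    rw [Finset.card_map] at h3
    omega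

theorem res_inter (hB : Cfsg.IsSteinerSystem 3 6 B) (hα : Fintype.card α = 22) {x : α}
    {H H' : Finset {y : α // y ≠ x}} (hH : H ∈ res B x) (hH' : H' ∈ res B x) (hne : H ≠ H') :
    (H ∩ H').card = 0 ∨ (H ∩ H').card = 2 := by
  have h1 := s3622_inter_zero_or_two hB hα hH hH'
    (fun h => hne (Finset.map_injective (ptEmb x) h))
  rw [← Finset.map_inter, Finset.card_map] at h1
  exact h1

theorem card_blk_res (hB : Cfsg.IsSteinerSystem 3 6 B) (hα : Fintype.card α = 22) (x : α) :
    (blk (res B x)).card = 56 := by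
  have h1 : (blk (res B x)).map ⟨fun l => l.map (ptEmb x), Finset.map_injective (ptEmb x)⟩
      = (blk B).filter (fun b => ¬ ({x} ⊆ b)) := by
    ext b
    rw [Finset.mem_map, Finset.mem_filter, mem_blk, Finset.singleton_subset_iff]
    constructor
    · rintro ⟨l, hl, rfl⟩
      have hl' : l ∈ res B x := mem_blk.mp hl
      exact ⟨hl', notMem_map_ptEmb x l⟩
    · rintro ⟨hb, hx⟩
      exact ⟨b.subtype (· ≠ x), mem_blk.mpr (subtype_mem_res hb hx), map_subtype_of_notMem hx⟩
  have h2 := Finset.card_filter_add_card_filter_not (s := blk B) (fun b => {x} ⊆ b)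
  have h3 : thru B {x} = 21 := s3622_thru_one hB hα {x} (Finset.card_singleton x)
  rw [thru] at h3
  rw [← h1, Finset.card_map, h3, s3622_card_blk hB hα] at h2
  omega

/-- The residual blocks are exactly the hyperovals of the derived plane that meet a given
residual block evenly. -/
theorem blk_res_eq_evenHov (hB : Cfsg.IsSteinerSystem 3 6 B) (hα : Fintype.card α = 22) {x : α}
    {H₀ : Finset {y : α // y ≠ x}} (hH₀ : H₀ ∈ res B x) :
    blk (res B x) = evenHov (der B x) H₀ := by
  have hL : Cfsg.IsSteinerSystem 2 5 (der B x) := der_steiner hB x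
  have hP : Fintype.card {y : α // y ≠ x} = 21 := by rw [card_ptCompl, hα]
  refine Finset.eq_of_subset_of_card_le (fun H hH => ?_) ?_
  · rw [mem_blk] at hH
    rw [mem_evenHov]
    refine ⟨res_mem_hov hB hH, ?_⟩
    by_cases hne : H = H₀
    · subst hne
      rw [Finset.inter_self, (res_mem_hov hB hH).1]
      exact Or.inr (Or.inr rfl)
    · rcases res_inter hB hα hH hH₀ hne with h | h
      · exact Or.inl h
      · exact Or.inr (Or.inl h)
  · rw [card_evenHov hL hP (res_mem_hov hB hH₀), card_blk_res hB hα]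

theorem exists_mem_res (hB : Cfsg.IsSteinerSystem 3 6 B) (hα : Fintype.card α = 22) (x : α) :
    ∃ H₀, H₀ ∈ res B x := by
  obtain ⟨H, hH⟩ : (blk (res B x)).Nonempty :=
    Finset.card_pos.mp (by rw [card_blk_res hB hα]; norm_num)
  exact ⟨H, mem_blk.mp hH⟩

theorem ncard_eq_card_blk (B : Set (Finset α)) : B.ncard = (blk B).card := by
  have : B = ↑(blk B) := by
    ext b
    rw [Finset.mem_coe, mem_blk]
  conv_lhs => rw [this]
  rw [Set.ncard_coe_finset]

end Derived

section Iso

variable {α : Type*} [Fintype α] [DecidableEq α] {β : Type*} [Fintype β] [DecidableEq β]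

/-- A line-preserving bijection of projective planes of order 4 is onto the lines. -/
theorem plane_iso_surj {L : Set (Finset α)} {L' : Set (Finset β)}
    (hL : Cfsg.IsSteinerSystem 2 5 L) (hL' : Cfsg.IsSteinerSystem 2 5 L') (e : α ≃ β)
    (he : ∀ l ∈ L, l.image e ∈ L') {l' : Finset β} (hl' : l' ∈ L') :
    ∃ l ∈ L, l.image e = l' := by
  obtain ⟨y1, hy1, y2, hy2, h12⟩ := Finset.one_lt_card.mp (by rw [hL'.1 l' hl']; norm_num)
  obtain ⟨l, hl, hx1, hx2⟩ := p21_exists_line hL (fun h => h12 (e.symm.injective h))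
  refine ⟨l, hl, ?_⟩
  refine p21_line_unique hL' (he l hl) hl' h12 ?_ ?_ hy1 hy2
  · exact Finset.mem_image.mpr ⟨_, hx1, Equiv.apply_symm_apply e y1⟩
  · exact Finset.mem_image.mpr ⟨_, hx2, Equiv.apply_symm_apply e y2⟩

theorem image_mem_hov {L : Set (Finset α)} {L' : Set (Finset β)}
    (hL : Cfsg.IsSteinerSystem 2 5 L) (hL' : Cfsg.IsSteinerSystem 2 5 L') (e : α ≃ β)
    (he : ∀ l ∈ L, l.image e ∈ L') {H : Finset α} (hH : H ∈ hov L) : H.image e ∈ hov L' := by
  refine ⟨by rw [Finset.card_image_of_injective _ e.injective]; exact hH.1, fun l' hl' => ?_⟩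
  obtain ⟨l, hl, rfl⟩ := plane_iso_surj hL hL' e he hl'
  rw [← Finset.image_inter _ _ e.injective, Finset.card_image_of_injective _ e.injective]
  exact hH.2 l hl

theorem image_mem_evenHov {L : Set (Finset α)} {L' : Set (Finset β)}
    (hL : Cfsg.IsSteinerSystem 2 5 L) (hL' : Cfsg.IsSteinerSystem 2 5 L') (e : α ≃ β)
    (he : ∀ l ∈ L, l.image e ∈ L') {H₀ H : Finset α} (hH : H ∈ evenHov L H₀) :
    H.image e ∈ evenHov L' (H₀.image e) := by
  rw [mem_evenHov] at hH ⊢
  refine ⟨image_mem_hov hL hL' e he hH.1, ?_⟩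
  rw [← Finset.image_inter _ _ e.injective, Finset.card_image_of_injective _ e.injective]
  exact hH.2

/-- Extension of a bijection of the complements of two points to the whole types. -/
def extPt (x : α) (x' : β) (e : {y : α // y ≠ x} ≃ {y : β // y ≠ x'}) : α ≃ β :=
  (Equiv.optionSubtypeNe x).symm.trans ((Equiv.optionCongr e).trans (Equiv.optionSubtypeNe x'))

theorem extPt_self (x : α) (x' : β) (e : {y : α // y ≠ x} ≃ {y : β // y ≠ x'}) :
    extPt x x' e x = x' := by
  simp [extPt]

theorem extPt_coe (x : α) (x' : β) (e : {y : α // y ≠ x} ≃ {y : β // y ≠ x'})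
    (y : {y : α // y ≠ x}) : extPt x x' e y.1 = (e y).1 := by
  simp [extPt, Equiv.optionSubtypeNe_symm_of_ne y.2]

theorem image_extPt_map (x : α) (x' : β) (e : {y : α // y ≠ x} ≃ {y : β // y ≠ x'})
    (l : Finset {y : α // y ≠ x}) :
    (l.map (ptEmb x)).image (extPt x x' e) = (l.image e).map (ptEmb x') := by
  ext z
  simp only [Finset.mem_image, Finset.mem_map]
  constructor
  · rintro ⟨_, ⟨y, hy, rfl⟩, rfl⟩
    exact ⟨e y, ⟨y, hy, rfl⟩, (extPt_coe x x' e y).symm⟩
  · rintro ⟨_, ⟨y, hy, rfl⟩, rfl⟩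
    exact ⟨y.1, ⟨y, hy, rfl⟩, extPt_coe x x' e y⟩

/-- Uniqueness of the Steiner system S(3, 6, 22). -/
theorem s3622_unique (hα : Fintype.card α = 22) (hβ : Fintype.card β = 22)
    {B : Set (Finset α)} {B' : Set (Finset β)} (hB : Cfsg.IsSteinerSystem 3 6 B)
    (hB' : Cfsg.IsSteinerSystem 3 6 B') : Cfsg.SetSystemIso B B' := by
  obtain ⟨x⟩ : Nonempty α := Fintype.card_pos_iff.mp (by rw [hα]; norm_num)
  obtain ⟨x'⟩ : Nonempty β := Fintype.card_pos_iff.mp (by rw [hβ]; norm_num)
  have hL : Cfsg.IsSteinerSystem 2 5 (der B x) := der_steiner hB x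
  have hL' : Cfsg.IsSteinerSystem 2 5 (der B' x') := der_steiner hB' x'
  have hP : Fintype.card {y : α // y ≠ x} = 21 := by rw [card_ptCompl, hα]
  have hP' : Fintype.card {y : β // y ≠ x'} = 21 := by rw [card_ptCompl, hβ]
  obtain ⟨H₀, hH₀⟩ := exists_mem_res hB hα x
  obtain ⟨H₀', hH₀'⟩ := exists_mem_res hB' hβ x'
  have hh := res_mem_hov hB hH₀
  have hh' := res_mem_hov hB' hH₀'
  obtain ⟨σ, hσ⟩ := exists_equiv_of_card (hP.trans hP'.symm) H₀ H₀' (hh.1.trans hh'.1.symm)
  obtain ⟨e, he1, he2, -⟩ := hov_extension hL hP hh.1 hh.2 hL' hP' hh'.1 hh'.2 σ hσ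
  have himg : H₀.image e = H₀' := by
    refine Finset.eq_of_subset_of_card_le ?_ ?_
    · intro y hy
      obtain ⟨a, ha, rfl⟩ := Finset.mem_image.mp hy
      rw [he1 a ha]
      exact (hσ a).mp ha
    · rw [Finset.card_image_of_injective _ e.injective, hh.1, hh'.1]
  have hsub : (fun b => b.image (extPt x x' e)) '' B ⊆ B' := by
    rintro _ ⟨b, hb, rfl⟩
    by_cases hx : x ∈ b
    · have h1 := he2 _ (subtype_mem_der hb hx)
      have h2 : b.image (extPt x x' e)
          = insert x' (((b.subtype (· ≠ x)).image e).map (ptEmb x')) := by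
        conv_lhs => rw [← insert_map_subtype hx]
        rw [Finset.image_insert, extPt_self, image_extPt_map]
      show b.image (extPt x x' e) ∈ B'
      rw [h2]
      exact h1
    · have h0 : b.subtype (· ≠ x) ∈ evenHov (der B x) H₀ := by
        rw [← blk_res_eq_evenHov hB hα hH₀, mem_blk]
        exact subtype_mem_res hb hx
      have h1 := image_mem_evenHov hL hL' e he2 h0
      rw [himg, ← blk_res_eq_evenHov hB' hβ hH₀', mem_blk] at h1
      have h2 : b.image (extPt x x' e) = ((b.subtype (· ≠ x)).image e).map (ptEmb x') := by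
        conv_lhs => rw [← map_subtype_of_notMem hx]
        rw [image_extPt_map]
      show b.image (extPt x x' e) ∈ B'
      rw [h2]
      exact h1
  refine ⟨extPt x x' e, ?_⟩
  refine Set.eq_of_subset_of_ncard_le hsub ?_ (Set.toFinite _)
  rw [Set.ncard_image_of_injective _ (Finset.image_injective (extPt x x' e).injective),
    ncard_eq_card_blk, ncard_eq_card_blk, s3622_card_blk hB hα, s3622_card_blk hB' hβ]

end Iso

end Cfsg.Agent.Lib.helper10
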