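/-
Counting in the Steiner system S(4, 7, 23): numbers of blocks through an `i`-set
(253, 77, 21, 5, 1), two distinct blocks meet in 1 or 3 points; and the relation between
the blocks of the residual system at a point and the blocks of the system.
-/
import Mathlib
import Cfsg.Prelude.Def_Sporadic_a
import Cfsg.Agent.Lib.helper10.Steiner3622
import Cfsg.Agent.Lib.helper10.S3622Unique

set_option autoImplicit false
set_option linter.unusedSectionVars false

namespace Cfsg.Agent.Lib.helper10

open Finset

section Steiner4723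

variable {α : Type*} [Fintype α] [DecidableEq α] {B : Set (Finset α)}

/-- Blocks of the residual system at `x` through a set, in terms of the blocks of the system. -/
theorem thru_res (B : Set (Finset α)) (x : α) (T : Finset {y : α // y ≠ x}) :
    thru (res B x) T + thru B (insert x (T.map (ptEmb x))) = thru B (T.map (ptEmb x)) := by
  have h1 : ((blk (res B x)).filter (fun l => T ⊆ l)).map
      ⟨fun l => l.map (ptEmb x), Finset.map_injective (ptEmb x)⟩
      = ((blk B).filter (fun b => T.map (ptEmb x) ⊆ b)).filter (fun b => ¬ (x ∈ b)) := by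
    ext b
    rw [Finset.mem_map, Finset.mem_filter, Finset.mem_filter, mem_blk]
    constructor
    · rintro ⟨l, hl, rfl⟩
      rw [Finset.mem_filter, mem_blk] at hl
      have hl' : l ∈ res B x := hl.1
      exact ⟨⟨hl', Finset.map_subset_map.mpr hl.2⟩, notMem_map_ptEmb x l⟩
    · rintro ⟨⟨hb, hT⟩, hx⟩
      refine ⟨b.subtype (· ≠ x), ?_, map_subtype_of_notMem hx⟩
      rw [Finset.mem_filter, mem_blk]
      refine ⟨subtype_mem_res hb hx, fun y hy => ?_⟩
      rw [Finset.mem_subtype]
      exact hT (Finset.mem_map_of_mem _ hy)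
  have h2 : ((blk B).filter (fun b => T.map (ptEmb x) ⊆ b)).filter (fun b => x ∈ b)
      = (blk B).filter (fun b => insert x (T.map (ptEmb x)) ⊆ b) := by
    ext b
    rw [Finset.mem_filter, Finset.mem_filter, Finset.mem_filter, Finset.insert_subset_iff]
    tauto
  have h3 := Finset.card_filter_add_card_filter_not
    (s := (blk B).filter (fun b => T.map (ptEmb x) ⊆ b)) (fun b => x ∈ b)
  rw [thru, thru, thru, ← h2, ← h3, ← h1, Finset.card_map]
  omega

/-! ### S(4, 7, 23) -/

theorem s4723_thru_four (hB : Cfsg.IsSteinerSystem 4 7 B) (s : Finset α) (hs : s.card = 4) :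
    thru B s = 1 := thru_top hB s hs

theorem s4723_thru_three (hB : Cfsg.IsSteinerSystem 4 7 B) (hα : Fintype.card α = 23)
    (s : Finset α) (hs : s.card = 3) : thru B s = 5 := by
  have := thru_step hB s 1 (fun x hx => s4723_thru_four hB _ (card_insert_eq' hs hx))
  rw [hα, hs] at this
  omega

theorem s4723_thru_two (hB : Cfsg.IsSteinerSystem 4 7 B) (hα : Fintype.card α = 23)
    (s : Finset α) (hs : s.card = 2) : thru B s = 21 := by
  have := thru_step hB s 5 (fun x hx => s4723_thru_three hB hα _ (card_insert_eq' hs hx))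
  rw [hα, hs] at this
  omega

theorem s4723_thru_one (hB : Cfsg.IsSteinerSystem 4 7 B) (hα : Fintype.card α = 23)
    (s : Finset α) (hs : s.card = 1) : thru B s = 77 := by
  have := thru_step hB s 21 (fun x hx => s4723_thru_two hB hα _ (card_insert_eq' hs hx))
  rw [hα, hs] at this
  omega

theorem s4723_thru_zero (hB : Cfsg.IsSteinerSystem 4 7 B) (hα : Fintype.card α = 23)
    (s : Finset α) (hs : s.card = 0) : thru B s = 253 := by
  have := thru_step hB s 77 (fun x hx => s4723_thru_one hB hα _ (card_insert_eq' hs hx))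
  rw [hα, hs] at this
  omega

/-- An S(4, 7, 23) has 253 blocks. -/
theorem s4723_card_blk (hB : Cfsg.IsSteinerSystem 4 7 B) (hα : Fintype.card α = 23) :
    (blk B).card = 253 := by
  have := s4723_thru_zero hB hα ∅ rfl
  rw [thru] at this
  rw [← this]
  congr 1
  ext b; simp

/-- Two distinct blocks of an S(4, 7, 23) share at most three points. -/
theorem s4723_inter_le_three (hB : Cfsg.IsSteinerSystem 4 7 B) {b c : Finset α} (hb : b ∈ B)
    (hc : c ∈ B) (hne : b ≠ c) : (b ∩ c).card ≤ 3 := by
  by_contra hcon
  obtain ⟨s, hs, hs4⟩ := Finset.exists_subset_card_eq (show 4 ≤ (b ∩ c).card by omega)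
  obtain ⟨d, -, huniq⟩ := hB.2 s hs4
  have h1 := huniq b ⟨hb, hs.trans Finset.inter_subset_left⟩
  have h2 := huniq c ⟨hc, hs.trans Finset.inter_subset_right⟩
  exact hne (h1.trans h2.symm)

/-- Intersection numbers of the blocks of an S(4, 7, 23) with a fixed block. -/
theorem s4723_meet_block (hB : Cfsg.IsSteinerSystem 4 7 B) (hα : Fintype.card α = 23)
    {b : Finset α} (hb : b ∈ B) :
    meetN B b 0 = 0 ∧ meetN B b 1 = 112 ∧ meetN B b 2 = 0 ∧ meetN B b 3 = 140 := by
  have hb7 := hB.1 b hb
  have hle : ∀ d ∈ B, d ≠ b → (d ∩ b).card ≤ 3 :=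
    fun d hd hne => s4723_inter_le_three hB hd hb hne
  have h7 : meetN B b 7 = 1 := by
    rw [meetN_eq_card {b}, Finset.card_singleton]
    intro d
    rw [Finset.mem_singleton]
    constructor
    · rintro ⟨hd, h⟩
      by_contra hne
      have := hle d hd hne
      omega
    · rintro rfl
      exact ⟨hb, by rw [Finset.inter_self, hb7]⟩
  have hz : ∀ k, 3 < k → k < 7 → meetN B b k = 0 := by
    intro k hk1 hk2
    refine meetN_eq_zero fun d hd h => ?_
    by_cases hne : d = b
    · subst hne
      rw [Finset.inter_self, hb7] at h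
      omega
    · have := hle d hd hne
      omega
  have h4 := hz 4 (by norm_num) (by norm_num)
  have h5 := hz 5 (by norm_num) (by norm_num)
  have h6 := hz 6 (by norm_num) (by norm_num)
  have hn : ∀ d ∈ blk B, (d ∩ b).card < 8 := by
    intro d _
    have h1 := Finset.card_le_card (Finset.inter_subset_right (s₁ := d) (s₂ := b))
    omega
  have key : ∀ (j l : ℕ), (∀ T : Finset α, T.card = j → thru B T = l) →
      (7).choose j * l = ∑ k ∈ Finset.range 8, meetN B b k * k.choose j := by
    intro j l hl
    rw [← sum_blk_fibre B b 8 hn (fun n => n.choose j), ← sum_thru_eq B b j,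
      Finset.sum_congr rfl (fun T hT => hl T (Finset.mem_powersetCard.mp hT).2),
      Finset.sum_const, Finset.card_powersetCard, smul_eq_mul, hb7]
  have e0 := key 0 253 (s4723_thru_zero hB hα)
  have e1 := key 1 77 (s4723_thru_one hB hα)
  have e2 := key 2 21 (s4723_thru_two hB hα)
  have e3 := key 3 5 (s4723_thru_three hB hα)
  simp only [Finset.sum_range_succ, Finset.sum_range_zero, h4, h5, h6, h7] at e0 e1 e2 e3
  norm_num [Nat.choose] at e0 e1 e2 e3
  omega

/-- Two distinct blocks of an S(4, 7, 23) meet in 1 or 3 points. -/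
theorem s4723_inter_one_or_three (hB : Cfsg.IsSteinerSystem 4 7 B) (hα : Fintype.card α = 23)
    {b c : Finset α} (hb : b ∈ B) (hc : c ∈ B) (hne : b ≠ c) :
    (b ∩ c).card = 1 ∨ (b ∩ c).card = 3 := by
  obtain ⟨h0, -, h2, -⟩ := s4723_meet_block hB hα hc
  rw [meetN, Finset.card_eq_zero, Finset.filter_eq_empty_iff] at h0 h2
  have h0' := h0 (mem_blk.mpr hb)
  have h2' := h2 (mem_blk.mpr hb)
  have h3 := s4723_inter_le_three hB hb hc hne
  omega

/-- The residual system of an S(4, 7, 23) at a point has 176 blocks. -/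
theorem s4723_card_blk_res (hB : Cfsg.IsSteinerSystem 4 7 B) (hα : Fintype.card α = 23)
    (x : α) : (blk (res B x)).card = 176 := by
  have h1 := thru_res B x ∅
  rw [Finset.map_empty] at h1
  have h2 : thru B (insert x ∅) = 77 := s4723_thru_one hB hα _ (by simp)
  have h3 : thru B ∅ = 253 := s4723_thru_zero hB hα ∅ rfl
  have h4 : thru (res B x) ∅ = (blk (res B x)).card := by
    rw [thru]
    congr 1
    ext b; simp
  omega

end Steiner4723

end Cfsg.Agent.Lib.helper10
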