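/-
Heptads of a Steiner system S(3, 6, 22): the 7-sets meeting every block in 1 or 3 points.
Through a point they correspond to the hyperovals of the derived plane that are not residual
blocks; there are 352 of them, and exactly 176 meet a given one in an odd number of points.
-/
import Mathlib
import Cfsg.Prelude.Def_Sporadic_a
import Cfsg.Agent.Lib.helper10.Steiner3622
import Cfsg.Agent.Lib.helper10.Plane21
import Cfsg.Agent.Lib.helper10.Hyperoval
import Cfsg.Agent.Lib.helper10.HovCount
import Cfsg.Agent.Lib.helper10.S3622Unique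
import Cfsg.Agent.Lib.helper10.Steiner4723

set_option autoImplicit false
set_option linter.unusedSectionVars false

namespace Cfsg.Agent.Lib.helper10

open Finset

section Heptad

variable {α : Type*} [Fintype α] [DecidableEq α]

theorem map_subtype_ne (x : α) (b : Finset α) :
    (b.subtype (· ≠ x)).map (ptEmb x) = b.erase x := by
  ext y
  rw [Finset.mem_map, Finset.mem_erase]
  constructor
  · rintro ⟨z, hz, rfl⟩
    exact ⟨z.2, Finset.mem_subtype.mp hz⟩
  · rintro ⟨hyx, hy⟩
    exact ⟨⟨y, hyx⟩, Finset.mem_subtype.mpr hy, rfl⟩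

theorem card_subtype_ne {x : α} {b : Finset α} (hx : x ∈ b) :
    (b.subtype (· ≠ x)).card = b.card - 1 := by
  rw [← Finset.card_map (ptEmb x), map_subtype_ne, Finset.card_erase_of_mem hx]

theorem insert_map_inter (x : α) (A A' : Finset {y : α // y ≠ x}) :
    insert x (A.map (ptEmb x)) ∩ insert x (A'.map (ptEmb x))
      = insert x ((A ∩ A').map (ptEmb x)) := by
  rw [Finset.map_inter, Finset.insert_inter_distrib]

theorem map_inter_insert_map (x : α) (A A' : Finset {y : α // y ≠ x}) :
    A.map (ptEmb x) ∩ insert x (A'.map (ptEmb x)) = (A ∩ A').map (ptEmb x) := by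
  rw [Finset.inter_insert_of_notMem (notMem_map_ptEmb x A), Finset.map_inter]

theorem card_insert_map (x : α) (A : Finset {y : α // y ≠ x}) :
    (insert x (A.map (ptEmb x))).card = A.card + 1 := by
  rw [Finset.card_insert_of_notMem (notMem_map_ptEmb x A), Finset.card_map]

theorem insert_map_injective (x : α) :
    Function.Injective (fun A : Finset {y : α // y ≠ x} => insert x (A.map (ptEmb x))) := by
  intro A A' h
  have h' : insert x (A.map (ptEmb x)) = insert x (A'.map (ptEmb x)) := h
  rw [← subtype_insert_map x A, h', subtype_insert_map]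

theorem arc_of_card_le_two {L : Set (Finset α)} {S : Finset α} (h : S.card ≤ 2) : Arc L S :=
  fun _ _ => (Finset.card_le_card Finset.inter_subset_right).trans h

/-- Heptads of a set system: the 7-sets meeting every block in 1 or 3 points. -/
def hept (D : Set (Finset α)) : Set (Finset α) :=
  {Y | Y.card = 7 ∧ ∀ b ∈ D, (b ∩ Y).card = 1 ∨ (b ∩ Y).card = 3}

theorem mem_hept {D : Set (Finset α)} {Y : Finset α} :
    Y ∈ hept D ↔ Y.card = 7 ∧ ∀ b ∈ D, (b ∩ Y).card = 1 ∨ (b ∩ Y).card = 3 := Iff.rfl

variable {D : Set (Finset α)}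

/-- A heptad through `x` gives a hyperoval of the derived plane at `x` which is not a residual
block. -/
theorem hept_subtype {Y : Finset α} (hY : Y ∈ hept D) {x : α}
    (hx : x ∈ Y) : Y.subtype (· ≠ x) ∈ hov (der D x) ∧ Y.subtype (· ≠ x) ∉ res D x := by
  have hYe := insert_map_subtype hx
  refine ⟨⟨?_, fun _ hl => ?_⟩, fun hres => ?_⟩
  · rw [card_subtype_ne hx, hY.1]
  · have h1 := hY.2 _ hl
    rw [← hYe, insert_map_inter, card_insert_map] at h1
    omega
  · have h1 := hY.2 _ hres
    have h2 : (Y.subtype (· ≠ x)).map (ptEmb x) ∩ Y = (Y.subtype (· ≠ x)).map (ptEmb x) := by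
      rw [Finset.inter_eq_left, map_subtype_ne]
      exact Finset.erase_subset _ _
    rw [h2, Finset.card_map, card_subtype_ne hx, hY.1] at h1
    omega

/-- A hyperoval of the derived plane at `x` which is not a residual block gives a heptad
through `x`. -/
theorem insert_mem_hept (hD : Cfsg.IsSteinerSystem 3 6 D) (hα : Fintype.card α = 22) {x : α}
    {O : Finset {y : α // y ≠ x}} (hO : O ∈ hov (der D x)) (hOres : O ∉ res D x) :
    insert x (O.map (ptEmb x)) ∈ hept D := by
  have hL : Cfsg.IsSteinerSystem 2 5 (der D x) := der_steiner hD x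
  have hP : Fintype.card {y : α // y ≠ x} = 21 := by rw [card_ptCompl, hα]
  refine ⟨by rw [card_insert_map, hO.1], fun b hb => ?_⟩
  by_cases hx : x ∈ b
  · have hl := subtype_mem_der hb hx
    have hbe := insert_map_subtype hx
    rw [← hbe, insert_map_inter, card_insert_map]
    by_cases hne : ((b.subtype (· ≠ x)) ∩ O).Nonempty
    · have := hov_inter hL hP hO.1 hO.2 hl hne
      omega
    · rw [Finset.not_nonempty_iff_eq_empty] at hne
      rw [hne, Finset.card_empty]
      exact Or.inl rfl
  · have hH := subtype_mem_res hb hx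
    have hbe := map_subtype_of_notMem hx
    rw [← hbe, map_inter_insert_map, Finset.card_map]
    have h1 : O ∉ evenHov (der D x) (b.subtype (· ≠ x)) := by
      rw [← blk_res_eq_evenHov hD hα hH, mem_blk]
      exact hOres
    rw [mem_evenHov, not_and] at h1
    have h2 := h1 hO
    have hne : O ≠ b.subtype (· ≠ x) := fun h => hOres (h ▸ hH)
    have h3 : (O ∩ b.subtype (· ≠ x)).card < 4 := by
      by_contra hcon
      exact hne (hov_eq_of_four hL hP hO (res_mem_hov hD hH) (by omega))
    rw [Finset.inter_comm] at h2 h3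
    omega

/-- Heptads through a set containing `x`, in terms of the derived plane at `x`. -/
theorem thru_hept (hD : Cfsg.IsSteinerSystem 3 6 D) (hα : Fintype.card α = 22) {x : α}
    {T : Finset α} (hx : x ∈ T) :
    thru (hept D) T + thru (res D x) (T.subtype (· ≠ x))
      = thru (hov (der D x)) (T.subtype (· ≠ x)) := by
  classical
  have h1 : ((blk (hov (der D x))).filter
        (fun O => T.subtype (· ≠ x) ⊆ O ∧ O ∉ res D x)).map
        ⟨fun O => insert x (O.map (ptEmb x)), insert_map_injective x⟩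
      = (blk (hept D)).filter (fun Y => T ⊆ Y) := by
    ext Y
    rw [Finset.mem_map, Finset.mem_filter, mem_blk]
    constructor
    · rintro ⟨O, hO, rfl⟩
      rw [Finset.mem_filter, mem_blk] at hO
      refine ⟨insert_mem_hept hD hα hO.1 hO.2.2, fun a ha => ?_⟩
      show a ∈ insert x (O.map (ptEmb x))
      rw [Finset.mem_insert]
      by_cases hax : a = x
      · exact Or.inl hax
      · refine Or.inr (Finset.mem_map.mpr ⟨⟨a, hax⟩, hO.2.1 ?_, rfl⟩)
        rw [Finset.mem_subtype]
        exact ha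
    · rintro ⟨hY, hTY⟩
      have hxY : x ∈ Y := hTY hx
      obtain ⟨h2, h3⟩ := hept_subtype hY hxY
      refine ⟨Y.subtype (· ≠ x), ?_, insert_map_subtype hxY⟩
      rw [Finset.mem_filter, mem_blk]
      refine ⟨h2, fun a ha => ?_, h3⟩
      rw [Finset.mem_subtype] at ha ⊢
      exact hTY ha
  have h2 : (blk (hov (der D x))).filter
        (fun O => T.subtype (· ≠ x) ⊆ O ∧ ¬ (O ∉ res D x))
      = (blk (res D x)).filter (fun O => T.subtype (· ≠ x) ⊆ O) := by
    ext O
    rw [Finset.mem_filter, Finset.mem_filter, mem_blk, mem_blk, not_not]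
    constructor
    · rintro ⟨-, h, h'⟩
      exact ⟨h', h⟩
    · rintro ⟨h', h⟩
      exact ⟨res_mem_hov hD h', h, h'⟩
  have h3 := Finset.card_filter_add_card_filter_not
    (s := (blk (hov (der D x))).filter (fun O => T.subtype (· ≠ x) ⊆ O))
    (fun O => O ∉ res D x)
  rw [Finset.filter_filter, Finset.filter_filter, h2] at h3
  rw [thru, thru, thru, ← h1, Finset.card_map]
  exact h3

/-- Residual blocks of an S(3, 6, 22) through a set of at most two points. -/
theorem s3622_thru_res (hD : Cfsg.IsSteinerSystem 3 6 D) (hα : Fintype.card α = 22) (x : α)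
    (T' : Finset {y : α // y ≠ x}) :
    (T'.card = 0 → thru (res D x) T' = 56) ∧ (T'.card = 1 → thru (res D x) T' = 16) ∧
      (T'.card = 2 → thru (res D x) T' = 4) := by
  have h1 := thru_res D x T'
  have hc1 : (T'.map (ptEmb x)).card = T'.card := Finset.card_map _
  have hc2 : (insert x (T'.map (ptEmb x))).card = T'.card + 1 := card_insert_map x T'
  refine ⟨fun h => ?_, fun h => ?_, fun h => ?_⟩
  · have := s3622_thru_zero hD hα _ (hc1.trans h)
    have := s3622_thru_one hD hα _ (by rw [hc2, h])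
    omega
  · have := s3622_thru_one hD hα _ (hc1.trans h)
    have := s3622_thru_two hD hα _ (by rw [hc2, h])
    omega
  · have := s3622_thru_two hD hα _ (hc1.trans h)
    have := s3622_thru_three hD _ (by rw [hc2, h])
    omega

/-- The numbers of heptads through one, two or three points: 112, 32, 8. -/
theorem hept_thru_small (hD : Cfsg.IsSteinerSystem 3 6 D) (hα : Fintype.card α = 22)
    (T : Finset α) :
    (T.card = 1 → thru (hept D) T = 112) ∧ (T.card = 2 → thru (hept D) T = 32) ∧
      (T.card = 3 → thru (hept D) T = 8) := by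
  have key : ∀ j, 1 ≤ j → T.card = j → ∃ x, x ∈ T ∧ (T.subtype (· ≠ x)).card = j - 1 := by
    intro j hj hT
    obtain ⟨x, hx⟩ := Finset.card_pos.mp (by omega : 0 < T.card)
    exact ⟨x, hx, by rw [card_subtype_ne hx, hT]⟩
  refine ⟨fun h => ?_, fun h => ?_, fun h => ?_⟩
  · obtain ⟨x, hx, hc⟩ := key 1 le_rfl h
    have hL : Cfsg.IsSteinerSystem 2 5 (der D x) := der_steiner hD x
    have hP : Fintype.card {y : α // y ≠ x} = 21 := by rw [card_ptCompl, hα]
    have h1 := thru_hept hD hα hx
    rw [(s3622_thru_res hD hα x _).1 hc, hov_thru_zero hL hP hc] at h1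
    omega
  · obtain ⟨x, hx, hc⟩ := key 2 (by norm_num) h
    have hL : Cfsg.IsSteinerSystem 2 5 (der D x) := der_steiner hD x
    have hP : Fintype.card {y : α // y ≠ x} = 21 := by rw [card_ptCompl, hα]
    have h1 := thru_hept hD hα hx
    rw [(s3622_thru_res hD hα x _).2.1 hc,
      hov_thru_one hL hP (arc_of_card_le_two (by omega)) hc] at h1
    omega
  · obtain ⟨x, hx, hc⟩ := key 3 (by norm_num) h
    have hL : Cfsg.IsSteinerSystem 2 5 (der D x) := der_steiner hD x
    have hP : Fintype.card {y : α // y ≠ x} = 21 := by rw [card_ptCompl, hα]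
    have h1 := thru_hept hD hα hx
    rw [(s3622_thru_res hD hα x _).2.2 hc,
      hov_thru_two hL hP (arc_of_card_le_two (by omega)) hc] at h1
    omega

/-- Exactly two heptads contain a given 4-subset of a heptad. -/
theorem hept_thru_four (hD : Cfsg.IsSteinerSystem 3 6 D) (hα : Fintype.card α = 22)
    {Y₀ : Finset α} (hY₀ : Y₀ ∈ hept D) {T : Finset α} (hTY : T ⊆ Y₀) (hT : T.card = 4) :
    thru (hept D) T = 2 := by
  obtain ⟨x, hx⟩ := Finset.card_pos.mp (by omega : 0 < T.card)
  have hc : (T.subtype (· ≠ x)).card = 3 := by rw [card_subtype_ne hx, hT]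
  have hL : Cfsg.IsSteinerSystem 2 5 (der D x) := der_steiner hD x
  have hP : Fintype.card {y : α // y ≠ x} = 21 := by rw [card_ptCompl, hα]
  have harc : Arc (der D x) (T.subtype (· ≠ x)) := by
    refine (hept_subtype hY₀ (hTY hx)).1.2.mono fun a ha => ?_
    rw [Finset.mem_subtype] at ha ⊢
    exact hTY ha
  have h1 := thru_hept hD hα hx
  rw [hov_thru_three hL hP harc hc] at h1
  have h2 := thru_res D x (T.subtype (· ≠ x))
  rw [insert_map_subtype hx, s3622_thru_three hD ((T.subtype (· ≠ x)).map (ptEmb x))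
    (by rw [Finset.card_map, hc])] at h2
  have h3 : thru D T = 0 := by
    rw [thru, Finset.card_eq_zero, Finset.filter_eq_empty_iff]
    intro b hb hTb
    have h4 := hY₀.2 b (mem_blk.mp hb)
    have h5 : T ⊆ b ∩ Y₀ := Finset.subset_inter hTb hTY
    have h6 := Finset.card_le_card h5
    omega
  omega

/-- There are 352 heptads. -/
theorem hept_card (hD : Cfsg.IsSteinerSystem 3 6 D) (hα : Fintype.card α = 22) :
    (blk (hept D)).card = 352 := by
  have h1 := sum_thru_eq (hept D) Finset.univ 1
  have h2 : ∀ T ∈ (Finset.univ : Finset α).powersetCard 1, thru (hept D) T = 112 := fun T hT =>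
    (hept_thru_small hD hα T).1 (Finset.mem_powersetCard.mp hT).2
  have h3 : ∀ b ∈ blk (hept D), ((b ∩ Finset.univ).card).choose 1 = 7 := by
    intro b hb
    rw [Finset.inter_univ, (mem_blk.mp hb).1]
    rfl
  rw [Finset.sum_congr rfl h2, Finset.sum_congr rfl h3, Finset.sum_const, Finset.sum_const,
    Finset.card_powersetCard, Finset.card_univ, hα, smul_eq_mul, smul_eq_mul] at h1
  norm_num [Nat.choose] at h1
  omega

theorem subtype_inter_eq (x : α) (Y Y₀ : Finset α) :
    Y.subtype (· ≠ x) ∩ Y₀.subtype (· ≠ x) = (Y ∩ Y₀).subtype (· ≠ x) := by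
  ext y
  simp only [Finset.mem_inter, Finset.mem_subtype]

/-- Two heptads sharing five points coincide. -/
theorem hept_eq_of_five (hD : Cfsg.IsSteinerSystem 3 6 D) (hα : Fintype.card α = 22)
    {Y Y₀ : Finset α} (hY : Y ∈ hept D) (hY₀ : Y₀ ∈ hept D) (h : 5 ≤ (Y ∩ Y₀).card) :
    Y = Y₀ := by
  obtain ⟨x, hx⟩ := Finset.card_pos.mp (by omega : 0 < (Y ∩ Y₀).card)
  have hx' := Finset.mem_inter.mp hx
  have hL : Cfsg.IsSteinerSystem 2 5 (der D x) := der_steiner hD x
  have hP : Fintype.card {y : α // y ≠ x} = 21 := by rw [card_ptCompl, hα]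
  have h1 : Y.subtype (· ≠ x) = Y₀.subtype (· ≠ x) := by
    refine hov_eq_of_four hL hP (hept_subtype hY hx'.1).1 (hept_subtype hY₀ hx'.2).1 ?_
    rw [subtype_inter_eq, card_subtype_ne hx]
    omega
  rw [← insert_map_subtype hx'.1, h1, insert_map_subtype hx'.2]

/-- Intersection numbers of the heptads with a fixed heptad. -/
theorem hept_meet (hD : Cfsg.IsSteinerSystem 3 6 D) (hα : Fintype.card α = 22)
    {Y₀ : Finset α} (hY₀ : Y₀ ∈ hept D) :
    meetN (hept D) Y₀ 0 = 15 ∧ meetN (hept D) Y₀ 1 = 70 ∧ meetN (hept D) Y₀ 2 = 126 ∧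
    meetN (hept D) Y₀ 3 = 105 ∧ meetN (hept D) Y₀ 4 = 35 ∧ meetN (hept D) Y₀ 5 = 0 ∧
    meetN (hept D) Y₀ 6 = 0 ∧ meetN (hept D) Y₀ 7 = 1 := by
  have h7 : meetN (hept D) Y₀ 7 = 1 := by
    rw [meetN_eq_card {Y₀}, Finset.card_singleton]
    intro d
    rw [Finset.mem_singleton]
    constructor
    · rintro ⟨hd, h⟩
      exact hept_eq_of_five hD hα hd hY₀ (by omega)
    · rintro rfl
      exact ⟨hY₀, by rw [Finset.inter_self, hY₀.1]⟩
  have hz : ∀ k, 5 ≤ k → k < 7 → meetN (hept D) Y₀ k = 0 := by
    intro k hk1 hk2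
    refine meetN_eq_zero fun d hd h => ?_
    have := hept_eq_of_five hD hα hd hY₀ (by omega)
    subst this
    rw [Finset.inter_self, hY₀.1] at h
    omega
  have h5 := hz 5 (by norm_num) (by norm_num)
  have h6 := hz 6 (by norm_num) (by norm_num)
  have hn : ∀ d ∈ blk (hept D), (d ∩ Y₀).card < 8 := by
    intro d _
    have h1 := Finset.card_le_card (Finset.inter_subset_right (s₁ := d) (s₂ := Y₀))
    have h2 := hY₀.1
    omega
  have key : ∀ (j l : ℕ), (∀ T : Finset α, T ⊆ Y₀ → T.card = j → thru (hept D) T = l) →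
      (7).choose j * l = ∑ k ∈ Finset.range 8, meetN (hept D) Y₀ k * k.choose j := by
    intro j l hl
    rw [← sum_blk_fibre (hept D) Y₀ 8 hn (fun n => n.choose j), ← sum_thru_eq (hept D) Y₀ j,
      Finset.sum_congr rfl (fun T hT => hl T (Finset.mem_powersetCard.mp hT).1
        (Finset.mem_powersetCard.mp hT).2),
      Finset.sum_const, Finset.card_powersetCard, smul_eq_mul, hY₀.1]
  have e0 := key 0 352 (fun T _ hT => by
    rw [Finset.card_eq_zero] at hT
    subst hT
    rw [thru, ← hept_card hD hα]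
    congr 1
    ext b; simp)
  have e1 := key 1 112 (fun T _ hT => (hept_thru_small hD hα T).1 hT)
  have e2 := key 2 32 (fun T _ hT => (hept_thru_small hD hα T).2.1 hT)
  have e3 := key 3 8 (fun T _ hT => (hept_thru_small hD hα T).2.2 hT)
  have e4 := key 4 2 (fun T hTY hT => hept_thru_four hD hα hY₀ hTY hT)
  simp only [Finset.sum_range_succ, Finset.sum_range_zero, h5, h6, h7] at e0 e1 e2 e3 e4
  norm_num [Nat.choose] at e0 e1 e2 e3 e4
  omega

/-- The heptads meeting a fixed heptad `Y₀` in an odd number of points. -/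
noncomputable def oddHept (D : Set (Finset α)) (Y₀ : Finset α) : Finset (Finset α) :=
  (blk (hept D)).filter fun Y => (Y ∩ Y₀).card = 1 ∨ (Y ∩ Y₀).card = 3 ∨ (Y ∩ Y₀).card = 7

theorem mem_oddHept {Y₀ Y : Finset α} : Y ∈ oddHept D Y₀ ↔
    Y ∈ hept D ∧ ((Y ∩ Y₀).card = 1 ∨ (Y ∩ Y₀).card = 3 ∨ (Y ∩ Y₀).card = 7) := by
  rw [oddHept, Finset.mem_filter, mem_blk]

/-- Exactly 176 heptads meet a given heptad oddly. -/
theorem card_oddHept (hD : Cfsg.IsSteinerSystem 3 6 D) (hα : Fintype.card α = 22)
    {Y₀ : Finset α} (hY₀ : Y₀ ∈ hept D) : (oddHept D Y₀).card = 176 := by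
  have hn : ∀ d ∈ blk (hept D), (d ∩ Y₀).card < 8 := by
    intro d _
    have h1 := Finset.card_le_card (Finset.inter_subset_right (s₁ := d) (s₂ := Y₀))
    have h2 := hY₀.1
    omega
  have h1 := sum_blk_fibre (hept D) Y₀ 8 hn
    (fun k => if k = 1 ∨ k = 3 ∨ k = 7 then 1 else 0)
  obtain ⟨-, m1, -, m3, -, -, -, m7⟩ := hept_meet hD hα hY₀
  rw [oddHept, Finset.card_filter, h1]
  simp only [Finset.sum_range_succ, Finset.sum_range_zero, m1, m3, m7]
  norm_num

end Heptad

end Cfsg.Agent.Lib.helper10
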