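/-
Generic tools for extending isomorphisms of derived set systems: a bijection of point
complements carrying derived blocks to derived blocks and residual blocks to residual blocks
extends to a block-preserving bijection; block-preserving bijections between systems with
equally many blocks are isomorphisms.
-/
import Mathlib
import Cfsg.Prelude.Def_Sporadic_a
import Cfsg.Agent.Lib.helper10.Steiner3622
import Cfsg.Agent.Lib.helper10.Hyperoval
import Cfsg.Agent.Lib.helper10.S3622Unique

set_option autoImplicit false
set_option linter.unusedSectionVars false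

namespace Cfsg.Agent.Lib.helper10

open Finset

section SteinerExt

variable {α : Type*} [Fintype α] [DecidableEq α] {β : Type*} [Fintype β] [DecidableEq β]

theorem image_extPt_insert (x : α) (x' : β) (e : {y : α // y ≠ x} ≃ {y : β // y ≠ x'})
    (A : Finset {y : α // y ≠ x}) :
    (insert x (A.map (ptEmb x))).image (extPt x x' e)
      = insert x' ((A.image e).map (ptEmb x')) := by
  rw [Finset.image_insert, extPt_self, image_extPt_map]

/-- A bijection of point complements carrying derived blocks to derived blocks and residual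
blocks to residual blocks extends to a block-preserving bijection. -/
theorem extPt_maps {B : Set (Finset α)} {B' : Set (Finset β)} (x : α) (x' : β)
    (e : {y : α // y ≠ x} ≃ {y : β // y ≠ x'})
    (h1 : ∀ l ∈ der B x, l.image e ∈ der B' x') (h2 : ∀ l ∈ res B x, l.image e ∈ res B' x') :
    ∀ b ∈ B, b.image (extPt x x' e) ∈ B' := by
  intro b hb
  by_cases hx : x ∈ b
  · have h3 := h1 _ (subtype_mem_der hb hx)
    have h4 : b.image (extPt x x' e)
        = insert x' (((b.subtype (· ≠ x)).image e).map (ptEmb x')) := by
      conv_lhs => rw [← insert_map_subtype hx]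
      rw [image_extPt_insert]
    rw [h4]
    exact h3
  · have h3 := h2 _ (subtype_mem_res hb hx)
    have h4 : b.image (extPt x x' e) = ((b.subtype (· ≠ x)).image e).map (ptEmb x') := by
      conv_lhs => rw [← map_subtype_of_notMem hx]
      rw [image_extPt_map]
    rw [h4]
    exact h3

/-- A block-preserving bijection between set systems with equally many blocks is onto the
blocks. -/
theorem blk_image_eq {B : Set (Finset α)} {B' : Set (Finset β)} (e : α ≃ β)
    (he : ∀ b ∈ B, b.image e ∈ B') (hc : (blk B).card = (blk B').card) :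
    (blk B).image (fun b => b.image e) = blk B' := by
  refine Finset.eq_of_subset_of_card_le ?_ ?_
  · intro b' hb'
    obtain ⟨b, hb, rfl⟩ := Finset.mem_image.mp hb'
    exact mem_blk.mpr (he b (mem_blk.mp hb))
  · rw [Finset.card_image_of_injective _ (Finset.image_injective e.injective), hc]

theorem exists_preimage_block {B : Set (Finset α)} {B' : Set (Finset β)} (e : α ≃ β)
    (he : ∀ b ∈ B, b.image e ∈ B') (hc : (blk B).card = (blk B').card) {b' : Finset β}
    (hb' : b' ∈ B') : ∃ b ∈ B, b.image e = b' := by
  have h := mem_blk.mpr hb'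
  rw [← blk_image_eq e he hc] at h
  obtain ⟨b, hb, rfl⟩ := Finset.mem_image.mp h
  exact ⟨b, mem_blk.mp hb, rfl⟩

theorem setSystemIso_of_maps {B : Set (Finset α)} {B' : Set (Finset β)} (e : α ≃ β)
    (he : ∀ b ∈ B, b.image e ∈ B') (hc : (blk B).card = (blk B').card) :
    Cfsg.SetSystemIso B B' := by
  refine ⟨e, ?_⟩
  ext b'
  constructor
  · rintro ⟨b, hb, rfl⟩
    exact he b hb
  · intro hb'
    obtain ⟨b, hb, rfl⟩ := exists_preimage_block e he hc hb'
    exact ⟨b, hb, rfl⟩

/-- A bijection of two finite types of the same size carrying two nested finsets onto two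
nested finsets of the same sizes. -/
theorem exists_equiv_of_card_two (hαβ : Fintype.card α = Fintype.card β) {T H : Finset α}
    {T' H' : Finset β} (hT : T ⊆ H) (hT' : T' ⊆ H') (hcT : T.card = T'.card)
    (hcH : H.card = H'.card) :
    ∃ σ : α ≃ β, (∀ a, a ∈ T ↔ σ a ∈ T') ∧ ∀ a, a ∈ H ↔ σ a ∈ H' := by
  have hc1 : Fintype.card {x // x ∈ H} = Fintype.card {y // y ∈ H'} := by
    rw [Fintype.card_coe, Fintype.card_coe, hcH]
  have hc2 : (T.subtype (· ∈ H)).card = (T'.subtype (· ∈ H')).card := by
    rw [Finset.card_subtype, Finset.card_subtype, Finset.filter_true_of_mem (fun a ha => hT ha),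
      Finset.filter_true_of_mem (fun a ha => hT' ha), hcT]
  obtain ⟨e1, he1⟩ := exists_equiv_of_card hc1 (T.subtype (· ∈ H)) (T'.subtype (· ∈ H')) hc2
  have e2 : {x // x ∉ H} ≃ {y // y ∉ H'} :=
    Fintype.equivOfCardEq (by
      rw [Fintype.card_subtype_compl, Fintype.card_subtype_compl, Fintype.card_coe,
        Fintype.card_coe, hcH, hαβ])
  refine ⟨(Equiv.sumCompl (· ∈ H)).symm.trans ((Equiv.sumCongr e1 e2).trans
    (Equiv.sumCompl (· ∈ H'))), fun a => ?_, fun a => ?_⟩
  · by_cases ha : a ∈ H
    · simp only [Equiv.trans_apply, Equiv.sumCompl_symm_apply_of_pos ha,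
        Equiv.sumCongr_apply, Sum.map_inl, Equiv.sumCompl_apply_inl]
      have := he1 ⟨a, ha⟩
      rw [Finset.mem_subtype, Finset.mem_subtype] at this
      exact this
    · simp only [Equiv.trans_apply, Equiv.sumCompl_symm_apply_of_neg ha,
        Equiv.sumCongr_apply, Sum.map_inr, Equiv.sumCompl_apply_inr]
      constructor
      · intro h
        exact absurd (hT h) ha
      · intro h
        exact absurd (hT' h) (e2 ⟨a, ha⟩).2
  · by_cases ha : a ∈ H
    · simp only [ha, true_iff, Equiv.trans_apply, Equiv.sumCompl_symm_apply_of_pos ha,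
        Equiv.sumCongr_apply, Sum.map_inl, Equiv.sumCompl_apply_inl]
      exact (e1 ⟨a, ha⟩).2
    · simp only [ha, false_iff, Equiv.trans_apply, Equiv.sumCompl_symm_apply_of_neg ha,
        Equiv.sumCongr_apply, Sum.map_inr, Equiv.sumCompl_apply_inr]
      exact (e2 ⟨a, ha⟩).2

end SteinerExt

end Cfsg.Agent.Lib.helper10
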