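/-
Uniqueness of the Steiner system S(4, 7, 23): the derived system at a point is an S(3, 6, 22),
the residual blocks are the 176 heptads meeting one of them oddly, and the isomorphisms of
S(3, 6, 22) act transitively on pairs (system, heptad).
-/
import Mathlib
import Cfsg.Prelude.Def_Sporadic_a
import Cfsg.Agent.Lib.helper10.Steiner3622
import Cfsg.Agent.Lib.helper10.Plane21
import Cfsg.Agent.Lib.helper10.Hyperoval
import Cfsg.Agent.Lib.helper10.HovCount
import Cfsg.Agent.Lib.helper10.S3622Unique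
import Cfsg.Agent.Lib.helper10.Steiner4723
import Cfsg.Agent.Lib.helper10.Heptad
import Cfsg.Agent.Lib.helper10.SteinerExt
import Cfsg.Agent.Lib.helper10.BaerInv

set_option autoImplicit false
set_option linter.unusedSectionVars false

namespace Cfsg.Agent.Lib.helper10

open Finset

section S4723

variable {α : Type*} [Fintype α] [DecidableEq α] {β : Type*} [Fintype β] [DecidableEq β]

/-- A line-preserving bijection between the derived planes of two S(3, 6, 22) carrying one
residual block onto a residual block extends to a block-preserving bijection. -/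
theorem s3622_extPt_maps {D : Set (Finset α)} {D' : Set (Finset β)}
    (hD : Cfsg.IsSteinerSystem 3 6 D) (hα : Fintype.card α = 22)
    (hD' : Cfsg.IsSteinerSystem 3 6 D') (hβ : Fintype.card β = 22) {x : α} {x' : β}
    (e : {y : α // y ≠ x} ≃ {y : β // y ≠ x'})
    (he : ∀ l ∈ der D x, l.image e ∈ der D' x') {H₀ : Finset {y : α // y ≠ x}}
    (hH₀ : H₀ ∈ res D x) (hH₀' : H₀.image e ∈ res D' x') :
    ∀ b ∈ D, b.image (extPt x x' e) ∈ D' := by
  have hL : Cfsg.IsSteinerSystem 2 5 (der D x) := der_steiner hD x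
  have hL' : Cfsg.IsSteinerSystem 2 5 (der D' x') := der_steiner hD' x'
  refine extPt_maps x x' e he (fun H hH => ?_)
  have h0 : H ∈ evenHov (der D x) H₀ := by
    rw [← blk_res_eq_evenHov hD hα hH₀, mem_blk]
    exact hH
  have h1 := image_mem_evenHov hL hL' e he h0
  rw [← blk_res_eq_evenHov hD' hβ hH₀', mem_blk] at h1
  exact h1

/-- A heptad through `x` meets some residual block at `x` in exactly three points. -/
theorem hept_frame {D : Set (Finset α)} (hD : Cfsg.IsSteinerSystem 3 6 D) {Y₀ : Finset α}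
    (hY₀ : Y₀ ∈ hept D) {x : α} (hx : x ∈ Y₀) :
    ∃ (T H₀ : Finset {y : α // y ≠ x}), T.card = 3 ∧ H₀ ∈ res D x ∧
      Y₀.subtype (· ≠ x) ∩ H₀ = T := by
  have hO6 : (Y₀.subtype (· ≠ x)).card = 6 := by rw [card_subtype_ne hx, hY₀.1]
  obtain ⟨T, hTO, hT3⟩ := Finset.exists_subset_card_eq (by omega : 3 ≤ (Y₀.subtype (· ≠ x)).card)
  obtain ⟨b, ⟨hb, hTb⟩, -⟩ := hD.2 (T.map (ptEmb x)) (by rw [Finset.card_map, hT3])
  have hTY : T.map (ptEmb x) ⊆ Y₀ := by
    intro y hy
    obtain ⟨z, hz, rfl⟩ := Finset.mem_map.mp hy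
    exact Finset.mem_subtype.mp (hTO hz)
  have hxb : x ∉ b := by
    intro hxb
    have h1 : insert x (T.map (ptEmb x)) ⊆ b ∩ Y₀ :=
      Finset.insert_subset (Finset.mem_inter.mpr ⟨hxb, hx⟩) (Finset.subset_inter hTb hTY)
    have h2 := Finset.card_le_card h1
    rw [card_insert_map, hT3] at h2
    have h3 := hY₀.2 b hb
    omega
  refine ⟨T, b.subtype (· ≠ x), hT3, subtype_mem_res hb hxb, ?_⟩
  have h1 := hY₀.2 b hb
  rw [← map_subtype_of_notMem hxb] at h1
  conv at h1 =>
    congr
    · rw [← insert_map_subtype hx]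
    · rw [← insert_map_subtype hx]
  rw [map_inter_insert_map, Finset.card_map, Finset.inter_comm] at h1
  have hsub : T ⊆ Y₀.subtype (· ≠ x) ∩ b.subtype (· ≠ x) := by
    intro y hy
    rw [Finset.mem_inter]
    refine ⟨hTO hy, ?_⟩
    rw [Finset.mem_subtype]
    exact hTb (Finset.mem_map_of_mem _ hy)
  have h2 := Finset.card_le_card hsub
  exact (Finset.eq_of_subset_of_card_le hsub (by omega)).symm

/-- The isomorphisms between Steiner systems S(3, 6, 22) are transitive on heptads. -/
theorem hept_transitive {D : Set (Finset α)} {D' : Set (Finset β)}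
    (hD : Cfsg.IsSteinerSystem 3 6 D) (hα : Fintype.card α = 22)
    (hD' : Cfsg.IsSteinerSystem 3 6 D') (hβ : Fintype.card β = 22) {Y₀ : Finset α}
    {Y₀' : Finset β} (hY₀ : Y₀ ∈ hept D) (hY₀' : Y₀' ∈ hept D') :
    ∃ f : α ≃ β, (∀ b ∈ D, b.image f ∈ D') ∧ Y₀.image f = Y₀' := by
  obtain ⟨x, hx⟩ : Y₀.Nonempty := Finset.card_pos.mp (by rw [hY₀.1]; norm_num)
  obtain ⟨x', hx'⟩ : Y₀'.Nonempty := Finset.card_pos.mp (by rw [hY₀'.1]; norm_num)
  have hL : Cfsg.IsSteinerSystem 2 5 (der D x) := der_steiner hD x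
  have hL' : Cfsg.IsSteinerSystem 2 5 (der D' x') := der_steiner hD' x'
  have hP : Fintype.card {y : α // y ≠ x} = 21 := by rw [card_ptCompl, hα]
  have hP' : Fintype.card {y : β // y ≠ x'} = 21 := by rw [card_ptCompl, hβ]
  obtain ⟨hO, -⟩ := hept_subtype hY₀ hx
  obtain ⟨hO', hOres'⟩ := hept_subtype hY₀' hx'
  obtain ⟨T, H₀, hT3, hH₀, hHO⟩ := hept_frame hD hY₀ hx
  obtain ⟨T', H₀', hT3', hH₀', hHO'⟩ := hept_frame hD' hY₀' hx'
  have hh := res_mem_hov hD hH₀
  have hh' := res_mem_hov hD' hH₀'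
  have hTH : T ⊆ H₀ := hHO ▸ Finset.inter_subset_right
  have hTH' : T' ⊆ H₀' := hHO' ▸ Finset.inter_subset_right
  obtain ⟨σ, hσT, hσH⟩ := exists_equiv_of_card_two (hP.trans hP'.symm) hTH hTH'
    (hT3.trans hT3'.symm) (hh.1.trans hh'.1.symm)
  obtain ⟨e, he1, he2, -⟩ := hov_extension hL hP hh.1 hh.2 hL' hP' hh'.1 hh'.2 σ hσH
  have himgH : H₀.image e = H₀' := by
    refine Finset.eq_of_subset_of_card_le ?_ ?_
    · intro y hy
      obtain ⟨a, ha, rfl⟩ := Finset.mem_image.mp hy
      rw [he1 a ha]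
      exact (hσH a).mp ha
    · rw [Finset.card_image_of_injective _ e.injective, hh.1, hh'.1]
  have himgT : T.image e = T' := by
    refine Finset.eq_of_subset_of_card_le ?_ ?_
    · intro y hy
      obtain ⟨a, ha, rfl⟩ := Finset.mem_image.mp hy
      rw [he1 a (hTH ha)]
      exact (hσT a).mp ha
    · rw [Finset.card_image_of_injective _ e.injective, hT3, hT3']
  have hK : (Y₀.subtype (· ≠ x)).image e ∈ hov (der D' x') := image_mem_hov hL hL' e he2 hO
  have hKH : (Y₀.subtype (· ≠ x)).image e ∩ H₀' = T' := by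
    rw [← himgH, ← Finset.image_inter _ _ e.injective, hHO, himgT]
  by_cases hcase : (Y₀.subtype (· ≠ x)).image e = Y₀'.subtype (· ≠ x')
  · refine ⟨extPt x x' e, s3622_extPt_maps hD hα hD' hβ e he2 hH₀ (himgH ▸ hH₀'), ?_⟩
    conv_lhs => rw [← insert_map_subtype hx]
    rw [image_extPt_insert, hcase, insert_map_subtype hx']
  · -- compose with the automorphism inducing a transposition on `H₀'` off `T'`
    have hc3 : (H₀' \ T').card = 3 := by rw [Finset.card_sdiff_of_subset hTH', hh'.1, hT3']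
    obtain ⟨u₁, hu₁, u₂, hu₂, hne⟩ := Finset.one_lt_card.mp (by rw [hc3]; norm_num :
      1 < (H₀' \ T').card)
    rw [Finset.mem_sdiff] at hu₁ hu₂
    obtain ⟨t, ht1, ht2, ht12, ht21, htfix⟩ := exists_baer hL' hP' hh'.1 hh'.2 hu₁.1 hu₂.1
    have hmove := baer_moves hL' hP' hh'.1 hh'.2 t ht1 ht2 hu₁.1 hu₂.1 hne ht12 htfix hK.1 hK.2
      hT3' hKH hu₁.2 hu₂.2
    have hK2 : ((Y₀.subtype (· ≠ x)).image e).image t ∈ hov (der D' x') :=
      image_mem_hov hL' hL' t ht1 hK
    have hTfix : ∀ a ∈ T', t a = a := fun a ha =>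
      htfix a (hTH' ha) (fun h => hu₁.2 (h ▸ ha)) (fun h => hu₂.2 (h ▸ ha))
    have hT'K : T' ⊆ (Y₀.subtype (· ≠ x)).image e := hKH ▸ Finset.inter_subset_left
    have hT'K2 : T' ⊆ ((Y₀.subtype (· ≠ x)).image e).image t := fun a ha =>
      Finset.mem_image.mpr ⟨a, hT'K ha, hTfix a ha⟩
    have hH₀'t : H₀'.image t = H₀' := by
      refine Finset.eq_of_subset_of_card_le ?_ ?_
      · intro y hy
        obtain ⟨a, ha, rfl⟩ := Finset.mem_image.mp hy
        by_cases h1 : a = u₁
        · rw [h1, ht12]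
          exact hu₂.1
        · by_cases h2 : a = u₂
          · rw [h2, ht21]
            exact hu₁.1
          · rw [htfix a ha h1 h2]
            exact ha
      · rw [Finset.card_image_of_injective _ t.injective]
    have hS : thru (hov (der D' x')) T' = 3 := hov_thru_three hL' hP' (hh'.2.mono hTH') hT3'
    have hO'T : T' ⊆ Y₀'.subtype (· ≠ x') := hHO' ▸ Finset.inter_subset_left
    have hKne : (Y₀.subtype (· ≠ x)).image e ≠ H₀' := by
      intro h
      rw [h, Finset.inter_self] at hKH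
      have := hh'.1
      rw [hKH, hT3'] at this
      omega
    have hK2ne : ((Y₀.subtype (· ≠ x)).image e).image t ≠ H₀' := fun h =>
      hKne (Finset.image_injective t.injective (h.trans hH₀'t.symm))
    have hO'ne : Y₀'.subtype (· ≠ x') ≠ H₀' := fun h => hOres' (h ▸ hH₀')
    have hfin : Y₀'.subtype (· ≠ x') = ((Y₀.subtype (· ≠ x)).image e).image t := by
      by_contra hne2
      have hsub : ({H₀', (Y₀.subtype (· ≠ x)).image e,
          ((Y₀.subtype (· ≠ x)).image e).image t, Y₀'.subtype (· ≠ x')} :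
            Finset (Finset {y : β // y ≠ x'}))
          ⊆ (blk (hov (der D' x'))).filter (fun b => T' ⊆ b) := by
        intro Z hZ
        simp only [Finset.mem_insert, Finset.mem_singleton] at hZ
        rw [Finset.mem_filter, mem_blk]
        rcases hZ with rfl | rfl | rfl | rfl
        · exact ⟨hh', hTH'⟩
        · exact ⟨hK, hT'K⟩
        · exact ⟨hK2, hT'K2⟩
        · exact ⟨hO', hO'T⟩
      have hc4 : ({H₀', (Y₀.subtype (· ≠ x)).image e,
          ((Y₀.subtype (· ≠ x)).image e).image t, Y₀'.subtype (· ≠ x')} :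
            Finset (Finset {y : β // y ≠ x'})).card = 4 := by
        rw [Finset.card_insert_of_notMem, Finset.card_insert_of_notMem, Finset.card_pair
          (Ne.symm hne2)]
        · simp only [Finset.mem_insert, Finset.mem_singleton, not_or]
          exact ⟨Ne.symm hmove, hcase⟩
        · simp only [Finset.mem_insert, Finset.mem_singleton, not_or]
          exact ⟨Ne.symm hKne, Ne.symm hK2ne, Ne.symm hO'ne⟩
      have h5 := Finset.card_le_card hsub
      rw [hc4] at h5
      rw [thru] at hS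
      omega
    have himg2 : ∀ A : Finset {y : α // y ≠ x}, A.image (e.trans t) = (A.image e).image t := by
      intro A
      rw [Finset.image_image]
      rfl
    refine ⟨extPt x x' (e.trans t), s3622_extPt_maps hD hα hD' hβ (e.trans t) ?_ hH₀ ?_, ?_⟩
    · intro l hl
      rw [himg2]
      exact ht1 _ (he2 l hl)
    · rw [himg2, himgH, hH₀'t]
      exact hH₀'
    · conv_lhs => rw [← insert_map_subtype hx]
      rw [image_extPt_insert, himg2, ← hfin, insert_map_subtype hx']

/-! ### Residual blocks of an S(4, 7, 23) -/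

theorem res_mem_hept {B : Set (Finset α)} (hB : Cfsg.IsSteinerSystem 4 7 B)
    (hα : Fintype.card α = 23) {x : α} {Y : Finset {y : α // y ≠ x}} (hY : Y ∈ res B x) :
    Y ∈ hept (der B x) := by
  refine ⟨?_, fun b hb => ?_⟩
  · have h1 := hB.1 _ hY
    rw [Finset.card_map] at h1
    exact h1
  · have hne : insert x (b.map (ptEmb x)) ≠ Y.map (ptEmb x) := fun h =>
      notMem_map_ptEmb x Y (h ▸ Finset.mem_insert_self _ _)
    have h1 := s4723_inter_one_or_three hB hα hb hY hne
    rw [Finset.inter_comm, map_inter_insert_map, Finset.card_map, Finset.inter_comm] at h1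
    exact h1

theorem res_inter_odd {B : Set (Finset α)} (hB : Cfsg.IsSteinerSystem 4 7 B)
    (hα : Fintype.card α = 23) {x : α} {Y Y' : Finset {y : α // y ≠ x}} (hY : Y ∈ res B x)
    (hY' : Y' ∈ res B x) (hne : Y ≠ Y') : (Y ∩ Y').card = 1 ∨ (Y ∩ Y').card = 3 := by
  have h1 := s4723_inter_one_or_three hB hα hY hY'
    (fun h => hne (Finset.map_injective (ptEmb x) h))
  rw [← Finset.map_inter, Finset.card_map] at h1
  exact h1

/-- The residual blocks of an S(4, 7, 23) are exactly the heptads of the derived system that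
meet a given residual block oddly. -/
theorem blk_res_eq_oddHept {B : Set (Finset α)} (hB : Cfsg.IsSteinerSystem 4 7 B)
    (hα : Fintype.card α = 23) {x : α} {Y₀ : Finset {y : α // y ≠ x}} (hY₀ : Y₀ ∈ res B x) :
    blk (res B x) = oddHept (der B x) Y₀ := by
  have hD : Cfsg.IsSteinerSystem 3 6 (der B x) := der_steiner hB x
  have hP : Fintype.card {y : α // y ≠ x} = 22 := by rw [card_ptCompl, hα]
  refine Finset.eq_of_subset_of_card_le (fun Y hY => ?_) ?_
  · rw [mem_blk] at hY
    rw [mem_oddHept]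
    refine ⟨res_mem_hept hB hα hY, ?_⟩
    by_cases hne : Y = Y₀
    · subst hne
      rw [Finset.inter_self, (res_mem_hept hB hα hY).1]
      exact Or.inr (Or.inr rfl)
    · rcases res_inter_odd hB hα hY hY₀ hne with h | h
      · exact Or.inl h
      · exact Or.inr (Or.inl h)
  · rw [card_oddHept hD hP (res_mem_hept hB hα hY₀), s4723_card_blk_res hB hα]

theorem exists_mem_res_4723 {B : Set (Finset α)} (hB : Cfsg.IsSteinerSystem 4 7 B)
    (hα : Fintype.card α = 23) (x : α) : ∃ Y₀, Y₀ ∈ res B x := by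
  obtain ⟨Y, hY⟩ : (blk (res B x)).Nonempty :=
    Finset.card_pos.mp (by rw [s4723_card_blk_res hB hα]; norm_num)
  exact ⟨Y, mem_blk.mp hY⟩

/-- A block-preserving bijection of S(3, 6, 22) maps heptads to heptads. -/
theorem image_mem_hept {D : Set (Finset α)} {D' : Set (Finset β)}
    (hD : Cfsg.IsSteinerSystem 3 6 D) (hα : Fintype.card α = 22)
    (hD' : Cfsg.IsSteinerSystem 3 6 D') (hβ : Fintype.card β = 22) (f : α ≃ β)
    (hf : ∀ b ∈ D, b.image f ∈ D') {Y : Finset α} (hY : Y ∈ hept D) : Y.image f ∈ hept D' := by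
  have hc : (blk D).card = (blk D').card := by
    rw [s3622_card_blk hD hα, s3622_card_blk hD' hβ]
  refine ⟨by rw [Finset.card_image_of_injective _ f.injective]; exact hY.1, fun b' hb' => ?_⟩
  obtain ⟨b, hb, rfl⟩ := exists_preimage_block f hf hc hb'
  rw [← Finset.image_inter _ _ f.injective, Finset.card_image_of_injective _ f.injective]
  exact hY.2 b hb

/-- Uniqueness of the Steiner system S(4, 7, 23). -/
theorem s4723_unique (hα : Fintype.card α = 23) (hβ : Fintype.card β = 23)
    {B : Set (Finset α)} {B' : Set (Finset β)} (hB : Cfsg.IsSteinerSystem 4 7 B)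
    (hB' : Cfsg.IsSteinerSystem 4 7 B') : Cfsg.SetSystemIso B B' := by
  obtain ⟨x⟩ : Nonempty α := Fintype.card_pos_iff.mp (by rw [hα]; norm_num)
  obtain ⟨x'⟩ : Nonempty β := Fintype.card_pos_iff.mp (by rw [hβ]; norm_num)
  have hD : Cfsg.IsSteinerSystem 3 6 (der B x) := der_steiner hB x
  have hD' : Cfsg.IsSteinerSystem 3 6 (der B' x') := der_steiner hB' x'
  have hP : Fintype.card {y : α // y ≠ x} = 22 := by rw [card_ptCompl, hα]
  have hP' : Fintype.card {y : β // y ≠ x'} = 22 := by rw [card_ptCompl, hβ]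
  obtain ⟨Y₀, hY₀⟩ := exists_mem_res_4723 hB hα x
  obtain ⟨Y₀', hY₀'⟩ := exists_mem_res_4723 hB' hβ x'
  obtain ⟨f, hf, hfY⟩ := hept_transitive hD hP hD' hP' (res_mem_hept hB hα hY₀)
    (res_mem_hept hB' hβ hY₀')
  have hres : ∀ Y ∈ res B x, Y.image f ∈ res B' x' := by
    intro Y hY
    have h0 : Y ∈ oddHept (der B x) Y₀ := by
      rw [← blk_res_eq_oddHept hB hα hY₀, mem_blk]
      exact hY
    rw [mem_oddHept] at h0
    have h1 : Y.image f ∈ oddHept (der B' x') Y₀' := by
      rw [mem_oddHept]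
      refine ⟨image_mem_hept hD hP hD' hP' f hf h0.1, ?_⟩
      rw [← hfY, ← Finset.image_inter _ _ f.injective,
        Finset.card_image_of_injective _ f.injective]
      exact h0.2
    rw [← blk_res_eq_oddHept hB' hβ hY₀', mem_blk] at h1
    exact h1
  exact setSystemIso_of_maps (extPt x x' f) (extPt_maps x x' f hf hres)
    (by rw [s4723_card_blk hB hα, s4723_card_blk hB' hβ])

end S4723

end Cfsg.Agent.Lib.helper10
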