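/-
Frames of a Steiner system S(3, 6, 22): a point `x`, a block `b` missing `x`, and a labelling
of `b`. Isomorphisms between two such systems correspond bijectively to pairs of frames; in
particular the automorphism group acts regularly on frames.
-/
import Mathlib
import Cfsg.Prelude.Def_Sporadic_a
import Cfsg.Agent.Lib.helper10.Steiner3622
import Cfsg.Agent.Lib.helper10.Plane21
import Cfsg.Agent.Lib.helper10.Hyperoval
import Cfsg.Agent.Lib.helper10.HovCount
import Cfsg.Agent.Lib.helper10.S3622Unique
import Cfsg.Agent.Lib.helper10.SteinerExt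
import Cfsg.Agent.Lib.helper10.S4723Unique

set_option autoImplicit false
set_option linter.unusedSectionVars false

namespace Cfsg.Agent.Lib.helper10

open Finset

section Frame

variable {α : Type*} [Fintype α] [DecidableEq α] {β : Type*} [Fintype β] [DecidableEq β]

/-- Restriction of a bijection mapping `x` to `x'` to the complements of these points. -/
def restrictPt {x : α} {x' : β} (g : α ≃ β) (h : g x = x') :
    {y : α // y ≠ x} ≃ {y : β // y ≠ x'} :=
  g.subtypeEquiv (fun a => by rw [← h]; exact g.injective.ne_iff.symm)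

theorem restrictPt_apply {x : α} {x' : β} (g : α ≃ β) (h : g x = x') (a : {y : α // y ≠ x}) :
    (restrictPt g h a : β) = g a := rfl

theorem extPt_restrictPt {x : α} {x' : β} (g : α ≃ β) (h : g x = x') :
    extPt x x' (restrictPt g h) = g := by
  apply Equiv.ext
  intro a
  by_cases ha : a = x
  · rw [ha, extPt_self, h]
  · have := extPt_coe x x' (restrictPt g h) ⟨a, ha⟩
    rw [restrictPt_apply] at this
    exact this

theorem restrictPt_extPt (x : α) (x' : β) (e : {y : α // y ≠ x} ≃ {y : β // y ≠ x'}) :
    restrictPt (extPt x x' e) (extPt_self x x' e) = e := by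
  apply Equiv.ext
  intro a
  apply Subtype.ext
  rw [restrictPt_apply, extPt_coe]

/-- The restriction of a block-preserving bijection preserves derived blocks. -/
theorem restrictPt_der {B : Set (Finset α)} {B' : Set (Finset β)} {x : α} {x' : β} (g : α ≃ β)
    (h : g x = x') (hg : ∀ c ∈ B, c.image g ∈ B') :
    ∀ l ∈ der B x, l.image (restrictPt g h) ∈ der B' x' := by
  intro l hl
  have h1 := hg _ hl
  have h2 : (insert x (l.map (ptEmb x))).image g
      = insert x' ((l.image (restrictPt g h)).map (ptEmb x')) := by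
    conv_lhs => rw [← extPt_restrictPt g h]
    rw [image_extPt_insert]
  rw [h2] at h1
  exact h1

/-- The restriction of a block-preserving bijection preserves residual blocks. -/
theorem restrictPt_res {B : Set (Finset α)} {B' : Set (Finset β)} {x : α} {x' : β} (g : α ≃ β)
    (h : g x = x') (hg : ∀ c ∈ B, c.image g ∈ B') :
    ∀ l ∈ res B x, l.image (restrictPt g h) ∈ res B' x' := by
  intro l hl
  have h1 := hg _ hl
  have h2 : (l.map (ptEmb x)).image g = (l.image (restrictPt g h)).map (ptEmb x') := by
    conv_lhs => rw [← extPt_restrictPt g h]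
    rw [image_extPt_map]
  rw [h2] at h1
  exact h1

variable {B : Set (Finset α)} {B' : Set (Finset β)}

/-- Isomorphisms of Steiner systems S(3, 6, 22) are in bijection with pairs of frames: given
a point and a block missing it on both sides and a bijection of the two blocks, there is a
unique isomorphism inducing them. -/
theorem s3622_iso_frame (hB : Cfsg.IsSteinerSystem 3 6 B) (hα : Fintype.card α = 22)
    (hB' : Cfsg.IsSteinerSystem 3 6 B') (hβ : Fintype.card β = 22) {x : α} {x' : β}
    {b : Finset α} {b' : Finset β} (hb : b ∈ B) (hx : x ∉ b) (hb' : b' ∈ B') (hx' : x' ∉ b')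
    (σ : α ≃ β) (hσ : ∀ a, a ∈ b ↔ σ a ∈ b') :
    ∃ g : α ≃ β, ((∀ c ∈ B, c.image g ∈ B') ∧ g x = x' ∧ ∀ a ∈ b, g a = σ a) ∧
      ∀ g' : α ≃ β, (∀ c ∈ B, c.image g' ∈ B') → g' x = x' → (∀ a ∈ b, g' a = σ a) →
        g' = g := by
  have hL : Cfsg.IsSteinerSystem 2 5 (der B x) := der_steiner hB x
  have hL' : Cfsg.IsSteinerSystem 2 5 (der B' x') := der_steiner hB' x'
  have hP : Fintype.card {y : α // y ≠ x} = 21 := by rw [card_ptCompl, hα]
  have hP' : Fintype.card {y : β // y ≠ x'} = 21 := by rw [card_ptCompl, hβ]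
  -- adjust `σ` so that it maps `x` to `x'`
  have hσ₁x : (σ.trans (Equiv.swap (σ x) x')) x = x' := by
    rw [Equiv.trans_apply, Equiv.swap_apply_left]
  have hσ₁b : ∀ a ∈ b, (σ.trans (Equiv.swap (σ x) x')) a = σ a := by
    intro a ha
    rw [Equiv.trans_apply, Equiv.swap_apply_of_ne_of_ne]
    · exact fun h => hx (σ.injective h ▸ ha)
    · exact fun h => hx' (h ▸ (hσ a).mp ha)
  have hH₀ := subtype_mem_res hb hx
  have hH₀' := subtype_mem_res hb' hx'
  have hh := res_mem_hov hB hH₀
  have hh' := res_mem_hov hB' hH₀'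
  have hσ₀ : ∀ a, a ∈ b.subtype (· ≠ x) ↔
      restrictPt (σ.trans (Equiv.swap (σ x) x')) hσ₁x a ∈ b'.subtype (· ≠ x') := by
    intro a
    rw [Finset.mem_subtype, Finset.mem_subtype, restrictPt_apply]
    constructor
    · intro ha
      rw [hσ₁b _ ha]
      exact (hσ _).mp ha
    · intro ha
      rw [Equiv.trans_apply] at ha
      by_cases h1 : σ a = σ x
      · exact absurd (σ.injective h1) a.2
      · by_cases h2 : σ (a : α) = x'
        · rw [h2, Equiv.swap_apply_right] at ha
          exact absurd ((hσ x).mpr ha) hx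
        · rw [Equiv.swap_apply_of_ne_of_ne h1 h2] at ha
          exact (hσ _).mpr ha
  obtain ⟨e, he1, he2, he3⟩ := hov_extension hL hP hh.1 hh.2 hL' hP' hh'.1 hh'.2 _ hσ₀
  have himg : (b.subtype (· ≠ x)).image e = b'.subtype (· ≠ x') := by
    refine Finset.eq_of_subset_of_card_le ?_ ?_
    · intro y hy
      obtain ⟨a, ha, rfl⟩ := Finset.mem_image.mp hy
      rw [he1 a ha]
      exact (hσ₀ a).mp ha
    · rw [Finset.card_image_of_injective _ e.injective, hh.1, hh'.1]
  refine ⟨extPt x x' e, ⟨s3622_extPt_maps hB hα hB' hβ e he2 hH₀ (himg ▸ hH₀'),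
    extPt_self x x' e, fun a ha => ?_⟩, fun g' hg' hg'x hg'b => ?_⟩
  · have hax : a ≠ x := fun h => hx (h ▸ ha)
    have h1 := extPt_coe x x' e ⟨a, hax⟩
    rw [he1 ⟨a, hax⟩ (Finset.mem_subtype.mpr ha), restrictPt_apply] at h1
    exact h1.trans (hσ₁b a ha)
  · have h1 : restrictPt g' hg'x = e := by
      refine he3 _ (fun a ha => ?_) (restrictPt_der g' hg'x hg')
      apply Subtype.ext
      rw [restrictPt_apply, restrictPt_apply, hg'b _ (Finset.mem_subtype.mp ha),
        hσ₁b _ (Finset.mem_subtype.mp ha)]
    rw [← extPt_restrictPt g' hg'x, h1]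

end Frame

end Cfsg.Agent.Lib.helper10
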