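/-
The automorphism group of a Steiner system S(3, 6, 22): it acts regularly on frames, has order
887040 and is 3-transitive on the points.
-/
import Mathlib
import Cfsg.Prelude.Def_Sporadic_a
import Cfsg.Agent.Lib.helper10.Steiner3622
import Cfsg.Agent.Lib.helper10.Hyperoval
import Cfsg.Agent.Lib.helper10.S3622Unique
import Cfsg.Agent.Lib.helper10.SteinerExt
import Cfsg.Agent.Lib.helper10.S3622Frame

set_option autoImplicit false
set_option linter.unusedSectionVars false

namespace Cfsg.Agent.Lib.helper10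

open Finset
open scoped Pointwise

section Aut

variable {α : Type*} [Fintype α] [DecidableEq α] {B : Set (Finset α)}

theorem mem_aut_iff {g : Equiv.Perm α} :
    g ∈ Cfsg.setSystemAut B ↔ ∀ c ∈ B, c.image g ∈ B := by
  rw [MulAction.mem_stabilizer_set' (Set.toFinite B)]
  constructor
  · intro h c hc
    exact h hc
  · intro h c hc
    exact h c hc

/-- The automorphism group of an S(3, 6, 22) is regular on frames. -/
theorem s3622_aut_frame (hB : Cfsg.IsSteinerSystem 3 6 B) (hα : Fintype.card α = 22)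
    {x x' : α} {b b' : Finset α} (hb : b ∈ B) (hx : x ∉ b) (hb' : b' ∈ B) (hx' : x' ∉ b')
    (σ : Equiv.Perm α) (hσ : ∀ a, a ∈ b ↔ σ a ∈ b') :
    ∃ g : Equiv.Perm α, (g ∈ Cfsg.setSystemAut B ∧ g x = x' ∧ ∀ a ∈ b, g a = σ a) ∧
      ∀ g' : Equiv.Perm α, g' ∈ Cfsg.setSystemAut B → g' x = x' → (∀ a ∈ b, g' a = σ a) →
        g' = g := by
  obtain ⟨g, ⟨h1, h2, h3⟩, h4⟩ := s3622_iso_frame hB hα hB hα hb hx hb' hx' σ hσ
  exact ⟨g, ⟨mem_aut_iff.mpr h1, h2, h3⟩, fun g' hg' => h4 g' (mem_aut_iff.mp hg')⟩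

theorem image_eq_of_maps {b b' : Finset α} (g : Equiv.Perm α) (h : ∀ a ∈ b, g a ∈ b')
    (hc : b.card = b'.card) : b.image g = b' := by
  refine Finset.eq_of_subset_of_card_le ?_ ?_
  · intro y hy
    obtain ⟨a, ha, rfl⟩ := Finset.mem_image.mp hy
    exact h a ha
  · rw [Finset.card_image_of_injective _ g.injective, hc]

/-- Some block misses a given point. -/
theorem exists_block_notMem (hB : Cfsg.IsSteinerSystem 3 6 B) (hα : Fintype.card α = 22)
    (x : α) : ∃ b ∈ B, x ∉ b := by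
  obtain ⟨H, hH⟩ := exists_mem_res hB hα x
  exact ⟨H.map (ptEmb x), hH, notMem_map_ptEmb x H⟩

/-- The number of flags (block, point off the block). -/
theorem card_flags (hB : Cfsg.IsSteinerSystem 3 6 B) (hα : Fintype.card α = 22) :
    {p : Finset α × α | p.1 ∈ B ∧ p.2 ∉ p.1}.ncard = 1232 := by
  classical
  have h1 : {p : Finset α × α | p.1 ∈ B ∧ p.2 ∉ p.1}
      = ↑(((blk B) ×ˢ (Finset.univ : Finset α)).filter (fun p => p.2 ∉ p.1)) := by
    ext p
    rw [Finset.mem_coe, Finset.mem_filter, Finset.mem_product, mem_blk]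
    constructor
    · rintro ⟨h1, h2⟩
      exact ⟨⟨h1, Finset.mem_univ _⟩, h2⟩
    · rintro ⟨⟨h1, -⟩, h2⟩
      exact ⟨h1, h2⟩
  rw [h1, Set.ncard_coe_finset, Finset.card_filter, Finset.sum_product]
  have h2 : ∀ b ∈ blk B, ∑ x : α, (if x ∉ b then 1 else 0) = 16 := by
    intro b hb
    rw [← Finset.card_filter]
    have h3 : (Finset.univ.filter fun x => x ∉ b) = bᶜ := by
      ext y
      simp
    rw [h3, Finset.card_compl, hα, hB.1 b (mem_blk.mp hb)]
  rw [Finset.sum_congr rfl h2, Finset.sum_const, s3622_card_blk hB hα, smul_eq_mul]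

/-- The automorphism group of an S(3, 6, 22) has order 887040. -/
theorem s3622_card_aut (hB : Cfsg.IsSteinerSystem 3 6 B) (hα : Fintype.card α = 22) :
    Nat.card (Cfsg.setSystemAut B) = 887040 := by
  classical
  obtain ⟨x₀⟩ : Nonempty α := Fintype.card_pos_iff.mp (by rw [hα]; norm_num)
  obtain ⟨b₀, hb₀, hx₀⟩ := exists_block_notMem hB hα x₀
  have hb6 := hB.1 b₀ hb₀
  -- the orbit of the flag `(b₀, x₀)`
  have horb : MulAction.orbit (Cfsg.setSystemAut B) ((b₀, x₀) : Finset α × α)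
      = {p : Finset α × α | p.1 ∈ B ∧ p.2 ∉ p.1} := by
    ext p
    constructor
    · rintro ⟨g, rfl⟩
      refine ⟨mem_aut_iff.mp g.2 b₀ hb₀, fun h => ?_⟩
      obtain ⟨a, ha, e⟩ := Finset.mem_image.mp h
      have e' : (g : Equiv.Perm α) a = (g : Equiv.Perm α) x₀ := e
      have e'' : a = x₀ := (g : Equiv.Perm α).injective e'
      exact hx₀ (e'' ▸ ha)
    · rintro ⟨hp1, hp2⟩
      obtain ⟨σ, hσ⟩ := exists_equiv_of_card rfl b₀ p.1 (hb6.trans (hB.1 _ hp1).symm)
      obtain ⟨g, ⟨hg1, hg2, hg3⟩, -⟩ := s3622_aut_frame hB hα hb₀ hx₀ hp1 hp2 σ hσ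
      refine ⟨⟨g, hg1⟩, ?_⟩
      have h1 : b₀.image g = p.1 := image_eq_of_maps g
        (fun a ha => by rw [hg3 a ha]; exact (hσ a).mp ha) (hb6.trans (hB.1 _ hp1).symm)
      exact Prod.ext h1 hg2
  -- the stabilizer of the flag is the symmetric group on `b₀`
  have hstab : ∀ g : MulAction.stabilizer (Cfsg.setSystemAut B) ((b₀, x₀) : Finset α × α),
      b₀.image ((g : Cfsg.setSystemAut B) : Equiv.Perm α) = b₀ ∧
        ((g : Cfsg.setSystemAut B) : Equiv.Perm α) x₀ = x₀ := by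
    intro g
    have h := g.2
    rw [MulAction.mem_stabilizer_iff] at h
    exact ⟨congrArg Prod.fst h, congrArg Prod.snd h⟩
  have hmem : ∀ g : MulAction.stabilizer (Cfsg.setSystemAut B) ((b₀, x₀) : Finset α × α),
      ∀ a, ((g : Cfsg.setSystemAut B) : Equiv.Perm α) a ∈ b₀ ↔ a ∈ b₀ := by
    intro g a
    have hiff := Finset.ext_iff.mp (hstab g).1 (((g : Cfsg.setSystemAut B) : Equiv.Perm α) a)
    constructor
    · intro h
      obtain ⟨a', ha', e⟩ := Finset.mem_image.mp (hiff.mpr h)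
      have e'' : a' = a := ((g : Cfsg.setSystemAut B) : Equiv.Perm α).injective e
      exact e'' ▸ ha'
    · intro h
      exact hiff.mp (Finset.mem_image_of_mem _ h)
  have hcard : Nat.card (MulAction.stabilizer (Cfsg.setSystemAut B) ((b₀, x₀) : Finset α × α))
      = 720 := by
    have hbij : Function.Bijective
        (fun g : MulAction.stabilizer (Cfsg.setSystemAut B) ((b₀, x₀) : Finset α × α) =>
          Equiv.Perm.subtypePerm ((g : Cfsg.setSystemAut B) : Equiv.Perm α) (hmem g)) := by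
      constructor
      · intro g g' e
        have e' : ∀ a ∈ b₀, ((g : Cfsg.setSystemAut B) : Equiv.Perm α) a
            = ((g' : Cfsg.setSystemAut B) : Equiv.Perm α) a := by
          intro a ha
          have := congrArg (fun τ : Equiv.Perm {a // a ∈ b₀} => ((τ ⟨a, ha⟩ : {a // a ∈ b₀}) : α)) e
          exact this
        obtain ⟨g₀, -, huniq⟩ := s3622_aut_frame hB hα hb₀ hx₀ hb₀ hx₀
          ((g : Cfsg.setSystemAut B) : Equiv.Perm α) (fun a => ((hmem g) a).symm)
        have h1 := huniq _ (g : Cfsg.setSystemAut B).2 (hstab g).2 (fun a _ => rfl)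
        have h2 := huniq _ (g' : Cfsg.setSystemAut B).2 (hstab g').2 (fun a ha => (e' a ha).symm)
        exact Subtype.ext (Subtype.ext (h1.trans h2.symm))
      · intro τ
        have hσ : ∀ a, a ∈ b₀ ↔ Equiv.Perm.ofSubtype τ a ∈ b₀ := by
          intro a
          by_cases ha : a ∈ b₀
          · rw [Equiv.Perm.ofSubtype_apply_of_mem τ ha]
            simp only [ha, true_iff]
            exact (τ ⟨a, ha⟩).2
          · rw [Equiv.Perm.ofSubtype_apply_of_not_mem τ ha]
        obtain ⟨g, ⟨hg1, hg2, hg3⟩, -⟩ := s3622_aut_frame hB hα hb₀ hx₀ hb₀ hx₀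
          (Equiv.Perm.ofSubtype τ) hσ
        have himg : b₀.image g = b₀ := image_eq_of_maps g
          (fun a ha => by rw [hg3 a ha]; exact (hσ a).mp ha) rfl
        refine ⟨⟨⟨g, hg1⟩, ?_⟩, ?_⟩
        · rw [MulAction.mem_stabilizer_iff]
          exact Prod.ext himg hg2
        · apply Equiv.ext
          intro a
          apply Subtype.ext
          show g a = τ a
          rw [hg3 a a.2, Equiv.Perm.ofSubtype_apply_of_mem τ a.2]
    rw [Nat.card_eq_of_bijective _ hbij, Nat.card_eq_fintype_card, Fintype.card_perm,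
      Fintype.card_coe, hb6]
    rfl
  have h1 := Subgroup.card_mul_index
    (MulAction.stabilizer (Cfsg.setSystemAut B) ((b₀, x₀) : Finset α × α))
  rw [MulAction.index_stabilizer, horb, card_flags hB hα, hcard] at h1
  omega

theorem swap_mem_iff {β : Type*} [DecidableEq β] (S : Finset β) {u v : β} (hu : u ∈ S)
    (hv : v ∈ S) (a : β) : Equiv.swap u v a ∈ S ↔ a ∈ S := by
  by_cases h1 : a = u
  · rw [h1, Equiv.swap_apply_left]
    exact ⟨fun _ => hu, fun _ => hv⟩
  · by_cases h2 : a = v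
    · rw [h2, Equiv.swap_apply_right]
      exact ⟨fun _ => hv, fun _ => hu⟩
    · rw [Equiv.swap_apply_of_ne_of_ne h1 h2]

/-- A bijection carrying a finset onto another of the same size, with prescribed values at two
points. -/
theorem exists_equiv_two {β : Type*} [Fintype β] [DecidableEq β]
    (hαβ : Fintype.card α = Fintype.card β) {b : Finset α} {b' : Finset β}
    (hc : b.card = b'.card) {y z : α} {y' z' : β} (hy : y ∈ b) (hz : z ∈ b) (hy' : y' ∈ b')
    (hz' : z' ∈ b') (hyz : y ≠ z) (hyz' : y' ≠ z') :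
    ∃ σ : α ≃ β, (∀ a, a ∈ b ↔ σ a ∈ b') ∧ σ y = y' ∧ σ z = z' := by
  obtain ⟨σ₀, hσ₀⟩ := exists_equiv_of_card hαβ b b' hc
  have h1 : ∀ a, a ∈ b ↔ (σ₀.trans (Equiv.swap (σ₀ y) y')) a ∈ b' := by
    intro a
    rw [Equiv.trans_apply, swap_mem_iff b' ((hσ₀ y).mp hy) hy']
    exact hσ₀ a
  have h1y : (σ₀.trans (Equiv.swap (σ₀ y) y')) y = y' := by
    rw [Equiv.trans_apply, Equiv.swap_apply_left]
  refine ⟨(σ₀.trans (Equiv.swap (σ₀ y) y')).trans
    (Equiv.swap ((σ₀.trans (Equiv.swap (σ₀ y) y')) z) z'), fun a => ?_, ?_, ?_⟩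
  · rw [Equiv.trans_apply, swap_mem_iff b' ((h1 z).mp hz) hz']
    exact h1 a
  · have hne : y' ≠ (σ₀.trans (Equiv.swap (σ₀ y) y')) z := fun h =>
      hyz ((σ₀.trans (Equiv.swap (σ₀ y) y')).injective (h1y.trans h))
    rw [Equiv.trans_apply, h1y, Equiv.swap_apply_of_ne_of_ne hne hyz']
  · rw [Equiv.trans_apply, Equiv.swap_apply_left]

/-- Two points lie in a block missing a given third point. -/
theorem exists_block_two (hB : Cfsg.IsSteinerSystem 3 6 B) (hα : Fintype.card α = 22)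
    {x y z : α} (hxy : x ≠ y) (hxz : x ≠ z) (hyz : y ≠ z) :
    ∃ b ∈ B, y ∈ b ∧ z ∈ b ∧ x ∉ b := by
  by_contra hcon
  push Not at hcon
  have h1 := s3622_thru_two hB hα {y, z} (Finset.card_pair hyz)
  have h2 := s3622_thru_three hB {x, y, z}
    (Finset.card_eq_three.mpr ⟨x, y, z, hxy, hxz, hyz, rfl⟩)
  have h3 : (blk B).filter (fun b => ({y, z} : Finset α) ⊆ b)
      = (blk B).filter (fun b => ({x, y, z} : Finset α) ⊆ b) := by
    ext b
    rw [Finset.mem_filter, Finset.mem_filter, mem_blk, Finset.insert_subset_iff,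
      Finset.insert_subset_iff, Finset.insert_subset_iff, Finset.singleton_subset_iff]
    constructor
    · rintro ⟨hb, hy, hz⟩
      exact ⟨hb, hcon b hb hy hz, hy, hz⟩
    · rintro ⟨hb, -, hy, hz⟩
      exact ⟨hb, hy, hz⟩
  rw [thru, h3] at h1
  rw [thru] at h2
  omega

/-- The automorphism group of an S(3, 6, 22) is 3-transitive on the points. -/
theorem s3622_three_trans (hB : Cfsg.IsSteinerSystem 3 6 B) (hα : Fintype.card α = 22) :
    MulAction.IsMultiplyPretransitive (Cfsg.setSystemAut B) α 3 := by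
  rw [MulAction.isMultiplyPretransitive_iff]
  intro f f'
  have h01 : f 0 ≠ f 1 := f.injective.ne (by decide)
  have h02 : f 0 ≠ f 2 := f.injective.ne (by decide)
  have h12 : f 1 ≠ f 2 := f.injective.ne (by decide)
  have h01' : f' 0 ≠ f' 1 := f'.injective.ne (by decide)
  have h02' : f' 0 ≠ f' 2 := f'.injective.ne (by decide)
  have h12' : f' 1 ≠ f' 2 := f'.injective.ne (by decide)
  obtain ⟨b, hb, hyb, hzb, hxb⟩ := exists_block_two hB hα h01 h02 h12
  obtain ⟨b', hb', hyb', hzb', hxb'⟩ := exists_block_two hB hα h01' h02' h12'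
  obtain ⟨σ, hσb, hσ1, hσ2⟩ := exists_equiv_two rfl ((hB.1 b hb).trans (hB.1 b' hb').symm)
    hyb hzb hyb' hzb' h12 h12'
  obtain ⟨g, ⟨hg1, hg2, hg3⟩, -⟩ := s3622_aut_frame hB hα hb hxb hb' hxb' σ hσb
  refine ⟨⟨g, hg1⟩, ?_⟩
  ext i
  fin_cases i
  · exact hg2
  · exact (hg3 _ hyb).trans hσ1
  · exact (hg3 _ hzb).trans hσ2

end Aut

end Cfsg.Agent.Lib.helper10
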