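/-
The involutory automorphism of a projective plane of order 4 inducing a transposition on a
hyperoval has exactly seven fixed points; the corresponding automorphism of a Steiner system
S(3, 6, 22) is an odd permutation.
-/
import Mathlib
import Cfsg.Prelude.Def_Sporadic_a
import Cfsg.Agent.Lib.helper10.Steiner3622
import Cfsg.Agent.Lib.helper10.Plane21
import Cfsg.Agent.Lib.helper10.Hyperoval
import Cfsg.Agent.Lib.helper10.HovCount
import Cfsg.Agent.Lib.helper10.BaerInv
import Cfsg.Agent.Lib.helper10.S3622Unique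
import Cfsg.Agent.Lib.helper10.SteinerExt
import Cfsg.Agent.Lib.helper10.S4723Unique
import Cfsg.Agent.Lib.helper10.S3622Aut

set_option autoImplicit false
set_option linter.unusedSectionVars false

namespace Cfsg.Agent.Lib.helper10

open Finset

section BaerSign

variable {α : Type*} [Fintype α] [DecidableEq α] {L : Set (Finset α)}

variable (hL : Cfsg.IsSteinerSystem 2 5 L) (hα : Fintype.card α = 21) {H : Finset α}
  (hH6 : H.card = 6) (hH : Arc L H)

include hL hα hH6 hH

/-- The fixed points of the automorphism inducing a transposition `(u₁ u₂)` on a hyperoval `H`: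
the other four points of `H`, and the three points off `H` of the secant through `u₁`, `u₂`. -/
theorem baer_fix_iff (t : α ≃ α) (ht : ∀ l ∈ L, l.image t ∈ L) {u₁ u₂ : α} (hu₁ : u₁ ∈ H)
    (hu₂ : u₂ ∈ H) (hne : u₁ ≠ u₂) (h12 : t u₁ = u₂) (h21 : t u₂ = u₁)
    (hfix : ∀ a ∈ H, a ≠ u₁ → a ≠ u₂ → t a = a) {ℓ : Finset α} (hℓ : ℓ ∈ L) (h1ℓ : u₁ ∈ ℓ)
    (h2ℓ : u₂ ∈ ℓ) (w : α) : t w = w ↔ w ∈ (H \ {u₁, u₂}) ∪ (ℓ \ H) := by
  rw [Finset.mem_union, Finset.mem_sdiff, Finset.mem_sdiff, Finset.mem_insert,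
    Finset.mem_singleton]
  constructor
  · intro hw
    by_cases hwH : w ∈ H
    · left
      refine ⟨hwH, ?_⟩
      rintro (h | h)
      · rw [h, h12] at hw
        exact hne hw.symm
      · rw [h, h21] at hw
        exact hne hw
    · right
      obtain ⟨l, hl, hwl, h1l, h2l⟩ :=
        baer_fixed_col hL hα hH6 hH t ht hu₁ hu₂ hne h12 hfix hwH hw
      have e : l = ℓ := p21_line_unique hL hl hℓ hne h1l h2l h1ℓ h2ℓ
      exact ⟨e ▸ hwl, hwH⟩
  · rintro (⟨hwH, hw⟩ | ⟨hwℓ, hwH⟩)
    · rw [not_or] at hw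
      exact hfix w hwH hw.1 hw.2
    · obtain ⟨a, haH, ha1, ha2⟩ : ∃ a ∈ H, a ≠ u₁ ∧ a ≠ u₂ := by
        have hne' : (H \ {u₁, u₂}).Nonempty := by
          apply Finset.card_pos.mp
          have := Finset.le_card_sdiff ({u₁, u₂} : Finset α) H
          rw [Finset.card_pair hne, hH6] at this
          omega
        obtain ⟨a, ha⟩ := hne'
        rw [Finset.mem_sdiff, Finset.mem_insert, Finset.mem_singleton, not_or] at ha
        exact ⟨a, ha.1, ha.2.1, ha.2.2⟩
      obtain ⟨p, hpH, hpa, m, hm, hwm, ham, hpm⟩ := exists_partner hL hα hH6 hH hwH haH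
      have hmℓ : m ≠ ℓ := by
        intro e
        rw [e] at ham
        rcases arc_third hH hℓ hu₁ hu₂ haH h1ℓ h2ℓ ham hne with h | h
        · exact ha1 h
        · exact ha2 h
      have hp1 : p ≠ u₁ := by
        intro e
        have hw1 : w ≠ u₁ := fun h => hwH (h ▸ hu₁)
        exact hmℓ (p21_line_unique hL hm hℓ hw1 hwm (e ▸ hpm) hwℓ h1ℓ)
      have hp2 : p ≠ u₂ := by
        intro e
        have hw2 : w ≠ u₂ := fun h => hwH (h ▸ hu₂)
        exact hmℓ (p21_line_unique hL hm hℓ hw2 hwm (e ▸ hpm) hwℓ h2ℓ)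
      have hta : t a = a := hfix a haH ha1 ha2
      have htp : t p = p := hfix p hpH hp1 hp2
      have em : m.image t = m := by
        refine p21_line_unique hL (ht m hm) hm (Ne.symm hpa) ?_ ?_ ham hpm
        · have := Finset.mem_image_of_mem t ham
          rwa [hta] at this
        · have := Finset.mem_image_of_mem t hpm
          rwa [htp] at this
      have eℓ : ℓ.image t = ℓ := by
        refine p21_line_unique hL (ht ℓ hℓ) hℓ hne ?_ ?_ h1ℓ h2ℓ
        · have := Finset.mem_image_of_mem t h2ℓ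
          rwa [h21] at this
        · have := Finset.mem_image_of_mem t h1ℓ
          rwa [h12] at this
      by_contra hcon
      have htwm : t w ∈ m := by
        have := Finset.mem_image_of_mem t hwm
        rwa [em] at this
      have htwℓ : t w ∈ ℓ := by
        have := Finset.mem_image_of_mem t hwℓ
        rwa [eℓ] at this
      exact hmℓ (p21_line_unique hL hm hℓ hcon htwm hwm htwℓ hwℓ)

/-- The automorphism inducing a transposition on a hyperoval has seven fixed points. -/
theorem baer_card_fix (t : α ≃ α) (ht : ∀ l ∈ L, l.image t ∈ L) {u₁ u₂ : α} (hu₁ : u₁ ∈ H)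
    (hu₂ : u₂ ∈ H) (hne : u₁ ≠ u₂) (h12 : t u₁ = u₂) (h21 : t u₂ = u₁)
    (hfix : ∀ a ∈ H, a ≠ u₁ → a ≠ u₂ → t a = a) :
    (Finset.univ.filter (fun w => t w = w)).card = 7 := by
  obtain ⟨ℓ, hℓ, h1ℓ, h2ℓ⟩ := p21_exists_line hL hne
  have h1 : Finset.univ.filter (fun w => t w = w) = (H \ {u₁, u₂}) ∪ (ℓ \ H) := by
    ext w
    rw [Finset.mem_filter,
      baer_fix_iff hL hα hH6 hH t ht hu₁ hu₂ hne h12 h21 hfix hℓ h1ℓ h2ℓ w]
    simp
  have hd : Disjoint (H \ {u₁, u₂}) (ℓ \ H) := by
    rw [Finset.disjoint_left]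
    intro w hw hw'
    exact (Finset.mem_sdiff.mp hw').2 (Finset.mem_sdiff.mp hw).1
  have hsub : ({u₁, u₂} : Finset α) ⊆ H := by
    intro y hy
    rw [Finset.mem_insert, Finset.mem_singleton] at hy
    rcases hy with rfl | rfl
    · exact hu₁
    · exact hu₂
  have h2 := hov_inter hL hα hH6 hH hℓ ⟨u₁, Finset.mem_inter.mpr ⟨h1ℓ, hu₁⟩⟩
  have h3 := Finset.card_sdiff_add_card_inter ℓ H
  rw [h2, hL.1 ℓ hℓ] at h3
  rw [h1, Finset.card_union_of_disjoint hd, Finset.card_sdiff_of_subset hsub, hH6,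
    Finset.card_pair hne]
  omega

end BaerSign

section Sign

/-- The sign of an involution with an odd number of 2-cycles. -/
theorem sign_of_invol_card_fix {β : Type*} [Fintype β] [DecidableEq β] (t : Equiv.Perm β)
    (ht2 : ∀ a, t (t a) = a) (k : ℕ)
    (hfix : (Finset.univ.filter (fun w => t w = w)).card + 2 * k = Fintype.card β)
    (hk : Odd k) : Equiv.Perm.sign t = -1 := by
  have hsq : t ^ 2 = 1 := by
    ext a
    rw [pow_two, Equiv.Perm.mul_apply, ht2, Equiv.Perm.one_apply]
  have hsupp : t.support.card = 2 * k := by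
    have h1 : t.support = (Finset.univ.filter (fun w => t w = w))ᶜ := by
      ext w
      simp
    rw [h1, Finset.card_compl]
    omega
  have hne1 : t ≠ 1 := by
    intro h
    rw [h, Equiv.Perm.support_one, Finset.card_empty] at hsupp
    obtain ⟨j, rfl⟩ := hk
    omega
  have hord : orderOf t = 2 := orderOf_eq_prime hsq hne1
  obtain ⟨n, hn⟩ := Equiv.Perm.cycleType_prime_order (σ := t) (by rw [hord]; norm_num)
  rw [hord] at hn
  have hsum := Equiv.Perm.sum_cycleType t
  rw [hn, Multiset.sum_replicate, hsupp, smul_eq_mul] at hsum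
  have hnk : n + 1 = k := by omega
  rw [Equiv.Perm.sign_of_cycleType, hn, Multiset.sum_replicate, Multiset.card_replicate, hnk,
    smul_eq_mul, pow_add, pow_mul]
  have h2 : ((-1 : ℤˣ) ^ k) ^ 2 = 1 := by rw [← pow_mul, mul_comm, pow_mul]; simp
  rw [h2, one_mul, hk.neg_one_pow]

end Sign

section OddAut

variable {α : Type*} [Fintype α] [DecidableEq α] {B : Set (Finset α)}

/-- An odd automorphism of an S(3, 6, 22): it fixes the point `x` and four points of a block
`b` missing `x`, and swaps the other two points of `b`. -/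
theorem exists_odd_aut (hB : Cfsg.IsSteinerSystem 3 6 B) (hα : Fintype.card α = 22) {x : α}
    {b : Finset α} (hb : b ∈ B) (hx : x ∉ b) {u₁ u₂ : α} (hu₁ : u₁ ∈ b) (hu₂ : u₂ ∈ b)
    (hne : u₁ ≠ u₂) :
    ∃ h : Equiv.Perm α, h ∈ Cfsg.setSystemAut B ∧ h x = x ∧
      (∀ a ∈ b, a ≠ u₁ → a ≠ u₂ → h a = a) ∧ Equiv.Perm.sign h = -1 := by
  have hL : Cfsg.IsSteinerSystem 2 5 (der B x) := der_steiner hB x
  have hP : Fintype.card {y : α // y ≠ x} = 21 := by rw [card_ptCompl, hα]
  have hH₀ : b.subtype (· ≠ x) ∈ res B x := subtype_mem_res hb hx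
  have hhov := res_mem_hov hB hH₀
  have hx1 : u₁ ≠ x := fun h => hx (h ▸ hu₁)
  have hx2 : u₂ ≠ x := fun h => hx (h ▸ hu₂)
  have hm1 : (⟨u₁, hx1⟩ : {y : α // y ≠ x}) ∈ b.subtype (· ≠ x) := Finset.mem_subtype.mpr hu₁
  have hm2 : (⟨u₂, hx2⟩ : {y : α // y ≠ x}) ∈ b.subtype (· ≠ x) := Finset.mem_subtype.mpr hu₂
  have hne' : (⟨u₁, hx1⟩ : {y : α // y ≠ x}) ≠ ⟨u₂, hx2⟩ := fun h => hne (congrArg Subtype.val h)
  obtain ⟨t, ht1, ht2, h12, h21, hfix⟩ := exists_baer hL hP hhov.1 hhov.2 hm1 hm2
  -- `t` preserves the hyperoval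
  have himg : (b.subtype (· ≠ x)).image t = b.subtype (· ≠ x) := by
    refine Finset.eq_of_subset_of_card_le ?_ ?_
    · intro y hy
      obtain ⟨a, ha, rfl⟩ := Finset.mem_image.mp hy
      by_cases h1 : a = ⟨u₁, hx1⟩
      · rw [h1, h12]
        exact hm2
      · by_cases h2 : a = ⟨u₂, hx2⟩
        · rw [h2, h21]
          exact hm1
        · rw [hfix a ha h1 h2]
          exact ha
    · rw [Finset.card_image_of_injective _ t.injective]
  have hmaps : ∀ c ∈ B, c.image (extPt x x t) ∈ B :=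
    s3622_extPt_maps hB hα hB hα t ht1 hH₀ (himg.symm ▸ hH₀)
  refine ⟨extPt x x t, mem_aut_iff.mpr hmaps, extPt_self x x t, fun a ha ha1 ha2 => ?_, ?_⟩
  · have hax : a ≠ x := fun h => hx (h ▸ ha)
    have h1 := extPt_coe x x t ⟨a, hax⟩
    have h2 : t ⟨a, hax⟩ = ⟨a, hax⟩ := hfix ⟨a, hax⟩ (Finset.mem_subtype.mpr ha)
      (fun h => ha1 (congrArg Subtype.val h)) (fun h => ha2 (congrArg Subtype.val h))
    rw [h2] at h1
    exact h1
  · have hc7 := baer_card_fix hL hP hhov.1 hhov.2 t ht1 hm1 hm2 hne' h12 h21 hfix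
    refine sign_of_invol_card_fix (extPt x x t) (fun a => ?_) 7 ?_ (by decide)
    · by_cases hax : a = x
      · rw [hax, extPt_self, extPt_self]
      · have h1 := extPt_coe x x t ⟨a, hax⟩
        have h2 := extPt_coe x x t (t ⟨a, hax⟩)
        rw [ht2] at h2
        have h1' : extPt x x t a = (t ⟨a, hax⟩).1 := h1
        rw [h1', h2]
    · have hfixset : Finset.univ.filter (fun w => extPt x x t w = w)
          = insert x ((Finset.univ.filter (fun w => t w = w)).map (ptEmb x)) := by
        ext a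
        rw [Finset.mem_filter, Finset.mem_insert, Finset.mem_map]
        constructor
        · rintro ⟨-, ha⟩
          by_cases hax : a = x
          · exact Or.inl hax
          · right
            refine ⟨⟨a, hax⟩, ?_, rfl⟩
            rw [Finset.mem_filter]
            refine ⟨Finset.mem_univ _, Subtype.ext ?_⟩
            have h1 : extPt x x t a = (t ⟨a, hax⟩).1 := extPt_coe x x t ⟨a, hax⟩
            rw [← h1]
            exact ha
        · rintro (hax | ⟨y, hy, rfl⟩)
          · rw [hax]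
            exact ⟨Finset.mem_univ _, extPt_self x x t⟩
          · rw [Finset.mem_filter] at hy
            refine ⟨Finset.mem_univ _, ?_⟩
            have h1 : extPt x x t (ptEmb x y) = (t y).1 := extPt_coe x x t y
            rw [h1, hy.2]
            rfl
      rw [hfixset, Finset.card_insert_of_notMem (notMem_map_ptEmb x _), Finset.card_map, hc7, hα]

end OddAut

end Cfsg.Agent.Lib.helper10
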