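/-
More counting in S(3, 6, 22): blocks through points, and blocks through a point that miss a
block; adjacency in the point-block graph.
-/
import Mathlib
import Cfsg.Prelude.Def_Sporadic_a
import Cfsg.Agent.Lib.helper10.Steiner3622

set_option autoImplicit false
set_option linter.unusedSectionVars false

namespace Cfsg.Agent.Lib.helper10

open Finset

section Steiner

variable {α : Type*} [Fintype α] [DecidableEq α] {B : Set (Finset α)}

/-- The number of blocks through a point is 21. -/
theorem s3622_card_through (hB : Cfsg.IsSteinerSystem 3 6 B) (hα : Fintype.card α = 22) (p : α) :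
    ((blk B).filter fun d => p ∈ d).card = 21 := by
  have h := s3622_thru_one hB hα {p} (Finset.card_singleton p)
  rw [thru] at h
  rw [← h]
  congr 1
  ext d
  simp

/-- The number of blocks through two distinct points is 5. -/
theorem s3622_card_through_two (hB : Cfsg.IsSteinerSystem 3 6 B) (hα : Fintype.card α = 22)
    {p q : α} (hpq : p ≠ q) : ((blk B).filter fun d => p ∈ d ∧ q ∈ d).card = 5 := by
  have h := s3622_thru_two hB hα {p, q} (Finset.card_pair hpq)
  rw [thru] at h
  rw [← h]
  congr 1
  ext d
  simp [Finset.insert_subset_iff]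

/-- The number of blocks through a point `p` that are disjoint from a block not through `p`
is 6. -/
theorem s3622_card_through_disjoint (hB : Cfsg.IsSteinerSystem 3 6 B)
    (hα : Fintype.card α = 22) {b : Finset α} (hb : b ∈ B) {p : α} (hp : p ∉ b) :
    ((blk B).filter fun d => p ∈ d ∧ Disjoint b d).card = 6 := by
  have hb6 := hB.1 b hb
  have hdb : ∀ d ∈ B, d ≠ b → (d ∩ b).card = 0 ∨ (d ∩ b).card = 2 :=
    fun d hd h => s3622_inter_zero_or_two hB hα hd hb h
  have hbY : (b ∩ insert p b).card = 6 := by
    rw [Finset.inter_eq_left.mpr (Finset.subset_insert p b), hb6]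
  have hsub : ∀ d : Finset α, (d ∩ b).card ≤ (d ∩ insert p b).card := fun d =>
    Finset.card_le_card (Finset.inter_subset_inter_left (Finset.subset_insert p b))
  have hle : ∀ d : Finset α, (d ∩ insert p b).card ≤ (d ∩ b).card + 1 := by
    intro d
    by_cases hpd : p ∈ d
    · rw [Finset.inter_insert_of_mem hpd]
      exact Finset.card_insert_le _ _
    · rw [Finset.inter_insert_of_notMem hpd]
      omega
  have key : ((blk B).filter fun d => p ∈ d ∧ Disjoint b d).card = meetN B (insert p b) 1 := by
    refine filter_card_eq_meetN _ fun d hd => ?_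
    constructor
    · rintro ⟨hpd, hdis⟩
      rw [Finset.inter_insert_of_mem hpd, Finset.inter_comm,
        Finset.disjoint_iff_inter_eq_empty.mp hdis]
      rfl
    · intro h1
      have hne : d ≠ b := by
        rintro rfl
        omega
      have h0 : (d ∩ b).card = 0 := by
        have := hdb d hd hne
        have := hsub d
        omega
      have hpd : p ∈ d := by
        by_contra hpd
        rw [Finset.inter_insert_of_notMem hpd] at h1
        omega
      refine ⟨hpd, ?_⟩
      rw [Finset.disjoint_iff_inter_eq_empty, Finset.inter_comm, ← Finset.card_eq_zero]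
      exact h0
  rw [key]
  have h6 : meetN B (insert p b) 6 = 1 := by
    rw [meetN_eq_card {b}, Finset.card_singleton]
    intro d
    rw [Finset.mem_singleton]
    constructor
    · rintro ⟨hd, h⟩
      by_contra hne
      have := hdb d hd hne
      have := hle d
      omega
    · rintro rfl
      exact ⟨hb, hbY⟩
  have hz : ∀ k, (k = 4 ∨ k = 5) → meetN B (insert p b) k = 0 := by
    intro k hk
    refine meetN_eq_zero fun d hd h => ?_
    by_cases h1 : d = b
    · subst h1
      omega
    · have := hdb d hd h1
      have := hle d
      omega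
  have h4 := hz 4 (Or.inl rfl)
  have h5 := hz 5 (Or.inr rfl)
  obtain ⟨e0, e1, e2, e3⟩ := s3622_master hB hα (insert p b)
  have hY : (insert p b).card = 7 := by rw [Finset.card_insert_of_notMem hp, hb6]
  rw [hY] at e0 e1 e2 e3
  simp only [Finset.sum_range_succ, Finset.sum_range_zero, h4, h5, h6] at e0 e1 e2 e3
  norm_num [Nat.choose] at e0 e1 e2 e3
  omega

/-- Counting in `Option (β ⊕ γ)` by components. -/
theorem card_filter_option_sum {β γ : Type*} [Fintype β] [Fintype γ] (P : Option (β ⊕ γ) → Prop)
    [DecidablePred P] :
    (Finset.univ.filter P).card = (if P none then 1 else 0)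
      + (Finset.univ.filter fun p : β => P (some (Sum.inl p))).card
      + (Finset.univ.filter fun c : γ => P (some (Sum.inr c))).card := by
  simp only [Finset.card_filter, Fintype.sum_option, Fintype.sum_sum_type]
  ring

end Steiner

/-! ### Adjacency in the point-block graph -/

section PointBlock

open Cfsg

variable {α : Type*} {B : Set (Finset α)}

theorem pb_adj_none_none : ¬ (pointBlockGraph B).Adj none none := by
  simp [pointBlockGraph]

theorem pb_adj_none_inl (p : α) : (pointBlockGraph B).Adj none (some (Sum.inl p)) := by
  simp [pointBlockGraph, pointBlockRel]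

theorem pb_adj_inl_none (p : α) : (pointBlockGraph B).Adj (some (Sum.inl p)) none := by
  simp [pointBlockGraph, pointBlockRel]

theorem pb_adj_none_inr (b : B) : ¬ (pointBlockGraph B).Adj none (some (Sum.inr b)) := by
  simp [pointBlockGraph, pointBlockRel]

theorem pb_adj_inr_none (b : B) : ¬ (pointBlockGraph B).Adj (some (Sum.inr b)) none := by
  simp [pointBlockGraph, pointBlockRel]

theorem pb_adj_inl_inl (p q : α) :
    ¬ (pointBlockGraph B).Adj (some (Sum.inl p)) (some (Sum.inl q)) := by
  simp [pointBlockGraph, pointBlockRel]

theorem pb_adj_inl_inr (p : α) (b : B) :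
    (pointBlockGraph B).Adj (some (Sum.inl p)) (some (Sum.inr b)) ↔ p ∈ (b : Finset α) := by
  simp [pointBlockGraph, pointBlockRel]

theorem pb_adj_inr_inl (p : α) (b : B) :
    (pointBlockGraph B).Adj (some (Sum.inr b)) (some (Sum.inl p)) ↔ p ∈ (b : Finset α) := by
  simp [pointBlockGraph, pointBlockRel]

theorem pb_adj_inr_inr (hB : Cfsg.IsSteinerSystem 3 6 B) (b c : B) :
    (pointBlockGraph B).Adj (some (Sum.inr b)) (some (Sum.inr c)) ↔
      Disjoint (b : Finset α) (c : Finset α) := by
  rw [pointBlockGraph, SimpleGraph.fromRel_adj]
  simp only [pointBlockRel]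
  constructor
  · rintro ⟨-, h | h⟩
    · exact h
    · exact h.symm
  · intro h
    refine ⟨?_, Or.inl h⟩
    intro hbc
    have hbc' : b = c := by simpa using hbc
    subst hbc'
    have h6 := hB.1 b.1 b.2
    rw [disjoint_self, Finset.bot_eq_empty] at h
    rw [h] at h6
    simp at h6

end PointBlock

end Cfsg.Agent.Lib.helper10
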