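/-
The involutory automorphism of a Steiner system S(3, 6, 22) inducing a transposition on a block:
its eight fixed points form the symmetric difference of two blocks, and it fixes exactly 21
blocks.
-/
import Mathlib
import Cfsg.Prelude.Def_Sporadic_a
import Cfsg.Agent.Lib.helper10.Steiner3622
import Cfsg.Agent.Lib.helper10.Steiner3622b
import Cfsg.Agent.Lib.helper10.Plane21
import Cfsg.Agent.Lib.helper10.Hyperoval
import Cfsg.Agent.Lib.helper10.HovCount
import Cfsg.Agent.Lib.helper10.BaerInv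
import Cfsg.Agent.Lib.helper10.S3622Unique
import Cfsg.Agent.Lib.helper10.SteinerExt
import Cfsg.Agent.Lib.helper10.S4723Unique
import Cfsg.Agent.Lib.helper10.S3622Aut
import Cfsg.Agent.Lib.helper10.BaerSign

set_option autoImplicit false
set_option linter.unusedSectionVars false

namespace Cfsg.Agent.Lib.helper10

open Finset

section BaerFull

variable {α : Type*} [Fintype α] [DecidableEq α] {B : Set (Finset α)}

/-- The automorphism of an S(3, 6, 22) fixing the point `x` and inducing the transposition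
`(u₁ u₂)` on a block `b` missing `x`: it is an involution, and its fixed points are the points
other than `u₁`, `u₂` of `b` and of the block through `x`, `u₁`, `u₂`. -/
theorem exists_baer_full (hB : Cfsg.IsSteinerSystem 3 6 B) (hα : Fintype.card α = 22) {x : α}
    {b : Finset α} (hb : b ∈ B) (hx : x ∉ b) {u₁ u₂ : α} (hu₁ : u₁ ∈ b) (hu₂ : u₂ ∈ b)
    (hne : u₁ ≠ u₂) :
    ∃ h : Equiv.Perm α, h ∈ Cfsg.setSystemAut B ∧ (∀ a, h (h a) = a) ∧
      ∃ b' ∈ B, x ∈ b' ∧ u₁ ∈ b' ∧ u₂ ∈ b' ∧
        ∀ w, h w = w ↔ (w ∈ b ∨ w ∈ b') ∧ w ≠ u₁ ∧ w ≠ u₂ := by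
  have hL : Cfsg.IsSteinerSystem 2 5 (der B x) := der_steiner hB x
  have hP : Fintype.card {y : α // y ≠ x} = 21 := by rw [card_ptCompl, hα]
  have hH₀ : b.subtype (· ≠ x) ∈ res B x := subtype_mem_res hb hx
  have hhov := res_mem_hov hB hH₀
  have hx1 : u₁ ≠ x := fun h => hx (h ▸ hu₁)
  have hx2 : u₂ ≠ x := fun h => hx (h ▸ hu₂)
  have hm1 : (⟨u₁, hx1⟩ : {y : α // y ≠ x}) ∈ b.subtype (· ≠ x) := Finset.mem_subtype.mpr hu₁
  have hm2 : (⟨u₂, hx2⟩ : {y : α // y ≠ x}) ∈ b.subtype (· ≠ x) := Finset.mem_subtype.mpr hu₂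
  have hne' : (⟨u₁, hx1⟩ : {y : α // y ≠ x}) ≠ ⟨u₂, hx2⟩ := fun h => hne (congrArg Subtype.val h)
  obtain ⟨t, ht1, ht2, h12, h21, hfix⟩ := exists_baer hL hP hhov.1 hhov.2 hm1 hm2
  -- `t` preserves the hyperoval
  have himg : (b.subtype (· ≠ x)).image t = b.subtype (· ≠ x) := by
    refine Finset.eq_of_subset_of_card_le ?_ ?_
    · intro y hy
      obtain ⟨a, ha, rfl⟩ := Finset.mem_image.mp hy
      by_cases h1 : a = ⟨u₁, hx1⟩
      · rw [h1, h12]
        exact hm2
      · by_cases h2 : a = ⟨u₂, hx2⟩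
        · rw [h2, h21]
          exact hm1
        · rw [hfix a ha h1 h2]
          exact ha
    · rw [Finset.card_image_of_injective _ t.injective]
  have hmaps : ∀ c ∈ B, c.image (extPt x x t) ∈ B :=
    s3622_extPt_maps hB hα hB hα t ht1 hH₀ (himg.symm ▸ hH₀)
  obtain ⟨ℓ, hℓ, h1ℓ, h2ℓ⟩ := p21_exists_line hL hne'
  refine ⟨extPt x x t, mem_aut_iff.mpr hmaps, fun a => ?_, insert x (ℓ.map (ptEmb x)), hℓ,
    Finset.mem_insert_self _ _,
    Finset.mem_insert_of_mem (Finset.mem_map_of_mem (ptEmb x) h1ℓ),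
    Finset.mem_insert_of_mem (Finset.mem_map_of_mem (ptEmb x) h2ℓ), fun w => ?_⟩
  · by_cases hax : a = x
    · rw [hax, extPt_self, extPt_self]
    · have h1 := extPt_coe x x t ⟨a, hax⟩
      have h2 := extPt_coe x x t (t ⟨a, hax⟩)
      rw [ht2] at h2
      have h1' : extPt x x t a = (t ⟨a, hax⟩).1 := h1
      rw [h1', h2]
  · by_cases hwx : w = x
    · subst hwx
      rw [extPt_self]
      exact ⟨fun _ => ⟨Or.inr (Finset.mem_insert_self _ _), Ne.symm hx1, Ne.symm hx2⟩,
        fun _ => rfl⟩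
    · have h1 : extPt x x t w = (t ⟨w, hwx⟩).1 := extPt_coe x x t ⟨w, hwx⟩
      have key := baer_fix_iff hL hP hhov.1 hhov.2 t ht1 hm1 hm2 hne' h12 h21 hfix hℓ h1ℓ h2ℓ
        ⟨w, hwx⟩
      rw [h1]
      constructor
      · intro hw
        have hw' : t ⟨w, hwx⟩ = ⟨w, hwx⟩ := Subtype.ext hw
        rcases Finset.mem_union.mp (key.mp hw') with h | h
        · rw [Finset.mem_sdiff, Finset.mem_subtype, Finset.mem_insert, Finset.mem_singleton,
            not_or] at h
          exact ⟨Or.inl h.1, fun e => h.2.1 (Subtype.ext e), fun e => h.2.2 (Subtype.ext e)⟩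
        · rw [Finset.mem_sdiff, Finset.mem_subtype] at h
          exact ⟨Or.inr (Finset.mem_insert_of_mem (Finset.mem_map_of_mem (ptEmb x) h.1)),
            fun e => h.2 (show w ∈ b from e ▸ hu₁), fun e => h.2 (show w ∈ b from e ▸ hu₂)⟩
      · rintro ⟨hw, hw1, hw2⟩
        have hw' : t ⟨w, hwx⟩ = ⟨w, hwx⟩ := by
          refine key.mpr ?_
          rcases hw with hw | hw
          · refine Finset.mem_union_left _ (Finset.mem_sdiff.mpr ⟨Finset.mem_subtype.mpr hw, ?_⟩)
            rw [Finset.mem_insert, Finset.mem_singleton, not_or]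
            exact ⟨fun e => hw1 (congrArg Subtype.val e), fun e => hw2 (congrArg Subtype.val e)⟩
          · have hwℓ : (⟨w, hwx⟩ : {y : α // y ≠ x}) ∈ ℓ := by
              rcases Finset.mem_insert.mp hw with h | h
              · exact absurd h hwx
              · obtain ⟨z, hz, e⟩ := Finset.mem_map.mp h
                have : z = ⟨w, hwx⟩ := Subtype.ext e
                exact this ▸ hz
            refine Finset.mem_union_right _ (Finset.mem_sdiff.mpr ⟨hwℓ, fun hwH => ?_⟩)
            rcases arc_third hhov.2 hℓ hm1 hm2 hwH h1ℓ h2ℓ hwℓ hne' with e | e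
            · exact hw1 (congrArg Subtype.val e)
            · exact hw2 (congrArg Subtype.val e)
        exact congrArg Subtype.val hw'

end BaerFull

section FixedBlocks

variable {α : Type*} [Fintype α] [DecidableEq α] {B : Set (Finset α)}

theorem card_inter_insert {E : Finset α} {r : α} (hr : r ∉ E) (c : Finset α) :
    (c ∩ insert r E).card = (c ∩ E).card + (if r ∈ c then 1 else 0) := by
  by_cases hrc : r ∈ c
  · rw [Finset.inter_insert_of_mem hrc,
      Finset.card_insert_of_notMem (fun h => hr (Finset.mem_inter.mp h).2), if_pos hrc]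
  · rw [Finset.inter_insert_of_notMem hrc, if_neg hrc, add_zero]

/-- Splitting the blocks meeting `E` in `k` points according to whether they contain `r`. -/
theorem meetN_insert_split {E : Finset α} {r : α} (hr : r ∉ E)
    (hE : ∀ c ∈ B, Even (c ∩ E).card) {k : ℕ} (hk : Even k) :
    meetN B E k = meetN B (insert r E) k + meetN B (insert r E) (k + 1) := by
  rw [meetN, meetN, meetN, ← Finset.card_union_of_disjoint]
  · congr 1
    ext c
    simp only [Finset.mem_filter, Finset.mem_union, mem_blk]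
    have hcard := card_inter_insert hr c
    constructor
    · rintro ⟨hc, h⟩
      by_cases hrc : r ∈ c
      · right
        refine ⟨hc, ?_⟩
        rw [hcard, if_pos hrc, h]
      · left
        refine ⟨hc, ?_⟩
        rw [hcard, if_neg hrc, h, add_zero]
    · rintro (⟨hc, h⟩ | ⟨hc, h⟩)
      · refine ⟨hc, ?_⟩
        obtain ⟨i, hi⟩ := hE c hc
        obtain ⟨j, hj⟩ := hk
        by_cases hrc : r ∈ c
        · rw [if_pos hrc] at hcard
          omega
        · rw [if_neg hrc] at hcard
          omega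
      · refine ⟨hc, ?_⟩
        obtain ⟨i, hi⟩ := hE c hc
        obtain ⟨j, hj⟩ := hk
        by_cases hrc : r ∈ c
        · rw [if_pos hrc] at hcard
          omega
        · rw [if_neg hrc] at hcard
          omega
  · rw [Finset.disjoint_filter]
    intro c _ h1 h2
    omega

/-- Two blocks of an S(3, 6, 22) with three common points are equal. -/
theorem s3622_eq_of_three (hB : Cfsg.IsSteinerSystem 3 6 B) {c d : Finset α} (hc : c ∈ B)
    (hd : d ∈ B) {p q s : α} (hpq : p ≠ q) (hps : p ≠ s) (hqs : q ≠ s) (hp : p ∈ c) (hq : q ∈ c)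
    (hs : s ∈ c) (hp' : p ∈ d) (hq' : q ∈ d) (hs' : s ∈ d) : c = d := by
  by_contra hne
  have h1 := s3622_inter_le_two hB hc hd hne
  have h2 : ({p, q, s} : Finset α) ⊆ c ∩ d := by
    intro y hy
    rw [Finset.mem_insert, Finset.mem_insert, Finset.mem_singleton] at hy
    rcases hy with rfl | rfl | rfl
    · exact Finset.mem_inter.mpr ⟨hp, hp'⟩
    · exact Finset.mem_inter.mpr ⟨hq, hq'⟩
    · exact Finset.mem_inter.mpr ⟨hs, hs'⟩
  have h3 := Finset.card_le_card h2
  rw [Finset.card_eq_three.mpr ⟨p, q, s, hpq, hps, hqs, rfl⟩] at h3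
  omega

variable (hB : Cfsg.IsSteinerSystem 3 6 B) (hα : Fintype.card α = 22) (t : Equiv.Perm α)
  (ht : ∀ c ∈ B, c.image t ∈ B) (ht2 : ∀ a, t (t a) = a) {E : Finset α}
  (hE : ∀ w, t w = w ↔ w ∈ E) (hE8 : E.card = 8)
  (hE4 : ∀ c ∈ B, (c ∩ E).card = 0 ∨ (c ∩ E).card = 2 ∨ (c ∩ E).card = 4)

include hB hα hE8 hE4 in
/-- The numbers of blocks meeting the fixed point set in 0, 2, 4 points. -/
theorem fix_meet_global : meetN B E 0 = 7 ∧ meetN B E 2 = 56 ∧ meetN B E 4 = 14 := by
  have hz : ∀ k, k ≠ 0 → k ≠ 2 → k ≠ 4 → meetN B E k = 0 := by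
    intro k h0 h2 h4
    refine meetN_eq_zero fun d hd h => ?_
    rcases hE4 d hd with h' | h' | h' <;> omega
  have h1 := hz 1 (by norm_num) (by norm_num) (by norm_num)
  have h3 := hz 3 (by norm_num) (by norm_num) (by norm_num)
  have h5 := hz 5 (by norm_num) (by norm_num) (by norm_num)
  have h6 := hz 6 (by norm_num) (by norm_num) (by norm_num)
  obtain ⟨e0, e1, e2, -⟩ := s3622_master hB hα E
  rw [hE8] at e0 e1 e2
  simp only [Finset.sum_range_succ, Finset.sum_range_zero, h1, h3, h5, h6] at e0 e1 e2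
  norm_num [Nat.choose] at e0 e1 e2
  omega

include hB hα hE8 hE4 in
/-- The numbers of blocks through a moved point meeting the fixed point set in 0 and 4
points. -/
theorem fix_meet_local {r : α} (hr : r ∉ E) :
    meetN B (insert r E) 1 = 3 ∧ meetN B (insert r E) 5 = 2 := by
  obtain ⟨g0, g2, g4⟩ := fix_meet_global hB hα hE8 hE4
  have hev : ∀ c ∈ B, Even (c ∩ E).card := by
    intro c hc
    rcases hE4 c hc with h | h | h <;> rw [h] <;> decide
  have s0 := meetN_insert_split hr hev (k := 0) (by decide)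
  have s2 := meetN_insert_split hr hev (k := 2) (by decide)
  have s4 := meetN_insert_split hr hev (k := 4) (by decide)
  have h6 : meetN B (insert r E) 6 = 0 := by
    refine meetN_eq_zero fun d hd h => ?_
    have h1 := card_inter_insert hr d
    have h2 : (if r ∈ d then 1 else 0) ≤ 1 := by split_ifs <;> omega
    rcases hE4 d hd with h' | h' | h' <;> omega
  obtain ⟨e0, e1, e2, e3⟩ := s3622_master hB hα (insert r E)
  rw [Finset.card_insert_of_notMem hr, hE8] at e0 e1 e2 e3
  simp only [Finset.sum_range_succ, Finset.sum_range_zero, h6] at e0 e1 e2 e3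
  norm_num [Nat.choose] at e0 e1 e2 e3
  norm_num at s0 s2 s4
  omega

include hB ht hE in
/-- A block with three fixed points is fixed. -/
theorem fixed_of_three {c : Finset α} (hc : c ∈ B) (h : 3 ≤ (c ∩ E).card) : c.image t = c := by
  by_contra hne
  have h1 := s3622_inter_le_two hB (ht c hc) hc hne
  have h2 : c ∩ E ⊆ c.image t ∩ c := by
    intro w hw
    rw [Finset.mem_inter] at hw
    refine Finset.mem_inter.mpr ⟨?_, hw.1⟩
    have := Finset.mem_image_of_mem t hw.1
    rwa [(hE w).mpr hw.2] at this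
  have h3 := Finset.card_le_card h2
  omega

include hB hα ht hE hE8 hE4 in
/-- Through a moved point there are exactly two blocks with four fixed points. -/
theorem exists_two_four {r : α} (hr : r ∉ E) :
    ∃ c₁ c₂ : Finset α, c₁ ∈ B ∧ c₂ ∈ B ∧ c₁ ≠ c₂ ∧ r ∈ c₁ ∧ r ∈ c₂ ∧ (c₁ ∩ E).card = 4 ∧
      (c₂ ∩ E).card = 4 := by
  have h5 := (fix_meet_local hB hα hE8 hE4 hr).2
  rw [meetN, Finset.card_eq_two] at h5
  obtain ⟨c₁, c₂, hne, heq⟩ := h5
  have key : ∀ c, c ∈ (blk B).filter (fun b => (b ∩ insert r E).card = 5) →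
      c ∈ B ∧ r ∈ c ∧ (c ∩ E).card = 4 := by
    intro c hc
    rw [Finset.mem_filter, mem_blk] at hc
    have h1 := card_inter_insert hr c
    by_cases hrc : r ∈ c
    · rw [if_pos hrc] at h1
      exact ⟨hc.1, hrc, by omega⟩
    · rw [if_neg hrc] at h1
      rcases hE4 c hc.1 with h' | h' | h' <;> omega
  have k1 := key c₁ (by rw [heq]; simp)
  have k2 := key c₂ (by rw [heq]; simp)
  exact ⟨c₁, c₂, k1.1, k2.1, hne, k1.2.1, k2.2.1, k1.2.2, k2.2.2⟩

include hB ht ht2 hE hE8 in
/-- The blocks through a moved point `r` and its image, other than the two blocks with four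
fixed points, contain no fixed point. -/
theorem pair_blocks {r : α} (hr : r ∉ E) {c₁ c₂ : Finset α} (h1 : c₁ ∈ B) (h2 : c₂ ∈ B)
    (hne : c₁ ≠ c₂) (hr1 : r ∈ c₁) (hr2 : r ∈ c₂) (h41 : (c₁ ∩ E).card = 4)
    (h42 : (c₂ ∩ E).card = 4) {d : Finset α} (hd : d ∈ B) (hrd : r ∈ d) (htd : t r ∈ d) :
    d = c₁ ∨ d = c₂ ∨ d ∩ E = ∅ := by
  have hrt : r ≠ t r := fun h => hr ((hE r).mp h.symm)
  have htr : t r ∉ E := by
    intro h
    have := (hE (t r)).mpr h
    rw [ht2] at this
    exact hrt this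
  have f1 := fixed_of_three hB t ht hE h1 (by omega)
  have f2 := fixed_of_three hB t ht hE h2 (by omega)
  have ht1 : t r ∈ c₁ := by
    have := Finset.mem_image_of_mem t hr1
    rwa [f1] at this
  have ht2' : t r ∈ c₂ := by
    have := Finset.mem_image_of_mem t hr2
    rwa [f2] at this
  -- the fixed points of the two blocks cover `E`
  have hdisj : Disjoint (c₁ ∩ E) (c₂ ∩ E) := by
    rw [Finset.disjoint_left]
    intro e he1 he2
    rw [Finset.mem_inter] at he1 he2
    have her : e ≠ r := fun h => hr (h ▸ he1.2)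
    have het : e ≠ t r := fun h => htr (h ▸ he1.2)
    exact hne (s3622_eq_of_three hB h1 h2 her het hrt he1.1 hr1 ht1 he2.1 hr2 ht2')
  have hcov : (c₁ ∩ E) ∪ (c₂ ∩ E) = E := by
    refine Finset.eq_of_subset_of_card_le
      (Finset.union_subset Finset.inter_subset_right Finset.inter_subset_right) ?_
    rw [Finset.card_union_of_disjoint hdisj, h41, h42, hE8]
  by_cases hd1 : d = c₁
  · exact Or.inl hd1
  · by_cases hd2 : d = c₂
    · exact Or.inr (Or.inl hd2)
    · right
      right
      rw [Finset.eq_empty_iff_forall_notMem]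
      intro e he
      rw [Finset.mem_inter] at he
      have her : e ≠ r := fun h => hr (h ▸ he.2)
      have het : e ≠ t r := fun h => htr (h ▸ he.2)
      have hmem : e ∈ (c₁ ∩ E) ∪ (c₂ ∩ E) := by rw [hcov]; exact he.2
      rcases Finset.mem_union.mp hmem with h | h
      · exact hd1 (s3622_eq_of_three hB hd h1 her het hrt he.1 hrd htd
          (Finset.mem_inter.mp h).1 hr1 ht1)
      · exact hd2 (s3622_eq_of_three hB hd h2 her het hrt he.1 hrd htd
          (Finset.mem_inter.mp h).1 hr2 ht2')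

include hB hα ht ht2 hE hE8 hE4 in
/-- No fixed block has exactly two fixed points. -/
theorem no_fixed_two {c : Finset α} (hc : c ∈ B) (hfix : c.image t = c) :
    (c ∩ E).card ≠ 2 := by
  intro h2
  have h6 := hB.1 c hc
  have hsd := Finset.card_sdiff_add_card_inter c E
  obtain ⟨r, hr⟩ : (c \ E).Nonempty := by
    apply Finset.card_pos.mp
    omega
  rw [Finset.mem_sdiff] at hr
  have htr : t r ∈ c := by
    have := Finset.mem_image_of_mem t hr.1
    rwa [hfix] at this
  obtain ⟨c₁, c₂, k1, k2, hne, hr1, hr2, h41, h42⟩ := exists_two_four hB hα t ht hE hE8 hE4 hr.2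
  rcases pair_blocks hB t ht ht2 hE hE8 hr.2 k1 k2 hne hr1 hr2 h41 h42 hc hr.1 htr
    with h | h | h
  · rw [h] at h2
    omega
  · rw [h] at h2
    omega
  · rw [h, Finset.card_empty] at h2
    omega

include hB hα ht ht2 hE hE8 hE4 in
/-- Every block without fixed points is fixed. -/
theorem zero_fixed {c : Finset α} (hc : c ∈ B) (h0 : (c ∩ E).card = 0) : c.image t = c := by
  refine image_eq_of_maps t (fun r hrc => ?_) rfl
  have hr : r ∉ E := by
    intro h
    have : r ∈ c ∩ E := Finset.mem_inter.mpr ⟨hrc, h⟩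
    rw [Finset.card_eq_zero] at h0
    rw [h0] at this
    exact absurd this (Finset.notMem_empty r)
  have hrt : r ≠ t r := fun h => hr ((hE r).mp h.symm)
  obtain ⟨c₁, c₂, k1, k2, hne, hr1, hr2, h41, h42⟩ := exists_two_four hB hα t ht hE hE8 hE4 hr
  have f1 := fixed_of_three hB t ht hE k1 (by omega)
  have f2 := fixed_of_three hB t ht hE k2 (by omega)
  have ht1 : t r ∈ c₁ := by
    have := Finset.mem_image_of_mem t hr1
    rwa [f1] at this
  have ht2' : t r ∈ c₂ := by
    have := Finset.mem_image_of_mem t hr2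
    rwa [f2] at this
  have hZ := (fix_meet_local hB hα hE8 hE4 hr).1
  rw [meetN] at hZ
  have hP := s3622_card_through_two hB hα hrt
  have hsub : (((blk B).filter fun d => r ∈ d ∧ t r ∈ d).erase c₁).erase c₂
      ⊆ (blk B).filter fun b => (b ∩ insert r E).card = 1 := by
    intro d hd
    rw [Finset.mem_erase, Finset.mem_erase, Finset.mem_filter, mem_blk] at hd
    obtain ⟨hd2, hd1, hdB, hrd, htd⟩ := hd
    rw [Finset.mem_filter, mem_blk]
    refine ⟨hdB, ?_⟩
    rcases pair_blocks hB t ht ht2 hE hE8 hr k1 k2 hne hr1 hr2 h41 h42 hdB hrd htd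
      with h | h | h
    · exact absurd h hd1
    · exact absurd h hd2
    · rw [card_inter_insert hr d, if_pos hrd, h, Finset.card_empty]
  have hm1 : c₁ ∈ (blk B).filter fun d => r ∈ d ∧ t r ∈ d :=
    Finset.mem_filter.mpr ⟨mem_blk.mpr k1, hr1, ht1⟩
  have hm2 : c₂ ∈ ((blk B).filter fun d => r ∈ d ∧ t r ∈ d).erase c₁ :=
    Finset.mem_erase.mpr ⟨Ne.symm hne, Finset.mem_filter.mpr ⟨mem_blk.mpr k2, hr2, ht2'⟩⟩
  have heq := Finset.eq_of_subset_of_card_le hsub (by
    rw [hZ, Finset.card_erase_of_mem hm2, Finset.card_erase_of_mem hm1, hP])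
  have hcZ : c ∈ (blk B).filter fun b => (b ∩ insert r E).card = 1 := by
    rw [Finset.mem_filter, mem_blk]
    refine ⟨hc, ?_⟩
    rw [card_inter_insert hr c, if_pos hrc, h0]
  rw [← heq, Finset.mem_erase, Finset.mem_erase, Finset.mem_filter] at hcZ
  exact hcZ.2.2.2.2

include hB hα ht ht2 hE hE8 hE4 in
/-- The involution fixes exactly 21 blocks. -/
theorem card_fixed_blocks : ((blk B).filter fun c => c.image t = c).card = 21 := by
  obtain ⟨g0, g2, g4⟩ := fix_meet_global hB hα hE8 hE4
  have heq : (blk B).filter (fun c => c.image t = c)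
      = (blk B).filter (fun b => (b ∩ E).card = 0) ∪ (blk B).filter (fun b => (b ∩ E).card = 4) := by
    ext c
    rw [Finset.mem_union, Finset.mem_filter, Finset.mem_filter, Finset.mem_filter, mem_blk]
    constructor
    · rintro ⟨hc, hfix⟩
      rcases hE4 c hc with h | h | h
      · exact Or.inl ⟨hc, h⟩
      · exact absurd h (no_fixed_two hB hα t ht ht2 hE hE8 hE4 hc hfix)
      · exact Or.inr ⟨hc, h⟩
    · rintro (⟨hc, h⟩ | ⟨hc, h⟩)
      · exact ⟨hc, zero_fixed hB hα t ht ht2 hE hE8 hE4 hc h⟩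
      · exact ⟨hc, fixed_of_three hB t ht hE hc (by omega)⟩
  have hdisj : Disjoint ((blk B).filter (fun b => (b ∩ E).card = 0))
      ((blk B).filter (fun b => (b ∩ E).card = 4)) := by
    rw [Finset.disjoint_filter]
    intro c _ h1 h2
    omega
  rw [heq, Finset.card_union_of_disjoint hdisj]
  rw [meetN] at g0 g4
  rw [g0, g4]

end FixedBlocks

end Cfsg.Agent.Lib.helper10
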