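/-
The automorphism of a Steiner system S(3, 6, 22) fixing a point `x` and four points of a block
missing `x` and swapping the other two points of the block maps some heptad to a heptad meeting
it in exactly four points.
-/
import Mathlib
import Cfsg.Prelude.Def_Sporadic_a
import Cfsg.Agent.Lib.helper10.Steiner3622
import Cfsg.Agent.Lib.helper10.Plane21
import Cfsg.Agent.Lib.helper10.Hyperoval
import Cfsg.Agent.Lib.helper10.HovCount
import Cfsg.Agent.Lib.helper10.BaerInv
import Cfsg.Agent.Lib.helper10.S3622Unique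
import Cfsg.Agent.Lib.helper10.Heptad
import Cfsg.Agent.Lib.helper10.SteinerExt
import Cfsg.Agent.Lib.helper10.S4723Unique

set_option autoImplicit false
set_option linter.unusedSectionVars false

namespace Cfsg.Agent.Lib.helper10

open Finset

section BaerHept

variable {α : Type*} [Fintype α] [DecidableEq α] {B : Set (Finset α)}

theorem exists_baer_aut (hB : Cfsg.IsSteinerSystem 3 6 B) (hα : Fintype.card α = 22) {x : α}
    {b : Finset α} (hb : b ∈ B) (hx : x ∉ b) {u₁ u₂ : α} (hu₁ : u₁ ∈ b) (hu₂ : u₂ ∈ b)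
    (hne : u₁ ≠ u₂) :
    ∃ h : Equiv.Perm α, (∀ c ∈ B, c.image h ∈ B) ∧ h x = x ∧
      (∀ a ∈ b, a ≠ u₁ → a ≠ u₂ → h a = a) ∧ ∃ W ∈ hept B, (W ∩ W.image h).card = 4 := by
  have hL : Cfsg.IsSteinerSystem 2 5 (der B x) := der_steiner hB x
  have hP : Fintype.card {y : α // y ≠ x} = 21 := by rw [card_ptCompl, hα]
  have hH₀ : b.subtype (· ≠ x) ∈ res B x := subtype_mem_res hb hx
  have hhov := res_mem_hov hB hH₀
  have hx1 : u₁ ≠ x := fun h => hx (h ▸ hu₁)
  have hx2 : u₂ ≠ x := fun h => hx (h ▸ hu₂)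
  have hm1 : (⟨u₁, hx1⟩ : {y : α // y ≠ x}) ∈ b.subtype (· ≠ x) := Finset.mem_subtype.mpr hu₁
  have hm2 : (⟨u₂, hx2⟩ : {y : α // y ≠ x}) ∈ b.subtype (· ≠ x) := Finset.mem_subtype.mpr hu₂
  have hne' : (⟨u₁, hx1⟩ : {y : α // y ≠ x}) ≠ ⟨u₂, hx2⟩ := fun h => hne (congrArg Subtype.val h)
  obtain ⟨t, ht1, ht2, h12, h21, hfix⟩ := exists_baer hL hP hhov.1 hhov.2 hm1 hm2
  have himg : (b.subtype (· ≠ x)).image t = b.subtype (· ≠ x) := by
    refine Finset.eq_of_subset_of_card_le ?_ ?_
    · intro y hy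
      obtain ⟨a, ha, rfl⟩ := Finset.mem_image.mp hy
      by_cases h1 : a = ⟨u₁, hx1⟩
      · rw [h1, h12]
        exact hm2
      · by_cases h2 : a = ⟨u₂, hx2⟩
        · rw [h2, h21]
          exact hm1
        · rw [hfix a ha h1 h2]
          exact ha
    · rw [Finset.card_image_of_injective _ t.injective]
  have hmaps : ∀ c ∈ B, c.image (extPt x x t) ∈ B :=
    s3622_extPt_maps hB hα hB hα t ht1 hH₀ (himg.symm ▸ hH₀)
  refine ⟨extPt x x t, hmaps, extPt_self x x t, fun a ha ha1 ha2 => ?_, ?_⟩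
  · have hax : a ≠ x := fun h => hx (h ▸ ha)
    have h1 := extPt_coe x x t ⟨a, hax⟩
    have h2 : t ⟨a, hax⟩ = ⟨a, hax⟩ := hfix ⟨a, hax⟩ (Finset.mem_subtype.mpr ha)
      (fun h => ha1 (congrArg Subtype.val h)) (fun h => ha2 (congrArg Subtype.val h))
    rw [h2] at h1
    exact h1
  · -- three points of the hyperoval other than the two swapped ones
    have hsub2 : ({⟨u₁, hx1⟩, ⟨u₂, hx2⟩} : Finset {y : α // y ≠ x}) ⊆ b.subtype (· ≠ x) := by
      intro y hy
      rw [Finset.mem_insert, Finset.mem_singleton] at hy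
      rcases hy with rfl | rfl
      · exact hm1
      · exact hm2
    have hc4 : ((b.subtype (· ≠ x)) \ {⟨u₁, hx1⟩, ⟨u₂, hx2⟩}).card = 4 := by
      rw [Finset.card_sdiff_of_subset hsub2, hhov.1, Finset.card_pair hne']
    obtain ⟨T, hTsub, hT3⟩ := Finset.exists_subset_card_eq
      (by omega : 3 ≤ ((b.subtype (· ≠ x)) \ {⟨u₁, hx1⟩, ⟨u₂, hx2⟩}).card)
    have hTH : T ⊆ b.subtype (· ≠ x) := fun a ha => (Finset.mem_sdiff.mp (hTsub ha)).1
    have hu₁T : (⟨u₁, hx1⟩ : {y : α // y ≠ x}) ∉ T := fun h => by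
      have := (Finset.mem_sdiff.mp (hTsub h)).2
      exact this (by simp)
    have hu₂T : (⟨u₂, hx2⟩ : {y : α // y ≠ x}) ∉ T := fun h => by
      have := (Finset.mem_sdiff.mp (hTsub h)).2
      exact this (by simp)
    have hthru : thru (hov (der B x)) T = 3 := hov_thru_three hL hP (hhov.2.mono hTH) hT3
    rw [thru] at hthru
    obtain ⟨K, hK, hKne⟩ := Finset.exists_mem_ne (by rw [hthru]; norm_num :
      1 < ((blk (hov (der B x))).filter (fun c => T ⊆ c)).card) (b.subtype (· ≠ x))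
    rw [Finset.mem_filter, mem_blk] at hK
    obtain ⟨hKhov, hTK⟩ := hK
    have hKH : K ∩ b.subtype (· ≠ x) = T := by
      have h1 : T ⊆ K ∩ b.subtype (· ≠ x) := Finset.subset_inter hTK hTH
      have h2 : (K ∩ b.subtype (· ≠ x)).card ≤ 3 := by
        by_contra hcon
        exact hKne (hov_eq_of_four hL hP hKhov hhov (by omega))
      exact (Finset.eq_of_subset_of_card_le h1 (by rw [hT3]; exact h2)).symm
    have hKres : K ∉ res B x := by
      intro hKr
      have h1 : K ∈ evenHov (der B x) (b.subtype (· ≠ x)) := by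
        rw [← blk_res_eq_evenHov hB hα hH₀, mem_blk]
        exact hKr
      rw [mem_evenHov, hKH, hT3] at h1
      omega
    have hmove := baer_moves hL hP hhov.1 hhov.2 t ht1 ht2 hm1 hm2 hne' h12 hfix hKhov.1
      hKhov.2 hT3 hKH hu₁T hu₂T
    have hKt : K.image t ∈ hov (der B x) := image_mem_hov hL hL t ht1 hKhov
    have hTfix : ∀ a ∈ T, t a = a := fun a ha =>
      hfix a (hTH ha) (fun h => hu₁T (h ▸ ha)) (fun h => hu₂T (h ▸ ha))
    have hTKt : T ⊆ K.image t := fun a ha => Finset.mem_image.mpr ⟨a, hTK ha, hTfix a ha⟩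
    have hc3 : (K ∩ K.image t).card = 3 := by
      have h1 : T ⊆ K ∩ K.image t := Finset.subset_inter hTK hTKt
      have h2 := Finset.card_le_card h1
      have h3 : (K ∩ K.image t).card ≤ 3 := by
        by_contra hcon
        exact hmove (hov_eq_of_four hL hP hKhov hKt (by omega)).symm
      omega
    refine ⟨insert x (K.map (ptEmb x)), insert_mem_hept hB hα hKhov hKres, ?_⟩
    rw [image_extPt_insert, insert_map_inter, card_insert_map, hc3]

end BaerHept

end Cfsg.Agent.Lib.helper10
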