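/-
Kernel-checkable stabiliser chains for permutation groups of `Fin n`.  Points are natural
numbers; a letter system is a family of permutations closed under inverses together with an
evaluation function on natural numbers (a packed table in practice); group elements are paths
(lists of letters); every level of a chain has its own letter system, whose generators are
paths of the level above, and a table of the paths of a transversal of the orbit of its base
point.  The Schreier generators of every level are sifted through the lower levels on the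
images of the base points only; that the pointwise stabiliser of the base is trivial is a
separate hypothesis, provided by an invariant relation.
-/
import Mathlib

set_option autoImplicit false
set_option linter.unusedSectionVars false

namespace Cfsg.Agent.Lib.helper10

/-- Entry `i` of a table of `w`-bit entries packed into a natural number. -/
def plook (w t i : ℕ) : ℕ := Nat.land (Nat.shiftRight t (Nat.mul w i)) (Nat.sub (Nat.pow 2 w) 1)

theorem plook_lt (w t i : ℕ) : plook w t i < 2 ^ w := by
  have h1 : plook w t i ≤ 2 ^ w - 1 := Nat.and_le_right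
  have h2 : 0 < 2 ^ w := Nat.pow_pos (by norm_num)
  omega

/-- The index of the inverse letter. -/
def linv (c : ℕ) : ℕ := if c % 2 = 0 then c + 1 else c - 1

theorem linv_linv (c : ℕ) : linv (linv c) = c := by
  unfold linv
  split_ifs <;> omega

theorem linv_lt {g c : ℕ} (hg : g % 2 = 0) (h : c < g) : linv c < g := by
  unfold linv
  split_ifs <;> omega

theorem linv_mod {g : ℕ} (hg : g % 2 = 0) (hpos : 0 < g) (c : ℕ) :
    linv c % g = linv (c % g) := by
  have h1 := Nat.div_add_mod c g
  have h2 := Nat.mod_lt c hpos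
  have h3 : c % 2 = c % g % 2 := by
    have : c % g % 2 = c % 2 := Nat.mod_mod_of_dvd c (Nat.dvd_of_mod_eq_zero hg)
    omega
  unfold linv
  by_cases hc : c % 2 = 0
  · rw [if_pos hc, if_pos (by omega)]
    have h4 : c + 1 = (c % g + 1) + g * (c / g) := by omega
    rw [h4, Nat.add_mul_mod_self_left]
    exact Nat.mod_eq_of_lt (by omega)
  · rw [if_neg hc, if_neg (by omega)]
    have h4 : c - 1 = (c % g - 1) + g * (c / g) := by omega
    rw [h4, Nat.add_mul_mod_self_left]
    exact Nat.mod_eq_of_lt (by omega)

/-- Strict evaluation of a natural number argument. -/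
def nforce {α : Sort*} (x : ℕ) (k : ℕ → α) : α :=
  Nat.rec (motive := fun _ => α) (k 0) (fun y _ => k (Nat.succ y)) x

theorem nforce_eq {α : Sort*} (x : ℕ) (k : ℕ → α) : nforce x k = k x := by
  cases x <;> rfl

/-- Strict evaluation of a list of natural numbers. -/
def lforce {α : Sort*} (l : List ℕ) (k : List ℕ → α) : α :=
  List.rec (motive := fun _ => (List ℕ → α) → α) (fun k => k [])
    (fun c _ ih k => nforce c fun c' => ih fun t => k (c' :: t)) l k

theorem lforce_eq {α : Sort*} (l : List ℕ) (k : List ℕ → α) : lforce l k = k l := by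
  induction l generalizing k with
  | nil => rfl
  | cons c l ih =>
    show nforce c (fun c' => lforce l fun t => k (c' :: t)) = k (c :: l)
    rw [nforce_eq, ih]

/-- A Boolean check on the numbers below `len`. -/
def allBelow (f : ℕ → Bool) (len : ℕ) : Bool :=
  Nat.rec (motive := fun _ => Bool) true (fun i ih => f i && ih) len

theorem allBelow_succ (f : ℕ → Bool) (len : ℕ) :
    allBelow f (len + 1) = (f len && allBelow f len) := rfl

theorem allBelow_sound {f : ℕ → Bool} {len : ℕ} (h : allBelow f len = true) :
    ∀ i, i < len → f i = true := by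
  induction len with
  | zero => intro i hi; omega
  | succ k ih =>
    rw [allBelow_succ, Bool.and_eq_true] at h
    intro i hi
    rcases Nat.lt_succ_iff_lt_or_eq.mp hi with h1 | rfl
    · exact ih h.2 i h1
    · exact h.1

/-- The number of numbers below `len` passing a Boolean test. -/
def cntBelow (f : ℕ → Bool) (len : ℕ) : ℕ :=
  Nat.rec (motive := fun _ => ℕ → ℕ) (fun acc => acc)
    (fun i ih acc => nforce (acc + cond (f i) 1 0) ih) len 0

theorem cntBelow_aux (f : ℕ → Bool) (len acc : ℕ) :
    Nat.rec (motive := fun _ => ℕ → ℕ) (fun acc => acc)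
      (fun i ih acc => nforce (acc + cond (f i) 1 0) ih) len acc
      = acc + ((Finset.range len).filter fun i => f i = true).card := by
  induction len generalizing acc with
  | zero => simp
  | succ k ih =>
    show nforce (acc + cond (f k) 1 0) _ = _
    rw [nforce_eq, ih, Finset.range_add_one, Finset.filter_insert]
    by_cases hf : f k = true
    · rw [if_pos hf, Finset.card_insert_of_notMem (by simp), hf]
      simp only [cond_true]
      omega
    · rw [if_neg hf]
      have : f k = false := by simpa using hf
      rw [this]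
      simp

/-- The number of elements of `Fin n` passing a test is computed by `cntBelow`. -/
theorem card_filter_fin_eq_cntBelow (n : ℕ) (f : ℕ → Bool) :
    (Finset.univ.filter fun v : Fin n => f v = true).card = cntBelow f n := by
  unfold cntBelow
  rw [cntBelow_aux, zero_add, ← Finset.card_map Fin.valEmbedding]
  congr 1
  ext i
  simp only [Finset.mem_map, Finset.mem_filter, Finset.mem_univ, true_and, Fin.valEmbedding_apply,
    Finset.mem_range]
  constructor
  · rintro ⟨v, hv, rfl⟩
    exact ⟨v.2, hv⟩
  · rintro ⟨h1, h2⟩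
    exact ⟨⟨i, h1⟩, h2, rfl⟩

/-! ### Letter systems and paths -/

/-- A family of permutations of `Fin n` closed under inverses (letter `linv c` is the inverse of
letter `c`), periodic in the letter with the even period `g`, together with an evaluation
function on natural numbers. -/
structure LetterSys (n : ℕ) where
  /-- the number of letters -/
  g : ℕ
  /-- evaluation on natural numbers -/
  act : ℕ → ℕ → ℕ
  /-- the letters as permutations -/
  L : ℕ → Equiv.Perm (Fin n)
  hact : ∀ (c : ℕ) (x : Fin n), ((L c x : Fin n) : ℕ) = act c x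
  hinv : ∀ c, L (linv c) = (L c)⁻¹
  hmod : ∀ c, L c = L (c % g)
  hg : g % 2 = 0
  hpos : 0 < g

/-- The letter system of an evaluation function that passes the table check. -/
def LetterSys.ofAct (n g : ℕ) (act : ℕ → ℕ → ℕ) (hg : g % 2 = 0) (hpos : 0 < g)
    (hmod : ∀ c x, act c x = act (c % g) x)
    (h : ∀ x, x < n → ∀ c, c < g → act c x < n ∧ act (linv c) (act c x) = x) : LetterSys n where
  g := g
  act := act
  L := fun c =>
    { toFun := fun x => ⟨act (c % g) x, (h x x.2 (c % g) (Nat.mod_lt _ hpos)).1⟩
      invFun := fun x => ⟨act (linv (c % g)) x,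
        (h x x.2 (linv (c % g)) (linv_lt hg (Nat.mod_lt _ hpos))).1⟩
      left_inv := fun x => Fin.ext (h x x.2 (c % g) (Nat.mod_lt _ hpos)).2
      right_inv := fun x => Fin.ext (by
        have h1 := (h x x.2 (linv (c % g)) (linv_lt hg (Nat.mod_lt _ hpos))).2
        rw [linv_linv] at h1
        exact h1) }
  hact := fun c x => (hmod c x).symm
  hinv := fun c => by
    ext x
    show act (linv c % g) x = act (linv (c % g)) x
    rw [linv_mod hg hpos]
  hmod := fun c => by
    ext x
    show act (c % g) x = act (c % g % g) x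
    rw [Nat.mod_mod]
  hg := hg
  hpos := hpos

/-- Evaluation of letter `c` at `x` from a packed table of `g` rows of `n` entries of `w`
bits. -/
def tact (w T g n c x : ℕ) : ℕ := plook w T (c % g * n + x)

theorem tact_mod (w T g n c x : ℕ) : tact w T g n c x = tact w T g n (c % g) x := by
  unfold tact
  rw [Nat.mod_mod]

/-- The table check for an evaluation function, at a point. -/
def chkTab (n g : ℕ) (act : ℕ → ℕ → ℕ) (x : ℕ) : Bool :=
  allBelow (fun c => decide (act c x < n) && decide (act (linv c) (act c x) = x)) g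

theorem chkTab_sound {n g : ℕ} {act : ℕ → ℕ → ℕ} (h : ∀ x, x < n → chkTab n g act x = true) :
    ∀ x, x < n → ∀ c, c < g → act c x < n ∧ act (linv c) (act c x) = x := by
  intro x hx c hc
  have h4 := allBelow_sound (h x hx) c hc
  rw [Bool.and_eq_true, decide_eq_true_eq, decide_eq_true_eq] at h4
  exact h4

/-- Evaluation of a path (a list of letters; the last letter is applied first). -/
noncomputable def pact (act : ℕ → ℕ → ℕ) (p : List ℕ) (x : ℕ) : ℕ :=
  List.rec (motive := fun _ => ℕ) x (fun c _ ih => act c ih) p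

theorem pact_nil (act : ℕ → ℕ → ℕ) (x : ℕ) : pact act [] x = x := rfl

theorem pact_cons (act : ℕ → ℕ → ℕ) (c : ℕ) (p : List ℕ) (x : ℕ) :
    pact act (c :: p) x = act c (pact act p x) := rfl

/-- Evaluation of the inverse of a path. -/
noncomputable def pactInv (act : ℕ → ℕ → ℕ) (p : List ℕ) (x : ℕ) : ℕ :=
  List.rec (motive := fun _ => ℕ → ℕ) (fun y => y) (fun c _ ih y => ih (act (linv c) y)) p x

theorem pactInv_nil (act : ℕ → ℕ → ℕ) (x : ℕ) : pactInv act [] x = x := rfl

theorem pactInv_cons (act : ℕ → ℕ → ℕ) (c : ℕ) (p : List ℕ) (x : ℕ) :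
    pactInv act (c :: p) x = pactInv act p (act (linv c) x) := rfl

section Sem

variable {n : ℕ} (S : LetterSys n)

/-- The permutation of a path. -/
def LetterSys.pperm (p : List ℕ) : Equiv.Perm (Fin n) := (p.map S.L).prod

theorem LetterSys.pperm_nil : S.pperm [] = 1 := rfl

theorem LetterSys.pperm_cons (c : ℕ) (p : List ℕ) : S.pperm (c :: p) = S.L c * S.pperm p := by
  simp [LetterSys.pperm]

theorem LetterSys.pperm_apply (p : List ℕ) (x : Fin n) :
    ((S.pperm p x : Fin n) : ℕ) = pact S.act p x := by
  induction p with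
  | nil => rfl
  | cons c p ih =>
    rw [S.pperm_cons, Equiv.Perm.mul_apply, S.hact, ih, pact_cons]

theorem LetterSys.pperm_inv_apply (p : List ℕ) (x : Fin n) :
    (((S.pperm p)⁻¹ x : Fin n) : ℕ) = pactInv S.act p x := by
  induction p generalizing x with
  | nil => rfl
  | cons c p ih =>
    rw [S.pperm_cons, mul_inv_rev, Equiv.Perm.mul_apply, ← S.hinv, ih, S.hact, pactInv_cons]

/-- The group generated by the letters. -/
def LetterSys.H : Subgroup (Equiv.Perm (Fin n)) := Subgroup.closure (Set.range S.L)

theorem LetterSys.L_mem (c : ℕ) : S.L c ∈ S.H := Subgroup.subset_closure ⟨c, rfl⟩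

theorem LetterSys.pperm_mem (p : List ℕ) : S.pperm p ∈ S.H := by
  induction p with
  | nil => exact S.H.one_mem
  | cons c p ih =>
    rw [S.pperm_cons]
    exact S.H.mul_mem (S.L_mem c) ih

/-- The group of a letter system lies in a subgroup containing its even letters. -/
theorem LetterSys.H_le_of_even (K : Subgroup (Equiv.Perm (Fin n)))
    (h : ∀ j, j < S.g / 2 → S.L (2 * j) ∈ K) : S.H ≤ K := by
  rw [LetterSys.H, Subgroup.closure_le]
  rintro _ ⟨c, rfl⟩
  show S.L c ∈ K
  rw [S.hmod c]
  have h1 := Nat.mod_lt c S.hpos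
  have hg := S.hg
  by_cases hc : c % S.g % 2 = 0
  · have h2 : c % S.g = 2 * (c % S.g / 2) := by omega
    rw [h2]
    exact h _ (by omega)
  · have h2 : c % S.g = linv (2 * (c % S.g / 2)) := by
      unfold linv
      rw [if_pos (by omega)]
      omega
    rw [h2, S.hinv]
    exact K.inv_mem (h _ (by omega))

/-- The even letters generate the group. -/
theorem LetterSys.H_eq_closure_even :
    S.H = Subgroup.closure {s | ∃ j, j < S.g / 2 ∧ s = S.L (2 * j)} := by
  apply le_antisymm
  · exact S.H_le_of_even _ (fun j hj => Subgroup.subset_closure ⟨j, hj, rfl⟩)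
  · rw [Subgroup.closure_le]
    rintro _ ⟨j, -, rfl⟩
    exact S.L_mem _

/-- With four letters, the group is generated by the letters `0` and `2`. -/
theorem LetterSys.H_eq_closure_pair (h4 : S.g = 4) :
    S.H = Subgroup.closure {S.L 0, S.L 2} := by
  apply le_antisymm
  · apply S.H_le_of_even
    intro j hj
    rw [h4] at hj
    have : j = 0 ∨ j = 1 := by omega
    rcases this with rfl | rfl
    · exact Subgroup.subset_closure (by simp)
    · exact Subgroup.subset_closure (by simp)
  · rw [Subgroup.closure_le]
    rintro x (rfl | rfl)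
    · exact S.L_mem _
    · exact S.L_mem _

end Sem

/-- The letter system all of whose letters are the identity. -/
def idSys (n : ℕ) : LetterSys n :=
  LetterSys.ofAct n 2 (fun _ x => x) rfl (by norm_num) (fun _ _ => rfl)
    (fun _ hx _ _ => ⟨hx, rfl⟩)

theorem idSys_H (n : ℕ) : (idSys n).H = ⊥ := by
  rw [eq_bot_iff, LetterSys.H, Subgroup.closure_le]
  rintro _ ⟨c, rfl⟩
  rw [SetLike.mem_coe, Subgroup.mem_bot]
  ext x
  rfl

/-! ### One step of a stabiliser chain -/

section Step

variable {α : Type*} [Fintype α] [DecidableEq α]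

/-- Elements of a group generated by `gens` decompose along a transversal `u` of an orbit `O`
when every Schreier generator lies in the subgroup `K`. -/
theorem schreier_decomp (K : Subgroup (Equiv.Perm α)) (gens : Set (Equiv.Perm α))
    (O : Finset α) (u : α → Equiv.Perm α)
    (hs : ∀ s ∈ gens, ∀ v ∈ O, s v ∈ O ∧ (u (s v))⁻¹ * s * u v ∈ K) :
    ∀ h ∈ Subgroup.closure gens, ∀ v ∈ O, h v ∈ O ∧ (u (h v))⁻¹ * h * u v ∈ K := by
  intro h hh
  induction hh using Subgroup.closure_induction with
  | mem s hs' => exact hs s hs'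
  | one =>
    intro v hv
    refine ⟨hv, ?_⟩
    rw [Equiv.Perm.one_apply, mul_one, inv_mul_cancel]
    exact K.one_mem
  | mul x y _ _ hx hy =>
    intro v hv
    obtain ⟨h1, h2⟩ := hy v hv
    obtain ⟨h3, h4⟩ := hx (y v) h1
    refine ⟨h3, ?_⟩
    have : (u ((x * y) v))⁻¹ * (x * y) * u v
        = ((u (x (y v)))⁻¹ * x * u (y v)) * ((u (y v))⁻¹ * y * u v) := by
      rw [Equiv.Perm.mul_apply]
      group
    rw [this]
    exact K.mul_mem h4 h2
  | inv x _ hx =>
    intro v hv
    have himg : O.image x = O := by
      apply Finset.eq_of_subset_of_card_le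
      · intro y hy
        obtain ⟨z, hz, rfl⟩ := Finset.mem_image.mp hy
        exact (hx z hz).1
      · rw [Finset.card_image_of_injective _ x.injective]
    have hv' : v ∈ O.image x := by rw [himg]; exact hv
    obtain ⟨z, hz, rfl⟩ := Finset.mem_image.mp hv'
    have hxz : x⁻¹ (x z) = z := by rw [Equiv.Perm.inv_def, Equiv.symm_apply_apply]
    rw [hxz]
    refine ⟨hz, ?_⟩
    have h1 := K.inv_mem (hx z hz).2
    have : ((u (x z))⁻¹ * x * u z)⁻¹ = (u z)⁻¹ * x⁻¹ * u (x z) := by group
    rw [this] at h1
    exact h1

/-- The order of a group with a transversal of the orbit of a point whose Schreier generators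
lie in a subgroup fixing the point. -/
theorem schreier_step (H K : Subgroup (Equiv.Perm α)) (gens : Set (Equiv.Perm α))
    (hH : H = Subgroup.closure gens) (hKH : K ≤ H) (b : α) (hKb : ∀ k ∈ K, k b = b)
    (O : Finset α) (u : α → Equiv.Perm α) (hb : b ∈ O) (hub : u b = 1)
    (hu : ∀ v ∈ O, u v ∈ H ∧ u v b = v)
    (hs : ∀ s ∈ gens, ∀ v ∈ O, s v ∈ O ∧ (u (s v))⁻¹ * s * u v ∈ K) :
    Nat.card H = O.card * Nat.card K := by
  have hdec := schreier_decomp K gens O u hs
  have hdec' : ∀ h ∈ H, h b ∈ O ∧ (u (h b))⁻¹ * h ∈ K := by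
    intro h hh
    rw [hH] at hh
    have := hdec h hh b hb
    rw [hub, mul_one] at this
    exact this
  have e : H ≃ O × K :=
    { toFun := fun h => (⟨h.1 b, (hdec' h.1 h.2).1⟩, ⟨(u (h.1 b))⁻¹ * h.1, (hdec' h.1 h.2).2⟩)
      invFun := fun vk => ⟨u vk.1.1 * vk.2.1, H.mul_mem (hu vk.1.1 vk.1.2).1 (hKH vk.2.2)⟩
      left_inv := fun h => by
        apply Subtype.ext
        show u (h.1 b) * ((u (h.1 b))⁻¹ * h.1) = h.1
        group
      right_inv := fun vk => by
        have h1 : (u vk.1.1 * vk.2.1) b = vk.1.1 := by
          rw [Equiv.Perm.mul_apply, hKb _ vk.2.2, (hu vk.1.1 vk.1.2).2]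
        apply Prod.ext
        · apply Subtype.ext
          exact h1
        · apply Subtype.ext
          show (u ((u vk.1.1 * vk.2.1) b))⁻¹ * (u vk.1.1 * vk.2.1) = vk.2.1
          rw [h1]
          group }
  rw [Nat.card_congr e, Nat.card_prod, Nat.card_eq_fintype_card, Fintype.card_coe]

/-- In the situation of `schreier_step`, the elements fixing the point are those of `K`. -/
theorem schreier_stab (H K : Subgroup (Equiv.Perm α)) (gens : Set (Equiv.Perm α))
    (hH : H = Subgroup.closure gens) (b : α)
    (O : Finset α) (u : α → Equiv.Perm α) (hb : b ∈ O) (hub : u b = 1)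
    (hs : ∀ s ∈ gens, ∀ v ∈ O, s v ∈ O ∧ (u (s v))⁻¹ * s * u v ∈ K) :
    ∀ h ∈ H, h b ∈ O ∧ (h b = b → h ∈ K) := by
  intro h hh
  rw [hH] at hh
  have h1 := schreier_decomp K gens O u hs h hh b hb
  rw [hub, mul_one] at h1
  refine ⟨h1.1, fun hfix => ?_⟩
  have h2 := h1.2
  rw [hfix, hub, inv_one, one_mul] at h2
  exact h2

end Step

/-! ### Factors, levels and sifting -/

/-- A factor of a group element: a path of a letter system, or the inverse of one. -/
inductive Fac (n : ℕ)
  | p (S : LetterSys n) (p : List ℕ)
  | pi (S : LetterSys n) (p : List ℕ)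

/-- Evaluation of a factor. -/
noncomputable def facAct {n : ℕ} : Fac n → ℕ → ℕ
  | .p S p, x => pact S.act p x
  | .pi S p, x => pactInv S.act p x

/-- Evaluation of a product of factors (the last factor is applied first). -/
noncomputable def applyF {n : ℕ} (fs : List (Fac n)) (x : ℕ) : ℕ :=
  List.rec (motive := fun _ => ℕ) x (fun f _ ih => facAct f ih) fs

theorem applyF_cons {n : ℕ} (f : Fac n) (fs : List (Fac n)) (x : ℕ) :
    applyF (f :: fs) x = facAct f (applyF fs x) := rfl

/-- The permutation of a factor. -/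
def facPerm {n : ℕ} : Fac n → Equiv.Perm (Fin n)
  | .p S p => S.pperm p
  | .pi S p => (S.pperm p)⁻¹

/-- The permutation of a product of factors. -/
def facsPerm {n : ℕ} (fs : List (Fac n)) : Equiv.Perm (Fin n) := (fs.map facPerm).prod

theorem facsPerm_cons {n : ℕ} (f : Fac n) (fs : List (Fac n)) :
    facsPerm (f :: fs) = facPerm f * facsPerm fs := by
  simp [facsPerm]

theorem facPerm_apply {n : ℕ} (f : Fac n) (x : Fin n) :
    ((facPerm f x : Fin n) : ℕ) = facAct f x := by
  cases f with
  | p S p => exact S.pperm_apply p x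
  | pi S p => exact S.pperm_inv_apply p x

theorem facsPerm_apply {n : ℕ} (fs : List (Fac n)) (x : Fin n) :
    ((facsPerm fs x : Fin n) : ℕ) = applyF fs x := by
  induction fs with
  | nil => rfl
  | cons f fs ih =>
    rw [facsPerm_cons, Equiv.Perm.mul_apply, facPerm_apply, ih, applyF_cons]

/-- A level of a stabiliser chain: its letter system, the base point, the table of the paths of
the transversal (entries of `W` bits, path letters of `q` bits, `0` for the points outside the
orbit), and the paths of the level above that give its even letters. -/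
structure Lvl (n : ℕ) where
  S : LetterSys n
  b : ℕ
  q : ℕ
  W : ℕ
  tbl : ℕ
  defs : List (List ℕ)

/-- Decoding of a path. -/
def pdec (q : ℕ) : ℕ → ℕ → List ℕ
  | 0, _ => []
  | f + 1, code => if code ≤ 1 then [] else (code % 2 ^ q) :: nforce (code / 2 ^ q) (pdec q f)

theorem pdec_succ (q f code : ℕ) : pdec q (f + 1) code =
    if code ≤ 1 then [] else (code % 2 ^ q) :: pdec q f (code / 2 ^ q) := by
  rw [pdec, nforce_eq]

theorem pdec_one (q W : ℕ) : pdec q W 1 = [] := by
  cases W with
  | zero => rfl
  | succ f => rw [pdec_succ]; simp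

theorem pdec_fuel {q : ℕ} (hq : 1 ≤ q) : ∀ (f f' code : ℕ), code < 2 ^ f → f ≤ f' →
    pdec q f' code = pdec q f code := by
  intro f
  induction f with
  | zero =>
    intro f' code hc _
    have h0 : code = 0 := by simpa using hc
    subst h0
    cases f' with
    | zero => rfl
    | succ f'' => rw [pdec_succ]; simp [pdec]
  | succ f ih =>
    intro f' code hc hle
    obtain ⟨f'', rfl⟩ : ∃ f'', f' = f'' + 1 := ⟨f' - 1, by omega⟩
    rw [pdec_succ, pdec_succ]
    by_cases h1 : code ≤ 1
    · rw [if_pos h1, if_pos h1]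
    · rw [if_neg h1, if_neg h1]
      congr 1
      apply ih _ _ _ (by omega)
      have h2 : 2 ^ 1 ≤ 2 ^ q := Nat.pow_le_pow_right (by norm_num) hq
      have h3 : code / 2 ^ q ≤ code / 2 ^ 1 := Nat.div_le_div_left h2 (by norm_num)
      have h4 : code / 2 ^ 1 < 2 ^ f := by
        rw [Nat.div_lt_iff_lt_mul (by norm_num)]
        rw [pow_succ] at hc
        simpa using hc
      omega

theorem pdec_cons {q : ℕ} (hq : 1 ≤ q) {W code : ℕ} (h2 : 2 ≤ code) (hlt : code < 2 ^ W) :
    pdec q W code = (code % 2 ^ q) :: pdec q W (code / 2 ^ q) := by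
  obtain ⟨W', rfl⟩ : ∃ W', W = W' + 1 := by
    refine ⟨W - 1, ?_⟩
    have : W ≠ 0 := by
      rintro rfl
      simp at hlt
      omega
    omega
  rw [pdec_succ, if_neg (by omega)]
  congr 1
  symm
  apply pdec_fuel hq _ _ _ _ (by omega)
  have h3 : 2 ^ 1 ≤ 2 ^ q := Nat.pow_le_pow_right (by norm_num) hq
  have h4 : code / 2 ^ q ≤ code / 2 ^ 1 := Nat.div_le_div_left h3 (by norm_num)
  have h5 : code / 2 ^ 1 < 2 ^ W' := by
    rw [Nat.div_lt_iff_lt_mul (by norm_num)]
    rw [pow_succ] at hlt
    simpa using hlt
  omega

/-- Sifting of a product of factors through the levels, on the images of the base points. -/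
noncomputable def siftF {n : ℕ} : List (Lvl n) → List (Fac n) → Bool
  | [], _ => true
  | L :: rest, fs =>
    nforce (plook L.W L.tbl (applyF fs L.b)) fun code =>
      if code = 0 then false else
        lforce (pdec L.q L.W code) fun p => siftF rest (Fac.pi L.S p :: fs)

/-- The Schreier generator of letter `2 * j` at a point is trivial because the path of the image
is the path of the point extended by the letter, or the path of the point is the path of the
image extended by the inverse letter. -/
def trivGen (q j code code' : ℕ) : Bool :=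
  (decide (2 ≤ code') && (decide (code' / 2 ^ q = code) && decide (code' % 2 ^ q = 2 * j))) ||
  (decide (2 ≤ code) && (decide (code / 2 ^ q = code') && decide (code % 2 ^ q = 2 * j + 1)))

/-- The check of a level at a point: the path of the point leads to it, and the Schreier
generators at the point sift through the lower levels. -/
noncomputable def chkVertex {n : ℕ} (L : Lvl n) (rest : List (Lvl n)) (v : ℕ) : Bool :=
  nforce (plook L.W L.tbl v) fun code =>
    if code = 0 then true else
      lforce (pdec L.q L.W code) fun p =>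
      decide (pact L.S.act p L.b = v) &&
      allBelow (fun j =>
        nforce (L.S.act (2 * j) v) fun v' =>
        nforce (plook L.W L.tbl v') fun code' =>
          if code' = 0 then false else
            trivGen L.q j code code' ||
            lforce (pdec L.q L.W code') fun p' =>
              siftF rest [Fac.pi L.S p', Fac.p L.S [2 * j], Fac.p L.S p]) (L.S.g / 2)

/-- The checks of a level that do not depend on a point. -/
noncomputable def chkHead {n : ℕ} (pre : List ℕ) (L : Lvl n) : Bool :=
  decide (L.b < n) && (decide (plook L.W L.tbl L.b = 1) && (decide (1 ≤ L.q) &&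
  allBelow (fun j => pre.all fun c => decide (L.S.act (2 * j) c = c)) (L.S.g / 2)))

/-- The even letters of a level are the paths `defs` of the letter system `Sp`, at a point. -/
noncomputable def chkNest {n : ℕ} (Sp : LetterSys n) (L : Lvl n) (x : ℕ) : Bool :=
  allBelow (fun j => decide (L.S.act (2 * j) x = pact Sp.act (L.defs.getD j []) x)) (L.S.g / 2)

/-- All checks of a chain of levels below the letter system `Sp`; `pre` lists the base points
of the levels above. -/
noncomputable def ChainOK {n : ℕ} : LetterSys n → List ℕ → List (Lvl n) → Prop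
  | _, _, [] => True
  | Sp, pre, L :: rest =>
      chkHead pre L = true ∧ (∀ x, x < n → chkNest Sp L x = true) ∧
      (∀ v, v < n → chkVertex L rest v = true) ∧ ChainOK L.S (pre ++ [L.b]) rest

/-- The size of the orbit of a level. -/
def orbCard {n : ℕ} (L : Lvl n) : ℕ := cntBelow (fun v => plook L.W L.tbl v != 0) n

/-- The group of a chain of levels: the group of its first level. -/
def Hs {n : ℕ} : List (Lvl n) → Subgroup (Equiv.Perm (Fin n))
  | [] => ⊥
  | L :: _ => L.S.H

/-- The transversal of a level. -/
def Lvl.trv {n : ℕ} (L : Lvl n) (v : ℕ) : Equiv.Perm (Fin n) :=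
  L.S.pperm (pdec L.q L.W (plook L.W L.tbl v))

/-- The orbit of a level. -/
def orbSet {n : ℕ} (L : Lvl n) : Finset (Fin n) :=
  Finset.univ.filter fun v : Fin n => (plook L.W L.tbl v != 0) = true

theorem mem_orbSet {n : ℕ} {L : Lvl n} {v : Fin n} : v ∈ orbSet L ↔ plook L.W L.tbl v ≠ 0 := by
  simp [orbSet]

theorem card_orbSet {n : ℕ} (L : Lvl n) : (orbSet L).card = orbCard L :=
  card_filter_fin_eq_cntBelow n (fun v => plook L.W L.tbl v != 0)

/-! ### Soundness of the chain checks -/

theorem chkVertex_spec {n : ℕ} {L : Lvl n} {rest : List (Lvl n)} {v : ℕ}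
    (h : chkVertex L rest v = true) (hv : plook L.W L.tbl v ≠ 0) :
    pact L.S.act (pdec L.q L.W (plook L.W L.tbl v)) L.b = v ∧
    ∀ j, j < L.S.g / 2 → plook L.W L.tbl (L.S.act (2 * j) v) ≠ 0 ∧
      (trivGen L.q j (plook L.W L.tbl v) (plook L.W L.tbl (L.S.act (2 * j) v)) = true ∨
        siftF rest [Fac.pi L.S (pdec L.q L.W (plook L.W L.tbl (L.S.act (2 * j) v))),
          Fac.p L.S [2 * j], Fac.p L.S (pdec L.q L.W (plook L.W L.tbl v))] = true) := by
  simp only [chkVertex, nforce_eq, lforce_eq] at h
  rw [if_neg hv, Bool.and_eq_true, decide_eq_true_eq] at h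
  refine ⟨h.1, fun j hj => ?_⟩
  have h2 := allBelow_sound h.2 j hj
  by_cases hc : plook L.W L.tbl (L.S.act (2 * j) v) = 0
  · rw [if_pos hc] at h2
    exact absurd h2 (by simp)
  · rw [if_neg hc, Bool.or_eq_true] at h2
    exact ⟨hc, h2⟩

theorem chkHead_spec {n : ℕ} {pre : List ℕ} {L : Lvl n} (h : chkHead pre L = true) :
    L.b < n ∧ plook L.W L.tbl L.b = 1 ∧ 1 ≤ L.q ∧
      (∀ j, j < L.S.g / 2 → ∀ c ∈ pre, L.S.act (2 * j) c = c) := by
  simp only [chkHead, Bool.and_eq_true, decide_eq_true_eq] at h
  refine ⟨h.1, h.2.1, h.2.2.1, fun j hj c hc => ?_⟩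
  have h1 := allBelow_sound h.2.2.2 j hj
  rw [List.all_eq_true] at h1
  simpa using h1 c hc

theorem chkNest_spec {n : ℕ} {Sp : LetterSys n} {L : Lvl n}
    (h : ∀ x, x < n → chkNest Sp L x = true) : L.S.H ≤ Sp.H := by
  apply L.S.H_le_of_even
  intro j hj
  have : L.S.L (2 * j) = Sp.pperm (L.defs.getD j []) := by
    ext x
    rw [L.S.hact, Sp.pperm_apply]
    have h1 := allBelow_sound (h x x.2) j hj
    simpa using h1
  rw [this]
  exact Sp.pperm_mem _

theorem LetterSys.H_fix {n : ℕ} (S : LetterSys n) (pre : List ℕ)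
    (h : ∀ j, j < S.g / 2 → ∀ c ∈ pre, S.act (2 * j) c = c) :
    ∀ g ∈ S.H, ∀ x : Fin n, (x : ℕ) ∈ pre → g x = x := by
  have key : ∀ g ∈ Subgroup.closure {s | ∃ j, j < S.g / 2 ∧ s = S.L (2 * j)},
      ∀ x : Fin n, (x : ℕ) ∈ pre → g x = x := by
    intro g hg'
    induction hg' using Subgroup.closure_induction with
    | mem g hg' =>
      obtain ⟨j, hj, rfl⟩ := hg'
      intro x hx
      apply Fin.ext
      rw [S.hact]
      exact h j hj x hx
    | one => intro x _; rfl
    | mul a b _ _ ha hb =>
      intro x hx
      rw [Equiv.Perm.mul_apply, hb x hx, ha x hx]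
    | inv a _ ha =>
      intro x hx
      rw [Equiv.Perm.inv_eq_iff_eq, ha x hx]
  intro g hg
  rw [S.H_eq_closure_even] at hg
  exact key g hg

theorem trivGen_spec {n : ℕ} (L : Lvl n) (hq : 1 ≤ L.q) {j v v' : ℕ}
    (h : trivGen L.q j (plook L.W L.tbl v) (plook L.W L.tbl v') = true) :
    (L.trv v')⁻¹ * L.S.L (2 * j) * L.trv v = 1 := by
  simp only [trivGen, Bool.or_eq_true, Bool.and_eq_true, decide_eq_true_eq] at h
  rcases h with ⟨h1, h2, h3⟩ | ⟨h1, h2, h3⟩
  · have h4 := pdec_cons hq h1 (plook_lt L.W L.tbl v')
    rw [h2, h3] at h4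
    have : L.trv v' = L.S.L (2 * j) * L.trv v := by
      rw [Lvl.trv, Lvl.trv, h4, L.S.pperm_cons]
    rw [this]
    group
  · have h4 := pdec_cons hq h1 (plook_lt L.W L.tbl v)
    rw [h2, h3] at h4
    have h5 : linv (2 * j) = 2 * j + 1 := by
      unfold linv
      rw [if_pos (by omega)]
    have : L.trv v = (L.S.L (2 * j))⁻¹ * L.trv v' := by
      rw [Lvl.trv, Lvl.trv, h4, L.S.pperm_cons, ← L.S.hinv, h5]
    rw [this]
    group

/-- Soundness of the checks of a chain below `Sp`, inside a group `Γ` in which the pointwise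
stabiliser of all the base points is trivial: the order of the group of the chain is the
product of the orbit sizes, its elements fix the earlier base points, it lies in the group of
`Sp`, and sifting is sound. -/
theorem chain_main {n : ℕ} (Γ : Subgroup (Equiv.Perm (Fin n))) :
    ∀ (Ls : List (Lvl n)) (Sp : LetterSys n) (pre : List ℕ), ChainOK Sp pre Ls → Sp.H ≤ Γ →
    (∀ g ∈ Γ, (∀ x : Fin n, (x : ℕ) ∈ pre ++ Ls.map Lvl.b → g x = x) → g = 1) →
    Nat.card (Hs Ls) = (Ls.map orbCard).prod ∧
    (∀ g ∈ Hs Ls, ∀ x : Fin n, (x : ℕ) ∈ pre → g x = x) ∧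
    Hs Ls ≤ Sp.H ∧
    (∀ fs : List (Fac n), facsPerm fs ∈ Γ → (∀ x : Fin n, (x : ℕ) ∈ pre → facsPerm fs x = x) →
      siftF Ls fs = true → facsPerm fs ∈ Hs Ls) ∧
    (∀ L rest, Ls = L :: rest → ∀ hb : L.b < n,
      (∀ h ∈ L.S.H, plook L.W L.tbl (h ⟨L.b, hb⟩) ≠ 0 ∧
        (h ⟨L.b, hb⟩ = ⟨L.b, hb⟩ → h ∈ Hs rest)) ∧
      ∀ v : Fin n, plook L.W L.tbl v ≠ 0 → ∃ h ∈ L.S.H, h ⟨L.b, hb⟩ = v) := by
  intro Ls
  induction Ls with
  | nil =>
    intro Sp pre _ _ hR
    refine ⟨?_, ?_, bot_le, ?_, ?_⟩
    · simp [Hs]
    · intro g hg x _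
      rw [Hs, Subgroup.mem_bot] at hg
      rw [hg]; rfl
    · intro fs hmem hfix _
      rw [Hs, Subgroup.mem_bot]
      exact hR _ hmem (fun x hx => hfix x (by simpa using hx))
    · intro L rest h
      exact absurd h (by simp)
  | cons L rest ih =>
    intro Sp pre hok hΓ hR
    obtain ⟨hhead, hnest, hvert, hrest⟩ := hok
    obtain ⟨hb, hroot, hq, hfixw⟩ := chkHead_spec hhead
    have hLS : L.S.H ≤ Sp.H := chkNest_spec hnest
    have hLΓ : L.S.H ≤ Γ := hLS.trans hΓ
    have hR' : ∀ g ∈ Γ, (∀ x : Fin n, (x : ℕ) ∈ (pre ++ [L.b]) ++ rest.map Lvl.b → g x = x) →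
        g = 1 := by
      intro g hg hx
      apply hR g hg
      intro x hx'
      apply hx x
      simpa using hx'
    obtain ⟨ihcard, ihfix, hKH, ihsift, -⟩ := ih L.S (pre ++ [L.b]) hrest hLΓ hR'
    set b : Fin n := ⟨L.b, hb⟩ with hbdef
    have hHfix := L.S.H_fix pre hfixw
    -- facts at the points of the orbit
    have hV : ∀ v : Fin n, plook L.W L.tbl v ≠ 0 →
        L.trv v b = v ∧ ∀ j, j < L.S.g / 2 → plook L.W L.tbl (L.S.L (2 * j) v) ≠ 0 ∧
          (L.trv (L.S.L (2 * j) v))⁻¹ * L.S.L (2 * j) * L.trv v ∈ Hs rest := by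
      intro v hv
      obtain ⟨h1, h2⟩ := chkVertex_spec (hvert v v.2) hv
      have hu : L.trv v b = v := by
        apply Fin.ext
        rw [Lvl.trv, L.S.pperm_apply]
        exact h1
      refine ⟨hu, fun j hj => ?_⟩
      obtain ⟨h3, h4⟩ := h2 j hj
      rw [← L.S.hact] at h3 h4
      refine ⟨h3, ?_⟩
      rcases h4 with h4 | h4
      · rw [trivGen_spec L hq h4]
        exact (Hs rest).one_mem
      · -- the image is in the orbit, so its path leads to it
        obtain ⟨h5, -⟩ := chkVertex_spec (hvert _ (L.S.L (2 * j) v).2) h3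
        have hu' : L.trv (L.S.L (2 * j) v) b = L.S.L (2 * j) v := by
          apply Fin.ext
          rw [Lvl.trv, L.S.pperm_apply]
          exact h5
        have hfs : facsPerm [Fac.pi L.S (pdec L.q L.W (plook L.W L.tbl (L.S.L (2 * j) v))),
            Fac.p L.S [2 * j], Fac.p L.S (pdec L.q L.W (plook L.W L.tbl v))]
            = (L.trv (L.S.L (2 * j) v))⁻¹ * L.S.L (2 * j) * L.trv v := by
          simp [facsPerm, facPerm, Lvl.trv, LetterSys.pperm, mul_assoc]
        rw [← hfs]
        have hmemH : (L.trv (L.S.L (2 * j) v))⁻¹ * L.S.L (2 * j) * L.trv v ∈ L.S.H :=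
          L.S.H.mul_mem (L.S.H.mul_mem (L.S.H.inv_mem (L.S.pperm_mem _)) (L.S.L_mem _))
            (L.S.pperm_mem _)
        apply ihsift _ (by rw [hfs]; exact hLΓ hmemH) _ h4
        intro x hx
        rw [hfs]
        rw [List.mem_append, List.mem_singleton] at hx
        rcases hx with hx | hx
        · exact hHfix _ hmemH x hx
        · have hxb : x = b := Fin.ext hx
          rw [hxb, Equiv.Perm.mul_apply, Equiv.Perm.mul_apply, hu, Equiv.Perm.inv_eq_iff_eq, hu']
    have hbO : b ∈ orbSet L := by
      rw [mem_orbSet]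
      show plook L.W L.tbl L.b ≠ 0
      rw [hroot]; norm_num
    have hub : L.trv b = 1 := by
      rw [Lvl.trv]
      show L.S.pperm (pdec L.q L.W (plook L.W L.tbl L.b)) = 1
      rw [hroot, pdec_one]
      rfl
    have hs : ∀ s ∈ {s | ∃ j, j < L.S.g / 2 ∧ s = L.S.L (2 * j)}, ∀ v ∈ orbSet L,
        s v ∈ orbSet L ∧ (L.trv ((s v : Fin n) : ℕ))⁻¹ * s * L.trv v ∈ Hs rest := by
      rintro _ ⟨j, hj, rfl⟩ v hv
      rw [mem_orbSet] at hv
      obtain ⟨-, h2⟩ := hV v hv
      obtain ⟨h3, h4⟩ := h2 j hj
      exact ⟨mem_orbSet.mpr h3, h4⟩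
    have hKb : ∀ k ∈ Hs rest, k b = b := fun k hk => ihfix k hk b (by simp [hbdef])
    refine ⟨?_, hHfix, hLS, ?_, ?_⟩
    · have h1 := schreier_step L.S.H (Hs rest) {s | ∃ j, j < L.S.g / 2 ∧ s = L.S.L (2 * j)}
        L.S.H_eq_closure_even hKH b hKb (orbSet L) (fun v => L.trv v) hbO hub
        (fun v hv => ⟨L.S.pperm_mem _, (hV v (mem_orbSet.mp hv)).1⟩) hs
      show Nat.card L.S.H = _
      rw [h1, card_orbSet, ihcard, List.map_cons, List.prod_cons]
    · intro fs hmem hfix hsift
      show facsPerm fs ∈ L.S.H
      simp only [siftF, nforce_eq, lforce_eq] at hsift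
      have hbval : applyF fs L.b = ((facsPerm fs b : Fin n) : ℕ) :=
        (facsPerm_apply fs b).symm
      rw [hbval] at hsift
      by_cases hc : plook L.W L.tbl (facsPerm fs b) = 0
      · rw [if_pos hc] at hsift
        exact absurd hsift (by simp)
      · rw [if_neg hc] at hsift
        have hu := (hV _ hc).1
        have hfs : facsPerm (Fac.pi L.S (pdec L.q L.W (plook L.W L.tbl (facsPerm fs b))) :: fs)
            = (L.trv (facsPerm fs b))⁻¹ * facsPerm fs := by
          rw [facsPerm_cons]
          rfl
        have hmem' : (L.trv (facsPerm fs b))⁻¹ * facsPerm fs ∈ Γ :=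
          Γ.mul_mem (Γ.inv_mem (hLΓ (L.S.pperm_mem _))) hmem
        have hmemK := ihsift _ (by rw [hfs]; exact hmem') (fun x hx => ?_) hsift
        · rw [hfs] at hmemK
          have : facsPerm fs = L.trv (facsPerm fs b) *
              ((L.trv (facsPerm fs b))⁻¹ * facsPerm fs) := by group
          rw [this]
          exact L.S.H.mul_mem (L.S.pperm_mem _) (hKH hmemK)
        · rw [hfs]
          show (L.trv (facsPerm fs b))⁻¹ (facsPerm fs x) = x
          rw [List.mem_append, List.mem_singleton] at hx
          rcases hx with hx | hx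
          · rw [hfix x hx]
            exact hHfix _ (L.S.H.inv_mem (L.S.pperm_mem _)) x hx
          · have hxb : x = b := Fin.ext hx
            rw [hxb, Equiv.Perm.inv_eq_iff_eq, hu]
    · intro L' rest' heq hb'
      obtain ⟨rfl, rfl⟩ := List.cons.inj heq
      refine ⟨fun h hh => ?_, fun v hv => ⟨L.trv v, L.S.pperm_mem _, (hV v hv).1⟩⟩
      have h1 := schreier_stab L.S.H (Hs rest) {s | ∃ j, j < L.S.g / 2 ∧ s = L.S.L (2 * j)}
        L.S.H_eq_closure_even b (orbSet L) (fun v => L.trv v) hbO hub hs h hh
      exact ⟨mem_orbSet.mp h1.1, h1.2⟩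

/-! ### Rigidity from an invariant relation -/

/-- The mask with the bits `f 0, …, f (d - 1)`. -/
noncomputable def orPow (f : ℕ → ℕ) (d : ℕ) : ℕ :=
  Nat.rec (motive := fun _ => ℕ) 0 (fun j ih => Nat.lor ih (Nat.pow 2 (f j))) d

theorem orPow_succ (f : ℕ → ℕ) (d : ℕ) : orPow f (d + 1) = orPow f d ||| 2 ^ f d := rfl

theorem testBit_orPow (f : ℕ → ℕ) (d k : ℕ) :
    (orPow f d).testBit k = true ↔ ∃ j, j < d ∧ f j = k := by
  induction d with
  | zero => simp [orPow]
  | succ d ih =>
    rw [orPow_succ, Nat.testBit_or, Bool.or_eq_true, ih, Nat.testBit_two_pow, decide_eq_true_eq]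
    constructor
    · rintro (⟨j, hj, rfl⟩ | h)
      · exact ⟨j, by omega, rfl⟩
      · exact ⟨d, by omega, h⟩
    · rintro ⟨j, hj, rfl⟩
      rcases Nat.lt_succ_iff_lt_or_eq.mp hj with h | rfl
      · exact Or.inl ⟨j, h, rfl⟩
      · exact Or.inr rfl

/-- The mask of a packed row of `d` neighbours of `w` bits. -/
noncomputable def rowMask (w d row : ℕ) : ℕ := orPow (fun j => plook w row j) d

/-- The invariance check of the relation at a point for a letter: the `d` neighbours in the row
of `v` are points, and their images make up the mask of the image of `v`. -/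
noncomputable def chkInvV (act : ℕ → ℕ → ℕ) (rowf : ℕ → ℕ) (w n d c v : ℕ) : Bool :=
  nforce (rowf v) fun row =>
    allBelow (fun j => decide (plook w row j < n)) d &&
    decide (rowMask w d (rowf (act c v)) = orPow (fun j => act c (plook w row j)) d)

/-- The permutations preserving the relation given by the masks. -/
def autG {n : ℕ} (mask : ℕ → ℕ) : Subgroup (Equiv.Perm (Fin n)) where
  carrier := {σ | ∀ v x : Fin n, (mask v).testBit x = true ↔ (mask (σ v)).testBit (σ x) = true}
  one_mem' := fun v x => Iff.rfl
  mul_mem' := by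
    intro a b ha hb v x
    rw [hb v x, ha (b v) (b x)]
    rfl
  inv_mem' := by
    intro a ha v x
    have h := ha (a⁻¹ v) (a⁻¹ x)
    rw [show a (a⁻¹ v) = v from a.apply_symm_apply v,
      show a (a⁻¹ x) = x from a.apply_symm_apply x] at h
    exact h.symm

theorem mem_autG {n : ℕ} {mask : ℕ → ℕ} {σ : Equiv.Perm (Fin n)} : σ ∈ autG (n := n) mask ↔
    ∀ v x : Fin n, (mask v).testBit x = true ↔ (mask (σ v)).testBit (σ x) = true := Iff.rfl

theorem letter_mem_autG {n : ℕ} (S : LetterSys n) (rowf : ℕ → ℕ) (w d c : ℕ)
    (h : ∀ v, v < n → chkInvV S.act rowf w n d c v = true) :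
    S.L c ∈ autG (n := n) (fun v => rowMask w d (rowf v)) := by
  intro v x
  have h1 := h v v.2
  simp only [chkInvV, nforce_eq, Bool.and_eq_true, decide_eq_true_eq] at h1
  obtain ⟨hlt, hm'⟩ := h1
  have hlt' : ∀ j, j < d → plook w (rowf v) j < n := fun j hj => by
    have := allBelow_sound hlt j hj
    simpa using this
  show (rowMask w d (rowf v)).testBit x = true ↔
    (rowMask w d (rowf (S.L c v : Fin n))).testBit (S.L c x : Fin n) = true
  rw [S.hact c v, S.hact c x, hm', rowMask, testBit_orPow, testBit_orPow]
  constructor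
  · rintro ⟨j, hj, hjx⟩
    exact ⟨j, hj, by rw [hjx]⟩
  · rintro ⟨j, hj, hjx⟩
    refine ⟨j, hj, ?_⟩
    have h2 : S.L c ⟨plook w (rowf v) j, hlt' j hj⟩ = S.L c x := by
      apply Fin.ext
      rw [S.hact, S.hact]
      exact hjx
    have h3 := (S.L c).injective h2
    exact congrArg Fin.val h3

theorem H_le_autG {n : ℕ} (S : LetterSys n) (rowf : ℕ → ℕ) (w d : ℕ)
    (h : ∀ j, j < S.g / 2 → ∀ v, v < n → chkInvV S.act rowf w n d (2 * j) v = true) :
    S.H ≤ autG (n := n) (fun v => rowMask w d (rowf v)) :=
  S.H_le_of_even _ (fun j hj => letter_mem_autG S rowf w d (2 * j) (h j hj))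

/-- The intersection of the masks `f 0, …, f j`. -/
noncomputable def andM (f : ℕ → ℕ) (j : ℕ) : ℕ :=
  Nat.rec (motive := fun _ => ℕ) (f 0) (fun i ih => Nat.land ih (f (i + 1))) j

theorem andM_succ (f : ℕ → ℕ) (j : ℕ) : andM f (j + 1) = andM f j &&& f (j + 1) := rfl

theorem testBit_andM (f : ℕ → ℕ) (j k : ℕ) :
    (andM f j).testBit k = true ↔ ∀ i, i ≤ j → (f i).testBit k = true := by
  induction j with
  | zero =>
    show (f 0).testBit k = true ↔ _
    constructor
    · intro h i hi
      rw [Nat.le_zero.mp hi]; exact h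
    · intro h; exact h 0 (le_refl _)
  | succ j ih =>
    rw [andM_succ, Nat.testBit_and, Bool.and_eq_true, ih]
    constructor
    · rintro ⟨h1, h2⟩ i hi
      rcases Nat.lt_succ_iff_lt_or_eq.mp (Nat.lt_succ_of_le hi) with h | rfl
      · exact h1 i (by omega)
      · exact h2
    · intro h
      exact ⟨fun i hi => h i (by omega), h (j + 1) (le_refl _)⟩

/-- The mask of a signed parent `e = 2 * p + neg`: the mask of `p` or its complement. -/
def smask (mask : ℕ → ℕ) (n e : ℕ) : ℕ :=
  if e % 2 = 0 then mask (e / 2) else (2 ^ n - 1) ^^^ mask (e / 2)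

/-- The propagation check at the point `k`: its entry in the table gives a number of signed
parents, which are smaller points, and `k` is the only point from `k` on with the prescribed
adjacencies to them. -/
noncomputable def chkPropV (mask : ℕ → ℕ) (n pw pW ptab : ℕ) (k : ℕ) : Bool :=
  nforce (plook pW ptab k) fun code =>
  nforce (code % 8) fun P =>
  nforce (code / 8) fun par =>
    allBelow (fun j => decide (plook pw par j / 2 < k)) (P + 1) &&
    decide (Nat.shiftRight (andM (fun j => smask mask n (plook pw par j)) P) k = 1)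

/-- A permutation preserving the relation and fixing the points below `m` is trivial when the
propagation checks hold from `m` on. -/
theorem rigid_of_prop {n : ℕ} (mask : ℕ → ℕ) (m pw pW ptab : ℕ)
    (hprop : ∀ k, m ≤ k → k < n → chkPropV mask n pw pW ptab k = true)
    (σ : Equiv.Perm (Fin n)) (hσ : σ ∈ autG (n := n) mask)
    (hfix : ∀ x : Fin n, (x : ℕ) < m → σ x = x) : σ = 1 := by
  have key : ∀ k, ∀ x : Fin n, (x : ℕ) = k → σ x = x := by
    intro k
    induction k using Nat.strong_induction_on with
    | _ k ih =>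
      intro x hx
      by_cases hkm : k < m
      · exact hfix x (by omega)
      · have hc := hprop k (by omega) (by rw [← hx]; exact x.2)
        simp only [chkPropV, nforce_eq, Bool.and_eq_true, decide_eq_true_eq] at hc
        obtain ⟨hpar, hX⟩ := hc
        set P := plook pW ptab k % 8 with hP
        set code := plook pW ptab k / 8 with hcode
        have hpar' : ∀ j, j ≤ P → plook pw code j / 2 < k := fun j hj => by
          have := allBelow_sound hpar j (by omega)
          simpa using this
        set X := andM (fun j => smask mask n (plook pw code j)) P with hXdef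
        have hX' : X >>> k = 1 := hX
        have hbitk : X.testBit k = true := by
          have h1 : (X >>> k).testBit 0 = true := by rw [hX']; rfl
          rw [Nat.testBit_shiftRight] at h1
          simpa using h1
        have hall := (testBit_andM _ P k).mp hbitk
        -- the image has the same adjacencies
        have himg : X.testBit (σ x : Fin n) = true := by
          rw [hXdef, testBit_andM]
          intro j hj
          have hj1 := hall j hj
          have hp := hpar' j hj
          have hpn : plook pw code j / 2 < n := by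
            have := x.2
            omega
          have hσp : σ ⟨plook pw code j / 2, hpn⟩ = ⟨plook pw code j / 2, hpn⟩ :=
            ih _ hp _ rfl
          have hiff := hσ ⟨plook pw code j / 2, hpn⟩ x
          rw [hσp] at hiff
          simp only [smask] at hj1 ⊢
          by_cases he : plook pw code j % 2 = 0
          · rw [if_pos he] at hj1 ⊢
            rw [← hx] at hj1
            exact hiff.mp hj1
          · rw [if_neg he] at hj1 ⊢
            rw [Nat.testBit_xor, Nat.testBit_two_pow_sub_one] at hj1 ⊢
            have hkn : k < n := by rw [← hx]; exact x.2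
            have hyn : ((σ x : Fin n) : ℕ) < n := (σ x).2
            rw [decide_eq_true hkn] at hj1
            rw [decide_eq_true hyn]
            have h1 : (mask (plook pw code j / 2)).testBit k = false := by
              cases hb : (mask (plook pw code j / 2)).testBit k
              · rfl
              · rw [hb] at hj1; simp at hj1
            have h2 : (mask (plook pw code j / 2)).testBit (σ x : Fin n) = false := by
              cases hb : (mask (plook pw code j / 2)).testBit (σ x : Fin n)
              · rfl
              · rw [← hx] at h1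
                have := hiff.mpr hb
                rw [h1] at this
                exact absurd this (by simp)
            rw [h2]
            rfl
        -- the image is not below `k`
        have hge : k ≤ ((σ x : Fin n) : ℕ) := by
          by_contra hlt
          have h1 : σ (σ x) = σ x := ih _ (by omega) _ rfl
          have h2 := σ.injective h1
          have h3 := congrArg Fin.val h2
          omega
        have h4 : (X >>> k).testBit (((σ x : Fin n) : ℕ) - k) = true := by
          rw [Nat.testBit_shiftRight]
          have : k + (((σ x : Fin n) : ℕ) - k) = ((σ x : Fin n) : ℕ) := by omega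
          rw [this]
          exact himg
        rw [hX'] at h4
        have h5 : ((σ x : Fin n) : ℕ) - k = 0 := by
          by_contra hne
          rw [Nat.testBit_one_eq_true_iff_self_eq_zero] at h4
          exact hne h4
        apply Fin.ext
        omega
  ext x
  rw [key x x rfl]
  rfl

/-! ### Orbit certificates -/

/-- The orbit check at a point: the path in the table leads from the root of the class of the
point to the point. -/
noncomputable def chkOrbV (act : ℕ → ℕ → ℕ) (roots : List ℕ) (cw ctab q W otab v : ℕ) : Bool :=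
  decide (pact act (pdec q W (plook W otab v)) (roots.getD (plook cw ctab v) 0) = v)

theorem chkOrbV_spec {n : ℕ} (S : LetterSys n) (roots : List ℕ) (cw ctab q W otab : ℕ)
    (v : Fin n) (h : chkOrbV S.act roots cw ctab q W otab v = true)
    (hr : roots.getD (plook cw ctab v) 0 < n) :
    ∃ h ∈ S.H, h ⟨roots.getD (plook cw ctab v) 0, hr⟩ = v := by
  refine ⟨S.pperm (pdec q W (plook W otab v)), S.pperm_mem _, ?_⟩
  apply Fin.ext
  rw [S.pperm_apply]
  simpa [chkOrbV] using h

end Cfsg.Agent.Lib.helper10
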