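/-
Simplicity criteria for primitive permutation groups: a faithful primitive group with a simple
point stabilizer and without regular normal subgroup is simple; a primitive group of degree 100
has no regular normal subgroup.
-/
import Mathlib

set_option autoImplicit false
set_option linter.unusedSectionVars false

namespace Cfsg.Agent.Lib.helper10

open MulAction
open scoped Pointwise

section PrimSimple

variable {G X : Type*} [Group G] [MulAction G X]

/-- A transitive action is primitive as soon as every subset containing a base point that is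
invariant under its stabilizer and whose size divides the degree is trivial. -/
theorem isPreprimitive_of_stab_invariant [Finite X] [IsPretransitive G X] (a : X)
    (H : ∀ S : Set X, a ∈ S → (∀ g ∈ stabilizer G a, ∀ s ∈ S, g • s ∈ S) →
      S.ncard ∣ Nat.card X → S = {a} ∨ S = Set.univ) : IsPreprimitive G X := by
  apply IsPreprimitive.of_isTrivialBlock_base a
  intro Bl ha hBl
  have hinv : ∀ g ∈ stabilizer G a, ∀ s ∈ Bl, g • s ∈ Bl := by
    intro g hg s hs
    have h1 : g • Bl = Bl :=
      hBl.smul_eq_of_mem ha (by rw [mem_stabilizer_iff.mp hg]; exact ha)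
    rw [← h1]
    exact Set.smul_mem_smul_set hs
  rcases H Bl ha hinv (hBl.ncard_dvd_card ⟨a, ha⟩) with h | h
  · left
    rw [h]
    exact Set.subsingleton_singleton
  · right
    exact h

/-- A nontrivial normal subgroup of a faithful primitive group is transitive. -/
theorem pretransitive_of_normal_prim [FaithfulSMul G X] [IsPreprimitive G X] (N : Subgroup G)
    [N.Normal] (hne : N ≠ ⊥) : IsPretransitive N X := by
  have hfp : fixedPoints N X ≠ Set.univ := by
    intro h
    apply hne
    rw [Subgroup.eq_bot_iff_forall]
    intro n hn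
    apply FaithfulSMul.eq_of_smul_eq_smul (α := X)
    intro x
    have hx : x ∈ fixedPoints N X := by
      rw [h]
      exact Set.mem_univ x
    rw [one_smul]
    exact hx ⟨n, hn⟩
  exact IsQuasiPreprimitive.isPretransitive_of_normal hfp

/-- A faithful primitive group with a simple point stabilizer and without regular normal
subgroup is simple. -/
theorem simple_of_prim_of_stab_simple [FaithfulSMul G X] [IsPreprimitive G X] (a : X)
    (hs : IsSimpleGroup (stabilizer G a))
    (hreg : ∀ N : Subgroup G, N.Normal → IsPretransitive N X → N ⊓ stabilizer G a = ⊥ → False) :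
    IsSimpleGroup G := by
  have hnt : Nontrivial G := by
    obtain ⟨u, v, huv⟩ := exists_pair_ne (stabilizer G a)
    exact ⟨⟨u.1, v.1, fun h => huv (Subtype.ext h)⟩⟩
  refine IsSimpleGroup.mk ?_
  intro N hNn
  by_contra hcon
  rw [not_or] at hcon
  obtain ⟨hNbot, hNtop⟩ := hcon
  have htr : IsPretransitive N X := pretransitive_of_normal_prim N hNbot
  have hM : (N.subgroupOf (stabilizer G a)).Normal := inferInstance
  rcases hs.eq_bot_or_eq_top_of_normal _ hM with hbot | htop
  · apply hreg N hNn htr
    rw [Subgroup.eq_bot_iff_forall]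
    intro n hn
    rw [Subgroup.mem_inf] at hn
    have h1 : (⟨n, hn.2⟩ : stabilizer G a) ∈ N.subgroupOf (stabilizer G a) :=
      Subgroup.mem_subgroupOf.mpr hn.1
    rw [hbot, Subgroup.mem_bot] at h1
    exact congrArg Subtype.val h1
  · apply hNtop
    rw [Subgroup.eq_top_iff']
    intro g
    obtain ⟨n, hn⟩ := htr.exists_smul_eq a (g • a)
    have hn' : (n : G) • a = g • a := hn
    have h2 : (n : G)⁻¹ * g ∈ stabilizer G a := by
      rw [mem_stabilizer_iff, mul_smul, ← hn', inv_smul_smul]
    have h3 : (n : G)⁻¹ * g ∈ N := by
      rw [Subgroup.subgroupOf_eq_top] at htop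
      exact htop h2
    have h4 := N.mul_mem n.2 h3
    rwa [mul_inv_cancel_left] at h4

/-- A faithful primitive group of degree 100 has no regular normal subgroup. -/
theorem no_regular_normal_100 [Finite G] [FaithfulSMul G X] [IsPreprimitive G X]
    (hX : Nat.card X = 100) (a : X) (N : Subgroup G) (hN : N.Normal)
    (htr : IsPretransitive N X) (hreg : N ⊓ stabilizer G a = ⊥) : False := by
  have : Fact (Nat.Prime 5) := ⟨by norm_num⟩
  -- `N` has order 100
  have hstab : stabilizer N a = ⊥ := by
    rw [Subgroup.eq_bot_iff_forall]
    intro n hn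
    have h1 : (n : G) ∈ N ⊓ stabilizer G a := by
      refine Subgroup.mem_inf.mpr ⟨n.2, ?_⟩
      rw [mem_stabilizer_iff]
      exact mem_stabilizer_iff.mp hn
    rw [hreg, Subgroup.mem_bot] at h1
    exact Subtype.ext h1
  have hNcard : Nat.card N = 100 := by
    have h1 := Subgroup.card_mul_index (stabilizer N a)
    rw [index_stabilizer_of_transitive, hstab, Subgroup.card_bot, one_mul, hX] at h1
    exact h1.symm
  -- its Sylow 5-subgroup has order 25 and is normal
  obtain ⟨P⟩ : Nonempty (Sylow 5 N) := inferInstance
  have hP25 : Nat.card P = 25 := by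
    obtain ⟨n, hn⟩ := P.2.exists_card_eq
    have h1 := Subgroup.card_mul_index (P : Subgroup N)
    have h2 := P.not_dvd_index
    rw [hNcard, hn] at h1
    have hn3 : n < 3 := by
      by_contra h
      have h3 : 5 ^ 3 ≤ 5 ^ n := Nat.pow_le_pow_right (by norm_num) (by omega)
      have h4 : 5 ^ n ∣ 100 := Dvd.intro _ h1
      have h5 := Nat.le_of_dvd (by norm_num) h4
      omega
    interval_cases n
    · exfalso
      exact h2 ⟨20, by omega⟩
    · exfalso
      exact h2 ⟨4, by omega⟩
    · rw [hn]
      norm_num
  have hidx : (P : Subgroup N).index = 4 := by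
    have h1 := Subgroup.card_mul_index (P : Subgroup N)
    rw [hNcard, hP25] at h1
    omega
  have hn5 : Nat.card (Sylow 5 N) = 1 := by
    have h1 := P.card_dvd_index
    rw [hidx] at h1
    have h2 := card_sylow_modEq_one 5 N
    have h3 : Nat.card (Sylow 5 N) ≤ 4 := Nat.le_of_dvd (by norm_num) h1
    have h4 : Nat.card (Sylow 5 N) % 5 = 1 := h2
    interval_cases h : Nat.card (Sylow 5 N) <;> omega
  have hsub : Subsingleton (Sylow 5 N) := (Nat.card_eq_one_iff_unique.mp hn5).1
  have hchar : (P : Subgroup N).Characteristic := Sylow.characteristic_of_subsingleton P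
  have hQn : ((P : Subgroup N).map N.subtype).Normal := ConjAct.normal_of_characteristic_of_normal
  have hQcard : Nat.card ((P : Subgroup N).map N.subtype) = 25 := by
    rw [← hP25]
    exact Nat.card_congr
      ((P : Subgroup N).equivMapOfInjective N.subtype N.subtype_injective).symm.toEquiv
  have hQne : (P : Subgroup N).map N.subtype ≠ ⊥ := by
    intro h
    rw [h, Subgroup.card_bot] at hQcard
    omega
  have hQtr : IsPretransitive ((P : Subgroup N).map N.subtype) X :=
    pretransitive_of_normal_prim _ hQne
  have h1 := Subgroup.index_dvd_card (stabilizer ((P : Subgroup N).map N.subtype) a)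
  rw [index_stabilizer_of_transitive, hX, hQcard] at h1
  omega

end PrimSimple

end Cfsg.Agent.Lib.helper10
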