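/-
Consequences of a verified stabiliser chain (order, transitivity, point stabiliser), primitivity
from a certificate for the orbits of the point stabiliser, and a simplicity criterion for a
primitive group generated by two elements of prime orders.
-/
import Mathlib
import Cfsg.Agent.Lib.helper10.PermChain
import Cfsg.Agent.Lib.helper10.PrimSimple

set_option autoImplicit false
set_option linter.unusedSectionVars false

namespace Cfsg.Agent.Lib.helper10

open MulAction

section Facts

variable {n : ℕ}

/-- The facts given by a verified chain whose base consists of the points below `m`, when an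
invariant relation with the propagation property from `m` on is given. -/
theorem chain_facts (L : Lvl n) (rest : List (Lvl n)) (hok : ChainOK L.S [] (L :: rest))
    (m : ℕ) (hbase : (L :: rest).map Lvl.b = List.range m)
    (rowf : ℕ → ℕ) (w d pw pW ptab : ℕ)
    (hinv : ∀ j, j < L.S.g / 2 → ∀ v, v < n → chkInvV L.S.act rowf w n d (2 * j) v = true)
    (hprop : ∀ k, m ≤ k → k < n → chkPropV (fun v => rowMask w d (rowf v)) n pw pW ptab k = true)
    (hb : L.b < n) :
    Nat.card L.S.H = ((L :: rest).map orbCard).prod ∧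
    Nat.card (Hs rest) = (rest.map orbCard).prod ∧
    Hs rest ≤ L.S.H ∧
    (∀ g ∈ Hs rest, g ⟨L.b, hb⟩ = ⟨L.b, hb⟩) ∧
    (∀ h ∈ L.S.H, h ⟨L.b, hb⟩ = ⟨L.b, hb⟩ → h ∈ Hs rest) ∧
    (∀ v : Fin n, plook L.W L.tbl v ≠ 0 → ∃ h ∈ L.S.H, h ⟨L.b, hb⟩ = v) := by
  have hR : ∀ g ∈ L.S.H, (∀ x : Fin n, (x : ℕ) ∈ (L :: rest).map Lvl.b → g x = x) → g = 1 := by
    intro g hg hfix
    apply rigid_of_prop _ m pw pW ptab hprop g (H_le_autG L.S rowf w d hinv hg)
    intro x hx
    apply hfix x
    rw [hbase]
    exact List.mem_range.mpr hx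
  obtain ⟨h1, -, -, -, h5⟩ := chain_main L.S.H (L :: rest) L.S [] hok le_rfl
    (fun g hg hfix => hR g hg (fun x hx => hfix x (by simpa using hx)))
  obtain ⟨h6, h7, h8, -, -⟩ := chain_main L.S.H rest L.S ([] ++ [L.b]) hok.2.2.2 le_rfl
    (fun g hg hfix => hR g hg (fun x hx => hfix x (by simpa using hx)))
  obtain ⟨h9, h10⟩ := h5 L rest rfl hb
  exact ⟨h1, h6, h8, fun g hg => h7 g hg _ (by simp), fun h hh => (h9 h hh).2, h10⟩

/-- A subgroup reaching every point from a base point is transitive. -/
theorem pretransitive_of_reach (H : Subgroup (Equiv.Perm (Fin n))) (x0 : Fin n)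
    (h : ∀ v : Fin n, ∃ g ∈ H, g x0 = v) : IsPretransitive H (Fin n) := by
  refine ⟨fun x y => ?_⟩
  obtain ⟨g1, hg1, hx⟩ := h x
  obtain ⟨g2, hg2, hy⟩ := h y
  refine ⟨⟨g2 * g1⁻¹, H.mul_mem hg2 (H.inv_mem hg1)⟩, ?_⟩
  show (g2 * g1⁻¹) x = y
  have e : g1⁻¹ (g1 x0) = x0 := g1.symm_apply_apply x0
  rw [Equiv.Perm.mul_apply, ← hx, e, hy]

/-- The stabiliser of a point in a subgroup, as a subgroup of the subgroup, has the order of
the subgroup of the elements fixing the point. -/
theorem card_stabilizer_eq (H K : Subgroup (Equiv.Perm (Fin n))) (x0 : Fin n) (hKH : K ≤ H)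
    (hK : ∀ g ∈ K, g x0 = x0) (hstab : ∀ h ∈ H, h x0 = x0 → h ∈ K) :
    Nat.card (stabilizer H x0) = Nat.card K := by
  apply Nat.card_congr
  exact
    { toFun := fun h => ⟨h.1.1, hstab h.1.1 h.1.2 (mem_stabilizer_iff.mp h.2)⟩
      invFun := fun k => ⟨⟨k.1, hKH k.2⟩, mem_stabilizer_iff.mpr (hK k.1 k.2)⟩
      left_inv := fun h => rfl
      right_inv := fun k => rfl }

open Classical in
/-- The bit mask of a predicate on the numbers below `k`. -/
noncomputable def bmask (P : ℕ → Prop) : ℕ → ℕ
  | 0 => 0
  | k + 1 => (if P k then 2 ^ k else 0) + bmask P k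

open Classical in
theorem bmask_lt (P : ℕ → Prop) : ∀ k, bmask P k < 2 ^ k
  | 0 => by simp [bmask]
  | k + 1 => by
    have := bmask_lt P k
    rw [bmask, pow_succ]
    split_ifs <;> omega

open Classical in
theorem testBit_bmask (P : ℕ → Prop) : ∀ k j, (bmask P k).testBit j = true ↔ j < k ∧ P j
  | 0, j => by simp [bmask]
  | k + 1, j => by
    have ih := testBit_bmask P k j
    have hlt := bmask_lt P k
    rw [bmask]
    rcases lt_trichotomy j k with hj | hj | hj
    · have : (((if P k then 2 ^ k else 0) + bmask P k).testBit j) = (bmask P k).testBit j := by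
        split_ifs
        · exact Nat.testBit_two_pow_add_gt hj _
        · rw [zero_add]
      rw [this, ih]
      constructor
      · rintro ⟨h1, h2⟩; exact ⟨by omega, h2⟩
      · rintro ⟨h1, h2⟩; exact ⟨hj, h2⟩
    · subst hj
      have h0 : (bmask P j).testBit j = false := Nat.testBit_lt_two_pow hlt
      by_cases hP : P j
      · rw [if_pos hP, Nat.testBit_two_pow_add_eq, h0]
        simp [hP]
      · rw [if_neg hP, zero_add, h0]
        simp [hP]
    · have h1 : (if P k then 2 ^ k else 0) + bmask P k < 2 ^ j := by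
        have h2 : 2 ^ (k + 1) ≤ 2 ^ j := Nat.pow_le_pow_right (by norm_num) hj
        rw [pow_succ] at h2
        split_ifs <;> omega
      rw [Nat.testBit_lt_two_pow h1]
      constructor
      · intro h; exact absurd h (by simp)
      · rintro ⟨h, -⟩; omega

/-- The sum of the sizes of the classes in a bit mask. -/
def wsum (size : ℕ → ℕ) (J k : ℕ) : ℕ :=
  Nat.rec (motive := fun _ => ℕ) 0 (fun j ih => ih + cond (J.testBit j) (size j) 0) k

theorem wsum_eq (size : ℕ → ℕ) (J : ℕ) : ∀ k,
    wsum size J k = ∑ j ∈ Finset.range k, if J.testBit j = true then size j else 0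
  | 0 => rfl
  | k + 1 => by
    rw [Finset.sum_range_succ, ← wsum_eq size J k]
    show wsum size J k + cond (J.testBit k) (size k) 0 = _
    cases J.testBit k <;> simp

/-- The arithmetic check for primitivity: a union of classes containing class `0` whose size
divides `n` is class `0` or everything. -/
def chkArith (size : ℕ → ℕ) (n k : ℕ) : Bool :=
  allBelow (fun J => !(J.testBit 0) || (!(decide (n % wsum size J k = 0)) ||
    (decide (J = 1) || decide (J = 2 ^ k - 1)))) (2 ^ k)

/-- Primitivity from a partition into classes, each inside an orbit of a subgroup fixing the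
base point, with the arithmetic check on the class sizes. -/
theorem prim_of_classes (H K : Subgroup (Equiv.Perm (Fin n))) [IsPretransitive H (Fin n)]
    (x0 : Fin n) (hKH : K ≤ H) (hK : ∀ g ∈ K, g x0 = x0)
    (k : ℕ) (cls : Fin n → ℕ) (root : ℕ → Fin n) (hcls : ∀ v, cls v < k)
    (horb : ∀ v : Fin n, ∃ g ∈ K, g (root (cls v)) = v)
    (h0 : ∀ v, cls v = 0 ↔ v = x0)
    (size : ℕ → ℕ)
    (hsize : ∀ j, j < k → (Finset.univ.filter fun v : Fin n => cls v = j).card = size j)
    (harith : chkArith size n k = true) : IsPreprimitive H (Fin n) := by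
  classical
  apply isPreprimitive_of_stab_invariant x0
  intro S hx0 hinv hdvd
  -- classes are inside `S` or disjoint from it
  have hclass : ∀ v w : Fin n, cls v = cls w → v ∈ S → w ∈ S := by
    intro v w hvw hv
    obtain ⟨g1, hg1, h1⟩ := horb v
    obtain ⟨g2, hg2, h2⟩ := horb w
    have hmem : g2 * g1⁻¹ ∈ H := H.mul_mem (hKH hg2) (H.inv_mem (hKH hg1))
    have hst : (⟨g2 * g1⁻¹, hmem⟩ : H) ∈ stabilizer H x0 := by
      rw [mem_stabilizer_iff]
      show (g2 * g1⁻¹) x0 = x0
      have e1 : g1⁻¹ x0 = x0 := by rw [Equiv.Perm.inv_eq_iff_eq, hK g1 hg1]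
      rw [Equiv.Perm.mul_apply, e1, hK g2 hg2]
    have := hinv _ hst v hv
    have e : (⟨g2 * g1⁻¹, hmem⟩ : H) • v = w := by
      show (g2 * g1⁻¹) v = w
      have e2 : g1⁻¹ (g1 (root (cls v))) = root (cls v) := g1.symm_apply_apply _
      rw [Equiv.Perm.mul_apply, ← h1, e2, hvw, h2]
    rwa [e] at this
  set P : ℕ → Prop := fun j => ∃ v ∈ S, cls v = j with hP
  set J := bmask P k with hJ
  have hbit : ∀ j, J.testBit j = true ↔ j < k ∧ P j := testBit_bmask P k
  -- the size of `S`
  have hcard : S.ncard = wsum size J k := by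
    rw [wsum_eq, Set.ncard_eq_toFinset_card', Finset.card_eq_sum_card_fiberwise
      (f := cls) (t := Finset.range k) (fun v _ => Finset.mem_range.mpr (hcls v))]
    apply Finset.sum_congr rfl
    intro j hj
    rw [Finset.mem_range] at hj
    by_cases hPj : P j
    · rw [if_pos ((hbit j).mpr ⟨hj, hPj⟩), ← hsize j hj]
      congr 1
      ext w
      simp only [Finset.mem_filter, Set.mem_toFinset, Finset.mem_univ, true_and]
      constructor
      · exact fun h => h.2
      · intro hw
        obtain ⟨v, hv, hvj⟩ := hPj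
        exact ⟨hclass v w (by rw [hvj, hw]) hv, hw⟩
    · rw [if_neg (fun h => hPj ((hbit j).mp h).2)]
      rw [Finset.card_eq_zero, Finset.filter_eq_empty_iff]
      intro w hw hwj
      exact hPj ⟨w, Set.mem_toFinset.mp hw, hwj⟩
  have hk : 0 < k := lt_of_le_of_lt (Nat.zero_le _) (hcls x0)
  have hJ0 : J.testBit 0 = true := (hbit 0).mpr ⟨hk, x0, hx0, (h0 x0).mpr rfl⟩
  have hchk := allBelow_sound harith J (bmask_lt P k)
  rw [hJ0] at hchk
  have hmod : n % wsum size J k = 0 := by
    rw [← hcard]
    have : S.ncard ∣ n := by simpa using hdvd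
    exact Nat.mod_eq_zero_of_dvd this
  simp only [Bool.not_true, Bool.false_or, hmod, decide_true, Bool.or_eq_true,
    decide_eq_true_eq] at hchk
  rcases hchk with h1 | h1
  · left
    ext v
    rw [Set.mem_singleton_iff]
    constructor
    · intro hv
      by_contra hne
      have hc : cls v ≠ 0 := fun h => hne ((h0 v).mp h)
      have : J.testBit (cls v) = true := (hbit _).mpr ⟨hcls v, v, hv, rfl⟩
      rw [h1, Nat.testBit_one_eq_true_iff_self_eq_zero] at this
      exact hc this
    · rintro rfl
      exact hx0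
  · right
    ext w
    simp only [Set.mem_univ, iff_true]
    have : J.testBit (cls w) = true := by
      rw [h1, Nat.testBit_two_pow_sub_one]
      simpa using hcls w
    obtain ⟨-, v, hv, hvw⟩ := (hbit _).mp this
    exact hclass v w hvw hv

end Facts

section Simple

open scoped Pointwise

/-- An element whose order is prime to the index of a normal subgroup lies in it. -/
theorem mem_of_coprime_index {G : Type*} [Group G] (N : Subgroup G) [N.Normal] (x : G)
    (h : Nat.Coprime (orderOf x) N.index) : x ∈ N := by
  have h1 : x ^ N.index ∈ N := N.pow_index_mem x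
  have h2 : ((orderOf x : ℤ) * Nat.gcdA (orderOf x) N.index
      + (N.index : ℤ) * Nat.gcdB (orderOf x) N.index) = 1 := by
    have := Nat.gcd_eq_gcd_ab (orderOf x) N.index
    rw [h.gcd_eq_one] at this
    exact_mod_cast this.symm
  have h3 : x = x ^ ((orderOf x : ℤ) * Nat.gcdA (orderOf x) N.index
      + (N.index : ℤ) * Nat.gcdB (orderOf x) N.index) := by rw [h2, zpow_one]
  rw [h3, zpow_add, zpow_mul, zpow_mul, zpow_natCast, zpow_natCast, pow_orderOf_eq_one, one_zpow,
    one_mul]
  exact N.zpow_mem h1 _

variable {n : ℕ}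

/-- A primitive permutation group of degree `n = p ^ e * m` (`p` prime, not dividing `m`) and
order `n * s` with `p` not dividing `s`, generated by an element `b` of order `p` and an element
`a` of prime order `r`, where `r` divides the order of the group exactly once, `a` has at least
one and fewer than `p` fixed points, and `p ^ e` is not `1` modulo `r`, is simple. -/
theorem simple_of_two_primes (G : Subgroup (Equiv.Perm (Fin n))) (a b : Equiv.Perm (Fin n))
    (hG : G = Subgroup.closure {a, b}) [hprim : IsPreprimitive G (Fin n)]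
    (s p r e m : ℕ) [hp : Fact p.Prime] [hr : Fact r.Prime]
    (hcard : Nat.card G = n * s) (hn : n = p ^ e * m) (hpm : ¬ p ∣ m) (hps : ¬ p ∣ s)
    (hr2 : ¬ r ^ 2 ∣ n * s) (hb : orderOf b = p) (ha : orderOf a = r)
    (hfix1 : ∃ x, a x = x) (hfix2 : (Finset.univ.filter fun x => a x = x).card < p)
    (hmod : p ^ e % r ≠ 1) : IsSimpleGroup G := by
  classical
  have haG : a ∈ G := by rw [hG]; exact Subgroup.subset_closure (by simp)
  have hbG : b ∈ G := by rw [hG]; exact Subgroup.subset_closure (by simp)
  have hcpos : 0 < Nat.card G := by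
    rw [hcard]
    by_contra h0
    have : n * s = 0 := by omega
    rw [this] at hr2
    exact hr2 (dvd_zero _)
  have hfin : Finite G := Nat.finite_of_card_ne_zero hcpos.ne'
  have hnpos : 0 < n := by
    by_contra h0
    have : n * s = 0 := by
      have : n = 0 := by omega
      rw [this, zero_mul]
    omega
  have hne : Nontrivial G := by
    refine ⟨⟨⟨a, haG⟩, 1, ?_⟩⟩
    intro h
    have h1 : a = 1 := congrArg Subtype.val h
    rw [h1, orderOf_one] at ha
    exact hr.out.one_lt.ne ha
  have hcardFin : Nat.card (Fin n) = n := by simp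
  -- the stabilisers have order `s`
  have hstab : ∀ x : Fin n, Nat.card (stabilizer G x) = s := by
    intro x
    have h1 := Subgroup.card_mul_index (stabilizer G x)
    rw [index_stabilizer_of_transitive, hcardFin, hcard, mul_comm] at h1
    exact Nat.eq_of_mul_eq_mul_left hnpos h1
  refine IsSimpleGroup.mk (fun N hN => ?_)
  by_cases hbot : N = ⊥
  · exact Or.inl hbot
  right
  have htr : IsPretransitive N (Fin n) := pretransitive_of_normal_prim N hbot
  obtain ⟨x0, hx0⟩ := hfix1
  -- `n` divides the order of `N`
  have hNcard : Nat.card N = Nat.card (stabilizer N x0) * n := by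
    have h1 := Subgroup.card_mul_index (stabilizer N x0)
    rw [index_stabilizer_of_transitive, hcardFin] at h1
    exact h1.symm
  have hidx : Nat.card (stabilizer N x0) * N.index = s := by
    have h1 := Subgroup.card_mul_index N
    rw [hNcard, hcard] at h1
    have h2 : n * (Nat.card (stabilizer N x0) * N.index) = n * s := by
      rw [← h1]; ring
    exact Nat.eq_of_mul_eq_mul_left hnpos h2
  -- `b` lies in `N`
  have hbN : (⟨b, hbG⟩ : G) ∈ N := by
    apply mem_of_coprime_index
    have h1 : orderOf (⟨b, hbG⟩ : G) = p := by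
      rw [← hb]
      exact Subgroup.orderOf_mk b hbG
    rw [h1]
    apply (Nat.Prime.coprime_iff_not_dvd hp.out).mpr
    intro hdvd
    exact hps (hidx ▸ Dvd.dvd.mul_left hdvd _)
  -- `r` divides the order of `N`
  have hrN : r ∣ Nat.card N := by
    by_contra hrN
    set φ : MulAut N := MulAut.conjNormal (⟨a, haG⟩ : G) with hφ
    have hφr : φ ^ r = 1 := by
      rw [hφ, ← map_pow]
      have : (⟨a, haG⟩ : G) ^ r = 1 := by
        apply Subtype.ext
        show a ^ r = 1
        rw [← ha]
        exact pow_orderOf_eq_one a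
      rw [this, map_one]
    have hZ : IsPGroup r (Subgroup.zpowers φ) := by
      have h1 : orderOf φ ∣ r := orderOf_dvd_of_pow_eq_one hφr
      rcases (Nat.dvd_prime hr.out).mp h1 with h2 | h2
      · apply IsPGroup.of_card (n := 0)
        rw [Nat.card_zpowers, h2, pow_zero]
      · apply IsPGroup.of_card (n := 1)
        rw [Nat.card_zpowers, h2, pow_one]
    have hSyl : ¬ r ∣ Nat.card (Sylow p N) := by
      intro hdvd
      obtain ⟨T0⟩ : Nonempty (Sylow p N) := Sylow.nonempty
      exact hrN ((hdvd.trans T0.card_dvd_index).trans (Subgroup.index_dvd_card _))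
    obtain ⟨T, hT⟩ := hZ.nonempty_fixed_point_of_prime_not_dvd_card (Sylow p N) hSyl
    have hT1 : φ • T = T := hT ⟨φ, Subgroup.mem_zpowers φ⟩
    have hT2 : φ • (T : Subgroup N) = T := by
      rw [← Sylow.pointwise_smul_def, hT1]
    have hTφ : ∀ t : N, t ∈ (T : Subgroup N) → φ t ∈ (T : Subgroup N) := by
      intro t ht
      have := Subgroup.smul_mem_pointwise_smul t φ (T : Subgroup N) ht
      rw [hT2] at this
      exact this
    -- the order of `T`
    have hTcard : Nat.card (T : Subgroup N) = p ^ e := by
      obtain ⟨k, hk⟩ := IsPGroup.iff_card.mp T.2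
      have hdn : p ^ e ∣ n := ⟨m, hn⟩
      have hns : n * s = p ^ e * (m * s) := by
        have : n * s = (p ^ e * m) * s := congrArg (· * s) hn
        rw [this, mul_assoc]
      have h1 : p ^ e ∣ Nat.card N := by
        rw [hNcard]
        exact Dvd.dvd.mul_left hdn _
      have h2 : p ^ e ∣ Nat.card (T : Subgroup N) := T.pow_dvd_card_of_pow_dvd_card h1
      have h3 : Nat.card (T : Subgroup N) ∣ p ^ e * (m * s) := by
        have h4 : Nat.card (T : Subgroup N) ∣ Nat.card N := Subgroup.card_subgroup_dvd_card _
        have h5 : Nat.card N ∣ Nat.card G := Subgroup.card_subgroup_dvd_card _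
        have h6 := h4.trans h5
        rw [hcard, hns] at h6
        exact h6
      rw [hk] at h2 h3 ⊢
      have hke : e ≤ k := (Nat.pow_dvd_pow_iff_le_right hp.out.one_lt).mp h2
      have hek : k ≤ e := by
        by_contra hlt
        have h7 : p ^ (e + 1) ∣ p ^ e * (m * s) := (pow_dvd_pow p (by omega)).trans h3
        rw [pow_succ] at h7
        have h8 : p ∣ m * s := Nat.dvd_of_mul_dvd_mul_left (pow_pos hp.out.pos e) h7
        rcases (Nat.Prime.dvd_mul hp.out).mp h8 with h9 | h9
        · exact hpm h9
        · exact hps h9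
      rw [le_antisymm hek hke]
    -- conjugation by `a` on `T` has a nontrivial fixed point
    let _ : Fintype (T : Subgroup N) := Fintype.ofFinite _
    set f : Function.End (T : Subgroup N) := fun t => ⟨φ t.1, hTφ t.1 t.2⟩ with hf
    have hfk : ∀ k : ℕ, ∀ t : (T : Subgroup N), ((f ^ k) t : N) = (φ ^ k) t.1 := by
      intro k
      induction k with
      | zero => intro t; rfl
      | succ k ih =>
        intro t
        rw [pow_succ', pow_succ']
        show φ ((f ^ k) t : N) = φ ((φ ^ k) t.1)
        rw [ih]
    have hfr : f ^ r ^ 1 = 1 := by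
      rw [pow_one]
      funext t
      apply Subtype.ext
      rw [hfk, hφr]
      rfl
    have hmodEq := Equiv.Perm.card_fixedPoints_modEq (p := r) (n := 1) hfr
    have hone : (1 : (T : Subgroup N)) ∈ Function.fixedPoints f := by
      show f 1 = 1
      apply Subtype.ext
      show φ (1 : N) = 1
      exact map_one φ
    have hcardfix : 1 < Fintype.card (Function.fixedPoints f) := by
      by_contra hle
      have h1 : Fintype.card (Function.fixedPoints f) = 1 := by
        have : 0 < Fintype.card (Function.fixedPoints f) := Fintype.card_pos_iff.mpr ⟨⟨1, hone⟩⟩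
        omega
      rw [h1, ← Nat.card_eq_fintype_card, hTcard] at hmodEq
      have h2 : p ^ e % r = 1 % r := hmodEq
      rw [Nat.mod_eq_of_lt hr.out.one_lt] at h2
      exact hmod h2
    obtain ⟨⟨t, ht⟩, hne1⟩ := Fintype.exists_ne_of_one_lt_card hcardfix ⟨1, hone⟩
    have ht1 : t ≠ 1 := fun h => hne1 (Subtype.ext h)
    -- the permutation `τ` of `t` commutes with `a`
    set τ : Equiv.Perm (Fin n) := (((t : N) : G) : Equiv.Perm (Fin n)) with hτ
    have hτ1 : τ ≠ 1 := by
      intro h
      apply ht1
      apply Subtype.ext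
      apply Subtype.ext
      apply Subtype.ext
      exact h
    have hcomm : a * τ * a⁻¹ = τ := by
      have h1 : φ (t : N) = (t : N) := congrArg Subtype.val ht
      have h2 := congrArg (fun z : N => ((z : G) : Equiv.Perm (Fin n))) h1
      simpa [hφ, MulAut.conjNormal_apply] using h2
    have hcomm' : ∀ y, a (τ y) = τ (a y) := by
      intro y
      have h1 : a * τ = τ * a := by
        calc a * τ = (a * τ * a⁻¹) * a := by group
          _ = τ * a := by rw [hcomm]
      have := congrArg (fun z : Equiv.Perm (Fin n) => z y) h1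
      simpa using this
    -- the order of `τ` is a power of `p`
    have hτord : ∃ k, orderOf τ = p ^ k := by
      have h1 : orderOf t ∣ p ^ e := by
        rw [← hTcard]
        exact orderOf_dvd_natCard t
      have h2 : orderOf τ = orderOf t := by
        rw [hτ, Subgroup.orderOf_coe, Subgroup.orderOf_coe, Subgroup.orderOf_coe]
      rw [← h2] at h1
      obtain ⟨k, -, hk⟩ := (Nat.dvd_prime_pow hp.out).mp h1
      exact ⟨k, hk⟩
    obtain ⟨k, hk⟩ := hτord
    have hk0 : k ≠ 0 := by
      rintro rfl
      rw [pow_zero, orderOf_eq_one_iff] at hk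
      exact hτ1 hk
    -- `τ` fixes `x0`
    have hτx : τ x0 = x0 := by
      have hper : Function.IsPeriodicPt τ (orderOf τ) x0 := by
        show τ^[orderOf τ] x0 = x0
        rw [← Equiv.Perm.coe_pow, pow_orderOf_eq_one]
        rfl
      have hdvd := hper.minimalPeriod_dvd
      rw [hk] at hdvd
      obtain ⟨j, -, hj⟩ := (Nat.dvd_prime_pow hp.out).mp hdvd
      have hfixi : ∀ i : ℕ, a (τ^[i] x0) = τ^[i] x0 := by
        intro i
        induction i with
        | zero => exact hx0
        | succ i ih => rw [Function.iterate_succ_apply', hcomm', ih]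
      have hle : Function.minimalPeriod τ x0 ≤ (Finset.univ.filter fun x => a x = x).card := by
        have hinj := Function.iterate_injOn_Iio_minimalPeriod (f := τ) (x := x0)
        have h1 : (Finset.range (Function.minimalPeriod τ x0)).card ≤
            (Finset.univ.filter fun x => a x = x).card := by
          apply Finset.card_le_card_of_injOn (fun i => τ^[i] x0)
          · intro i _
            simp only [Finset.coe_filter, Finset.mem_univ, true_and]
            exact hfixi i
          · intro i hi j hj hij
            exact hinj (by simpa using hi) (by simpa using hj) hij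
        simpa using h1
      have hj0 : j = 0 := by
        by_contra hj0
        have h1 : p ≤ p ^ j := Nat.le_self_pow hj0 p
        omega
      rw [hj0, pow_zero] at hj
      exact Function.minimalPeriod_eq_one_iff_isFixedPt.mp hj
    -- contradiction with the order of the stabiliser
    have hst : ((t : N) : G) ∈ stabilizer G x0 := by
      rw [mem_stabilizer_iff]
      exact hτx
    have h1 : orderOf (⟨((t : N) : G), hst⟩ : stabilizer G x0) ∣ s := by
      rw [← hstab x0]
      exact orderOf_dvd_natCard _
    have h2 : orderOf (⟨((t : N) : G), hst⟩ : stabilizer G x0) = orderOf τ := by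
      rw [Subgroup.orderOf_mk, hτ]
      exact (Subgroup.orderOf_coe ((t : N) : G)).symm
    rw [h2, hk] at h1
    exact hps ((dvd_pow_self p hk0).trans h1)
  -- `a` lies in `N`
  have haN : (⟨a, haG⟩ : G) ∈ N := by
    apply mem_of_coprime_index
    have h1 : orderOf (⟨a, haG⟩ : G) = r := by
      rw [← ha]
      exact Subgroup.orderOf_mk a haG
    rw [h1]
    apply (Nat.Prime.coprime_iff_not_dvd hr.out).mpr
    intro hdvd
    apply hr2
    have h2 := Subgroup.card_mul_index N
    rw [hcard] at h2
    rw [← h2, pow_two]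
    exact mul_dvd_mul hrN hdvd
  -- `N` is everything
  rw [Subgroup.eq_top_iff']
  intro g
  have hle : Subgroup.closure {a, b} ≤ N.map G.subtype := by
    rw [Subgroup.closure_le]
    rintro x (rfl | rfl)
    · exact ⟨⟨x, haG⟩, haN, rfl⟩
    · exact ⟨⟨x, hbG⟩, hbN, rfl⟩
  have hg : (g : Equiv.Perm (Fin n)) ∈ N.map G.subtype := hle (hG ▸ g.2)
  obtain ⟨y, hy, hyg⟩ := hg
  have : y = g := Subtype.ext hyg
  rwa [this] at hy

end Simple

section Cert

variable {n : ℕ}

theorem LetterSys.pperm_replicate (S : LetterSys n) (c k : ℕ) :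
    S.pperm (List.replicate k c) = S.L c ^ k := by
  simp [LetterSys.pperm, List.map_replicate, List.prod_replicate]

theorem LetterSys.orderOf_L (S : LetterSys n) (c r : ℕ) (hr : r.Prime)
    (h1 : ∀ x, x < n → pact S.act (List.replicate r c) x = x)
    (h2 : ∃ x, x < n ∧ S.act c x ≠ x) : orderOf (S.L c) = r := by
  have : Fact r.Prime := ⟨hr⟩
  apply orderOf_eq_prime
  · rw [← S.pperm_replicate]
    ext x
    rw [S.pperm_apply, h1 x x.2]
    rfl
  · intro h
    obtain ⟨x, hx, hne⟩ := h2
    apply hne
    have := S.hact c ⟨x, hx⟩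
    rw [h] at this
    exact this.symm

/-- The certificate of a simple primitive permutation group: a verified chain with an
invariant relation, a certificate for the orbits of the point stabiliser with the arithmetic
check for primitivity, and the data on the two generators of prime orders.  The group is
simple of order `n * s`, transitive, with point stabilisers of order `s`. -/
theorem group_cert (L L1 : Lvl n) (rest : List (Lvl n))
    (hok : ChainOK L.S [] (L :: L1 :: rest))
    (m : ℕ) (hbase : (L :: L1 :: rest).map Lvl.b = List.range m)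
    (rowf : ℕ → ℕ) (w d pw pW ptab : ℕ)
    (hinv : ∀ j, j < L.S.g / 2 → ∀ v, v < n → chkInvV L.S.act rowf w n d (2 * j) v = true)
    (hprop : ∀ k, m ≤ k → k < n → chkPropV (fun v => rowMask w d (rowf v)) n pw pW ptab k = true)
    (hg4 : L.S.g = 4) (hb : L.b < n)
    (hfull : ∀ v, v < n → plook L.W L.tbl v ≠ 0)
    (roots sizes : List ℕ) (cw ctab q W otab : ℕ)
    (horb : ∀ v, v < n → chkOrbV L1.S.act roots cw ctab q W otab v = true)
    (hroots : ∀ j, roots.getD j 0 < n)
    (hcls : ∀ v, v < n → plook cw ctab v < roots.length)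
    (hcls0 : ∀ v, v < n → (plook cw ctab v = 0 ↔ v = L.b))
    (hsizes : ∀ j, j < roots.length →
      cntBelow (fun v => plook cw ctab v == j) n = sizes.getD j 0)
    (harith : chkArith (fun j => sizes.getD j 0) n roots.length = true)
    (s p r e mm : ℕ) (hp : p.Prime) (hr : r.Prime)
    (hcard : ((L :: L1 :: rest).map orbCard).prod = n * s)
    (hn : n = p ^ e * mm) (hpm : ¬ p ∣ mm) (hps : ¬ p ∣ s) (hr2 : ¬ r ^ 2 ∣ n * s)
    (hap : ∀ x, x < n → pact L.S.act (List.replicate r 0) x = x)
    (hane : ∃ x, x < n ∧ L.S.act 0 x ≠ x)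
    (hbp : ∀ x, x < n → pact L.S.act (List.replicate p 2) x = x)
    (hbne : ∃ x, x < n ∧ L.S.act 2 x ≠ x)
    (hfix1 : 0 < cntBelow (fun x => L.S.act 0 x == x) n)
    (hfix2 : cntBelow (fun x => L.S.act 0 x == x) n < p)
    (hmod : p ^ e % r ≠ 1) :
    IsSimpleGroup L.S.H ∧ Nat.card L.S.H = n * s ∧ IsPretransitive L.S.H (Fin n) ∧
      Nat.card (stabilizer L.S.H (⟨L.b, hb⟩ : Fin n)) = s := by
  have : Fact p.Prime := ⟨hp⟩
  have : Fact r.Prime := ⟨hr⟩
  obtain ⟨h1, -, hKH, hK, hstab, hreach⟩ :=
    chain_facts L (L1 :: rest) hok m hbase rowf w d pw pW ptab hinv hprop hb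
  rw [hcard] at h1
  have htr : IsPretransitive L.S.H (Fin n) :=
    pretransitive_of_reach L.S.H ⟨L.b, hb⟩ (fun v => hreach v (hfull v v.2))
  have hnpos : 0 < n := lt_of_le_of_lt (Nat.zero_le _) hb
  have hstabcard : Nat.card (stabilizer L.S.H (⟨L.b, hb⟩ : Fin n)) = s := by
    have h2 := Subgroup.card_mul_index (stabilizer L.S.H (⟨L.b, hb⟩ : Fin n))
    rw [index_stabilizer_of_transitive, h1] at h2
    have h3 : Nat.card (Fin n) = n := by simp
    rw [h3, mul_comm] at h2
    exact Nat.eq_of_mul_eq_mul_left hnpos h2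
  have hprim : IsPreprimitive L.S.H (Fin n) := by
    apply prim_of_classes L.S.H (Hs (L1 :: rest)) ⟨L.b, hb⟩ hKH hK roots.length
      (fun v => plook cw ctab v) (fun j => ⟨roots.getD j 0, hroots j⟩) (fun v => hcls v v.2)
      (fun v => chkOrbV_spec L1.S roots cw ctab q W otab v (horb v v.2) (hroots _))
      (fun v => by
        rw [hcls0 v v.2]
        exact ⟨fun h => Fin.ext h, fun h => congrArg Fin.val h⟩)
      (fun j => sizes.getD j 0) _ harith
    intro j hj
    rw [← hsizes j hj, ← card_filter_fin_eq_cntBelow]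
    congr 1
    ext v
    simp
  have ha : orderOf (L.S.L 0) = r := L.S.orderOf_L 0 r hr hap hane
  have hb' : orderOf (L.S.L 2) = p := L.S.orderOf_L 2 p hp hbp hbne
  have hcnt : (Finset.univ.filter fun x : Fin n => L.S.L 0 x = x).card
      = cntBelow (fun x => L.S.act 0 x == x) n := by
    rw [← card_filter_fin_eq_cntBelow]
    congr 1
    ext x
    simp only [Finset.mem_filter, Finset.mem_univ, true_and, beq_iff_eq]
    rw [← L.S.hact 0 x]
    exact ⟨fun h => congrArg Fin.val h, fun h => Fin.ext h⟩
  have hfixex : ∃ x, L.S.L 0 x = x := by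
    rw [← hcnt] at hfix1
    obtain ⟨x, hx⟩ := Finset.card_pos.mp hfix1
    exact ⟨x, (Finset.mem_filter.mp hx).2⟩
  have hsimple := simple_of_two_primes L.S.H (L.S.L 0) (L.S.L 2) (L.S.H_eq_closure_pair hg4)
    s p r e mm h1 hn hpm hps hr2 hb' ha hfixex (by rw [hcnt]; exact hfix2) hmod
  exact ⟨hsimple, h1, htr, hstabcard⟩

end Cert

/-! ### Helpers turning Boolean checks into the hypotheses of `group_cert` -/

theorem allFrom_sound {f : ℕ → Bool} {lo len : ℕ}
    (h : allBelow (fun i => f (lo + i)) len = true) :
    ∀ x, lo ≤ x → x < lo + len → f x = true := by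
  intro x h1 h2
  have h3 := allBelow_sound h (x - lo) (by omega)
  have h4 : lo + (x - lo) = x := by omega
  simpa [h4] using h3

theorem getD_lt_of_all (roots : List ℕ) (n : ℕ) (h0 : 0 < n)
    (h : roots.all (fun x => decide (x < n)) = true) : ∀ j, roots.getD j 0 < n := by
  intro j
  by_cases hj : j < roots.length
  · rw [List.getD_eq_getElem _ _ hj]
    have := List.all_eq_true.mp h _ (List.getElem_mem hj)
    simpa using this
  · rw [List.getD_eq_default _ _ (by omega)]
    exact h0

theorem cls_of_chk (cw ctab k b n : ℕ)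
    (h : allBelow (fun v => decide (plook cw ctab v < k) &&
      (decide (plook cw ctab v = 0) == decide (v = b))) n = true) :
    (∀ v, v < n → plook cw ctab v < k) ∧ (∀ v, v < n → (plook cw ctab v = 0 ↔ v = b)) := by
  refine ⟨fun v hv => ?_, fun v hv => ?_⟩
  · have := allBelow_sound h v hv
    rw [Bool.and_eq_true, decide_eq_true_eq] at this
    exact this.1
  · have := allBelow_sound h v hv
    rw [Bool.and_eq_true] at this
    simpa using this.2

theorem sizes_of_chk (cw ctab n k : ℕ) (sizes : List ℕ)
    (h : allBelow (fun j => cntBelow (fun v => plook cw ctab v == j) n == sizes.getD j 0) k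
      = true) :
    ∀ j, j < k → cntBelow (fun v => plook cw ctab v == j) n = sizes.getD j 0 := by
  intro j hj
  have := allBelow_sound h j hj
  simpa using this

theorem eq_of_beq_all {f : ℕ → ℕ} {n : ℕ} (h : allBelow (fun x => f x == x) n = true) :
    ∀ x, x < n → f x = x := by
  intro x hx
  have := allBelow_sound h x hx
  simpa using this

theorem ne_zero_of_all {f : ℕ → ℕ} {n : ℕ} (h : allBelow (fun x => f x != 0) n = true) :
    ∀ x, x < n → f x ≠ 0 := by
  intro x hx
  have := allBelow_sound h x hx
  simpa using this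

end Cfsg.Agent.Lib.helper10
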