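import Mathlib
import Cfsg.Agent.Lib.helper10.PermSimple
import Cfsg.Agent.Lib.helper10.F4tData
import Cfsg.Agent.Lib.helper10.F4Gam

set_option autoImplicit false
set_option maxRecDepth 100000

namespace Cfsg.Agent.Lib.helper10

def f4tLs3 : List (Lvl 1755) := [f4tL3, f4tL4, f4tL5, f4tL6, f4tL7, f4tL8, f4tL9, f4tL10, f4tL11, f4tL12, f4tL13, f4tL14, f4tL15, f4tL16, f4tL17, f4tL18, f4tL19, f4tL20, f4tL21, f4tL22, f4tL23, f4tL24, f4tL25, f4tL26, f4tL27, f4tL28, f4tL29, f4tL30, f4tL31, f4tL32, f4tL33, f4tL34, f4tL35, f4tL36, f4tL37, f4tL38, f4tL39, f4tL40, f4tL41, f4tL42, f4tL43, f4tL44, f4tL45, f4tL46, f4tL47, f4tL48, f4tL49, f4tL50, f4tL51]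

def f4tLs2 : List (Lvl 1755) := f4tL2 :: f4tLs3

def f4tLs1 : List (Lvl 1755) := f4tL1 :: f4tLs2

def f4tLs : List (Lvl 1755) := f4tL0 :: f4tLs1

theorem f4_sift_m : ([[0], [2], [6, 4], [4, 4]] : List (List ℕ)).all (fun p => siftF f4tLs [Fac.p f4gS p]) = true := by decide +kernel

theorem f4_sift_c : allBelow (fun i => siftF f4tLs [Fac.p f4gS [4], Fac.p f4tL0.S [2 * i], Fac.p f4gS [5]] && siftF f4tLs [Fac.p f4gS [5], Fac.p f4tL0.S [2 * i], Fac.p f4gS [4]]) 2 = true := by decide +kernel

theorem f4_beta : f4gS.act 4 0 = 0 ∧ f4gS.act 4 731 = 731 ∧ plook f4tL2.W f4tL2.tbl (f4gS.act 4 19) = 0 := by decide +kernel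

theorem f4_card3 : (f4tLs3.map orbCard).prod = 1 := by decide +kernel

/-- The check that the products of the letter `4` of ²F₄(2) with the elements of the stabiliser
of the first base point in the Tits group are not involutions, at a point of the second orbit. -/
noncomputable def f4chkInv (v : ℕ) : Bool :=
  nforce (plook f4tL1.W f4tL1.tbl v) fun c1 =>
    if c1 = 0 then true else
      lforce (pdec f4tL1.q f4tL1.W c1) fun p1 =>
        allBelow (fun w =>
          nforce (plook f4tL2.W f4tL2.tbl w) fun c2 =>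
            if c2 = 0 then true else
              lforce (pdec f4tL2.q f4tL2.W c2) fun p2 =>
                ([731, 19] : List ℕ).any fun y =>
                  nforce (applyF [Fac.p f4gS [4], Fac.p f4tL1.S p1, Fac.p f4tL2.S p2] y) fun y1 =>
                    nforce (applyF [Fac.p f4gS [4], Fac.p f4tL1.S p1, Fac.p f4tL2.S p2] y1) fun y2 =>
                      !(Nat.beq y2 y)) 1755

theorem f4_inv_0 : allBelow (fun v => f4chkInv (0 + v)) 859 = true := by decide +kernel

theorem f4_inv_1 : allBelow (fun v => f4chkInv (859 + v)) 128 = true := by decide +kernel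

theorem f4_inv_2 : allBelow (fun v => f4chkInv (987 + v)) 128 = true := by decide +kernel

theorem f4_inv_3 : allBelow (fun v => f4chkInv (1115 + v)) 128 = true := by decide +kernel

theorem f4_inv_4 : allBelow (fun v => f4chkInv (1243 + v)) 128 = true := by decide +kernel

theorem f4_inv_5 : allBelow (fun v => f4chkInv (1371 + v)) 128 = true := by decide +kernel

theorem f4_inv_6 : allBelow (fun v => f4chkInv (1499 + v)) 128 = true := by decide +kernel

theorem f4_inv_7 : allBelow (fun v => f4chkInv (1627 + v)) 128 = true := by decide +kernel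

end Cfsg.Agent.Lib.helper10
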