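/-
Rigidity of a permutation group from a linear structure over the field with two elements: the
points carry pairwise distinct codes (natural numbers read as bit vectors), the generators act
on the codes by matrices, and the codes of the base points span the codes of all points (up to
one reference point outside the span, handled by a table of witnesses).
-/
import Mathlib
import Cfsg.Agent.Lib.helper10.PermChain

set_option autoImplicit false

namespace Cfsg.Agent.Lib.helper10

/-- The XOR of `f 0, …, f (k - 1)`. -/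
def xfold (f : ℕ → ℕ) : ℕ → ℕ
  | 0 => 0
  | k + 1 => Nat.xor (xfold f k) (f k)

theorem xfold_succ (f : ℕ → ℕ) (k : ℕ) : xfold f (k + 1) = Nat.xor (xfold f k) (f k) := rfl

theorem nat_xor_eq (a b : ℕ) : Nat.xor a b = a ^^^ b := rfl

theorem xfold_congr {f g : ℕ → ℕ} : ∀ k, (∀ t, t < k → f t = g t) → xfold f k = xfold g k
  | 0, _ => rfl
  | k + 1, h => by
    rw [xfold_succ, xfold_succ, xfold_congr k (fun t ht => h t (by omega)), h k (by omega)]

theorem xfold_zero : ∀ k, xfold (fun _ => 0) k = 0
  | 0 => rfl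
  | k + 1 => by
    rw [xfold_succ, xfold_zero k]
    rfl

theorem xfold_xor (f g : ℕ → ℕ) : ∀ k,
    xfold (fun t => Nat.xor (f t) (g t)) k = Nat.xor (xfold f k) (xfold g k)
  | 0 => by
    show (0 : ℕ) = Nat.xor 0 0
    rfl
  | k + 1 => by
    rw [xfold_succ, xfold_succ, xfold_succ, xfold_xor f g k]
    simp only [nat_xor_eq]
    rw [Nat.xor_assoc, Nat.xor_assoc, ← Nat.xor_assoc (xfold g k), ← Nat.xor_assoc (f k),
      Nat.xor_comm (xfold g k) (f k)]

/-- The product of the bit vector `x` by the matrix with the columns `cols 0, …, cols (w - 1)`. -/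
def mvx (cols : ℕ → ℕ) (w x : ℕ) : ℕ := xfold (fun k => cond (Nat.testBit x k) (cols k) 0) w

theorem mvx_zero (cols : ℕ → ℕ) (w : ℕ) : mvx cols w 0 = 0 := by
  unfold mvx
  have : (fun k => cond (Nat.testBit 0 k) (cols k) 0) = fun _ => 0 := by
    funext k
    rw [Nat.zero_testBit]
    rfl
  rw [this, xfold_zero]

theorem mvx_xor (cols : ℕ → ℕ) (w a b : ℕ) :
    mvx cols w (Nat.xor a b) = Nat.xor (mvx cols w a) (mvx cols w b) := by
  unfold mvx
  rw [← xfold_xor]
  congr 1
  funext k
  rw [nat_xor_eq, Nat.testBit_xor]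
  cases Nat.testBit a k <;> cases Nat.testBit b k <;> simp

theorem mvx_xfold (cols : ℕ → ℕ) (w : ℕ) (F : ℕ → ℕ) : ∀ m,
    mvx cols w (xfold F m) = xfold (fun t => mvx cols w (F t)) m
  | 0 => mvx_zero cols w
  | m + 1 => by
    rw [xfold_succ, xfold_succ, mvx_xor, mvx_xfold cols w F m]

/-- The permutation preserves the XOR relations between the codes of the points. -/
def XInv {n : ℕ} (code : ℕ → ℕ) (g : Equiv.Perm (Fin n)) : Prop :=
  ∀ (m : ℕ) (sel : ℕ → Bool) (pts : ℕ → Fin n),
    xfold (fun t => cond (sel t) (code (pts t)) 0) m = 0 →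
    xfold (fun t => cond (sel t) (code (g (pts t))) 0) m = 0

theorem XInv.one {n : ℕ} (code : ℕ → ℕ) : XInv code (1 : Equiv.Perm (Fin n)) :=
  fun _ _ _ h => h

theorem XInv.mul {n : ℕ} {code : ℕ → ℕ} {g h : Equiv.Perm (Fin n)} (hg : XInv code g)
    (hh : XInv code h) : XInv code (g * h) :=
  fun m sel pts h0 => hg m sel (fun t => h (pts t)) (hh m sel pts h0)

theorem XInv.pow {n : ℕ} {code : ℕ → ℕ} {g : Equiv.Perm (Fin n)} (hg : XInv code g) :
    ∀ k : ℕ, XInv code (g ^ k)
  | 0 => by rw [pow_zero]; exact XInv.one code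
  | k + 1 => by rw [pow_succ]; exact (XInv.pow hg k).mul hg

theorem XInv.inv {n : ℕ} {code : ℕ → ℕ} {g : Equiv.Perm (Fin n)} (hg : XInv code g) :
    XInv code g⁻¹ := by
  have h1 : g⁻¹ = g ^ (orderOf g - 1) := by
    apply inv_eq_of_mul_eq_one_left
    rw [← pow_succ, Nat.sub_add_cancel (orderOf_pos g), pow_orderOf_eq_one]
  rw [h1]
  exact hg.pow _

/-- The subgroup of the permutations preserving the XOR relations. -/
def xinvG {n : ℕ} (code : ℕ → ℕ) : Subgroup (Equiv.Perm (Fin n)) where
  carrier := {g | XInv code g}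
  mul_mem' := fun ha hb => XInv.mul ha hb
  one_mem' := XInv.one code
  inv_mem' := fun ha => XInv.inv ha

theorem XInv.of_letter {n : ℕ} (S : LetterSys n) (code : ℕ → ℕ) (c : ℕ) (cols : ℕ → ℕ) (w : ℕ)
    (h : ∀ i, i < n → mvx cols w (code i) = code (S.act c i)) : XInv code (S.L c) := by
  intro m sel pts h0
  have e : (fun t => cond (sel t) (code (S.L c (pts t))) 0)
      = fun t => mvx cols w (cond (sel t) (code (pts t)) 0) := by
    funext t
    rw [S.hact, ← h _ (pts t).2]
    cases sel t
    · exact (mvx_zero cols w).symm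
    · rfl
  rw [e, ← mvx_xfold, h0, mvx_zero]

/-- The group of a letter system whose generators act on the codes by matrices preserves the
XOR relations. -/
theorem XInv.of_H {n : ℕ} (S : LetterSys n) (code : ℕ → ℕ) (cols : ℕ → ℕ → ℕ) (w : ℕ)
    (h : ∀ j, j < S.g / 2 → ∀ i, i < n → mvx (cols j) w (code i) = code (S.act (2 * j) i)) :
    ∀ g ∈ S.H, XInv code g := by
  have : S.H ≤ xinvG code :=
    S.H_le_of_even (xinvG code) (fun j hj => XInv.of_letter S code (2 * j) (cols j) w (h j hj))
  exact fun g hg => this hg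

theorem code_lt {n : ℕ} (code : ℕ → ℕ) (h : ∀ i, i + 1 < n → code i < code (i + 1)) :
    ∀ b a, a < b → b < n → code a < code b
  | 0, a, hab, _ => by omega
  | b + 1, a, hab, hb => by
    rcases Nat.lt_succ_iff_lt_or_eq.mp hab with h1 | h1
    · exact lt_trans (code_lt code h b a h1 (by omega)) (h b hb)
    · subst h1; exact h a hb

theorem code_inj {n : ℕ} (code : ℕ → ℕ) (h : ∀ i, i + 1 < n → code i < code (i + 1))
    (a b : Fin n) (hab : code a = code b) : a = b := by
  apply Fin.ext
  rcases lt_trichotomy (a : ℕ) b with h1 | h1 | h1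
  · exact absurd hab (code_lt code h b a h1 b.2).ne
  · exact h1
  · exact absurd hab (code_lt code h a b h1 a.2).ne'

/-- The key step: an XOR relation between the codes of base points, a reference point and a
point is carried to the images under a permutation preserving the XOR relations and fixing the
base points. -/
theorem xinv_key {n : ℕ} (code : ℕ → ℕ) (base : List ℕ) (hbase : ∀ b ∈ base, b < n)
    (g : Equiv.Perm (Fin n)) (hg : XInv code g)
    (hfix : ∀ x : Fin n, (x : ℕ) ∈ base → g x = x)
    (mask : ℕ) (zb : Bool) (z i : Fin n)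
    (h : Nat.xor (Nat.xor
        (xfold (fun t => cond (Nat.testBit mask t) (code (base.getD t 0)) 0) base.length)
        (cond zb (code z) 0)) (code i) = 0) :
    Nat.xor (Nat.xor
        (xfold (fun t => cond (Nat.testBit mask t) (code (base.getD t 0)) 0) base.length)
        (cond zb (code (g z)) 0)) (code (g i)) = 0 := by
  set m := base.length with hm
  let pts : ℕ → Fin n := fun t =>
    if ht : t < base.length then ⟨base[t], hbase _ (List.getElem_mem ht)⟩
    else if t = base.length then z else i
  let sel : ℕ → Bool := fun t =>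
    if t < base.length then Nat.testBit mask t else if t = base.length then zb else true
  have hpts : ∀ t, t < m → ((pts t : Fin n) : ℕ) = base.getD t 0 := by
    intro t ht
    simp only [pts]
    rw [dif_pos ht, List.getD_eq_getElem _ _ ht]
  have hsel : ∀ t, t < m → sel t = Nat.testBit mask t := by
    intro t ht
    simp only [sel]
    rw [if_pos ht]
  have hptsm : pts m = z := by
    simp only [pts]
    rw [dif_neg (lt_irrefl _), if_pos rfl]
  have hselm : sel m = zb := by
    simp only [sel]
    rw [if_neg (lt_irrefl _), if_pos rfl]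
  have hptsm1 : pts (m + 1) = i := by
    simp only [pts]
    rw [dif_neg (by omega), if_neg (by omega)]
  have hselm1 : sel (m + 1) = true := by
    simp only [sel]
    rw [if_neg (by omega), if_neg (by omega)]
  have hgp : ∀ t, t < m → g (pts t) = pts t := by
    intro t ht
    apply hfix
    rw [hpts t ht, List.getD_eq_getElem _ _ ht]
    exact List.getElem_mem ht
  have h1 := hg (m + 2) sel pts (by
    rw [xfold_succ, xfold_succ, hptsm, hselm, hptsm1, hselm1]
    rw [xfold_congr m (g := fun t => cond (Nat.testBit mask t) (code (base.getD t 0)) 0)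
      (fun t ht => by rw [hsel t ht, hpts t ht])]
    exact h)
  rw [xfold_succ, xfold_succ, hptsm, hselm, hptsm1, hselm1] at h1
  rw [xfold_congr m (g := fun t => cond (Nat.testBit mask t) (code (base.getD t 0)) 0)
    (fun t ht => by rw [hsel t ht, hgp t ht, hpts t ht])] at h1
  exact h1

theorem nat_xor_eq_zero {a b : ℕ} (h : Nat.xor a b = 0) : a = b := by
  rw [nat_xor_eq] at h
  exact Nat.xor_eq_zero_iff.mp h

theorem nat_xor_self (a : ℕ) : Nat.xor a a = 0 := by
  rw [nat_xor_eq, Nat.xor_self]

/-- Rigidity when the codes of the base points span the codes of all points. -/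
theorem rigid_xor {n : ℕ} (code : ℕ → ℕ) (base : List ℕ) (cmb : ℕ → ℕ)
    (hmono : ∀ i, i + 1 < n → code i < code (i + 1))
    (hbase : ∀ b ∈ base, b < n)
    (hcmb : ∀ i, i < n →
      xfold (fun t => cond (Nat.testBit (cmb i) t) (code (base.getD t 0)) 0) base.length
        = code i)
    (g : Equiv.Perm (Fin n)) (hg : XInv code g)
    (hfix : ∀ x : Fin n, (x : ℕ) ∈ base → g x = x) : g = 1 := by
  ext i
  have h1 := xinv_key code base hbase g hg hfix (cmb i) false i i (by
    rw [hcmb i i.2]
    show Nat.xor (Nat.xor (code i) 0) (code i) = 0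
    rw [nat_xor_eq (code i) 0, Nat.xor_zero, nat_xor_self])
  rw [hcmb i i.2] at h1
  have h2 : Nat.xor (code i) (code (g i)) = 0 := by
    have : Nat.xor (code i) 0 = code i := by rw [nat_xor_eq, Nat.xor_zero]
    rw [← this]
    exact h1
  have h3 := code_inj code hmono i (g i) (nat_xor_eq_zero h2)
  rw [← h3]
  rfl

/-- Rigidity when the codes of the base points together with the code of a reference point `z`
span the codes of all points, with witnesses excluding that `z` is moved. -/
theorem rigid_xor_z {n : ℕ} (code : ℕ → ℕ) (base : List ℕ) (z : ℕ) (cmb wk wi : ℕ → ℕ)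
    (hmono : ∀ i, i + 1 < n → code i < code (i + 1))
    (hbase : ∀ b ∈ base, b < n) (hz : z < n)
    (hcmb : ∀ i, i < n → Nat.xor
      (xfold (fun t => cond (Nat.testBit (cmb i) t) (code (base.getD t 0)) 0) base.length)
      (cond (Nat.testBit (cmb i) base.length) (code z) 0) = code i)
    (hwit : ∀ j, j < n → j ≠ z → wk j < n ∧ wi j + 1 < n ∧
      Nat.testBit (cmb (wk j)) base.length = true ∧
      code (wi j) < Nat.xor
        (xfold (fun t => cond (Nat.testBit (cmb (wk j)) t) (code (base.getD t 0)) 0) base.length)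
        (code j) ∧
      Nat.xor
        (xfold (fun t => cond (Nat.testBit (cmb (wk j)) t) (code (base.getD t 0)) 0) base.length)
        (code j) < code (wi j + 1))
    (g : Equiv.Perm (Fin n)) (hg : XInv code g)
    (hfix : ∀ x : Fin n, (x : ℕ) ∈ base → g x = x) : g = 1 := by
  have key : ∀ i : Fin n, Nat.xor (Nat.xor
      (xfold (fun t => cond (Nat.testBit (cmb i) t) (code (base.getD t 0)) 0) base.length)
      (cond (Nat.testBit (cmb i) base.length) (code (g ⟨z, hz⟩)) 0)) (code (g i)) = 0 := by
    intro i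
    apply xinv_key code base hbase g hg hfix (cmb i) (Nat.testBit (cmb i) base.length) ⟨z, hz⟩ i
    rw [hcmb i i.2, nat_xor_self]
  have hgz : g ⟨z, hz⟩ = ⟨z, hz⟩ := by
    by_contra hne
    have hjz : ((g ⟨z, hz⟩ : Fin n) : ℕ) ≠ z := fun h => hne (Fin.ext h)
    obtain ⟨hk, hi1, hzb, hlo, hhi⟩ := hwit _ (g ⟨z, hz⟩).2 hjz
    have h1 := key ⟨wk (g ⟨z, hz⟩), hk⟩
    simp only [] at h1
    rw [hzb] at h1
    have h2 := nat_xor_eq_zero h1
    simp only [cond_true] at h2
    rw [h2] at hlo hhi
    rcases Nat.lt_or_ge ((g ⟨wk (g ⟨z, hz⟩), hk⟩ : Fin n) : ℕ) (wi (g ⟨z, hz⟩) + 1) with h3 | h3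
    · rcases Nat.lt_succ_iff_lt_or_eq.mp h3 with h4 | h4
      · exact absurd (code_lt code hmono _ _ h4 (by omega)) (by omega)
      · rw [h4] at hlo
        exact lt_irrefl _ hlo
    · rcases Nat.lt_or_eq_of_le h3 with h4 | h4
      · exact absurd (code_lt code hmono _ _ h4 (Fin.is_lt _)) (by omega)
      · rw [← h4] at hhi
        exact lt_irrefl _ hhi
  ext i
  have h1 := key i
  rw [hgz, hcmb i i.2] at h1
  have h3 := code_inj code hmono i (g i) (nat_xor_eq_zero h1)
  rw [← h3]
  rfl

/-! ### Boolean checks -/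

/-- The generator matrix check at a point. -/
def chkMat (act : ℕ → ℕ) (code : ℕ → ℕ) (cols : ℕ → ℕ) (w i : ℕ) : Bool :=
  Nat.beq (mvx cols w (code i)) (code (act i))

/-- The combination check at a point (with the monotonicity check of the codes). -/
def chkCmb (code : ℕ → ℕ) (base : List ℕ) (z : ℕ) (cmb : ℕ → ℕ) (i : ℕ) : Bool :=
  Nat.beq (Nat.xor
    (xfold (fun t => cond (Nat.testBit (cmb i) t) (code (base.getD t 0)) 0) base.length)
    (cond (Nat.testBit (cmb i) base.length) (code z) 0)) (code i)

/-- The combination check at a point, without reference point. -/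
def chkCmb0 (code : ℕ → ℕ) (base : List ℕ) (cmb : ℕ → ℕ) (i : ℕ) : Bool :=
  Nat.beq (xfold (fun t => cond (Nat.testBit (cmb i) t) (code (base.getD t 0)) 0) base.length)
    (code i)

theorem chkCmb0_sound {code : ℕ → ℕ} {base : List ℕ} {cmb : ℕ → ℕ} {i : ℕ}
    (h : chkCmb0 code base cmb i = true) :
    xfold (fun t => cond (Nat.testBit (cmb i) t) (code (base.getD t 0)) 0) base.length
      = code i := Nat.eq_of_beq_eq_true h

/-- The witness check at a point. -/
def chkWit (n : ℕ) (code : ℕ → ℕ) (base : List ℕ) (z : ℕ) (cmb wk wi : ℕ → ℕ) (j : ℕ) : Bool :=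
  Nat.beq j z ||
    nforce (wk j) fun k => nforce (wi j) fun i =>
    nforce (Nat.xor
      (xfold (fun t => cond (Nat.testBit (cmb k) t) (code (base.getD t 0)) 0) base.length)
      (code j)) fun X =>
    Nat.blt k n && (Nat.blt (i + 1) n && (Nat.testBit (cmb k) base.length &&
      (Nat.blt (code i) X && Nat.blt X (code (i + 1)))))

theorem chkMat_sound {act code cols : ℕ → ℕ} {w i : ℕ} (h : chkMat act code cols w i = true) :
    mvx cols w (code i) = code (act i) := Nat.eq_of_beq_eq_true h

theorem chkCmb_sound {code : ℕ → ℕ} {base : List ℕ} {z : ℕ} {cmb : ℕ → ℕ} {i : ℕ}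
    (h : chkCmb code base z cmb i = true) :
    Nat.xor (xfold (fun t => cond (Nat.testBit (cmb i) t) (code (base.getD t 0)) 0) base.length)
      (cond (Nat.testBit (cmb i) base.length) (code z) 0) = code i := Nat.eq_of_beq_eq_true h

theorem chkWit_sound {n : ℕ} {code : ℕ → ℕ} {base : List ℕ} {z : ℕ} {cmb wk wi : ℕ → ℕ} {j : ℕ}
    (h : chkWit n code base z cmb wk wi j = true) (hj : j ≠ z) :
    wk j < n ∧ wi j + 1 < n ∧ Nat.testBit (cmb (wk j)) base.length = true ∧
      code (wi j) < Nat.xor
        (xfold (fun t => cond (Nat.testBit (cmb (wk j)) t) (code (base.getD t 0)) 0) base.length)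
        (code j) ∧
      Nat.xor
        (xfold (fun t => cond (Nat.testBit (cmb (wk j)) t) (code (base.getD t 0)) 0) base.length)
        (code j) < code (wi j + 1) := by
  simp only [chkWit, nforce_eq, Bool.or_eq_true, Bool.and_eq_true] at h
  rcases h with h | ⟨h1, h2, h3, h4, h5⟩
  · exact absurd (Nat.eq_of_beq_eq_true h) hj
  · exact ⟨Nat.blt_eq.mp h1, Nat.blt_eq.mp h2, h3, Nat.blt_eq.mp h4, Nat.blt_eq.mp h5⟩

end Cfsg.Agent.Lib.helper10
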