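/-
Linear algebra over the field with two elements for the Chevalley datum of type F₄: vectors of
the coordinate module are coded by natural numbers (bit vectors), matrices by their columns.
-/
import Mathlib
import Cfsg.Prelude.Def_LieTwisted
import Cfsg.Agent.Lib.helper10.PermChain
import Cfsg.Agent.Lib.helper10.XorRigid

set_option autoImplicit false

namespace Cfsg.Agent.Lib.helper10

open Cfsg.Lie Matrix

/-- The number of a coordinate index. -/
def f4num : chevF4.Idx → ℕ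
  | Sum.inl i => i.val
  | Sum.inr r => 4 + r.val

/-- The coordinate index of a number. -/
def f4idx (k : ℕ) : chevF4.Idx :=
  if h : k < 4 then Sum.inl ⟨k, h⟩ else Sum.inr ⟨(k - 4) % 48, Nat.mod_lt _ (by decide)⟩

theorem f4idx_lt (k : ℕ) (h : k < 4) : f4idx k = Sum.inl ⟨k, h⟩ := dif_pos h

theorem f4idx_ge (k : ℕ) (h : ¬ k < 4) :
    f4idx k = Sum.inr ⟨(k - 4) % 48, Nat.mod_lt _ (by decide)⟩ := dif_neg h

theorem f4idx_num (i : chevF4.Idx) : f4idx (f4num i) = i := by
  rcases i with i | r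
  · have h : (i : ℕ) < 4 := i.2
    show f4idx (i : ℕ) = Sum.inl i
    rw [f4idx_lt _ h]
  · have h : (r : ℕ) < 48 := r.2
    have h2 : ¬ (4 + (r : ℕ) < 4) := by omega
    show f4idx (4 + (r : ℕ)) = Sum.inr r
    rw [f4idx_ge _ h2]
    congr 1
    apply Fin.ext
    show (4 + (r : ℕ) - 4) % 48 = r
    rw [Nat.add_sub_cancel_left, Nat.mod_eq_of_lt h]

theorem f4num_idx (k : ℕ) (hk : k < 52) : f4num (f4idx k) = k := by
  by_cases h4 : k < 4
  · rw [f4idx_lt _ h4]
    rfl
  · rw [f4idx_ge _ h4]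
    show 4 + (k - 4) % 48 = k
    have : (k - 4) % 48 = k - 4 := Nat.mod_eq_of_lt (by omega)
    omega

theorem f4num_lt (i : chevF4.Idx) : f4num i < 52 := by
  rcases i with i | r
  · have h : (i : ℕ) < 4 := i.2
    show (i : ℕ) < 52
    omega
  · have h : (r : ℕ) < 48 := r.2
    show 4 + (r : ℕ) < 52
    omega

theorem f4num_inj {i j : chevF4.Idx} (h : f4num i = f4num j) : i = j := by
  rw [← f4idx_num i, ← f4idx_num j, h]

/-- A bit as an element of the field with two elements. -/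
def b2z (b : Bool) : ZMod 2 := if b then 1 else 0

theorem b2z_xor (a b : Bool) : b2z (a ^^ b) = b2z a + b2z b := by
  cases a <;> cases b <;> decide

theorem b2z_inj {a b : Bool} (h : b2z a = b2z b) : a = b := by
  revert h
  cases a <;> cases b <;> decide

/-- The vector of a code. -/
def f4dec (m : ℕ) : chevF4.Idx → ZMod 2 := fun i => b2z (Nat.testBit m (f4num i))

theorem f4dec_xor (a b : ℕ) : f4dec (Nat.xor a b) = f4dec a + f4dec b := by
  funext i
  show b2z (Nat.testBit (Nat.xor a b) (f4num i)) = b2z (Nat.testBit a (f4num i)) + b2z (Nat.testBit b (f4num i))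
  rw [nat_xor_eq, Nat.testBit_xor, b2z_xor]

theorem f4dec_zero : f4dec 0 = 0 := by
  funext i
  show b2z (Nat.testBit 0 (f4num i)) = 0
  rw [Nat.zero_testBit]
  rfl

theorem f4dec_inj {a b : ℕ} (ha : a < 2 ^ 52) (hb : b < 2 ^ 52) (h : f4dec a = f4dec b) : a = b := by
  apply Nat.eq_of_testBit_eq
  intro k
  rcases Nat.lt_or_ge k 52 with hk | hk
  · have h1 := congrFun h (f4idx k)
    have h2 : f4num (f4idx k) = k := f4num_idx k hk
    have h3 : b2z (Nat.testBit a k) = b2z (Nat.testBit b k) := by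
      have := h1
      unfold f4dec at this
      rwa [h2] at this
    exact b2z_inj h3
  · rw [Nat.testBit_lt_two_pow (lt_of_lt_of_le ha (Nat.pow_le_pow_right (by norm_num) hk)),
      Nat.testBit_lt_two_pow (lt_of_lt_of_le hb (Nat.pow_le_pow_right (by norm_num) hk))]

theorem f4sum (g : ℕ → ZMod 2) : ∑ j : chevF4.Idx, g (f4num j) = ∑ k ∈ Finset.range 52, g k := by
  rw [Fintype.sum_sum_type]
  show ∑ i : Fin 4, g (i : ℕ) + ∑ r : Fin 48, g (4 + (r : ℕ)) = _
  rw [Fin.sum_univ_eq_sum_range (fun k => g k) 4, Fin.sum_univ_eq_sum_range (fun k => g (4 + k)) 48]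
  exact (Finset.sum_range_add g 4 48).symm

theorem b2z_testBit_xfold (f : ℕ → ℕ) (i : ℕ) : ∀ w,
    b2z (Nat.testBit (xfold f w) i) = ∑ k ∈ Finset.range w, b2z (Nat.testBit (f k) i)
  | 0 => by
    show b2z (Nat.testBit 0 i) = _
    rw [Nat.zero_testBit, Finset.sum_range_zero]
    rfl
  | w + 1 => by
    rw [xfold_succ, nat_xor_eq, Nat.testBit_xor, b2z_xor, b2z_testBit_xfold f i w,
      Finset.sum_range_succ]

/-- The matrix has the columns `cols`. -/
def ColSpec (M : Matrix chevF4.Idx chevF4.Idx (ZMod 2)) (cols : ℕ → ℕ) : Prop :=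
  ∀ i j, M i j = b2z (Nat.testBit (cols (f4num j)) (f4num i))

theorem f4mulVec_dec {M : Matrix chevF4.Idx chevF4.Idx (ZMod 2)} {cols : ℕ → ℕ}
    (h : ColSpec M cols) (m : ℕ) : M *ᵥ f4dec m = f4dec (mvx cols 52 m) := by
  funext i
  show ∑ j, M i j * f4dec m j = b2z (Nat.testBit (mvx cols 52 m) (f4num i))
  have e : ∀ j, M i j * f4dec m j
      = (fun k => b2z (Nat.testBit (cols k) (f4num i)) * b2z (Nat.testBit m k)) (f4num j) :=
    fun j => by rw [h i j]; rfl
  rw [Finset.sum_congr rfl (fun j _ => e j),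
    f4sum (fun k => b2z (Nat.testBit (cols k) (f4num i)) * b2z (Nat.testBit m k))]
  unfold mvx
  rw [b2z_testBit_xfold]
  apply Finset.sum_congr rfl
  intro k _
  cases hb : Nat.testBit m k
  · show _ * b2z false = b2z (Nat.testBit 0 (f4num i))
    rw [Nat.zero_testBit]
    show _ * (0 : ZMod 2) = 0
    rw [mul_zero]
  · show _ * b2z true = b2z (Nat.testBit (cols k) (f4num i))
    show _ * (1 : ZMod 2) = _
    rw [mul_one]

theorem f4dec_pow (j : chevF4.Idx) : f4dec (2 ^ f4num j) = Pi.single j 1 := by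
  funext i
  show b2z (Nat.testBit (2 ^ f4num j) (f4num i)) = _
  rw [Nat.testBit_two_pow]
  by_cases h : i = j
  · subst h
    simp [b2z]
  · have h2 : f4num j ≠ f4num i := fun e => h (f4num_inj e.symm)
    simp [b2z, h2, h]

theorem mat_eq_one_of_basis (M : Matrix chevF4.Idx chevF4.Idx (ZMod 2))
    (h : ∀ k, k < 52 → M *ᵥ f4dec (2 ^ k) = f4dec (2 ^ k)) : M = 1 := by
  ext i j
  have h1 := congrFun (h (f4num j) (f4num_lt j)) i
  rw [f4dec_pow, Matrix.mulVec_single_one] at h1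
  rw [Matrix.one_apply]
  have h2 : M i j = (Pi.single j (1 : ZMod 2) : chevF4.Idx → ZMod 2) i := h1
  rw [h2, Pi.single_apply]

/-- The action of a word of root elements on codes; the letters are pairs (root, 0 or 1) and
`xc r t` gives the columns of the root element. -/
noncomputable def f4wact (xc : ℕ → ℕ → ℕ → ℕ) (w : List (ℕ × ℕ)) (m : ℕ) : ℕ :=
  List.rec (motive := fun _ => ℕ) m (fun p _ ih => nforce ih fun y => mvx (xc p.1 p.2) 52 y) w

theorem f4wact_nil (xc : ℕ → ℕ → ℕ → ℕ) (m : ℕ) : f4wact xc [] m = m := rfl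

theorem f4wact_cons (xc : ℕ → ℕ → ℕ → ℕ) (p : ℕ × ℕ) (w : List (ℕ × ℕ)) (m : ℕ) :
    f4wact xc (p :: w) m = mvx (xc p.1 p.2) 52 (f4wact xc w m) := by
  show nforce (f4wact xc w m) (fun y => mvx (xc p.1 p.2) 52 y) = _
  rw [nforce_eq]

/-- A word with entries in the field with two elements. -/
def f4wz (w : List (ℕ × ℕ)) : List (ℕ × ZMod 2) := w.map fun p => (p.1, ((p.2 : ℕ) : ZMod 2))

theorem wordMat_cons (p : ℕ × ZMod 2) (w : List (ℕ × ZMod 2)) :
    chevF4.wordMat (ZMod 2) (p :: w) = chevF4.x (ZMod 2) p.1 p.2 * chevF4.wordMat (ZMod 2) w := by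
  unfold ChevalleyDatum.wordMat
  rw [List.map_cons, List.prod_cons]

theorem wordMat_nil : chevF4.wordMat (ZMod 2) [] = 1 := rfl

theorem wordMat_dec (xc : ℕ → ℕ → ℕ → ℕ) (allowed : List (ℕ × ℕ))
    (hx : ∀ p ∈ allowed, ColSpec (chevF4.x (ZMod 2) p.1 ((p.2 : ℕ) : ZMod 2)) (xc p.1 p.2)) :
    ∀ w : List (ℕ × ℕ), (∀ p ∈ w, p ∈ allowed) → ∀ m,
      chevF4.wordMat (ZMod 2) (f4wz w) *ᵥ f4dec m = f4dec (f4wact xc w m)
  | [], _, m => by
    show chevF4.wordMat (ZMod 2) [] *ᵥ f4dec m = f4dec m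
    rw [wordMat_nil, Matrix.one_mulVec]
  | p :: w, hw, m => by
    show chevF4.wordMat (ZMod 2) ((p.1, ((p.2 : ℕ) : ZMod 2)) :: f4wz w) *ᵥ f4dec m = _
    rw [wordMat_cons, ← Matrix.mulVec_mulVec,
      wordMat_dec xc allowed hx w (fun q hq => hw q (List.mem_cons_of_mem _ hq)) m,
      f4mulVec_dec (hx p (hw p List.mem_cons_self)), f4wact_cons]

/-- The check of the columns of a root element. -/
def f4chkX (xc : ℕ → ℕ → ℕ → ℕ) (p : ℕ × ℕ) : Bool :=
  allBelow (fun i => allBelow (fun j =>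
    decide (chevF4.x (ZMod 2) p.1 ((p.2 : ℕ) : ZMod 2) (f4idx i) (f4idx j)
      = b2z (Nat.testBit (xc p.1 p.2 j) i))) 52) 52

theorem f4chkX_sound {xc : ℕ → ℕ → ℕ → ℕ} {p : ℕ × ℕ} (h : f4chkX xc p = true) :
    ColSpec (chevF4.x (ZMod 2) p.1 ((p.2 : ℕ) : ZMod 2)) (xc p.1 p.2) := by
  intro i j
  have h1 := allBelow_sound (allBelow_sound h (f4num i) (f4num_lt i)) (f4num j) (f4num_lt j)
  have h2 := of_decide_eq_true h1
  rwa [f4idx_num, f4idx_num] at h2

/-- A matrix fixing the vectors of a family of codes fixes the vector of every XOR of them. -/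
theorem fix_xfold (M : Matrix chevF4.Idx chevF4.Idx (ZMod 2)) (f : ℕ → ℕ)
    (hf : ∀ t, M *ᵥ f4dec (f t) = f4dec (f t)) : ∀ len,
    M *ᵥ f4dec (xfold f len) = f4dec (xfold f len)
  | 0 => by
    show M *ᵥ f4dec 0 = f4dec 0
    rw [f4dec_zero, Matrix.mulVec_zero]
  | len + 1 => by
    rw [xfold_succ, f4dec_xor, Matrix.mulVec_add, fix_xfold M f hf len, hf len]

end Cfsg.Agent.Lib.helper10
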