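/-
Kernel checks for the matrices of ²F₄(2): the columns of the root elements, the spanning of the module by the points,
and the inverses of the generating words.
-/
import Mathlib
import Cfsg.Prelude.Def_LieTwisted
import Cfsg.Agent.Lib.helper10.F4Lin
import Cfsg.Agent.Lib.helper10.F4Gam

set_option autoImplicit false
set_option maxRecDepth 100000

namespace Cfsg.Agent.Lib.helper10

open Cfsg.Lie Matrix

theorem f4x_chk_a : (f4Allowed.take 8).all (f4chkX f4xc) = true := by decide +kernel
theorem f4x_chk_b : ((f4Allowed.drop 8).take 8).all (f4chkX f4xc) = true := by decide +kernel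
theorem f4x_chk_c : (f4Allowed.drop 16).all (f4chkX f4xc) = true := by decide +kernel

theorem f4WL_allowed : allBelow (fun k => (f4WL.getD k []).all fun p => f4Allowed.contains p) 12
    = true := by decide +kernel

theorem f4_span : allBelow (fun k => Nat.beq (xfold (fun t =>
    cond (Nat.testBit (f4SpanMask.getD k 0) t) (f4tCode (f4SpanPts.getD t 0)) 0) 52) (2 ^ k)) 52
    = true := by decide +kernel

theorem f4_unit_chk : allBelow (fun k => allBelow (fun j =>
    Nat.beq (f4wact f4xc (f4WL.getD k []) (f4wact f4xc (f4WL.getD k []).reverse (2 ^ j)))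
      (2 ^ j)) 52) 12 = true := by decide +kernel

end Cfsg.Agent.Lib.helper10
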