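/-
The check that a generating word of ²F₄(2) acts on the 1755 points as its path.
-/
import Mathlib
import Cfsg.Prelude.Def_LieTwisted
import Cfsg.Agent.Lib.helper10.F4Lin
import Cfsg.Agent.Lib.helper10.F4Gam

set_option autoImplicit false
set_option maxRecDepth 100000

namespace Cfsg.Agent.Lib.helper10

/-- The check that the `k`-th word acts on the points `lo, …, lo + len - 1` as its path. -/
noncomputable def f4tabChk (k lo len : ℕ) : Bool :=
  allBelow (fun i => Nat.beq (f4wact f4xc (f4WL.getD k []) (f4tCode (lo + i)))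
    (f4tCode (pact f4gS.act (f4PL.getD k []) (lo + i)))) len

theorem f4tabChk_sound {k : ℕ} (h1 : f4tabChk k 0 585 = true) (h2 : f4tabChk k 585 585 = true)
    (h3 : f4tabChk k 1170 585 = true) (i : ℕ) (hi : i < 1755) :
    f4wact f4xc (f4WL.getD k []) (f4tCode i) = f4tCode (pact f4gS.act (f4PL.getD k []) i) := by
  rcases Nat.lt_or_ge i 585 with h | h
  · have h4 := Nat.eq_of_beq_eq_true (allBelow_sound h1 i h)
    rwa [Nat.zero_add] at h4
  rcases Nat.lt_or_ge i 1170 with h' | h'
  · have h4 := Nat.eq_of_beq_eq_true (allBelow_sound h2 (i - 585) (by omega))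
    have e : 585 + (i - 585) = i := by omega
    rwa [e] at h4
  · have h4 := Nat.eq_of_beq_eq_true (allBelow_sound h3 (i - 1170) (by omega))
    have e : 1170 + (i - 1170) = i := by omega
    rwa [e] at h4

end Cfsg.Agent.Lib.helper10
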