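/-
Kernel checks for the matrices of ²F₄(2): the action of four of the twelve generating words on
the 1755 points.
-/
import Mathlib
import Cfsg.Prelude.Def_LieTwisted
import Cfsg.Agent.Lib.helper10.F4Lin
import Cfsg.Agent.Lib.helper10.F4Gam
import Cfsg.Agent.Lib.helper10.F4Tab

set_option autoImplicit false
set_option maxRecDepth 100000

namespace Cfsg.Agent.Lib.helper10

theorem f4_tab0_0 : f4tabChk 0 0 585 = true := by decide +kernel
theorem f4_tab0_1 : f4tabChk 0 585 585 = true := by decide +kernel
theorem f4_tab0_2 : f4tabChk 0 1170 585 = true := by decide +kernel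

theorem f4_tab1_0 : f4tabChk 1 0 585 = true := by decide +kernel
theorem f4_tab1_1 : f4tabChk 1 585 585 = true := by decide +kernel
theorem f4_tab1_2 : f4tabChk 1 1170 585 = true := by decide +kernel

theorem f4_tab2_0 : f4tabChk 2 0 585 = true := by decide +kernel
theorem f4_tab2_1 : f4tabChk 2 585 585 = true := by decide +kernel
theorem f4_tab2_2 : f4tabChk 2 1170 585 = true := by decide +kernel

theorem f4_tab3_0 : f4tabChk 3 0 585 = true := by decide +kernel
theorem f4_tab3_1 : f4tabChk 3 585 585 = true := by decide +kernel
theorem f4_tab3_2 : f4tabChk 3 1170 585 = true := by decide +kernel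

end Cfsg.Agent.Lib.helper10
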