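import Mathlib
import Cfsg.Agent.Lib.helper10.PermSimple
import Cfsg.Agent.Lib.helper10.F4tData

set_option autoImplicit false
set_option maxRecDepth 100000

namespace Cfsg.Agent.Lib.helper10

theorem f4t_card : ([f4tL0, f4tL1, f4tL2, f4tL3, f4tL4, f4tL5, f4tL6, f4tL7, f4tL8, f4tL9, f4tL10, f4tL11, f4tL12, f4tL13, f4tL14, f4tL15, f4tL16, f4tL17, f4tL18, f4tL19, f4tL20, f4tL21, f4tL22, f4tL23, f4tL24, f4tL25, f4tL26, f4tL27, f4tL28, f4tL29, f4tL30, f4tL31, f4tL32, f4tL33, f4tL34, f4tL35, f4tL36, f4tL37, f4tL38, f4tL39, f4tL40, f4tL41, f4tL42, f4tL43, f4tL44, f4tL45, f4tL46, f4tL47, f4tL48, f4tL49, f4tL50, f4tL51].map orbCard).prod = 1755 * 10240 := by decide +kernel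

theorem f4t_vert0_c4 : allBelow (fun i => (chkVertex f4tL0 [f4tL1, f4tL2, f4tL3, f4tL4, f4tL5, f4tL6, f4tL7, f4tL8, f4tL9, f4tL10, f4tL11, f4tL12, f4tL13, f4tL14, f4tL15, f4tL16, f4tL17, f4tL18, f4tL19, f4tL20, f4tL21, f4tL22, f4tL23, f4tL24, f4tL25, f4tL26, f4tL27, f4tL28, f4tL29, f4tL30, f4tL31, f4tL32, f4tL33, f4tL34, f4tL35, f4tL36, f4tL37, f4tL38, f4tL39, f4tL40, f4tL41, f4tL42, f4tL43, f4tL44, f4tL45, f4tL46, f4tL47, f4tL48, f4tL49, f4tL50, f4tL51]) (300 + i)) 75 = true := by decide +kernel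

theorem f4t_vert0_c7 : allBelow (fun i => (chkVertex f4tL0 [f4tL1, f4tL2, f4tL3, f4tL4, f4tL5, f4tL6, f4tL7, f4tL8, f4tL9, f4tL10, f4tL11, f4tL12, f4tL13, f4tL14, f4tL15, f4tL16, f4tL17, f4tL18, f4tL19, f4tL20, f4tL21, f4tL22, f4tL23, f4tL24, f4tL25, f4tL26, f4tL27, f4tL28, f4tL29, f4tL30, f4tL31, f4tL32, f4tL33, f4tL34, f4tL35, f4tL36, f4tL37, f4tL38, f4tL39, f4tL40, f4tL41, f4tL42, f4tL43, f4tL44, f4tL45, f4tL46, f4tL47, f4tL48, f4tL49, f4tL50, f4tL51]) (525 + i)) 75 = true := by decide +kernel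

theorem f4t_vert0_c10 : allBelow (fun i => (chkVertex f4tL0 [f4tL1, f4tL2, f4tL3, f4tL4, f4tL5, f4tL6, f4tL7, f4tL8, f4tL9, f4tL10, f4tL11, f4tL12, f4tL13, f4tL14, f4tL15, f4tL16, f4tL17, f4tL18, f4tL19, f4tL20, f4tL21, f4tL22, f4tL23, f4tL24, f4tL25, f4tL26, f4tL27, f4tL28, f4tL29, f4tL30, f4tL31, f4tL32, f4tL33, f4tL34, f4tL35, f4tL36, f4tL37, f4tL38, f4tL39, f4tL40, f4tL41, f4tL42, f4tL43, f4tL44, f4tL45, f4tL46, f4tL47, f4tL48, f4tL49, f4tL50, f4tL51]) (750 + i)) 75 = true := by decide +kernel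

theorem f4t_vert0_c13 : allBelow (fun i => (chkVertex f4tL0 [f4tL1, f4tL2, f4tL3, f4tL4, f4tL5, f4tL6, f4tL7, f4tL8, f4tL9, f4tL10, f4tL11, f4tL12, f4tL13, f4tL14, f4tL15, f4tL16, f4tL17, f4tL18, f4tL19, f4tL20, f4tL21, f4tL22, f4tL23, f4tL24, f4tL25, f4tL26, f4tL27, f4tL28, f4tL29, f4tL30, f4tL31, f4tL32, f4tL33, f4tL34, f4tL35, f4tL36, f4tL37, f4tL38, f4tL39, f4tL40, f4tL41, f4tL42, f4tL43, f4tL44, f4tL45, f4tL46, f4tL47, f4tL48, f4tL49, f4tL50, f4tL51]) (975 + i)) 75 = true := by decide +kernel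

theorem f4t_vert0_c16 : allBelow (fun i => (chkVertex f4tL0 [f4tL1, f4tL2, f4tL3, f4tL4, f4tL5, f4tL6, f4tL7, f4tL8, f4tL9, f4tL10, f4tL11, f4tL12, f4tL13, f4tL14, f4tL15, f4tL16, f4tL17, f4tL18, f4tL19, f4tL20, f4tL21, f4tL22, f4tL23, f4tL24, f4tL25, f4tL26, f4tL27, f4tL28, f4tL29, f4tL30, f4tL31, f4tL32, f4tL33, f4tL34, f4tL35, f4tL36, f4tL37, f4tL38, f4tL39, f4tL40, f4tL41, f4tL42, f4tL43, f4tL44, f4tL45, f4tL46, f4tL47, f4tL48, f4tL49, f4tL50, f4tL51]) (1200 + i)) 75 = true := by decide +kernel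

theorem f4t_vert0_c19 : allBelow (fun i => (chkVertex f4tL0 [f4tL1, f4tL2, f4tL3, f4tL4, f4tL5, f4tL6, f4tL7, f4tL8, f4tL9, f4tL10, f4tL11, f4tL12, f4tL13, f4tL14, f4tL15, f4tL16, f4tL17, f4tL18, f4tL19, f4tL20, f4tL21, f4tL22, f4tL23, f4tL24, f4tL25, f4tL26, f4tL27, f4tL28, f4tL29, f4tL30, f4tL31, f4tL32, f4tL33, f4tL34, f4tL35, f4tL36, f4tL37, f4tL38, f4tL39, f4tL40, f4tL41, f4tL42, f4tL43, f4tL44, f4tL45, f4tL46, f4tL47, f4tL48, f4tL49, f4tL50, f4tL51]) (1425 + i)) 75 = true := by decide +kernel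

theorem f4t_vert0_c22 : allBelow (fun i => (chkVertex f4tL0 [f4tL1, f4tL2, f4tL3, f4tL4, f4tL5, f4tL6, f4tL7, f4tL8, f4tL9, f4tL10, f4tL11, f4tL12, f4tL13, f4tL14, f4tL15, f4tL16, f4tL17, f4tL18, f4tL19, f4tL20, f4tL21, f4tL22, f4tL23, f4tL24, f4tL25, f4tL26, f4tL27, f4tL28, f4tL29, f4tL30, f4tL31, f4tL32, f4tL33, f4tL34, f4tL35, f4tL36, f4tL37, f4tL38, f4tL39, f4tL40, f4tL41, f4tL42, f4tL43, f4tL44, f4tL45, f4tL46, f4tL47, f4tL48, f4tL49, f4tL50, f4tL51]) (1650 + i)) 75 = true := by decide +kernel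

theorem f4t_mat_c0 : allBelow (fun i => (fun i => chkMat (f4tL0.S.act 0) f4tCode (f4tCols 0) 52 i && chkMat (f4tL0.S.act 2) f4tCode (f4tCols 1) 52 i) (0 + i)) 900 = true := by decide +kernel

theorem f4t_cmb : allBelow (fun i => chkCmb0 f4tCode f4tBase f4tCmb i) 1755 = true := by decide +kernel

theorem f4t_vert1_c2 : allBelow (fun i => (chkVertex f4tL1 [f4tL2, f4tL3, f4tL4, f4tL5, f4tL6, f4tL7, f4tL8, f4tL9, f4tL10, f4tL11, f4tL12, f4tL13, f4tL14, f4tL15, f4tL16, f4tL17, f4tL18, f4tL19, f4tL20, f4tL21, f4tL22, f4tL23, f4tL24, f4tL25, f4tL26, f4tL27, f4tL28, f4tL29, f4tL30, f4tL31, f4tL32, f4tL33, f4tL34, f4tL35, f4tL36, f4tL37, f4tL38, f4tL39, f4tL40, f4tL41, f4tL42, f4tL43, f4tL44, f4tL45, f4tL46, f4tL47, f4tL48, f4tL49, f4tL50, f4tL51]) (200 + i)) 100 = true := by decide +kernel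

theorem f4t_vert1_c5 : allBelow (fun i => (chkVertex f4tL1 [f4tL2, f4tL3, f4tL4, f4tL5, f4tL6, f4tL7, f4tL8, f4tL9, f4tL10, f4tL11, f4tL12, f4tL13, f4tL14, f4tL15, f4tL16, f4tL17, f4tL18, f4tL19, f4tL20, f4tL21, f4tL22, f4tL23, f4tL24, f4tL25, f4tL26, f4tL27, f4tL28, f4tL29, f4tL30, f4tL31, f4tL32, f4tL33, f4tL34, f4tL35, f4tL36, f4tL37, f4tL38, f4tL39, f4tL40, f4tL41, f4tL42, f4tL43, f4tL44, f4tL45, f4tL46, f4tL47, f4tL48, f4tL49, f4tL50, f4tL51]) (500 + i)) 100 = true := by decide +kernel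

theorem f4t_vert1_c8 : allBelow (fun i => (chkVertex f4tL1 [f4tL2, f4tL3, f4tL4, f4tL5, f4tL6, f4tL7, f4tL8, f4tL9, f4tL10, f4tL11, f4tL12, f4tL13, f4tL14, f4tL15, f4tL16, f4tL17, f4tL18, f4tL19, f4tL20, f4tL21, f4tL22, f4tL23, f4tL24, f4tL25, f4tL26, f4tL27, f4tL28, f4tL29, f4tL30, f4tL31, f4tL32, f4tL33, f4tL34, f4tL35, f4tL36, f4tL37, f4tL38, f4tL39, f4tL40, f4tL41, f4tL42, f4tL43, f4tL44, f4tL45, f4tL46, f4tL47, f4tL48, f4tL49, f4tL50, f4tL51]) (800 + i)) 100 = true := by decide +kernel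

theorem f4t_vert1_c11 : allBelow (fun i => (chkVertex f4tL1 [f4tL2, f4tL3, f4tL4, f4tL5, f4tL6, f4tL7, f4tL8, f4tL9, f4tL10, f4tL11, f4tL12, f4tL13, f4tL14, f4tL15, f4tL16, f4tL17, f4tL18, f4tL19, f4tL20, f4tL21, f4tL22, f4tL23, f4tL24, f4tL25, f4tL26, f4tL27, f4tL28, f4tL29, f4tL30, f4tL31, f4tL32, f4tL33, f4tL34, f4tL35, f4tL36, f4tL37, f4tL38, f4tL39, f4tL40, f4tL41, f4tL42, f4tL43, f4tL44, f4tL45, f4tL46, f4tL47, f4tL48, f4tL49, f4tL50, f4tL51]) (1100 + i)) 100 = true := by decide +kernel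

theorem f4t_vert1_c14 : allBelow (fun i => (chkVertex f4tL1 [f4tL2, f4tL3, f4tL4, f4tL5, f4tL6, f4tL7, f4tL8, f4tL9, f4tL10, f4tL11, f4tL12, f4tL13, f4tL14, f4tL15, f4tL16, f4tL17, f4tL18, f4tL19, f4tL20, f4tL21, f4tL22, f4tL23, f4tL24, f4tL25, f4tL26, f4tL27, f4tL28, f4tL29, f4tL30, f4tL31, f4tL32, f4tL33, f4tL34, f4tL35, f4tL36, f4tL37, f4tL38, f4tL39, f4tL40, f4tL41, f4tL42, f4tL43, f4tL44, f4tL45, f4tL46, f4tL47, f4tL48, f4tL49, f4tL50, f4tL51]) (1400 + i)) 100 = true := by decide +kernel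

theorem f4t_vert1_c17 : allBelow (fun i => (chkVertex f4tL1 [f4tL2, f4tL3, f4tL4, f4tL5, f4tL6, f4tL7, f4tL8, f4tL9, f4tL10, f4tL11, f4tL12, f4tL13, f4tL14, f4tL15, f4tL16, f4tL17, f4tL18, f4tL19, f4tL20, f4tL21, f4tL22, f4tL23, f4tL24, f4tL25, f4tL26, f4tL27, f4tL28, f4tL29, f4tL30, f4tL31, f4tL32, f4tL33, f4tL34, f4tL35, f4tL36, f4tL37, f4tL38, f4tL39, f4tL40, f4tL41, f4tL42, f4tL43, f4tL44, f4tL45, f4tL46, f4tL47, f4tL48, f4tL49, f4tL50, f4tL51]) (1700 + i)) 55 = true := by decide +kernel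

theorem f4t_orb_c0 : allBelow (fun i => (chkOrbV f4tL1.S.act [0, 1, 11, 91, 731] 3 f4tctab 2 19 f4totab) (0 + i)) 1755 = true := by decide +kernel

theorem f4t_sizes : allBelow (fun j => cntBelow (fun v => plook 3 f4tctab v == j) 1755 == ([1, 10, 80, 640, 1024] : List ℕ).getD j 0) 5 = true := by decide +kernel

theorem f4t_bp_c0 : allBelow (fun i => (fun x => pact f4tL0.S.act (List.replicate 3 2) x == x) (0 + i)) 1755 = true := by decide +kernel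

theorem f4t_vert3_c0 : allBelow (fun i => (chkVertex f4tL3 [f4tL4, f4tL5, f4tL6, f4tL7, f4tL8, f4tL9, f4tL10, f4tL11, f4tL12, f4tL13, f4tL14, f4tL15, f4tL16, f4tL17, f4tL18, f4tL19, f4tL20, f4tL21, f4tL22, f4tL23, f4tL24, f4tL25, f4tL26, f4tL27, f4tL28, f4tL29, f4tL30, f4tL31, f4tL32, f4tL33, f4tL34, f4tL35, f4tL36, f4tL37, f4tL38, f4tL39, f4tL40, f4tL41, f4tL42, f4tL43, f4tL44, f4tL45, f4tL46, f4tL47, f4tL48, f4tL49, f4tL50, f4tL51]) (0 + i)) 1755 = true := by decide +kernel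

theorem f4t_vert6_c0 : allBelow (fun i => (chkVertex f4tL6 [f4tL7, f4tL8, f4tL9, f4tL10, f4tL11, f4tL12, f4tL13, f4tL14, f4tL15, f4tL16, f4tL17, f4tL18, f4tL19, f4tL20, f4tL21, f4tL22, f4tL23, f4tL24, f4tL25, f4tL26, f4tL27, f4tL28, f4tL29, f4tL30, f4tL31, f4tL32, f4tL33, f4tL34, f4tL35, f4tL36, f4tL37, f4tL38, f4tL39, f4tL40, f4tL41, f4tL42, f4tL43, f4tL44, f4tL45, f4tL46, f4tL47, f4tL48, f4tL49, f4tL50, f4tL51]) (0 + i)) 1755 = true := by decide +kernel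

theorem f4t_vert9_c0 : allBelow (fun i => (chkVertex f4tL9 [f4tL10, f4tL11, f4tL12, f4tL13, f4tL14, f4tL15, f4tL16, f4tL17, f4tL18, f4tL19, f4tL20, f4tL21, f4tL22, f4tL23, f4tL24, f4tL25, f4tL26, f4tL27, f4tL28, f4tL29, f4tL30, f4tL31, f4tL32, f4tL33, f4tL34, f4tL35, f4tL36, f4tL37, f4tL38, f4tL39, f4tL40, f4tL41, f4tL42, f4tL43, f4tL44, f4tL45, f4tL46, f4tL47, f4tL48, f4tL49, f4tL50, f4tL51]) (0 + i)) 1755 = true := by decide +kernel

theorem f4t_vert12_c0 : allBelow (fun i => (chkVertex f4tL12 [f4tL13, f4tL14, f4tL15, f4tL16, f4tL17, f4tL18, f4tL19, f4tL20, f4tL21, f4tL22, f4tL23, f4tL24, f4tL25, f4tL26, f4tL27, f4tL28, f4tL29, f4tL30, f4tL31, f4tL32, f4tL33, f4tL34, f4tL35, f4tL36, f4tL37, f4tL38, f4tL39, f4tL40, f4tL41, f4tL42, f4tL43, f4tL44, f4tL45, f4tL46, f4tL47, f4tL48, f4tL49, f4tL50, f4tL51]) (0 + i)) 1755 = true := by decide +kernel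

theorem f4t_vert15_c0 : allBelow (fun i => (chkVertex f4tL15 [f4tL16, f4tL17, f4tL18, f4tL19, f4tL20, f4tL21, f4tL22, f4tL23, f4tL24, f4tL25, f4tL26, f4tL27, f4tL28, f4tL29, f4tL30, f4tL31, f4tL32, f4tL33, f4tL34, f4tL35, f4tL36, f4tL37, f4tL38, f4tL39, f4tL40, f4tL41, f4tL42, f4tL43, f4tL44, f4tL45, f4tL46, f4tL47, f4tL48, f4tL49, f4tL50, f4tL51]) (0 + i)) 1755 = true := by decide +kernel

theorem f4t_vert18_c0 : allBelow (fun i => (chkVertex f4tL18 [f4tL19, f4tL20, f4tL21, f4tL22, f4tL23, f4tL24, f4tL25, f4tL26, f4tL27, f4tL28, f4tL29, f4tL30, f4tL31, f4tL32, f4tL33, f4tL34, f4tL35, f4tL36, f4tL37, f4tL38, f4tL39, f4tL40, f4tL41, f4tL42, f4tL43, f4tL44, f4tL45, f4tL46, f4tL47, f4tL48, f4tL49, f4tL50, f4tL51]) (0 + i)) 1755 = true := by decide +kernel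

theorem f4t_vert21_c0 : allBelow (fun i => (chkVertex f4tL21 [f4tL22, f4tL23, f4tL24, f4tL25, f4tL26, f4tL27, f4tL28, f4tL29, f4tL30, f4tL31, f4tL32, f4tL33, f4tL34, f4tL35, f4tL36, f4tL37, f4tL38, f4tL39, f4tL40, f4tL41, f4tL42, f4tL43, f4tL44, f4tL45, f4tL46, f4tL47, f4tL48, f4tL49, f4tL50, f4tL51]) (0 + i)) 1755 = true := by decide +kernel

theorem f4t_vert24_c0 : allBelow (fun i => (chkVertex f4tL24 [f4tL25, f4tL26, f4tL27, f4tL28, f4tL29, f4tL30, f4tL31, f4tL32, f4tL33, f4tL34, f4tL35, f4tL36, f4tL37, f4tL38, f4tL39, f4tL40, f4tL41, f4tL42, f4tL43, f4tL44, f4tL45, f4tL46, f4tL47, f4tL48, f4tL49, f4tL50, f4tL51]) (0 + i)) 1755 = true := by decide +kernel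

theorem f4t_nest51_c0 : allBelow (fun i => (chkNest f4tL50.S f4tL51) (0 + i)) 1755 = true := by decide +kernel

theorem f4t_nest49_c0 : allBelow (fun i => (chkNest f4tL48.S f4tL49) (0 + i)) 1755 = true := by decide +kernel

theorem f4t_nest47_c0 : allBelow (fun i => (chkNest f4tL46.S f4tL47) (0 + i)) 1755 = true := by decide +kernel

theorem f4t_nest45_c0 : allBelow (fun i => (chkNest f4tL44.S f4tL45) (0 + i)) 1755 = true := by decide +kernel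

theorem f4t_nest43_c0 : allBelow (fun i => (chkNest f4tL42.S f4tL43) (0 + i)) 1755 = true := by decide +kernel

theorem f4t_nest41_c0 : allBelow (fun i => (chkNest f4tL40.S f4tL41) (0 + i)) 1755 = true := by decide +kernel

theorem f4t_nest39_c0 : allBelow (fun i => (chkNest f4tL38.S f4tL39) (0 + i)) 1755 = true := by decide +kernel

theorem f4t_nest37_c0 : allBelow (fun i => (chkNest f4tL36.S f4tL37) (0 + i)) 1755 = true := by decide +kernel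

theorem f4t_nest35_c0 : allBelow (fun i => (chkNest f4tL34.S f4tL35) (0 + i)) 1755 = true := by decide +kernel

theorem f4t_vert35_c0 : allBelow (fun i => (chkVertex f4tL35 [f4tL36, f4tL37, f4tL38, f4tL39, f4tL40, f4tL41, f4tL42, f4tL43, f4tL44, f4tL45, f4tL46, f4tL47, f4tL48, f4tL49, f4tL50, f4tL51]) (0 + i)) 1755 = true := by decide +kernel

theorem f4t_vert36_c0 : allBelow (fun i => (chkVertex f4tL36 [f4tL37, f4tL38, f4tL39, f4tL40, f4tL41, f4tL42, f4tL43, f4tL44, f4tL45, f4tL46, f4tL47, f4tL48, f4tL49, f4tL50, f4tL51]) (0 + i)) 1755 = true := by decide +kernel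

theorem f4t_vert37_c0 : allBelow (fun i => (chkVertex f4tL37 [f4tL38, f4tL39, f4tL40, f4tL41, f4tL42, f4tL43, f4tL44, f4tL45, f4tL46, f4tL47, f4tL48, f4tL49, f4tL50, f4tL51]) (0 + i)) 1755 = true := by decide +kernel

theorem f4t_vert38_c0 : allBelow (fun i => (chkVertex f4tL38 [f4tL39, f4tL40, f4tL41, f4tL42, f4tL43, f4tL44, f4tL45, f4tL46, f4tL47, f4tL48, f4tL49, f4tL50, f4tL51]) (0 + i)) 1755 = true := by decide +kernel

theorem f4t_vert39_c0 : allBelow (fun i => (chkVertex f4tL39 [f4tL40, f4tL41, f4tL42, f4tL43, f4tL44, f4tL45, f4tL46, f4tL47, f4tL48, f4tL49, f4tL50, f4tL51]) (0 + i)) 1755 = true := by decide +kernel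

theorem f4t_vert40_c0 : allBelow (fun i => (chkVertex f4tL40 [f4tL41, f4tL42, f4tL43, f4tL44, f4tL45, f4tL46, f4tL47, f4tL48, f4tL49, f4tL50, f4tL51]) (0 + i)) 1755 = true := by decide +kernel

theorem f4t_vert41_c0 : allBelow (fun i => (chkVertex f4tL41 [f4tL42, f4tL43, f4tL44, f4tL45, f4tL46, f4tL47, f4tL48, f4tL49, f4tL50, f4tL51]) (0 + i)) 1755 = true := by decide +kernel

theorem f4t_vert42_c0 : allBelow (fun i => (chkVertex f4tL42 [f4tL43, f4tL44, f4tL45, f4tL46, f4tL47, f4tL48, f4tL49, f4tL50, f4tL51]) (0 + i)) 1755 = true := by decide +kernel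

theorem f4t_vert43_c0 : allBelow (fun i => (chkVertex f4tL43 [f4tL44, f4tL45, f4tL46, f4tL47, f4tL48, f4tL49, f4tL50, f4tL51]) (0 + i)) 1755 = true := by decide +kernel

theorem f4t_vert44_c0 : allBelow (fun i => (chkVertex f4tL44 [f4tL45, f4tL46, f4tL47, f4tL48, f4tL49, f4tL50, f4tL51]) (0 + i)) 1755 = true := by decide +kernel

theorem f4t_vert45_c0 : allBelow (fun i => (chkVertex f4tL45 [f4tL46, f4tL47, f4tL48, f4tL49, f4tL50, f4tL51]) (0 + i)) 1755 = true := by decide +kernel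

theorem f4t_vert46_c0 : allBelow (fun i => (chkVertex f4tL46 [f4tL47, f4tL48, f4tL49, f4tL50, f4tL51]) (0 + i)) 1755 = true := by decide +kernel

theorem f4t_vert47_c0 : allBelow (fun i => (chkVertex f4tL47 [f4tL48, f4tL49, f4tL50, f4tL51]) (0 + i)) 1755 = true := by decide +kernel

theorem f4t_vert48_c0 : allBelow (fun i => (chkVertex f4tL48 [f4tL49, f4tL50, f4tL51]) (0 + i)) 1755 = true := by decide +kernel

theorem f4t_vert49_c0 : allBelow (fun i => (chkVertex f4tL49 [f4tL50, f4tL51]) (0 + i)) 1755 = true := by decide +kernel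

theorem f4t_vert50_c0 : allBelow (fun i => (chkVertex f4tL50 [f4tL51]) (0 + i)) 1755 = true := by decide +kernel

theorem f4t_cls : allBelow (fun v => decide (plook 3 f4tctab v < 5) && (decide (plook 3 f4tctab v = 0) == decide (v = 0))) 1755 = true := by decide +kernel

theorem f4t_head17 : chkHead [0, 731, 19, 1, 3, 5, 7, 11, 13, 15, 21, 23, 27, 29, 31, 35, 39] f4tL17 = true := by decide +kernel

theorem f4t_head20 : chkHead [0, 731, 19, 1, 3, 5, 7, 11, 13, 15, 21, 23, 27, 29, 31, 35, 39, 43, 47, 51] f4tL20 = true := by decide +kernel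

theorem f4t_head23 : chkHead [0, 731, 19, 1, 3, 5, 7, 11, 13, 15, 21, 23, 27, 29, 31, 35, 39, 43, 47, 51, 59, 63, 67] f4tL23 = true := by decide +kernel

theorem f4t_head26 : chkHead [0, 731, 19, 1, 3, 5, 7, 11, 13, 15, 21, 23, 27, 29, 31, 35, 39, 43, 47, 51, 59, 63, 67, 75, 79, 91] f4tL26 = true := by decide +kernel

theorem f4t_head29 : chkHead [0, 731, 19, 1, 3, 5, 7, 11, 13, 15, 21, 23, 27, 29, 31, 35, 39, 43, 47, 51, 59, 63, 67, 75, 79, 91, 93, 95, 99] f4tL29 = true := by decide +kernel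

theorem f4t_head32 : chkHead [0, 731, 19, 1, 3, 5, 7, 11, 13, 15, 21, 23, 27, 29, 31, 35, 39, 43, 47, 51, 59, 63, 67, 75, 79, 91, 93, 95, 99, 107, 111, 123] f4tL32 = true := by decide +kernel

theorem f4t_head35 : chkHead [0, 731, 19, 1, 3, 5, 7, 11, 13, 15, 21, 23, 27, 29, 31, 35, 39, 43, 47, 51, 59, 63, 67, 75, 79, 91, 93, 95, 99, 107, 111, 123, 127, 131, 139] f4tL35 = true := by decide +kernel

theorem f4t_head38 : chkHead [0, 731, 19, 1, 3, 5, 7, 11, 13, 15, 21, 23, 27, 29, 31, 35, 39, 43, 47, 51, 59, 63, 67, 75, 79, 91, 93, 95, 99, 107, 111, 123, 127, 131, 139, 155, 159, 171] f4tL38 = true := by decide +kernel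

theorem f4t_head41 : chkHead [0, 731, 19, 1, 3, 5, 7, 11, 13, 15, 21, 23, 27, 29, 31, 35, 39, 43, 47, 51, 59, 63, 67, 75, 79, 91, 93, 95, 99, 107, 111, 123, 127, 131, 139, 155, 159, 171, 187, 219, 220] f4tL41 = true := by decide +kernel

theorem f4t_head44 : chkHead [0, 731, 19, 1, 3, 5, 7, 11, 13, 15, 21, 23, 27, 29, 31, 35, 39, 43, 47, 51, 59, 63, 67, 75, 79, 91, 93, 95, 99, 107, 111, 123, 127, 131, 139, 155, 159, 171, 187, 219, 220, 223, 227, 235] f4tL44 = true := by decide +kernel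

theorem f4t_head47 : chkHead [0, 731, 19, 1, 3, 5, 7, 11, 13, 15, 21, 23, 27, 29, 31, 35, 39, 43, 47, 51, 59, 63, 67, 75, 79, 91, 93, 95, 99, 107, 111, 123, 127, 131, 139, 155, 159, 171, 187, 219, 220, 223, 227, 235, 251, 283, 347] f4tL47 = true := by decide +kernel

theorem f4t_head50 : chkHead [0, 731, 19, 1, 3, 5, 7, 11, 13, 15, 21, 23, 27, 29, 31, 35, 39, 43, 47, 51, 59, 63, 67, 75, 79, 91, 93, 95, 99, 107, 111, 123, 127, 131, 139, 155, 159, 171, 187, 219, 220, 223, 227, 235, 251, 283, 347, 351, 379, 475] f4tL50 = true := by decide +kernel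

end Cfsg.Agent.Lib.helper10
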