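import Mathlib
import Cfsg.Agent.Lib.helper10.PermSimple
import Cfsg.Agent.Lib.helper10.F4tData

set_option autoImplicit false
set_option maxRecDepth 100000

namespace Cfsg.Agent.Lib.helper10

theorem f4t_vert0_c0 : allBelow (fun i => (chkVertex f4tL0 [f4tL1, f4tL2, f4tL3, f4tL4, f4tL5, f4tL6, f4tL7, f4tL8, f4tL9, f4tL10, f4tL11, f4tL12, f4tL13, f4tL14, f4tL15, f4tL16, f4tL17, f4tL18, f4tL19, f4tL20, f4tL21, f4tL22, f4tL23, f4tL24, f4tL25, f4tL26, f4tL27, f4tL28, f4tL29, f4tL30, f4tL31, f4tL32, f4tL33, f4tL34, f4tL35, f4tL36, f4tL37, f4tL38, f4tL39, f4tL40, f4tL41, f4tL42, f4tL43, f4tL44, f4tL45, f4tL46, f4tL47, f4tL48, f4tL49, f4tL50, f4tL51]) (0 + i)) 75 = true := by decide +kernel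

theorem f4t_vert0_c2 : allBelow (fun i => (chkVertex f4tL0 [f4tL1, f4tL2, f4tL3, f4tL4, f4tL5, f4tL6, f4tL7, f4tL8, f4tL9, f4tL10, f4tL11, f4tL12, f4tL13, f4tL14, f4tL15, f4tL16, f4tL17, f4tL18, f4tL19, f4tL20, f4tL21, f4tL22, f4tL23, f4tL24, f4tL25, f4tL26, f4tL27, f4tL28, f4tL29, f4tL30, f4tL31, f4tL32, f4tL33, f4tL34, f4tL35, f4tL36, f4tL37, f4tL38, f4tL39, f4tL40, f4tL41, f4tL42, f4tL43, f4tL44, f4tL45, f4tL46, f4tL47, f4tL48, f4tL49, f4tL50, f4tL51]) (150 + i)) 75 = true := by decide +kernel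

theorem f4t_vert0_c5 : allBelow (fun i => (chkVertex f4tL0 [f4tL1, f4tL2, f4tL3, f4tL4, f4tL5, f4tL6, f4tL7, f4tL8, f4tL9, f4tL10, f4tL11, f4tL12, f4tL13, f4tL14, f4tL15, f4tL16, f4tL17, f4tL18, f4tL19, f4tL20, f4tL21, f4tL22, f4tL23, f4tL24, f4tL25, f4tL26, f4tL27, f4tL28, f4tL29, f4tL30, f4tL31, f4tL32, f4tL33, f4tL34, f4tL35, f4tL36, f4tL37, f4tL38, f4tL39, f4tL40, f4tL41, f4tL42, f4tL43, f4tL44, f4tL45, f4tL46, f4tL47, f4tL48, f4tL49, f4tL50, f4tL51]) (375 + i)) 75 = true := by decide +kernel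

theorem f4t_vert0_c8 : allBelow (fun i => (chkVertex f4tL0 [f4tL1, f4tL2, f4tL3, f4tL4, f4tL5, f4tL6, f4tL7, f4tL8, f4tL9, f4tL10, f4tL11, f4tL12, f4tL13, f4tL14, f4tL15, f4tL16, f4tL17, f4tL18, f4tL19, f4tL20, f4tL21, f4tL22, f4tL23, f4tL24, f4tL25, f4tL26, f4tL27, f4tL28, f4tL29, f4tL30, f4tL31, f4tL32, f4tL33, f4tL34, f4tL35, f4tL36, f4tL37, f4tL38, f4tL39, f4tL40, f4tL41, f4tL42, f4tL43, f4tL44, f4tL45, f4tL46, f4tL47, f4tL48, f4tL49, f4tL50, f4tL51]) (600 + i)) 75 = true := by decide +kernel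

theorem f4t_vert0_c11 : allBelow (fun i => (chkVertex f4tL0 [f4tL1, f4tL2, f4tL3, f4tL4, f4tL5, f4tL6, f4tL7, f4tL8, f4tL9, f4tL10, f4tL11, f4tL12, f4tL13, f4tL14, f4tL15, f4tL16, f4tL17, f4tL18, f4tL19, f4tL20, f4tL21, f4tL22, f4tL23, f4tL24, f4tL25, f4tL26, f4tL27, f4tL28, f4tL29, f4tL30, f4tL31, f4tL32, f4tL33, f4tL34, f4tL35, f4tL36, f4tL37, f4tL38, f4tL39, f4tL40, f4tL41, f4tL42, f4tL43, f4tL44, f4tL45, f4tL46, f4tL47, f4tL48, f4tL49, f4tL50, f4tL51]) (825 + i)) 75 = true := by decide +kernel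

theorem f4t_vert0_c14 : allBelow (fun i => (chkVertex f4tL0 [f4tL1, f4tL2, f4tL3, f4tL4, f4tL5, f4tL6, f4tL7, f4tL8, f4tL9, f4tL10, f4tL11, f4tL12, f4tL13, f4tL14, f4tL15, f4tL16, f4tL17, f4tL18, f4tL19, f4tL20, f4tL21, f4tL22, f4tL23, f4tL24, f4tL25, f4tL26, f4tL27, f4tL28, f4tL29, f4tL30, f4tL31, f4tL32, f4tL33, f4tL34, f4tL35, f4tL36, f4tL37, f4tL38, f4tL39, f4tL40, f4tL41, f4tL42, f4tL43, f4tL44, f4tL45, f4tL46, f4tL47, f4tL48, f4tL49, f4tL50, f4tL51]) (1050 + i)) 75 = true := by decide +kernel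

theorem f4t_vert0_c17 : allBelow (fun i => (chkVertex f4tL0 [f4tL1, f4tL2, f4tL3, f4tL4, f4tL5, f4tL6, f4tL7, f4tL8, f4tL9, f4tL10, f4tL11, f4tL12, f4tL13, f4tL14, f4tL15, f4tL16, f4tL17, f4tL18, f4tL19, f4tL20, f4tL21, f4tL22, f4tL23, f4tL24, f4tL25, f4tL26, f4tL27, f4tL28, f4tL29, f4tL30, f4tL31, f4tL32, f4tL33, f4tL34, f4tL35, f4tL36, f4tL37, f4tL38, f4tL39, f4tL40, f4tL41, f4tL42, f4tL43, f4tL44, f4tL45, f4tL46, f4tL47, f4tL48, f4tL49, f4tL50, f4tL51]) (1275 + i)) 75 = true := by decide +kernel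

theorem f4t_vert0_c20 : allBelow (fun i => (chkVertex f4tL0 [f4tL1, f4tL2, f4tL3, f4tL4, f4tL5, f4tL6, f4tL7, f4tL8, f4tL9, f4tL10, f4tL11, f4tL12, f4tL13, f4tL14, f4tL15, f4tL16, f4tL17, f4tL18, f4tL19, f4tL20, f4tL21, f4tL22, f4tL23, f4tL24, f4tL25, f4tL26, f4tL27, f4tL28, f4tL29, f4tL30, f4tL31, f4tL32, f4tL33, f4tL34, f4tL35, f4tL36, f4tL37, f4tL38, f4tL39, f4tL40, f4tL41, f4tL42, f4tL43, f4tL44, f4tL45, f4tL46, f4tL47, f4tL48, f4tL49, f4tL50, f4tL51]) (1500 + i)) 75 = true := by decide +kernel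

theorem f4t_vert0_c23 : allBelow (fun i => (chkVertex f4tL0 [f4tL1, f4tL2, f4tL3, f4tL4, f4tL5, f4tL6, f4tL7, f4tL8, f4tL9, f4tL10, f4tL11, f4tL12, f4tL13, f4tL14, f4tL15, f4tL16, f4tL17, f4tL18, f4tL19, f4tL20, f4tL21, f4tL22, f4tL23, f4tL24, f4tL25, f4tL26, f4tL27, f4tL28, f4tL29, f4tL30, f4tL31, f4tL32, f4tL33, f4tL34, f4tL35, f4tL36, f4tL37, f4tL38, f4tL39, f4tL40, f4tL41, f4tL42, f4tL43, f4tL44, f4tL45, f4tL46, f4tL47, f4tL48, f4tL49, f4tL50, f4tL51]) (1725 + i)) 30 = true := by decide +kernel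

theorem f4t_vert1_c0 : allBelow (fun i => (chkVertex f4tL1 [f4tL2, f4tL3, f4tL4, f4tL5, f4tL6, f4tL7, f4tL8, f4tL9, f4tL10, f4tL11, f4tL12, f4tL13, f4tL14, f4tL15, f4tL16, f4tL17, f4tL18, f4tL19, f4tL20, f4tL21, f4tL22, f4tL23, f4tL24, f4tL25, f4tL26, f4tL27, f4tL28, f4tL29, f4tL30, f4tL31, f4tL32, f4tL33, f4tL34, f4tL35, f4tL36, f4tL37, f4tL38, f4tL39, f4tL40, f4tL41, f4tL42, f4tL43, f4tL44, f4tL45, f4tL46, f4tL47, f4tL48, f4tL49, f4tL50, f4tL51]) (0 + i)) 100 = true := by decide +kernel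

theorem f4t_vert1_c3 : allBelow (fun i => (chkVertex f4tL1 [f4tL2, f4tL3, f4tL4, f4tL5, f4tL6, f4tL7, f4tL8, f4tL9, f4tL10, f4tL11, f4tL12, f4tL13, f4tL14, f4tL15, f4tL16, f4tL17, f4tL18, f4tL19, f4tL20, f4tL21, f4tL22, f4tL23, f4tL24, f4tL25, f4tL26, f4tL27, f4tL28, f4tL29, f4tL30, f4tL31, f4tL32, f4tL33, f4tL34, f4tL35, f4tL36, f4tL37, f4tL38, f4tL39, f4tL40, f4tL41, f4tL42, f4tL43, f4tL44, f4tL45, f4tL46, f4tL47, f4tL48, f4tL49, f4tL50, f4tL51]) (300 + i)) 100 = true := by decide +kernel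

theorem f4t_vert1_c6 : allBelow (fun i => (chkVertex f4tL1 [f4tL2, f4tL3, f4tL4, f4tL5, f4tL6, f4tL7, f4tL8, f4tL9, f4tL10, f4tL11, f4tL12, f4tL13, f4tL14, f4tL15, f4tL16, f4tL17, f4tL18, f4tL19, f4tL20, f4tL21, f4tL22, f4tL23, f4tL24, f4tL25, f4tL26, f4tL27, f4tL28, f4tL29, f4tL30, f4tL31, f4tL32, f4tL33, f4tL34, f4tL35, f4tL36, f4tL37, f4tL38, f4tL39, f4tL40, f4tL41, f4tL42, f4tL43, f4tL44, f4tL45, f4tL46, f4tL47, f4tL48, f4tL49, f4tL50, f4tL51]) (600 + i)) 100 = true := by decide +kernel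

theorem f4t_vert1_c9 : allBelow (fun i => (chkVertex f4tL1 [f4tL2, f4tL3, f4tL4, f4tL5, f4tL6, f4tL7, f4tL8, f4tL9, f4tL10, f4tL11, f4tL12, f4tL13, f4tL14, f4tL15, f4tL16, f4tL17, f4tL18, f4tL19, f4tL20, f4tL21, f4tL22, f4tL23, f4tL24, f4tL25, f4tL26, f4tL27, f4tL28, f4tL29, f4tL30, f4tL31, f4tL32, f4tL33, f4tL34, f4tL35, f4tL36, f4tL37, f4tL38, f4tL39, f4tL40, f4tL41, f4tL42, f4tL43, f4tL44, f4tL45, f4tL46, f4tL47, f4tL48, f4tL49, f4tL50, f4tL51]) (900 + i)) 100 = true := by decide +kernel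

theorem f4t_vert1_c12 : allBelow (fun i => (chkVertex f4tL1 [f4tL2, f4tL3, f4tL4, f4tL5, f4tL6, f4tL7, f4tL8, f4tL9, f4tL10, f4tL11, f4tL12, f4tL13, f4tL14, f4tL15, f4tL16, f4tL17, f4tL18, f4tL19, f4tL20, f4tL21, f4tL22, f4tL23, f4tL24, f4tL25, f4tL26, f4tL27, f4tL28, f4tL29, f4tL30, f4tL31, f4tL32, f4tL33, f4tL34, f4tL35, f4tL36, f4tL37, f4tL38, f4tL39, f4tL40, f4tL41, f4tL42, f4tL43, f4tL44, f4tL45, f4tL46, f4tL47, f4tL48, f4tL49, f4tL50, f4tL51]) (1200 + i)) 100 = true := by decide +kernel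

theorem f4t_vert1_c15 : allBelow (fun i => (chkVertex f4tL1 [f4tL2, f4tL3, f4tL4, f4tL5, f4tL6, f4tL7, f4tL8, f4tL9, f4tL10, f4tL11, f4tL12, f4tL13, f4tL14, f4tL15, f4tL16, f4tL17, f4tL18, f4tL19, f4tL20, f4tL21, f4tL22, f4tL23, f4tL24, f4tL25, f4tL26, f4tL27, f4tL28, f4tL29, f4tL30, f4tL31, f4tL32, f4tL33, f4tL34, f4tL35, f4tL36, f4tL37, f4tL38, f4tL39, f4tL40, f4tL41, f4tL42, f4tL43, f4tL44, f4tL45, f4tL46, f4tL47, f4tL48, f4tL49, f4tL50, f4tL51]) (1500 + i)) 100 = true := by decide +kernel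

theorem f4t_nest2_c0 : allBelow (fun i => (chkNest f4tL1.S f4tL2) (0 + i)) 1755 = true := by decide +kernel

theorem f4t_mono : allBelow (fun i => Nat.blt (f4tCode i) (f4tCode (i + 1))) 1754 = true := by decide +kernel

theorem f4t_vert4_c0 : allBelow (fun i => (chkVertex f4tL4 [f4tL5, f4tL6, f4tL7, f4tL8, f4tL9, f4tL10, f4tL11, f4tL12, f4tL13, f4tL14, f4tL15, f4tL16, f4tL17, f4tL18, f4tL19, f4tL20, f4tL21, f4tL22, f4tL23, f4tL24, f4tL25, f4tL26, f4tL27, f4tL28, f4tL29, f4tL30, f4tL31, f4tL32, f4tL33, f4tL34, f4tL35, f4tL36, f4tL37, f4tL38, f4tL39, f4tL40, f4tL41, f4tL42, f4tL43, f4tL44, f4tL45, f4tL46, f4tL47, f4tL48, f4tL49, f4tL50, f4tL51]) (0 + i)) 1755 = true := by decide +kernel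

theorem f4t_vert7_c0 : allBelow (fun i => (chkVertex f4tL7 [f4tL8, f4tL9, f4tL10, f4tL11, f4tL12, f4tL13, f4tL14, f4tL15, f4tL16, f4tL17, f4tL18, f4tL19, f4tL20, f4tL21, f4tL22, f4tL23, f4tL24, f4tL25, f4tL26, f4tL27, f4tL28, f4tL29, f4tL30, f4tL31, f4tL32, f4tL33, f4tL34, f4tL35, f4tL36, f4tL37, f4tL38, f4tL39, f4tL40, f4tL41, f4tL42, f4tL43, f4tL44, f4tL45, f4tL46, f4tL47, f4tL48, f4tL49, f4tL50, f4tL51]) (0 + i)) 1755 = true := by decide +kernel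

theorem f4t_vert10_c0 : allBelow (fun i => (chkVertex f4tL10 [f4tL11, f4tL12, f4tL13, f4tL14, f4tL15, f4tL16, f4tL17, f4tL18, f4tL19, f4tL20, f4tL21, f4tL22, f4tL23, f4tL24, f4tL25, f4tL26, f4tL27, f4tL28, f4tL29, f4tL30, f4tL31, f4tL32, f4tL33, f4tL34, f4tL35, f4tL36, f4tL37, f4tL38, f4tL39, f4tL40, f4tL41, f4tL42, f4tL43, f4tL44, f4tL45, f4tL46, f4tL47, f4tL48, f4tL49, f4tL50, f4tL51]) (0 + i)) 1755 = true := by decide +kernel

theorem f4t_vert13_c0 : allBelow (fun i => (chkVertex f4tL13 [f4tL14, f4tL15, f4tL16, f4tL17, f4tL18, f4tL19, f4tL20, f4tL21, f4tL22, f4tL23, f4tL24, f4tL25, f4tL26, f4tL27, f4tL28, f4tL29, f4tL30, f4tL31, f4tL32, f4tL33, f4tL34, f4tL35, f4tL36, f4tL37, f4tL38, f4tL39, f4tL40, f4tL41, f4tL42, f4tL43, f4tL44, f4tL45, f4tL46, f4tL47, f4tL48, f4tL49, f4tL50, f4tL51]) (0 + i)) 1755 = true := by decide +kernel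

theorem f4t_vert16_c0 : allBelow (fun i => (chkVertex f4tL16 [f4tL17, f4tL18, f4tL19, f4tL20, f4tL21, f4tL22, f4tL23, f4tL24, f4tL25, f4tL26, f4tL27, f4tL28, f4tL29, f4tL30, f4tL31, f4tL32, f4tL33, f4tL34, f4tL35, f4tL36, f4tL37, f4tL38, f4tL39, f4tL40, f4tL41, f4tL42, f4tL43, f4tL44, f4tL45, f4tL46, f4tL47, f4tL48, f4tL49, f4tL50, f4tL51]) (0 + i)) 1755 = true := by decide +kernel

theorem f4t_vert19_c0 : allBelow (fun i => (chkVertex f4tL19 [f4tL20, f4tL21, f4tL22, f4tL23, f4tL24, f4tL25, f4tL26, f4tL27, f4tL28, f4tL29, f4tL30, f4tL31, f4tL32, f4tL33, f4tL34, f4tL35, f4tL36, f4tL37, f4tL38, f4tL39, f4tL40, f4tL41, f4tL42, f4tL43, f4tL44, f4tL45, f4tL46, f4tL47, f4tL48, f4tL49, f4tL50, f4tL51]) (0 + i)) 1755 = true := by decide +kernel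

theorem f4t_vert22_c0 : allBelow (fun i => (chkVertex f4tL22 [f4tL23, f4tL24, f4tL25, f4tL26, f4tL27, f4tL28, f4tL29, f4tL30, f4tL31, f4tL32, f4tL33, f4tL34, f4tL35, f4tL36, f4tL37, f4tL38, f4tL39, f4tL40, f4tL41, f4tL42, f4tL43, f4tL44, f4tL45, f4tL46, f4tL47, f4tL48, f4tL49, f4tL50, f4tL51]) (0 + i)) 1755 = true := by decide +kernel

theorem f4t_vert25_c0 : allBelow (fun i => (chkVertex f4tL25 [f4tL26, f4tL27, f4tL28, f4tL29, f4tL30, f4tL31, f4tL32, f4tL33, f4tL34, f4tL35, f4tL36, f4tL37, f4tL38, f4tL39, f4tL40, f4tL41, f4tL42, f4tL43, f4tL44, f4tL45, f4tL46, f4tL47, f4tL48, f4tL49, f4tL50, f4tL51]) (0 + i)) 1755 = true := by decide +kernel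

theorem f4t_nest50_c0 : allBelow (fun i => (chkNest f4tL49.S f4tL50) (0 + i)) 1755 = true := by decide +kernel

theorem f4t_nest48_c0 : allBelow (fun i => (chkNest f4tL47.S f4tL48) (0 + i)) 1755 = true := by decide +kernel

theorem f4t_nest46_c0 : allBelow (fun i => (chkNest f4tL45.S f4tL46) (0 + i)) 1755 = true := by decide +kernel

theorem f4t_nest44_c0 : allBelow (fun i => (chkNest f4tL43.S f4tL44) (0 + i)) 1755 = true := by decide +kernel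

theorem f4t_nest42_c0 : allBelow (fun i => (chkNest f4tL41.S f4tL42) (0 + i)) 1755 = true := by decide +kernel

theorem f4t_nest40_c0 : allBelow (fun i => (chkNest f4tL39.S f4tL40) (0 + i)) 1755 = true := by decide +kernel

theorem f4t_nest38_c0 : allBelow (fun i => (chkNest f4tL37.S f4tL38) (0 + i)) 1755 = true := by decide +kernel

theorem f4t_nest36_c0 : allBelow (fun i => (chkNest f4tL35.S f4tL36) (0 + i)) 1755 = true := by decide +kernel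

theorem f4t_nest34_c0 : allBelow (fun i => (chkNest f4tL33.S f4tL34) (0 + i)) 1755 = true := by decide +kernel

theorem f4t_nest32_c0 : allBelow (fun i => (chkNest f4tL31.S f4tL32) (0 + i)) 1755 = true := by decide +kernel

theorem f4t_nest30_c0 : allBelow (fun i => (chkNest f4tL29.S f4tL30) (0 + i)) 1755 = true := by decide +kernel

theorem f4t_nest28_c0 : allBelow (fun i => (chkNest f4tL27.S f4tL28) (0 + i)) 1755 = true := by decide +kernel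

theorem f4t_nest26_c0 : allBelow (fun i => (chkNest f4tL25.S f4tL26) (0 + i)) 1755 = true := by decide +kernel

theorem f4t_nest24_c0 : allBelow (fun i => (chkNest f4tL23.S f4tL24) (0 + i)) 1755 = true := by decide +kernel

theorem f4t_nest22_c0 : allBelow (fun i => (chkNest f4tL21.S f4tL22) (0 + i)) 1755 = true := by decide +kernel

theorem f4t_nest20_c0 : allBelow (fun i => (chkNest f4tL19.S f4tL20) (0 + i)) 1755 = true := by decide +kernel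

theorem f4t_nest18_c0 : allBelow (fun i => (chkNest f4tL17.S f4tL18) (0 + i)) 1755 = true := by decide +kernel

theorem f4t_nest16_c0 : allBelow (fun i => (chkNest f4tL15.S f4tL16) (0 + i)) 1755 = true := by decide +kernel

theorem f4t_nest14_c0 : allBelow (fun i => (chkNest f4tL13.S f4tL14) (0 + i)) 1755 = true := by decide +kernel

theorem f4t_nest12_c0 : allBelow (fun i => (chkNest f4tL11.S f4tL12) (0 + i)) 1755 = true := by decide +kernel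

theorem f4t_nest10_c0 : allBelow (fun i => (chkNest f4tL9.S f4tL10) (0 + i)) 1755 = true := by decide +kernel

theorem f4t_nest8_c0 : allBelow (fun i => (chkNest f4tL7.S f4tL8) (0 + i)) 1755 = true := by decide +kernel

theorem f4t_nest6_c0 : allBelow (fun i => (chkNest f4tL5.S f4tL6) (0 + i)) 1755 = true := by decide +kernel

theorem f4t_nest4_c0 : allBelow (fun i => (chkNest f4tL3.S f4tL4) (0 + i)) 1755 = true := by decide +kernel

theorem f4t_vert51_c0 : allBelow (fun i => (chkVertex f4tL51 []) (0 + i)) 1755 = true := by decide +kernel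

theorem f4t_head0 : chkHead [] f4tL0 = true := by decide +kernel

theorem f4t_head2 : chkHead [0, 731] f4tL2 = true := by decide +kernel

theorem f4t_head4 : chkHead [0, 731, 19, 1] f4tL4 = true := by decide +kernel

theorem f4t_head6 : chkHead [0, 731, 19, 1, 3, 5] f4tL6 = true := by decide +kernel

theorem f4t_head8 : chkHead [0, 731, 19, 1, 3, 5, 7, 11] f4tL8 = true := by decide +kernel

theorem f4t_head10 : chkHead [0, 731, 19, 1, 3, 5, 7, 11, 13, 15] f4tL10 = true := by decide +kernel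

theorem f4t_head12 : chkHead [0, 731, 19, 1, 3, 5, 7, 11, 13, 15, 21, 23] f4tL12 = true := by decide +kernel

theorem f4t_head14 : chkHead [0, 731, 19, 1, 3, 5, 7, 11, 13, 15, 21, 23, 27, 29] f4tL14 = true := by decide +kernel

theorem f4t_head16 : chkHead [0, 731, 19, 1, 3, 5, 7, 11, 13, 15, 21, 23, 27, 29, 31, 35] f4tL16 = true := by decide +kernel

theorem f4t_head19 : chkHead [0, 731, 19, 1, 3, 5, 7, 11, 13, 15, 21, 23, 27, 29, 31, 35, 39, 43, 47] f4tL19 = true := by decide +kernel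

theorem f4t_head22 : chkHead [0, 731, 19, 1, 3, 5, 7, 11, 13, 15, 21, 23, 27, 29, 31, 35, 39, 43, 47, 51, 59, 63] f4tL22 = true := by decide +kernel

theorem f4t_head25 : chkHead [0, 731, 19, 1, 3, 5, 7, 11, 13, 15, 21, 23, 27, 29, 31, 35, 39, 43, 47, 51, 59, 63, 67, 75, 79] f4tL25 = true := by decide +kernel

theorem f4t_head28 : chkHead [0, 731, 19, 1, 3, 5, 7, 11, 13, 15, 21, 23, 27, 29, 31, 35, 39, 43, 47, 51, 59, 63, 67, 75, 79, 91, 93, 95] f4tL28 = true := by decide +kernel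

theorem f4t_head31 : chkHead [0, 731, 19, 1, 3, 5, 7, 11, 13, 15, 21, 23, 27, 29, 31, 35, 39, 43, 47, 51, 59, 63, 67, 75, 79, 91, 93, 95, 99, 107, 111] f4tL31 = true := by decide +kernel

theorem f4t_head34 : chkHead [0, 731, 19, 1, 3, 5, 7, 11, 13, 15, 21, 23, 27, 29, 31, 35, 39, 43, 47, 51, 59, 63, 67, 75, 79, 91, 93, 95, 99, 107, 111, 123, 127, 131] f4tL34 = true := by decide +kernel

theorem f4t_head37 : chkHead [0, 731, 19, 1, 3, 5, 7, 11, 13, 15, 21, 23, 27, 29, 31, 35, 39, 43, 47, 51, 59, 63, 67, 75, 79, 91, 93, 95, 99, 107, 111, 123, 127, 131, 139, 155, 159] f4tL37 = true := by decide +kernel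

theorem f4t_head40 : chkHead [0, 731, 19, 1, 3, 5, 7, 11, 13, 15, 21, 23, 27, 29, 31, 35, 39, 43, 47, 51, 59, 63, 67, 75, 79, 91, 93, 95, 99, 107, 111, 123, 127, 131, 139, 155, 159, 171, 187, 219] f4tL40 = true := by decide +kernel

theorem f4t_head43 : chkHead [0, 731, 19, 1, 3, 5, 7, 11, 13, 15, 21, 23, 27, 29, 31, 35, 39, 43, 47, 51, 59, 63, 67, 75, 79, 91, 93, 95, 99, 107, 111, 123, 127, 131, 139, 155, 159, 171, 187, 219, 220, 223, 227] f4tL43 = true := by decide +kernel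

theorem f4t_head46 : chkHead [0, 731, 19, 1, 3, 5, 7, 11, 13, 15, 21, 23, 27, 29, 31, 35, 39, 43, 47, 51, 59, 63, 67, 75, 79, 91, 93, 95, 99, 107, 111, 123, 127, 131, 139, 155, 159, 171, 187, 219, 220, 223, 227, 235, 251, 283] f4tL46 = true := by decide +kernel

theorem f4t_head49 : chkHead [0, 731, 19, 1, 3, 5, 7, 11, 13, 15, 21, 23, 27, 29, 31, 35, 39, 43, 47, 51, 59, 63, 67, 75, 79, 91, 93, 95, 99, 107, 111, 123, 127, 131, 139, 155, 159, 171, 187, 219, 220, 223, 227, 235, 251, 283, 347, 351, 379] f4tL49 = true := by decide +kernel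

theorem f4t_arith : chkArith (fun j => ([1, 10, 80, 640, 1024] : List ℕ).getD j 0) 1755 5 = true := by decide +kernel

end Cfsg.Agent.Lib.helper10
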