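import Mathlib
import Cfsg.Agent.Lib.helper10.PermSimple
import Cfsg.Agent.Lib.helper10.F4tData

set_option autoImplicit false
set_option maxRecDepth 100000

namespace Cfsg.Agent.Lib.helper10

theorem f4t_vert0_c1 : allBelow (fun i => (chkVertex f4tL0 [f4tL1, f4tL2, f4tL3, f4tL4, f4tL5, f4tL6, f4tL7, f4tL8, f4tL9, f4tL10, f4tL11, f4tL12, f4tL13, f4tL14, f4tL15, f4tL16, f4tL17, f4tL18, f4tL19, f4tL20, f4tL21, f4tL22, f4tL23, f4tL24, f4tL25, f4tL26, f4tL27, f4tL28, f4tL29, f4tL30, f4tL31, f4tL32, f4tL33, f4tL34, f4tL35, f4tL36, f4tL37, f4tL38, f4tL39, f4tL40, f4tL41, f4tL42, f4tL43, f4tL44, f4tL45, f4tL46, f4tL47, f4tL48, f4tL49, f4tL50, f4tL51]) (75 + i)) 75 = true := by decide +kernel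

theorem f4t_vert0_c3 : allBelow (fun i => (chkVertex f4tL0 [f4tL1, f4tL2, f4tL3, f4tL4, f4tL5, f4tL6, f4tL7, f4tL8, f4tL9, f4tL10, f4tL11, f4tL12, f4tL13, f4tL14, f4tL15, f4tL16, f4tL17, f4tL18, f4tL19, f4tL20, f4tL21, f4tL22, f4tL23, f4tL24, f4tL25, f4tL26, f4tL27, f4tL28, f4tL29, f4tL30, f4tL31, f4tL32, f4tL33, f4tL34, f4tL35, f4tL36, f4tL37, f4tL38, f4tL39, f4tL40, f4tL41, f4tL42, f4tL43, f4tL44, f4tL45, f4tL46, f4tL47, f4tL48, f4tL49, f4tL50, f4tL51]) (225 + i)) 75 = true := by decide +kernel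

theorem f4t_vert0_c6 : allBelow (fun i => (chkVertex f4tL0 [f4tL1, f4tL2, f4tL3, f4tL4, f4tL5, f4tL6, f4tL7, f4tL8, f4tL9, f4tL10, f4tL11, f4tL12, f4tL13, f4tL14, f4tL15, f4tL16, f4tL17, f4tL18, f4tL19, f4tL20, f4tL21, f4tL22, f4tL23, f4tL24, f4tL25, f4tL26, f4tL27, f4tL28, f4tL29, f4tL30, f4tL31, f4tL32, f4tL33, f4tL34, f4tL35, f4tL36, f4tL37, f4tL38, f4tL39, f4tL40, f4tL41, f4tL42, f4tL43, f4tL44, f4tL45, f4tL46, f4tL47, f4tL48, f4tL49, f4tL50, f4tL51]) (450 + i)) 75 = true := by decide +kernel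

theorem f4t_vert0_c9 : allBelow (fun i => (chkVertex f4tL0 [f4tL1, f4tL2, f4tL3, f4tL4, f4tL5, f4tL6, f4tL7, f4tL8, f4tL9, f4tL10, f4tL11, f4tL12, f4tL13, f4tL14, f4tL15, f4tL16, f4tL17, f4tL18, f4tL19, f4tL20, f4tL21, f4tL22, f4tL23, f4tL24, f4tL25, f4tL26, f4tL27, f4tL28, f4tL29, f4tL30, f4tL31, f4tL32, f4tL33, f4tL34, f4tL35, f4tL36, f4tL37, f4tL38, f4tL39, f4tL40, f4tL41, f4tL42, f4tL43, f4tL44, f4tL45, f4tL46, f4tL47, f4tL48, f4tL49, f4tL50, f4tL51]) (675 + i)) 75 = true := by decide +kernel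

theorem f4t_vert0_c12 : allBelow (fun i => (chkVertex f4tL0 [f4tL1, f4tL2, f4tL3, f4tL4, f4tL5, f4tL6, f4tL7, f4tL8, f4tL9, f4tL10, f4tL11, f4tL12, f4tL13, f4tL14, f4tL15, f4tL16, f4tL17, f4tL18, f4tL19, f4tL20, f4tL21, f4tL22, f4tL23, f4tL24, f4tL25, f4tL26, f4tL27, f4tL28, f4tL29, f4tL30, f4tL31, f4tL32, f4tL33, f4tL34, f4tL35, f4tL36, f4tL37, f4tL38, f4tL39, f4tL40, f4tL41, f4tL42, f4tL43, f4tL44, f4tL45, f4tL46, f4tL47, f4tL48, f4tL49, f4tL50, f4tL51]) (900 + i)) 75 = true := by decide +kernel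

theorem f4t_vert0_c15 : allBelow (fun i => (chkVertex f4tL0 [f4tL1, f4tL2, f4tL3, f4tL4, f4tL5, f4tL6, f4tL7, f4tL8, f4tL9, f4tL10, f4tL11, f4tL12, f4tL13, f4tL14, f4tL15, f4tL16, f4tL17, f4tL18, f4tL19, f4tL20, f4tL21, f4tL22, f4tL23, f4tL24, f4tL25, f4tL26, f4tL27, f4tL28, f4tL29, f4tL30, f4tL31, f4tL32, f4tL33, f4tL34, f4tL35, f4tL36, f4tL37, f4tL38, f4tL39, f4tL40, f4tL41, f4tL42, f4tL43, f4tL44, f4tL45, f4tL46, f4tL47, f4tL48, f4tL49, f4tL50, f4tL51]) (1125 + i)) 75 = true := by decide +kernel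

theorem f4t_vert0_c18 : allBelow (fun i => (chkVertex f4tL0 [f4tL1, f4tL2, f4tL3, f4tL4, f4tL5, f4tL6, f4tL7, f4tL8, f4tL9, f4tL10, f4tL11, f4tL12, f4tL13, f4tL14, f4tL15, f4tL16, f4tL17, f4tL18, f4tL19, f4tL20, f4tL21, f4tL22, f4tL23, f4tL24, f4tL25, f4tL26, f4tL27, f4tL28, f4tL29, f4tL30, f4tL31, f4tL32, f4tL33, f4tL34, f4tL35, f4tL36, f4tL37, f4tL38, f4tL39, f4tL40, f4tL41, f4tL42, f4tL43, f4tL44, f4tL45, f4tL46, f4tL47, f4tL48, f4tL49, f4tL50, f4tL51]) (1350 + i)) 75 = true := by decide +kernel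

theorem f4t_vert0_c21 : allBelow (fun i => (chkVertex f4tL0 [f4tL1, f4tL2, f4tL3, f4tL4, f4tL5, f4tL6, f4tL7, f4tL8, f4tL9, f4tL10, f4tL11, f4tL12, f4tL13, f4tL14, f4tL15, f4tL16, f4tL17, f4tL18, f4tL19, f4tL20, f4tL21, f4tL22, f4tL23, f4tL24, f4tL25, f4tL26, f4tL27, f4tL28, f4tL29, f4tL30, f4tL31, f4tL32, f4tL33, f4tL34, f4tL35, f4tL36, f4tL37, f4tL38, f4tL39, f4tL40, f4tL41, f4tL42, f4tL43, f4tL44, f4tL45, f4tL46, f4tL47, f4tL48, f4tL49, f4tL50, f4tL51]) (1575 + i)) 75 = true := by decide +kernel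

theorem f4t_nest1_c0 : allBelow (fun i => (chkNest f4tL0.S f4tL1) (0 + i)) 1755 = true := by decide +kernel

theorem f4t_mat_c1 : allBelow (fun i => (fun i => chkMat (f4tL0.S.act 0) f4tCode (f4tCols 0) 52 i && chkMat (f4tL0.S.act 2) f4tCode (f4tCols 1) 52 i) (900 + i)) 855 = true := by decide +kernel

theorem f4t_vert1_c1 : allBelow (fun i => (chkVertex f4tL1 [f4tL2, f4tL3, f4tL4, f4tL5, f4tL6, f4tL7, f4tL8, f4tL9, f4tL10, f4tL11, f4tL12, f4tL13, f4tL14, f4tL15, f4tL16, f4tL17, f4tL18, f4tL19, f4tL20, f4tL21, f4tL22, f4tL23, f4tL24, f4tL25, f4tL26, f4tL27, f4tL28, f4tL29, f4tL30, f4tL31, f4tL32, f4tL33, f4tL34, f4tL35, f4tL36, f4tL37, f4tL38, f4tL39, f4tL40, f4tL41, f4tL42, f4tL43, f4tL44, f4tL45, f4tL46, f4tL47, f4tL48, f4tL49, f4tL50, f4tL51]) (100 + i)) 100 = true := by decide +kernel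

theorem f4t_vert1_c4 : allBelow (fun i => (chkVertex f4tL1 [f4tL2, f4tL3, f4tL4, f4tL5, f4tL6, f4tL7, f4tL8, f4tL9, f4tL10, f4tL11, f4tL12, f4tL13, f4tL14, f4tL15, f4tL16, f4tL17, f4tL18, f4tL19, f4tL20, f4tL21, f4tL22, f4tL23, f4tL24, f4tL25, f4tL26, f4tL27, f4tL28, f4tL29, f4tL30, f4tL31, f4tL32, f4tL33, f4tL34, f4tL35, f4tL36, f4tL37, f4tL38, f4tL39, f4tL40, f4tL41, f4tL42, f4tL43, f4tL44, f4tL45, f4tL46, f4tL47, f4tL48, f4tL49, f4tL50, f4tL51]) (400 + i)) 100 = true := by decide +kernel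

theorem f4t_vert1_c7 : allBelow (fun i => (chkVertex f4tL1 [f4tL2, f4tL3, f4tL4, f4tL5, f4tL6, f4tL7, f4tL8, f4tL9, f4tL10, f4tL11, f4tL12, f4tL13, f4tL14, f4tL15, f4tL16, f4tL17, f4tL18, f4tL19, f4tL20, f4tL21, f4tL22, f4tL23, f4tL24, f4tL25, f4tL26, f4tL27, f4tL28, f4tL29, f4tL30, f4tL31, f4tL32, f4tL33, f4tL34, f4tL35, f4tL36, f4tL37, f4tL38, f4tL39, f4tL40, f4tL41, f4tL42, f4tL43, f4tL44, f4tL45, f4tL46, f4tL47, f4tL48, f4tL49, f4tL50, f4tL51]) (700 + i)) 100 = true := by decide +kernel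

theorem f4t_vert1_c10 : allBelow (fun i => (chkVertex f4tL1 [f4tL2, f4tL3, f4tL4, f4tL5, f4tL6, f4tL7, f4tL8, f4tL9, f4tL10, f4tL11, f4tL12, f4tL13, f4tL14, f4tL15, f4tL16, f4tL17, f4tL18, f4tL19, f4tL20, f4tL21, f4tL22, f4tL23, f4tL24, f4tL25, f4tL26, f4tL27, f4tL28, f4tL29, f4tL30, f4tL31, f4tL32, f4tL33, f4tL34, f4tL35, f4tL36, f4tL37, f4tL38, f4tL39, f4tL40, f4tL41, f4tL42, f4tL43, f4tL44, f4tL45, f4tL46, f4tL47, f4tL48, f4tL49, f4tL50, f4tL51]) (1000 + i)) 100 = true := by decide +kernel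

theorem f4t_vert1_c13 : allBelow (fun i => (chkVertex f4tL1 [f4tL2, f4tL3, f4tL4, f4tL5, f4tL6, f4tL7, f4tL8, f4tL9, f4tL10, f4tL11, f4tL12, f4tL13, f4tL14, f4tL15, f4tL16, f4tL17, f4tL18, f4tL19, f4tL20, f4tL21, f4tL22, f4tL23, f4tL24, f4tL25, f4tL26, f4tL27, f4tL28, f4tL29, f4tL30, f4tL31, f4tL32, f4tL33, f4tL34, f4tL35, f4tL36, f4tL37, f4tL38, f4tL39, f4tL40, f4tL41, f4tL42, f4tL43, f4tL44, f4tL45, f4tL46, f4tL47, f4tL48, f4tL49, f4tL50, f4tL51]) (1300 + i)) 100 = true := by decide +kernel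

theorem f4t_vert1_c16 : allBelow (fun i => (chkVertex f4tL1 [f4tL2, f4tL3, f4tL4, f4tL5, f4tL6, f4tL7, f4tL8, f4tL9, f4tL10, f4tL11, f4tL12, f4tL13, f4tL14, f4tL15, f4tL16, f4tL17, f4tL18, f4tL19, f4tL20, f4tL21, f4tL22, f4tL23, f4tL24, f4tL25, f4tL26, f4tL27, f4tL28, f4tL29, f4tL30, f4tL31, f4tL32, f4tL33, f4tL34, f4tL35, f4tL36, f4tL37, f4tL38, f4tL39, f4tL40, f4tL41, f4tL42, f4tL43, f4tL44, f4tL45, f4tL46, f4tL47, f4tL48, f4tL49, f4tL50, f4tL51]) (1600 + i)) 100 = true := by decide +kernel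

theorem f4t_ap_c0 : allBelow (fun i => (fun x => pact f4tL0.S.act (List.replicate 13 0) x == x) (0 + i)) 1755 = true := by decide +kernel

theorem f4t_nest0_c0 : allBelow (fun i => (chkNest f4tL0.S f4tL0) (0 + i)) 1755 = true := by decide +kernel

theorem f4t_vert2_c0 : allBelow (fun i => (chkVertex f4tL2 [f4tL3, f4tL4, f4tL5, f4tL6, f4tL7, f4tL8, f4tL9, f4tL10, f4tL11, f4tL12, f4tL13, f4tL14, f4tL15, f4tL16, f4tL17, f4tL18, f4tL19, f4tL20, f4tL21, f4tL22, f4tL23, f4tL24, f4tL25, f4tL26, f4tL27, f4tL28, f4tL29, f4tL30, f4tL31, f4tL32, f4tL33, f4tL34, f4tL35, f4tL36, f4tL37, f4tL38, f4tL39, f4tL40, f4tL41, f4tL42, f4tL43, f4tL44, f4tL45, f4tL46, f4tL47, f4tL48, f4tL49, f4tL50, f4tL51]) (0 + i)) 1755 = true := by decide +kernel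

theorem f4t_vert5_c0 : allBelow (fun i => (chkVertex f4tL5 [f4tL6, f4tL7, f4tL8, f4tL9, f4tL10, f4tL11, f4tL12, f4tL13, f4tL14, f4tL15, f4tL16, f4tL17, f4tL18, f4tL19, f4tL20, f4tL21, f4tL22, f4tL23, f4tL24, f4tL25, f4tL26, f4tL27, f4tL28, f4tL29, f4tL30, f4tL31, f4tL32, f4tL33, f4tL34, f4tL35, f4tL36, f4tL37, f4tL38, f4tL39, f4tL40, f4tL41, f4tL42, f4tL43, f4tL44, f4tL45, f4tL46, f4tL47, f4tL48, f4tL49, f4tL50, f4tL51]) (0 + i)) 1755 = true := by decide +kernel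

theorem f4t_vert8_c0 : allBelow (fun i => (chkVertex f4tL8 [f4tL9, f4tL10, f4tL11, f4tL12, f4tL13, f4tL14, f4tL15, f4tL16, f4tL17, f4tL18, f4tL19, f4tL20, f4tL21, f4tL22, f4tL23, f4tL24, f4tL25, f4tL26, f4tL27, f4tL28, f4tL29, f4tL30, f4tL31, f4tL32, f4tL33, f4tL34, f4tL35, f4tL36, f4tL37, f4tL38, f4tL39, f4tL40, f4tL41, f4tL42, f4tL43, f4tL44, f4tL45, f4tL46, f4tL47, f4tL48, f4tL49, f4tL50, f4tL51]) (0 + i)) 1755 = true := by decide +kernel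

theorem f4t_vert11_c0 : allBelow (fun i => (chkVertex f4tL11 [f4tL12, f4tL13, f4tL14, f4tL15, f4tL16, f4tL17, f4tL18, f4tL19, f4tL20, f4tL21, f4tL22, f4tL23, f4tL24, f4tL25, f4tL26, f4tL27, f4tL28, f4tL29, f4tL30, f4tL31, f4tL32, f4tL33, f4tL34, f4tL35, f4tL36, f4tL37, f4tL38, f4tL39, f4tL40, f4tL41, f4tL42, f4tL43, f4tL44, f4tL45, f4tL46, f4tL47, f4tL48, f4tL49, f4tL50, f4tL51]) (0 + i)) 1755 = true := by decide +kernel

theorem f4t_vert14_c0 : allBelow (fun i => (chkVertex f4tL14 [f4tL15, f4tL16, f4tL17, f4tL18, f4tL19, f4tL20, f4tL21, f4tL22, f4tL23, f4tL24, f4tL25, f4tL26, f4tL27, f4tL28, f4tL29, f4tL30, f4tL31, f4tL32, f4tL33, f4tL34, f4tL35, f4tL36, f4tL37, f4tL38, f4tL39, f4tL40, f4tL41, f4tL42, f4tL43, f4tL44, f4tL45, f4tL46, f4tL47, f4tL48, f4tL49, f4tL50, f4tL51]) (0 + i)) 1755 = true := by decide +kernel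

theorem f4t_vert17_c0 : allBelow (fun i => (chkVertex f4tL17 [f4tL18, f4tL19, f4tL20, f4tL21, f4tL22, f4tL23, f4tL24, f4tL25, f4tL26, f4tL27, f4tL28, f4tL29, f4tL30, f4tL31, f4tL32, f4tL33, f4tL34, f4tL35, f4tL36, f4tL37, f4tL38, f4tL39, f4tL40, f4tL41, f4tL42, f4tL43, f4tL44, f4tL45, f4tL46, f4tL47, f4tL48, f4tL49, f4tL50, f4tL51]) (0 + i)) 1755 = true := by decide +kernel

theorem f4t_vert20_c0 : allBelow (fun i => (chkVertex f4tL20 [f4tL21, f4tL22, f4tL23, f4tL24, f4tL25, f4tL26, f4tL27, f4tL28, f4tL29, f4tL30, f4tL31, f4tL32, f4tL33, f4tL34, f4tL35, f4tL36, f4tL37, f4tL38, f4tL39, f4tL40, f4tL41, f4tL42, f4tL43, f4tL44, f4tL45, f4tL46, f4tL47, f4tL48, f4tL49, f4tL50, f4tL51]) (0 + i)) 1755 = true := by decide +kernel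

theorem f4t_vert23_c0 : allBelow (fun i => (chkVertex f4tL23 [f4tL24, f4tL25, f4tL26, f4tL27, f4tL28, f4tL29, f4tL30, f4tL31, f4tL32, f4tL33, f4tL34, f4tL35, f4tL36, f4tL37, f4tL38, f4tL39, f4tL40, f4tL41, f4tL42, f4tL43, f4tL44, f4tL45, f4tL46, f4tL47, f4tL48, f4tL49, f4tL50, f4tL51]) (0 + i)) 1755 = true := by decide +kernel

theorem f4t_vert26_c0 : allBelow (fun i => (chkVertex f4tL26 [f4tL27, f4tL28, f4tL29, f4tL30, f4tL31, f4tL32, f4tL33, f4tL34, f4tL35, f4tL36, f4tL37, f4tL38, f4tL39, f4tL40, f4tL41, f4tL42, f4tL43, f4tL44, f4tL45, f4tL46, f4tL47, f4tL48, f4tL49, f4tL50, f4tL51]) (0 + i)) 1755 = true := by decide +kernel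

theorem f4t_vert27_c0 : allBelow (fun i => (chkVertex f4tL27 [f4tL28, f4tL29, f4tL30, f4tL31, f4tL32, f4tL33, f4tL34, f4tL35, f4tL36, f4tL37, f4tL38, f4tL39, f4tL40, f4tL41, f4tL42, f4tL43, f4tL44, f4tL45, f4tL46, f4tL47, f4tL48, f4tL49, f4tL50, f4tL51]) (0 + i)) 1755 = true := by decide +kernel

theorem f4t_vert28_c0 : allBelow (fun i => (chkVertex f4tL28 [f4tL29, f4tL30, f4tL31, f4tL32, f4tL33, f4tL34, f4tL35, f4tL36, f4tL37, f4tL38, f4tL39, f4tL40, f4tL41, f4tL42, f4tL43, f4tL44, f4tL45, f4tL46, f4tL47, f4tL48, f4tL49, f4tL50, f4tL51]) (0 + i)) 1755 = true := by decide +kernel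

theorem f4t_vert29_c0 : allBelow (fun i => (chkVertex f4tL29 [f4tL30, f4tL31, f4tL32, f4tL33, f4tL34, f4tL35, f4tL36, f4tL37, f4tL38, f4tL39, f4tL40, f4tL41, f4tL42, f4tL43, f4tL44, f4tL45, f4tL46, f4tL47, f4tL48, f4tL49, f4tL50, f4tL51]) (0 + i)) 1755 = true := by decide +kernel

theorem f4t_vert30_c0 : allBelow (fun i => (chkVertex f4tL30 [f4tL31, f4tL32, f4tL33, f4tL34, f4tL35, f4tL36, f4tL37, f4tL38, f4tL39, f4tL40, f4tL41, f4tL42, f4tL43, f4tL44, f4tL45, f4tL46, f4tL47, f4tL48, f4tL49, f4tL50, f4tL51]) (0 + i)) 1755 = true := by decide +kernel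

theorem f4t_vert31_c0 : allBelow (fun i => (chkVertex f4tL31 [f4tL32, f4tL33, f4tL34, f4tL35, f4tL36, f4tL37, f4tL38, f4tL39, f4tL40, f4tL41, f4tL42, f4tL43, f4tL44, f4tL45, f4tL46, f4tL47, f4tL48, f4tL49, f4tL50, f4tL51]) (0 + i)) 1755 = true := by decide +kernel

theorem f4t_vert32_c0 : allBelow (fun i => (chkVertex f4tL32 [f4tL33, f4tL34, f4tL35, f4tL36, f4tL37, f4tL38, f4tL39, f4tL40, f4tL41, f4tL42, f4tL43, f4tL44, f4tL45, f4tL46, f4tL47, f4tL48, f4tL49, f4tL50, f4tL51]) (0 + i)) 1755 = true := by decide +kernel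

theorem f4t_vert33_c0 : allBelow (fun i => (chkVertex f4tL33 [f4tL34, f4tL35, f4tL36, f4tL37, f4tL38, f4tL39, f4tL40, f4tL41, f4tL42, f4tL43, f4tL44, f4tL45, f4tL46, f4tL47, f4tL48, f4tL49, f4tL50, f4tL51]) (0 + i)) 1755 = true := by decide +kernel

theorem f4t_vert34_c0 : allBelow (fun i => (chkVertex f4tL34 [f4tL35, f4tL36, f4tL37, f4tL38, f4tL39, f4tL40, f4tL41, f4tL42, f4tL43, f4tL44, f4tL45, f4tL46, f4tL47, f4tL48, f4tL49, f4tL50, f4tL51]) (0 + i)) 1755 = true := by decide +kernel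

theorem f4t_nest33_c0 : allBelow (fun i => (chkNest f4tL32.S f4tL33) (0 + i)) 1755 = true := by decide +kernel

theorem f4t_nest31_c0 : allBelow (fun i => (chkNest f4tL30.S f4tL31) (0 + i)) 1755 = true := by decide +kernel

theorem f4t_nest29_c0 : allBelow (fun i => (chkNest f4tL28.S f4tL29) (0 + i)) 1755 = true := by decide +kernel

theorem f4t_nest27_c0 : allBelow (fun i => (chkNest f4tL26.S f4tL27) (0 + i)) 1755 = true := by decide +kernel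

theorem f4t_nest25_c0 : allBelow (fun i => (chkNest f4tL24.S f4tL25) (0 + i)) 1755 = true := by decide +kernel

theorem f4t_nest23_c0 : allBelow (fun i => (chkNest f4tL22.S f4tL23) (0 + i)) 1755 = true := by decide +kernel

theorem f4t_nest21_c0 : allBelow (fun i => (chkNest f4tL20.S f4tL21) (0 + i)) 1755 = true := by decide +kernel

theorem f4t_nest19_c0 : allBelow (fun i => (chkNest f4tL18.S f4tL19) (0 + i)) 1755 = true := by decide +kernel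

theorem f4t_nest17_c0 : allBelow (fun i => (chkNest f4tL16.S f4tL17) (0 + i)) 1755 = true := by decide +kernel

theorem f4t_nest15_c0 : allBelow (fun i => (chkNest f4tL14.S f4tL15) (0 + i)) 1755 = true := by decide +kernel

theorem f4t_nest13_c0 : allBelow (fun i => (chkNest f4tL12.S f4tL13) (0 + i)) 1755 = true := by decide +kernel

theorem f4t_nest11_c0 : allBelow (fun i => (chkNest f4tL10.S f4tL11) (0 + i)) 1755 = true := by decide +kernel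

theorem f4t_nest9_c0 : allBelow (fun i => (chkNest f4tL8.S f4tL9) (0 + i)) 1755 = true := by decide +kernel

theorem f4t_nest7_c0 : allBelow (fun i => (chkNest f4tL6.S f4tL7) (0 + i)) 1755 = true := by decide +kernel

theorem f4t_nest5_c0 : allBelow (fun i => (chkNest f4tL4.S f4tL5) (0 + i)) 1755 = true := by decide +kernel

theorem f4t_nest3_c0 : allBelow (fun i => (chkNest f4tL2.S f4tL3) (0 + i)) 1755 = true := by decide +kernel

theorem f4t_full_c0 : allBelow (fun i => (fun v => plook 21 f4ttbl0 v != 0) (0 + i)) 1755 = true := by decide +kernel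

theorem f4t_head1 : chkHead [0] f4tL1 = true := by decide +kernel

theorem f4t_head3 : chkHead [0, 731, 19] f4tL3 = true := by decide +kernel

theorem f4t_head5 : chkHead [0, 731, 19, 1, 3] f4tL5 = true := by decide +kernel

theorem f4t_head7 : chkHead [0, 731, 19, 1, 3, 5, 7] f4tL7 = true := by decide +kernel

theorem f4t_head9 : chkHead [0, 731, 19, 1, 3, 5, 7, 11, 13] f4tL9 = true := by decide +kernel

theorem f4t_head11 : chkHead [0, 731, 19, 1, 3, 5, 7, 11, 13, 15, 21] f4tL11 = true := by decide +kernel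

theorem f4t_head13 : chkHead [0, 731, 19, 1, 3, 5, 7, 11, 13, 15, 21, 23, 27] f4tL13 = true := by decide +kernel

theorem f4t_head15 : chkHead [0, 731, 19, 1, 3, 5, 7, 11, 13, 15, 21, 23, 27, 29, 31] f4tL15 = true := by decide +kernel

theorem f4t_head18 : chkHead [0, 731, 19, 1, 3, 5, 7, 11, 13, 15, 21, 23, 27, 29, 31, 35, 39, 43] f4tL18 = true := by decide +kernel

theorem f4t_head21 : chkHead [0, 731, 19, 1, 3, 5, 7, 11, 13, 15, 21, 23, 27, 29, 31, 35, 39, 43, 47, 51, 59] f4tL21 = true := by decide +kernel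

theorem f4t_head24 : chkHead [0, 731, 19, 1, 3, 5, 7, 11, 13, 15, 21, 23, 27, 29, 31, 35, 39, 43, 47, 51, 59, 63, 67, 75] f4tL24 = true := by decide +kernel

theorem f4t_head27 : chkHead [0, 731, 19, 1, 3, 5, 7, 11, 13, 15, 21, 23, 27, 29, 31, 35, 39, 43, 47, 51, 59, 63, 67, 75, 79, 91, 93] f4tL27 = true := by decide +kernel

theorem f4t_head30 : chkHead [0, 731, 19, 1, 3, 5, 7, 11, 13, 15, 21, 23, 27, 29, 31, 35, 39, 43, 47, 51, 59, 63, 67, 75, 79, 91, 93, 95, 99, 107] f4tL30 = true := by decide +kernel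

theorem f4t_head33 : chkHead [0, 731, 19, 1, 3, 5, 7, 11, 13, 15, 21, 23, 27, 29, 31, 35, 39, 43, 47, 51, 59, 63, 67, 75, 79, 91, 93, 95, 99, 107, 111, 123, 127] f4tL33 = true := by decide +kernel

theorem f4t_head36 : chkHead [0, 731, 19, 1, 3, 5, 7, 11, 13, 15, 21, 23, 27, 29, 31, 35, 39, 43, 47, 51, 59, 63, 67, 75, 79, 91, 93, 95, 99, 107, 111, 123, 127, 131, 139, 155] f4tL36 = true := by decide +kernel

theorem f4t_head39 : chkHead [0, 731, 19, 1, 3, 5, 7, 11, 13, 15, 21, 23, 27, 29, 31, 35, 39, 43, 47, 51, 59, 63, 67, 75, 79, 91, 93, 95, 99, 107, 111, 123, 127, 131, 139, 155, 159, 171, 187] f4tL39 = true := by decide +kernel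

theorem f4t_head42 : chkHead [0, 731, 19, 1, 3, 5, 7, 11, 13, 15, 21, 23, 27, 29, 31, 35, 39, 43, 47, 51, 59, 63, 67, 75, 79, 91, 93, 95, 99, 107, 111, 123, 127, 131, 139, 155, 159, 171, 187, 219, 220, 223] f4tL42 = true := by decide +kernel

theorem f4t_head45 : chkHead [0, 731, 19, 1, 3, 5, 7, 11, 13, 15, 21, 23, 27, 29, 31, 35, 39, 43, 47, 51, 59, 63, 67, 75, 79, 91, 93, 95, 99, 107, 111, 123, 127, 131, 139, 155, 159, 171, 187, 219, 220, 223, 227, 235, 251] f4tL45 = true := by decide +kernel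

theorem f4t_head48 : chkHead [0, 731, 19, 1, 3, 5, 7, 11, 13, 15, 21, 23, 27, 29, 31, 35, 39, 43, 47, 51, 59, 63, 67, 75, 79, 91, 93, 95, 99, 107, 111, 123, 127, 131, 139, 155, 159, 171, 187, 219, 220, 223, 227, 235, 251, 283, 347, 351] f4tL48 = true := by decide +kernel

theorem f4t_head51 : chkHead [0, 731, 19, 1, 3, 5, 7, 11, 13, 15, 21, 23, 27, 29, 31, 35, 39, 43, 47, 51, 59, 63, 67, 75, 79, 91, 93, 95, 99, 107, 111, 123, 127, 131, 139, 155, 159, 171, 187, 219, 220, 223, 227, 235, 251, 283, 347, 351, 379, 475, 479] f4tL51 = true := by decide +kernel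

end Cfsg.Agent.Lib.helper10
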