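/-
A second certificate for simple primitive permutation groups: the rigidity of the base is an
abstract hypothesis, and simplicity comes from two generators whose orders are prime to the
order of the point stabiliser.  Also: two groups generated by pairs related by a graph subgroup
with trivial kernels are isomorphic.
-/
import Mathlib
import Cfsg.Agent.Lib.helper10.PermSimple

set_option autoImplicit false
set_option linter.unusedSectionVars false

namespace Cfsg.Agent.Lib.helper10

open MulAction

section Facts2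

variable {n : ℕ}

/-- The facts given by a verified chain, for an abstract rigidity statement of the base. -/
theorem chain_facts2 (L : Lvl n) (rest : List (Lvl n)) (hok : ChainOK L.S [] (L :: rest))
    (hR : ∀ g ∈ L.S.H, (∀ x : Fin n, (x : ℕ) ∈ (L :: rest).map Lvl.b → g x = x) → g = 1)
    (hb : L.b < n) :
    Nat.card L.S.H = ((L :: rest).map orbCard).prod ∧
    Nat.card (Hs rest) = (rest.map orbCard).prod ∧
    Hs rest ≤ L.S.H ∧
    (∀ g ∈ Hs rest, g ⟨L.b, hb⟩ = ⟨L.b, hb⟩) ∧
    (∀ h ∈ L.S.H, h ⟨L.b, hb⟩ = ⟨L.b, hb⟩ → h ∈ Hs rest) ∧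
    (∀ v : Fin n, plook L.W L.tbl v ≠ 0 → ∃ h ∈ L.S.H, h ⟨L.b, hb⟩ = v) := by
  obtain ⟨h1, -, -, -, h5⟩ := chain_main L.S.H (L :: rest) L.S [] hok le_rfl
    (fun g hg hfix => hR g hg (fun x hx => hfix x (by simpa using hx)))
  obtain ⟨h6, h7, h8, -, -⟩ := chain_main L.S.H rest L.S ([] ++ [L.b]) hok.2.2.2 le_rfl
    (fun g hg hfix => hR g hg (fun x hx => hfix x (by simpa using hx)))
  obtain ⟨h9, h10⟩ := h5 L rest rfl hb
  exact ⟨h1, h6, h8, fun g hg => h7 g hg _ (by simp), fun h hh => (h9 h hh).2, h10⟩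

/-- A primitive permutation group of degree `n` and order `n * s` generated by two elements
whose orders are prime to `s` is simple. -/
theorem simple_of_coprime_gens (G : Subgroup (Equiv.Perm (Fin n))) (a b : Equiv.Perm (Fin n))
    (hG : G = Subgroup.closure {a, b}) [hprim : IsPreprimitive G (Fin n)]
    (s : ℕ) (hcard : Nat.card G = n * s) (hs : 0 < s) (hn : 1 < n)
    (ha : Nat.Coprime (orderOf a) s) (hb : Nat.Coprime (orderOf b) s) : IsSimpleGroup G := by
  classical
  have haG : a ∈ G := by rw [hG]; exact Subgroup.subset_closure (by simp)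
  have hbG : b ∈ G := by rw [hG]; exact Subgroup.subset_closure (by simp)
  have hcpos : 0 < Nat.card G := by
    rw [hcard]
    exact Nat.mul_pos (by omega) hs
  have hfin : Finite G := Nat.finite_of_card_ne_zero hcpos.ne'
  have hnpos : 0 < n := by omega
  have hne : Nontrivial G := by
    apply Finite.one_lt_card_iff_nontrivial.mp
    rw [hcard]
    calc 1 < n := hn
      _ = n * 1 := (mul_one n).symm
      _ ≤ n * s := Nat.mul_le_mul_left n hs
  have hcardFin : Nat.card (Fin n) = n := by simp
  refine IsSimpleGroup.mk (fun N hN => ?_)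
  by_cases hbot : N = ⊥
  · exact Or.inl hbot
  right
  have htr : IsPretransitive N (Fin n) := pretransitive_of_normal_prim N hbot
  let x0 : Fin n := ⟨0, hnpos⟩
  have hNcard : Nat.card N = Nat.card (stabilizer N x0) * n := by
    have h1 := Subgroup.card_mul_index (stabilizer N x0)
    rw [index_stabilizer_of_transitive, hcardFin] at h1
    exact h1.symm
  have hidx : Nat.card (stabilizer N x0) * N.index = s := by
    have h1 := Subgroup.card_mul_index N
    rw [hNcard, hcard] at h1
    have h2 : n * (Nat.card (stabilizer N x0) * N.index) = n * s := by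
      rw [← h1]; ring
    exact Nat.eq_of_mul_eq_mul_left hnpos h2
  have hdvd : N.index ∣ s := Dvd.intro_left _ hidx
  have haN : (⟨a, haG⟩ : G) ∈ N := by
    apply mem_of_coprime_index
    have h1 : orderOf (⟨a, haG⟩ : G) = orderOf a := Subgroup.orderOf_mk a haG
    rw [h1]
    exact Nat.Coprime.coprime_dvd_right hdvd ha
  have hbN : (⟨b, hbG⟩ : G) ∈ N := by
    apply mem_of_coprime_index
    have h1 : orderOf (⟨b, hbG⟩ : G) = orderOf b := Subgroup.orderOf_mk b hbG
    rw [h1]
    exact Nat.Coprime.coprime_dvd_right hdvd hb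
  rw [Subgroup.eq_top_iff']
  intro g
  have hle : Subgroup.closure {a, b} ≤ N.map G.subtype := by
    rw [Subgroup.closure_le]
    rintro x (rfl | rfl)
    · exact ⟨⟨x, haG⟩, haN, rfl⟩
    · exact ⟨⟨x, hbG⟩, hbN, rfl⟩
  have hg : (g : Equiv.Perm (Fin n)) ∈ N.map G.subtype := hle (hG ▸ g.2)
  obtain ⟨y, hy, hyg⟩ := hg
  have : y = g := Subtype.ext hyg
  rwa [this] at hy

theorem LetterSys.orderOf_dvd (S : LetterSys n) (c k : ℕ)
    (h1 : ∀ x, x < n → pact S.act (List.replicate k c) x = x) : orderOf (S.L c) ∣ k := by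
  apply orderOf_dvd_of_pow_eq_one
  rw [← S.pperm_replicate]
  ext x
  rw [S.pperm_apply, h1 x x.2]
  rfl

/-- The certificate of a simple primitive permutation group with an abstract rigidity
statement: a verified chain, a certificate for the orbits of the point stabiliser with the
arithmetic check for primitivity, and two generators whose orders are prime to the order `s`
of the point stabiliser. -/
theorem group_cert2 (L L1 : Lvl n) (rest : List (Lvl n))
    (hok : ChainOK L.S [] (L :: L1 :: rest))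
    (hR : ∀ g ∈ L.S.H, (∀ x : Fin n, (x : ℕ) ∈ (L :: L1 :: rest).map Lvl.b → g x = x) → g = 1)
    (hg4 : L.S.g = 4) (hb : L.b < n)
    (hfull : ∀ v, v < n → plook L.W L.tbl v ≠ 0)
    (roots sizes : List ℕ) (cw ctab q W otab : ℕ)
    (horb : ∀ v, v < n → chkOrbV L1.S.act roots cw ctab q W otab v = true)
    (hroots : ∀ j, roots.getD j 0 < n)
    (hcls : ∀ v, v < n → plook cw ctab v < roots.length)
    (hcls0 : ∀ v, v < n → (plook cw ctab v = 0 ↔ v = L.b))
    (hsizes : ∀ j, j < roots.length →
      cntBelow (fun v => plook cw ctab v == j) n = sizes.getD j 0)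
    (harith : chkArith (fun j => sizes.getD j 0) n roots.length = true)
    (s oa ob : ℕ) (hs : 0 < s) (hn : 1 < n)
    (hcard : ((L :: L1 :: rest).map orbCard).prod = n * s)
    (hoa : Nat.Coprime oa s) (hob : Nat.Coprime ob s)
    (hap : ∀ x, x < n → pact L.S.act (List.replicate oa 0) x = x)
    (hbp : ∀ x, x < n → pact L.S.act (List.replicate ob 2) x = x) :
    IsSimpleGroup L.S.H ∧ Nat.card L.S.H = n * s ∧ IsPretransitive L.S.H (Fin n) ∧
      Nat.card (stabilizer L.S.H (⟨L.b, hb⟩ : Fin n)) = s ∧
      L1.S.H ≤ L.S.H ∧ (∀ g ∈ L1.S.H, g ⟨L.b, hb⟩ = ⟨L.b, hb⟩) := by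
  obtain ⟨h1, -, hKH, hK, hstab, hreach⟩ := chain_facts2 L (L1 :: rest) hok hR hb
  rw [hcard] at h1
  have htr : IsPretransitive L.S.H (Fin n) :=
    pretransitive_of_reach L.S.H ⟨L.b, hb⟩ (fun v => hreach v (hfull v v.2))
  have hnpos : 0 < n := lt_of_le_of_lt (Nat.zero_le _) hb
  have hstabcard : Nat.card (stabilizer L.S.H (⟨L.b, hb⟩ : Fin n)) = s := by
    have h2 := Subgroup.card_mul_index (stabilizer L.S.H (⟨L.b, hb⟩ : Fin n))
    rw [index_stabilizer_of_transitive, h1] at h2
    have h3 : Nat.card (Fin n) = n := by simp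
    rw [h3, mul_comm] at h2
    exact Nat.eq_of_mul_eq_mul_left hnpos h2
  have hprim : IsPreprimitive L.S.H (Fin n) := by
    apply prim_of_classes L.S.H (Hs (L1 :: rest)) ⟨L.b, hb⟩ hKH hK roots.length
      (fun v => plook cw ctab v) (fun j => ⟨roots.getD j 0, hroots j⟩) (fun v => hcls v v.2)
      (fun v => chkOrbV_spec L1.S roots cw ctab q W otab v (horb v v.2) (hroots _))
      (fun v => by
        rw [hcls0 v v.2]
        exact ⟨fun h => Fin.ext h, fun h => congrArg Fin.val h⟩)
      (fun j => sizes.getD j 0) _ harith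
    intro j hj
    rw [← hsizes j hj, ← card_filter_fin_eq_cntBelow]
    congr 1
    ext v
    simp
  have ha : Nat.Coprime (orderOf (L.S.L 0)) s :=
    Nat.Coprime.coprime_dvd_left (L.S.orderOf_dvd 0 oa hap) hoa
  have hb' : Nat.Coprime (orderOf (L.S.L 2)) s :=
    Nat.Coprime.coprime_dvd_left (L.S.orderOf_dvd 2 ob hbp) hob
  have hsimple := simple_of_coprime_gens L.S.H (L.S.L 0) (L.S.L 2) (L.S.H_eq_closure_pair hg4)
    s h1 hs hn ha hb'
  exact ⟨hsimple, h1, htr, hstabcard, hKH, hK⟩

end Facts2

section Graph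

variable {A B : Type*} [Group A] [Group B]

/-- A subgroup of a product whose two projections have trivial kernels is the graph of an
isomorphism between its projections. -/
theorem equiv_of_graph (D : Subgroup (A × B))
    (h1 : ∀ b : B, ((1 : A), b) ∈ D → b = 1) (h2 : ∀ a : A, (a, (1 : B)) ∈ D → a = 1) :
    Nonempty (D.map (MonoidHom.fst A B) ≃* D.map (MonoidHom.snd A B)) := by
  let f : D →* D.map (MonoidHom.fst A B) := (MonoidHom.fst A B).subgroupMap D
  let φ : D →* D.map (MonoidHom.snd A B) := (MonoidHom.snd A B).subgroupMap D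
  have hf_inj : Function.Injective f := by
    intro d1 d2 h
    have h' : (d1 : A × B).1 = (d2 : A × B).1 := congrArg Subtype.val h
    have h3 : ((1 : A), (d1 : A × B).2⁻¹ * (d2 : A × B).2) ∈ D := by
      have := D.mul_mem (D.inv_mem d1.2) d2.2
      have e : (d1 : A × B)⁻¹ * (d2 : A × B) = ((1 : A), (d1 : A × B).2⁻¹ * (d2 : A × B).2) := by
        ext
        · simp [h']
        · simp
      rwa [e] at this
    exact Subtype.ext (Prod.ext h' (inv_mul_eq_one.mp (h1 _ h3)))
  have hφ_inj : Function.Injective φ := by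
    intro d1 d2 h
    have h' : (d1 : A × B).2 = (d2 : A × B).2 := congrArg Subtype.val h
    have h3 : ((d1 : A × B).1⁻¹ * (d2 : A × B).1, (1 : B)) ∈ D := by
      have := D.mul_mem (D.inv_mem d1.2) d2.2
      have e : (d1 : A × B)⁻¹ * (d2 : A × B) = ((d1 : A × B).1⁻¹ * (d2 : A × B).1, (1 : B)) := by
        ext
        · simp
        · simp [h']
      rwa [e] at this
    exact Subtype.ext (Prod.ext (inv_mul_eq_one.mp (h2 _ h3)) h')
  exact ⟨(MulEquiv.ofBijective f ⟨hf_inj, MonoidHom.subgroupMap_surjective _ _⟩).symm.trans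
    (MulEquiv.ofBijective φ ⟨hφ_inj, MonoidHom.subgroupMap_surjective _ _⟩)⟩

/-- Two groups generated by pairs, related by a graph subgroup with trivial kernels, are
isomorphic. -/
theorem equiv_of_pairs (a1 a2 : A) (b1 b2 : B)
    (h1 : ∀ b : B, ((1 : A), b) ∈ Subgroup.closure ({(a1, b1), (a2, b2)} : Set (A × B)) → b = 1)
    (h2 : ∀ a : A, (a, (1 : B)) ∈ Subgroup.closure ({(a1, b1), (a2, b2)} : Set (A × B)) → a = 1) :
    Nonempty (Subgroup.closure ({a1, a2} : Set A) ≃* Subgroup.closure ({b1, b2} : Set B)) := by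
  obtain ⟨e⟩ := equiv_of_graph _ h1 h2
  have e1 : (Subgroup.closure ({(a1, b1), (a2, b2)} : Set (A × B))).map (MonoidHom.fst A B)
      = Subgroup.closure ({a1, a2} : Set A) := by
    rw [MonoidHom.map_closure, Set.image_pair]
    rfl
  have e2 : (Subgroup.closure ({(a1, b1), (a2, b2)} : Set (A × B))).map (MonoidHom.snd A B)
      = Subgroup.closure ({b1, b2} : Set B) := by
    rw [MonoidHom.map_closure, Set.image_pair]
    rfl
  exact ⟨(MulEquiv.subgroupCongr e1).symm.trans (e.trans (MulEquiv.subgroupCongr e2))⟩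

end Graph

end Cfsg.Agent.Lib.helper10
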