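import Mathlib
import Cfsg.Agent.Lib.helper10.PermCert2
import Cfsg.Agent.Lib.helper10.XorRigid
import Cfsg.Agent.Lib.helper10.F4tChk0
import Cfsg.Agent.Lib.helper10.F4tChk1
import Cfsg.Agent.Lib.helper10.F4tChk2

set_option autoImplicit false
set_option maxRecDepth 100000

namespace Cfsg.Agent.Lib.helper10

theorem f4t_nest0 : ∀ x, 0 ≤ x → x < 1755 → (chkNest f4tL0.S f4tL0) x = true := by
  intro x hlo hx
  exact allFrom_sound (f := chkNest f4tL0.S f4tL0) f4t_nest0_c0 x (by omega) (by omega)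

theorem f4t_nest0' : ∀ x, x < 1755 → chkNest f4tL0.S f4tL0 x = true := fun x hx => f4t_nest0 x (Nat.zero_le _) hx

theorem f4t_vert0 : ∀ x, 0 ≤ x → x < 1755 → (chkVertex f4tL0 [f4tL1, f4tL2, f4tL3, f4tL4, f4tL5, f4tL6, f4tL7, f4tL8, f4tL9, f4tL10, f4tL11, f4tL12, f4tL13, f4tL14, f4tL15, f4tL16, f4tL17, f4tL18, f4tL19, f4tL20, f4tL21, f4tL22, f4tL23, f4tL24, f4tL25, f4tL26, f4tL27, f4tL28, f4tL29, f4tL30, f4tL31, f4tL32, f4tL33, f4tL34, f4tL35, f4tL36, f4tL37, f4tL38, f4tL39, f4tL40, f4tL41, f4tL42, f4tL43, f4tL44, f4tL45, f4tL46, f4tL47, f4tL48, f4tL49, f4tL50, f4tL51]) x = true := by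
  intro x hlo hx
  by_cases h0 : x < 75
  · exact allFrom_sound (f := chkVertex f4tL0 [f4tL1, f4tL2, f4tL3, f4tL4, f4tL5, f4tL6, f4tL7, f4tL8, f4tL9, f4tL10, f4tL11, f4tL12, f4tL13, f4tL14, f4tL15, f4tL16, f4tL17, f4tL18, f4tL19, f4tL20, f4tL21, f4tL22, f4tL23, f4tL24, f4tL25, f4tL26, f4tL27, f4tL28, f4tL29, f4tL30, f4tL31, f4tL32, f4tL33, f4tL34, f4tL35, f4tL36, f4tL37, f4tL38, f4tL39, f4tL40, f4tL41, f4tL42, f4tL43, f4tL44, f4tL45, f4tL46, f4tL47, f4tL48, f4tL49, f4tL50, f4tL51]) f4t_vert0_c0 x (by omega) (by omega)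
  by_cases h1 : x < 150
  · exact allFrom_sound (f := chkVertex f4tL0 [f4tL1, f4tL2, f4tL3, f4tL4, f4tL5, f4tL6, f4tL7, f4tL8, f4tL9, f4tL10, f4tL11, f4tL12, f4tL13, f4tL14, f4tL15, f4tL16, f4tL17, f4tL18, f4tL19, f4tL20, f4tL21, f4tL22, f4tL23, f4tL24, f4tL25, f4tL26, f4tL27, f4tL28, f4tL29, f4tL30, f4tL31, f4tL32, f4tL33, f4tL34, f4tL35, f4tL36, f4tL37, f4tL38, f4tL39, f4tL40, f4tL41, f4tL42, f4tL43, f4tL44, f4tL45, f4tL46, f4tL47, f4tL48, f4tL49, f4tL50, f4tL51]) f4t_vert0_c1 x (by omega) (by omega)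
  by_cases h2 : x < 225
  · exact allFrom_sound (f := chkVertex f4tL0 [f4tL1, f4tL2, f4tL3, f4tL4, f4tL5, f4tL6, f4tL7, f4tL8, f4tL9, f4tL10, f4tL11, f4tL12, f4tL13, f4tL14, f4tL15, f4tL16, f4tL17, f4tL18, f4tL19, f4tL20, f4tL21, f4tL22, f4tL23, f4tL24, f4tL25, f4tL26, f4tL27, f4tL28, f4tL29, f4tL30, f4tL31, f4tL32, f4tL33, f4tL34, f4tL35, f4tL36, f4tL37, f4tL38, f4tL39, f4tL40, f4tL41, f4tL42, f4tL43, f4tL44, f4tL45, f4tL46, f4tL47, f4tL48, f4tL49, f4tL50, f4tL51]) f4t_vert0_c2 x (by omega) (by omega)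
  by_cases h3 : x < 300
  · exact allFrom_sound (f := chkVertex f4tL0 [f4tL1, f4tL2, f4tL3, f4tL4, f4tL5, f4tL6, f4tL7, f4tL8, f4tL9, f4tL10, f4tL11, f4tL12, f4tL13, f4tL14, f4tL15, f4tL16, f4tL17, f4tL18, f4tL19, f4tL20, f4tL21, f4tL22, f4tL23, f4tL24, f4tL25, f4tL26, f4tL27, f4tL28, f4tL29, f4tL30, f4tL31, f4tL32, f4tL33, f4tL34, f4tL35, f4tL36, f4tL37, f4tL38, f4tL39, f4tL40, f4tL41, f4tL42, f4tL43, f4tL44, f4tL45, f4tL46, f4tL47, f4tL48, f4tL49, f4tL50, f4tL51]) f4t_vert0_c3 x (by omega) (by omega)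
  by_cases h4 : x < 375
  · exact allFrom_sound (f := chkVertex f4tL0 [f4tL1, f4tL2, f4tL3, f4tL4, f4tL5, f4tL6, f4tL7, f4tL8, f4tL9, f4tL10, f4tL11, f4tL12, f4tL13, f4tL14, f4tL15, f4tL16, f4tL17, f4tL18, f4tL19, f4tL20, f4tL21, f4tL22, f4tL23, f4tL24, f4tL25, f4tL26, f4tL27, f4tL28, f4tL29, f4tL30, f4tL31, f4tL32, f4tL33, f4tL34, f4tL35, f4tL36, f4tL37, f4tL38, f4tL39, f4tL40, f4tL41, f4tL42, f4tL43, f4tL44, f4tL45, f4tL46, f4tL47, f4tL48, f4tL49, f4tL50, f4tL51]) f4t_vert0_c4 x (by omega) (by omega)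
  by_cases h5 : x < 450
  · exact allFrom_sound (f := chkVertex f4tL0 [f4tL1, f4tL2, f4tL3, f4tL4, f4tL5, f4tL6, f4tL7, f4tL8, f4tL9, f4tL10, f4tL11, f4tL12, f4tL13, f4tL14, f4tL15, f4tL16, f4tL17, f4tL18, f4tL19, f4tL20, f4tL21, f4tL22, f4tL23, f4tL24, f4tL25, f4tL26, f4tL27, f4tL28, f4tL29, f4tL30, f4tL31, f4tL32, f4tL33, f4tL34, f4tL35, f4tL36, f4tL37, f4tL38, f4tL39, f4tL40, f4tL41, f4tL42, f4tL43, f4tL44, f4tL45, f4tL46, f4tL47, f4tL48, f4tL49, f4tL50, f4tL51]) f4t_vert0_c5 x (by omega) (by omega)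
  by_cases h6 : x < 525
  · exact allFrom_sound (f := chkVertex f4tL0 [f4tL1, f4tL2, f4tL3, f4tL4, f4tL5, f4tL6, f4tL7, f4tL8, f4tL9, f4tL10, f4tL11, f4tL12, f4tL13, f4tL14, f4tL15, f4tL16, f4tL17, f4tL18, f4tL19, f4tL20, f4tL21, f4tL22, f4tL23, f4tL24, f4tL25, f4tL26, f4tL27, f4tL28, f4tL29, f4tL30, f4tL31, f4tL32, f4tL33, f4tL34, f4tL35, f4tL36, f4tL37, f4tL38, f4tL39, f4tL40, f4tL41, f4tL42, f4tL43, f4tL44, f4tL45, f4tL46, f4tL47, f4tL48, f4tL49, f4tL50, f4tL51]) f4t_vert0_c6 x (by omega) (by omega)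
  by_cases h7 : x < 600
  · exact allFrom_sound (f := chkVertex f4tL0 [f4tL1, f4tL2, f4tL3, f4tL4, f4tL5, f4tL6, f4tL7, f4tL8, f4tL9, f4tL10, f4tL11, f4tL12, f4tL13, f4tL14, f4tL15, f4tL16, f4tL17, f4tL18, f4tL19, f4tL20, f4tL21, f4tL22, f4tL23, f4tL24, f4tL25, f4tL26, f4tL27, f4tL28, f4tL29, f4tL30, f4tL31, f4tL32, f4tL33, f4tL34, f4tL35, f4tL36, f4tL37, f4tL38, f4tL39, f4tL40, f4tL41, f4tL42, f4tL43, f4tL44, f4tL45, f4tL46, f4tL47, f4tL48, f4tL49, f4tL50, f4tL51]) f4t_vert0_c7 x (by omega) (by omega)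
  by_cases h8 : x < 675
  · exact allFrom_sound (f := chkVertex f4tL0 [f4tL1, f4tL2, f4tL3, f4tL4, f4tL5, f4tL6, f4tL7, f4tL8, f4tL9, f4tL10, f4tL11, f4tL12, f4tL13, f4tL14, f4tL15, f4tL16, f4tL17, f4tL18, f4tL19, f4tL20, f4tL21, f4tL22, f4tL23, f4tL24, f4tL25, f4tL26, f4tL27, f4tL28, f4tL29, f4tL30, f4tL31, f4tL32, f4tL33, f4tL34, f4tL35, f4tL36, f4tL37, f4tL38, f4tL39, f4tL40, f4tL41, f4tL42, f4tL43, f4tL44, f4tL45, f4tL46, f4tL47, f4tL48, f4tL49, f4tL50, f4tL51]) f4t_vert0_c8 x (by omega) (by omega)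
  by_cases h9 : x < 750
  · exact allFrom_sound (f := chkVertex f4tL0 [f4tL1, f4tL2, f4tL3, f4tL4, f4tL5, f4tL6, f4tL7, f4tL8, f4tL9, f4tL10, f4tL11, f4tL12, f4tL13, f4tL14, f4tL15, f4tL16, f4tL17, f4tL18, f4tL19, f4tL20, f4tL21, f4tL22, f4tL23, f4tL24, f4tL25, f4tL26, f4tL27, f4tL28, f4tL29, f4tL30, f4tL31, f4tL32, f4tL33, f4tL34, f4tL35, f4tL36, f4tL37, f4tL38, f4tL39, f4tL40, f4tL41, f4tL42, f4tL43, f4tL44, f4tL45, f4tL46, f4tL47, f4tL48, f4tL49, f4tL50, f4tL51]) f4t_vert0_c9 x (by omega) (by omega)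
  by_cases h10 : x < 825
  · exact allFrom_sound (f := chkVertex f4tL0 [f4tL1, f4tL2, f4tL3, f4tL4, f4tL5, f4tL6, f4tL7, f4tL8, f4tL9, f4tL10, f4tL11, f4tL12, f4tL13, f4tL14, f4tL15, f4tL16, f4tL17, f4tL18, f4tL19, f4tL20, f4tL21, f4tL22, f4tL23, f4tL24, f4tL25, f4tL26, f4tL27, f4tL28, f4tL29, f4tL30, f4tL31, f4tL32, f4tL33, f4tL34, f4tL35, f4tL36, f4tL37, f4tL38, f4tL39, f4tL40, f4tL41, f4tL42, f4tL43, f4tL44, f4tL45, f4tL46, f4tL47, f4tL48, f4tL49, f4tL50, f4tL51]) f4t_vert0_c10 x (by omega) (by omega)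
  by_cases h11 : x < 900
  · exact allFrom_sound (f := chkVertex f4tL0 [f4tL1, f4tL2, f4tL3, f4tL4, f4tL5, f4tL6, f4tL7, f4tL8, f4tL9, f4tL10, f4tL11, f4tL12, f4tL13, f4tL14, f4tL15, f4tL16, f4tL17, f4tL18, f4tL19, f4tL20, f4tL21, f4tL22, f4tL23, f4tL24, f4tL25, f4tL26, f4tL27, f4tL28, f4tL29, f4tL30, f4tL31, f4tL32, f4tL33, f4tL34, f4tL35, f4tL36, f4tL37, f4tL38, f4tL39, f4tL40, f4tL41, f4tL42, f4tL43, f4tL44, f4tL45, f4tL46, f4tL47, f4tL48, f4tL49, f4tL50, f4tL51]) f4t_vert0_c11 x (by omega) (by omega)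
  by_cases h12 : x < 975
  · exact allFrom_sound (f := chkVertex f4tL0 [f4tL1, f4tL2, f4tL3, f4tL4, f4tL5, f4tL6, f4tL7, f4tL8, f4tL9, f4tL10, f4tL11, f4tL12, f4tL13, f4tL14, f4tL15, f4tL16, f4tL17, f4tL18, f4tL19, f4tL20, f4tL21, f4tL22, f4tL23, f4tL24, f4tL25, f4tL26, f4tL27, f4tL28, f4tL29, f4tL30, f4tL31, f4tL32, f4tL33, f4tL34, f4tL35, f4tL36, f4tL37, f4tL38, f4tL39, f4tL40, f4tL41, f4tL42, f4tL43, f4tL44, f4tL45, f4tL46, f4tL47, f4tL48, f4tL49, f4tL50, f4tL51]) f4t_vert0_c12 x (by omega) (by omega)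
  by_cases h13 : x < 1050
  · exact allFrom_sound (f := chkVertex f4tL0 [f4tL1, f4tL2, f4tL3, f4tL4, f4tL5, f4tL6, f4tL7, f4tL8, f4tL9, f4tL10, f4tL11, f4tL12, f4tL13, f4tL14, f4tL15, f4tL16, f4tL17, f4tL18, f4tL19, f4tL20, f4tL21, f4tL22, f4tL23, f4tL24, f4tL25, f4tL26, f4tL27, f4tL28, f4tL29, f4tL30, f4tL31, f4tL32, f4tL33, f4tL34, f4tL35, f4tL36, f4tL37, f4tL38, f4tL39, f4tL40, f4tL41, f4tL42, f4tL43, f4tL44, f4tL45, f4tL46, f4tL47, f4tL48, f4tL49, f4tL50, f4tL51]) f4t_vert0_c13 x (by omega) (by omega)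
  by_cases h14 : x < 1125
  · exact allFrom_sound (f := chkVertex f4tL0 [f4tL1, f4tL2, f4tL3, f4tL4, f4tL5, f4tL6, f4tL7, f4tL8, f4tL9, f4tL10, f4tL11, f4tL12, f4tL13, f4tL14, f4tL15, f4tL16, f4tL17, f4tL18, f4tL19, f4tL20, f4tL21, f4tL22, f4tL23, f4tL24, f4tL25, f4tL26, f4tL27, f4tL28, f4tL29, f4tL30, f4tL31, f4tL32, f4tL33, f4tL34, f4tL35, f4tL36, f4tL37, f4tL38, f4tL39, f4tL40, f4tL41, f4tL42, f4tL43, f4tL44, f4tL45, f4tL46, f4tL47, f4tL48, f4tL49, f4tL50, f4tL51]) f4t_vert0_c14 x (by omega) (by omega)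
  by_cases h15 : x < 1200
  · exact allFrom_sound (f := chkVertex f4tL0 [f4tL1, f4tL2, f4tL3, f4tL4, f4tL5, f4tL6, f4tL7, f4tL8, f4tL9, f4tL10, f4tL11, f4tL12, f4tL13, f4tL14, f4tL15, f4tL16, f4tL17, f4tL18, f4tL19, f4tL20, f4tL21, f4tL22, f4tL23, f4tL24, f4tL25, f4tL26, f4tL27, f4tL28, f4tL29, f4tL30, f4tL31, f4tL32, f4tL33, f4tL34, f4tL35, f4tL36, f4tL37, f4tL38, f4tL39, f4tL40, f4tL41, f4tL42, f4tL43, f4tL44, f4tL45, f4tL46, f4tL47, f4tL48, f4tL49, f4tL50, f4tL51]) f4t_vert0_c15 x (by omega) (by omega)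
  by_cases h16 : x < 1275
  · exact allFrom_sound (f := chkVertex f4tL0 [f4tL1, f4tL2, f4tL3, f4tL4, f4tL5, f4tL6, f4tL7, f4tL8, f4tL9, f4tL10, f4tL11, f4tL12, f4tL13, f4tL14, f4tL15, f4tL16, f4tL17, f4tL18, f4tL19, f4tL20, f4tL21, f4tL22, f4tL23, f4tL24, f4tL25, f4tL26, f4tL27, f4tL28, f4tL29, f4tL30, f4tL31, f4tL32, f4tL33, f4tL34, f4tL35, f4tL36, f4tL37, f4tL38, f4tL39, f4tL40, f4tL41, f4tL42, f4tL43, f4tL44, f4tL45, f4tL46, f4tL47, f4tL48, f4tL49, f4tL50, f4tL51]) f4t_vert0_c16 x (by omega) (by omega)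
  by_cases h17 : x < 1350
  · exact allFrom_sound (f := chkVertex f4tL0 [f4tL1, f4tL2, f4tL3, f4tL4, f4tL5, f4tL6, f4tL7, f4tL8, f4tL9, f4tL10, f4tL11, f4tL12, f4tL13, f4tL14, f4tL15, f4tL16, f4tL17, f4tL18, f4tL19, f4tL20, f4tL21, f4tL22, f4tL23, f4tL24, f4tL25, f4tL26, f4tL27, f4tL28, f4tL29, f4tL30, f4tL31, f4tL32, f4tL33, f4tL34, f4tL35, f4tL36, f4tL37, f4tL38, f4tL39, f4tL40, f4tL41, f4tL42, f4tL43, f4tL44, f4tL45, f4tL46, f4tL47, f4tL48, f4tL49, f4tL50, f4tL51]) f4t_vert0_c17 x (by omega) (by omega)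
  by_cases h18 : x < 1425
  · exact allFrom_sound (f := chkVertex f4tL0 [f4tL1, f4tL2, f4tL3, f4tL4, f4tL5, f4tL6, f4tL7, f4tL8, f4tL9, f4tL10, f4tL11, f4tL12, f4tL13, f4tL14, f4tL15, f4tL16, f4tL17, f4tL18, f4tL19, f4tL20, f4tL21, f4tL22, f4tL23, f4tL24, f4tL25, f4tL26, f4tL27, f4tL28, f4tL29, f4tL30, f4tL31, f4tL32, f4tL33, f4tL34, f4tL35, f4tL36, f4tL37, f4tL38, f4tL39, f4tL40, f4tL41, f4tL42, f4tL43, f4tL44, f4tL45, f4tL46, f4tL47, f4tL48, f4tL49, f4tL50, f4tL51]) f4t_vert0_c18 x (by omega) (by omega)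
  by_cases h19 : x < 1500
  · exact allFrom_sound (f := chkVertex f4tL0 [f4tL1, f4tL2, f4tL3, f4tL4, f4tL5, f4tL6, f4tL7, f4tL8, f4tL9, f4tL10, f4tL11, f4tL12, f4tL13, f4tL14, f4tL15, f4tL16, f4tL17, f4tL18, f4tL19, f4tL20, f4tL21, f4tL22, f4tL23, f4tL24, f4tL25, f4tL26, f4tL27, f4tL28, f4tL29, f4tL30, f4tL31, f4tL32, f4tL33, f4tL34, f4tL35, f4tL36, f4tL37, f4tL38, f4tL39, f4tL40, f4tL41, f4tL42, f4tL43, f4tL44, f4tL45, f4tL46, f4tL47, f4tL48, f4tL49, f4tL50, f4tL51]) f4t_vert0_c19 x (by omega) (by omega)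
  by_cases h20 : x < 1575
  · exact allFrom_sound (f := chkVertex f4tL0 [f4tL1, f4tL2, f4tL3, f4tL4, f4tL5, f4tL6, f4tL7, f4tL8, f4tL9, f4tL10, f4tL11, f4tL12, f4tL13, f4tL14, f4tL15, f4tL16, f4tL17, f4tL18, f4tL19, f4tL20, f4tL21, f4tL22, f4tL23, f4tL24, f4tL25, f4tL26, f4tL27, f4tL28, f4tL29, f4tL30, f4tL31, f4tL32, f4tL33, f4tL34, f4tL35, f4tL36, f4tL37, f4tL38, f4tL39, f4tL40, f4tL41, f4tL42, f4tL43, f4tL44, f4tL45, f4tL46, f4tL47, f4tL48, f4tL49, f4tL50, f4tL51]) f4t_vert0_c20 x (by omega) (by omega)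
  by_cases h21 : x < 1650
  · exact allFrom_sound (f := chkVertex f4tL0 [f4tL1, f4tL2, f4tL3, f4tL4, f4tL5, f4tL6, f4tL7, f4tL8, f4tL9, f4tL10, f4tL11, f4tL12, f4tL13, f4tL14, f4tL15, f4tL16, f4tL17, f4tL18, f4tL19, f4tL20, f4tL21, f4tL22, f4tL23, f4tL24, f4tL25, f4tL26, f4tL27, f4tL28, f4tL29, f4tL30, f4tL31, f4tL32, f4tL33, f4tL34, f4tL35, f4tL36, f4tL37, f4tL38, f4tL39, f4tL40, f4tL41, f4tL42, f4tL43, f4tL44, f4tL45, f4tL46, f4tL47, f4tL48, f4tL49, f4tL50, f4tL51]) f4t_vert0_c21 x (by omega) (by omega)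
  by_cases h22 : x < 1725
  · exact allFrom_sound (f := chkVertex f4tL0 [f4tL1, f4tL2, f4tL3, f4tL4, f4tL5, f4tL6, f4tL7, f4tL8, f4tL9, f4tL10, f4tL11, f4tL12, f4tL13, f4tL14, f4tL15, f4tL16, f4tL17, f4tL18, f4tL19, f4tL20, f4tL21, f4tL22, f4tL23, f4tL24, f4tL25, f4tL26, f4tL27, f4tL28, f4tL29, f4tL30, f4tL31, f4tL32, f4tL33, f4tL34, f4tL35, f4tL36, f4tL37, f4tL38, f4tL39, f4tL40, f4tL41, f4tL42, f4tL43, f4tL44, f4tL45, f4tL46, f4tL47, f4tL48, f4tL49, f4tL50, f4tL51]) f4t_vert0_c22 x (by omega) (by omega)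
  exact allFrom_sound (f := chkVertex f4tL0 [f4tL1, f4tL2, f4tL3, f4tL4, f4tL5, f4tL6, f4tL7, f4tL8, f4tL9, f4tL10, f4tL11, f4tL12, f4tL13, f4tL14, f4tL15, f4tL16, f4tL17, f4tL18, f4tL19, f4tL20, f4tL21, f4tL22, f4tL23, f4tL24, f4tL25, f4tL26, f4tL27, f4tL28, f4tL29, f4tL30, f4tL31, f4tL32, f4tL33, f4tL34, f4tL35, f4tL36, f4tL37, f4tL38, f4tL39, f4tL40, f4tL41, f4tL42, f4tL43, f4tL44, f4tL45, f4tL46, f4tL47, f4tL48, f4tL49, f4tL50, f4tL51]) f4t_vert0_c23 x (by omega) (by omega)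

theorem f4t_vert0' : ∀ v, v < 1755 → chkVertex f4tL0 [f4tL1, f4tL2, f4tL3, f4tL4, f4tL5, f4tL6, f4tL7, f4tL8, f4tL9, f4tL10, f4tL11, f4tL12, f4tL13, f4tL14, f4tL15, f4tL16, f4tL17, f4tL18, f4tL19, f4tL20, f4tL21, f4tL22, f4tL23, f4tL24, f4tL25, f4tL26, f4tL27, f4tL28, f4tL29, f4tL30, f4tL31, f4tL32, f4tL33, f4tL34, f4tL35, f4tL36, f4tL37, f4tL38, f4tL39, f4tL40, f4tL41, f4tL42, f4tL43, f4tL44, f4tL45, f4tL46, f4tL47, f4tL48, f4tL49, f4tL50, f4tL51] v = true := fun x hx => f4t_vert0 x (Nat.zero_le _) hx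

theorem f4t_nest1 : ∀ x, 0 ≤ x → x < 1755 → (chkNest f4tL0.S f4tL1) x = true := by
  intro x hlo hx
  exact allFrom_sound (f := chkNest f4tL0.S f4tL1) f4t_nest1_c0 x (by omega) (by omega)

theorem f4t_nest1' : ∀ x, x < 1755 → chkNest f4tL0.S f4tL1 x = true := fun x hx => f4t_nest1 x (Nat.zero_le _) hx

theorem f4t_vert1 : ∀ x, 0 ≤ x → x < 1755 → (chkVertex f4tL1 [f4tL2, f4tL3, f4tL4, f4tL5, f4tL6, f4tL7, f4tL8, f4tL9, f4tL10, f4tL11, f4tL12, f4tL13, f4tL14, f4tL15, f4tL16, f4tL17, f4tL18, f4tL19, f4tL20, f4tL21, f4tL22, f4tL23, f4tL24, f4tL25, f4tL26, f4tL27, f4tL28, f4tL29, f4tL30, f4tL31, f4tL32, f4tL33, f4tL34, f4tL35, f4tL36, f4tL37, f4tL38, f4tL39, f4tL40, f4tL41, f4tL42, f4tL43, f4tL44, f4tL45, f4tL46, f4tL47, f4tL48, f4tL49, f4tL50, f4tL51]) x = true := by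
  intro x hlo hx
  by_cases h0 : x < 100
  · exact allFrom_sound (f := chkVertex f4tL1 [f4tL2, f4tL3, f4tL4, f4tL5, f4tL6, f4tL7, f4tL8, f4tL9, f4tL10, f4tL11, f4tL12, f4tL13, f4tL14, f4tL15, f4tL16, f4tL17, f4tL18, f4tL19, f4tL20, f4tL21, f4tL22, f4tL23, f4tL24, f4tL25, f4tL26, f4tL27, f4tL28, f4tL29, f4tL30, f4tL31, f4tL32, f4tL33, f4tL34, f4tL35, f4tL36, f4tL37, f4tL38, f4tL39, f4tL40, f4tL41, f4tL42, f4tL43, f4tL44, f4tL45, f4tL46, f4tL47, f4tL48, f4tL49, f4tL50, f4tL51]) f4t_vert1_c0 x (by omega) (by omega)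
  by_cases h1 : x < 200
  · exact allFrom_sound (f := chkVertex f4tL1 [f4tL2, f4tL3, f4tL4, f4tL5, f4tL6, f4tL7, f4tL8, f4tL9, f4tL10, f4tL11, f4tL12, f4tL13, f4tL14, f4tL15, f4tL16, f4tL17, f4tL18, f4tL19, f4tL20, f4tL21, f4tL22, f4tL23, f4tL24, f4tL25, f4tL26, f4tL27, f4tL28, f4tL29, f4tL30, f4tL31, f4tL32, f4tL33, f4tL34, f4tL35, f4tL36, f4tL37, f4tL38, f4tL39, f4tL40, f4tL41, f4tL42, f4tL43, f4tL44, f4tL45, f4tL46, f4tL47, f4tL48, f4tL49, f4tL50, f4tL51]) f4t_vert1_c1 x (by omega) (by omega)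
  by_cases h2 : x < 300
  · exact allFrom_sound (f := chkVertex f4tL1 [f4tL2, f4tL3, f4tL4, f4tL5, f4tL6, f4tL7, f4tL8, f4tL9, f4tL10, f4tL11, f4tL12, f4tL13, f4tL14, f4tL15, f4tL16, f4tL17, f4tL18, f4tL19, f4tL20, f4tL21, f4tL22, f4tL23, f4tL24, f4tL25, f4tL26, f4tL27, f4tL28, f4tL29, f4tL30, f4tL31, f4tL32, f4tL33, f4tL34, f4tL35, f4tL36, f4tL37, f4tL38, f4tL39, f4tL40, f4tL41, f4tL42, f4tL43, f4tL44, f4tL45, f4tL46, f4tL47, f4tL48, f4tL49, f4tL50, f4tL51]) f4t_vert1_c2 x (by omega) (by omega)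
  by_cases h3 : x < 400
  · exact allFrom_sound (f := chkVertex f4tL1 [f4tL2, f4tL3, f4tL4, f4tL5, f4tL6, f4tL7, f4tL8, f4tL9, f4tL10, f4tL11, f4tL12, f4tL13, f4tL14, f4tL15, f4tL16, f4tL17, f4tL18, f4tL19, f4tL20, f4tL21, f4tL22, f4tL23, f4tL24, f4tL25, f4tL26, f4tL27, f4tL28, f4tL29, f4tL30, f4tL31, f4tL32, f4tL33, f4tL34, f4tL35, f4tL36, f4tL37, f4tL38, f4tL39, f4tL40, f4tL41, f4tL42, f4tL43, f4tL44, f4tL45, f4tL46, f4tL47, f4tL48, f4tL49, f4tL50, f4tL51]) f4t_vert1_c3 x (by omega) (by omega)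
  by_cases h4 : x < 500
  · exact allFrom_sound (f := chkVertex f4tL1 [f4tL2, f4tL3, f4tL4, f4tL5, f4tL6, f4tL7, f4tL8, f4tL9, f4tL10, f4tL11, f4tL12, f4tL13, f4tL14, f4tL15, f4tL16, f4tL17, f4tL18, f4tL19, f4tL20, f4tL21, f4tL22, f4tL23, f4tL24, f4tL25, f4tL26, f4tL27, f4tL28, f4tL29, f4tL30, f4tL31, f4tL32, f4tL33, f4tL34, f4tL35, f4tL36, f4tL37, f4tL38, f4tL39, f4tL40, f4tL41, f4tL42, f4tL43, f4tL44, f4tL45, f4tL46, f4tL47, f4tL48, f4tL49, f4tL50, f4tL51]) f4t_vert1_c4 x (by omega) (by omega)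
  by_cases h5 : x < 600
  · exact allFrom_sound (f := chkVertex f4tL1 [f4tL2, f4tL3, f4tL4, f4tL5, f4tL6, f4tL7, f4tL8, f4tL9, f4tL10, f4tL11, f4tL12, f4tL13, f4tL14, f4tL15, f4tL16, f4tL17, f4tL18, f4tL19, f4tL20, f4tL21, f4tL22, f4tL23, f4tL24, f4tL25, f4tL26, f4tL27, f4tL28, f4tL29, f4tL30, f4tL31, f4tL32, f4tL33, f4tL34, f4tL35, f4tL36, f4tL37, f4tL38, f4tL39, f4tL40, f4tL41, f4tL42, f4tL43, f4tL44, f4tL45, f4tL46, f4tL47, f4tL48, f4tL49, f4tL50, f4tL51]) f4t_vert1_c5 x (by omega) (by omega)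
  by_cases h6 : x < 700
  · exact allFrom_sound (f := chkVertex f4tL1 [f4tL2, f4tL3, f4tL4, f4tL5, f4tL6, f4tL7, f4tL8, f4tL9, f4tL10, f4tL11, f4tL12, f4tL13, f4tL14, f4tL15, f4tL16, f4tL17, f4tL18, f4tL19, f4tL20, f4tL21, f4tL22, f4tL23, f4tL24, f4tL25, f4tL26, f4tL27, f4tL28, f4tL29, f4tL30, f4tL31, f4tL32, f4tL33, f4tL34, f4tL35, f4tL36, f4tL37, f4tL38, f4tL39, f4tL40, f4tL41, f4tL42, f4tL43, f4tL44, f4tL45, f4tL46, f4tL47, f4tL48, f4tL49, f4tL50, f4tL51]) f4t_vert1_c6 x (by omega) (by omega)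
  by_cases h7 : x < 800
  · exact allFrom_sound (f := chkVertex f4tL1 [f4tL2, f4tL3, f4tL4, f4tL5, f4tL6, f4tL7, f4tL8, f4tL9, f4tL10, f4tL11, f4tL12, f4tL13, f4tL14, f4tL15, f4tL16, f4tL17, f4tL18, f4tL19, f4tL20, f4tL21, f4tL22, f4tL23, f4tL24, f4tL25, f4tL26, f4tL27, f4tL28, f4tL29, f4tL30, f4tL31, f4tL32, f4tL33, f4tL34, f4tL35, f4tL36, f4tL37, f4tL38, f4tL39, f4tL40, f4tL41, f4tL42, f4tL43, f4tL44, f4tL45, f4tL46, f4tL47, f4tL48, f4tL49, f4tL50, f4tL51]) f4t_vert1_c7 x (by omega) (by omega)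
  by_cases h8 : x < 900
  · exact allFrom_sound (f := chkVertex f4tL1 [f4tL2, f4tL3, f4tL4, f4tL5, f4tL6, f4tL7, f4tL8, f4tL9, f4tL10, f4tL11, f4tL12, f4tL13, f4tL14, f4tL15, f4tL16, f4tL17, f4tL18, f4tL19, f4tL20, f4tL21, f4tL22, f4tL23, f4tL24, f4tL25, f4tL26, f4tL27, f4tL28, f4tL29, f4tL30, f4tL31, f4tL32, f4tL33, f4tL34, f4tL35, f4tL36, f4tL37, f4tL38, f4tL39, f4tL40, f4tL41, f4tL42, f4tL43, f4tL44, f4tL45, f4tL46, f4tL47, f4tL48, f4tL49, f4tL50, f4tL51]) f4t_vert1_c8 x (by omega) (by omega)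
  by_cases h9 : x < 1000
  · exact allFrom_sound (f := chkVertex f4tL1 [f4tL2, f4tL3, f4tL4, f4tL5, f4tL6, f4tL7, f4tL8, f4tL9, f4tL10, f4tL11, f4tL12, f4tL13, f4tL14, f4tL15, f4tL16, f4tL17, f4tL18, f4tL19, f4tL20, f4tL21, f4tL22, f4tL23, f4tL24, f4tL25, f4tL26, f4tL27, f4tL28, f4tL29, f4tL30, f4tL31, f4tL32, f4tL33, f4tL34, f4tL35, f4tL36, f4tL37, f4tL38, f4tL39, f4tL40, f4tL41, f4tL42, f4tL43, f4tL44, f4tL45, f4tL46, f4tL47, f4tL48, f4tL49, f4tL50, f4tL51]) f4t_vert1_c9 x (by omega) (by omega)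
  by_cases h10 : x < 1100
  · exact allFrom_sound (f := chkVertex f4tL1 [f4tL2, f4tL3, f4tL4, f4tL5, f4tL6, f4tL7, f4tL8, f4tL9, f4tL10, f4tL11, f4tL12, f4tL13, f4tL14, f4tL15, f4tL16, f4tL17, f4tL18, f4tL19, f4tL20, f4tL21, f4tL22, f4tL23, f4tL24, f4tL25, f4tL26, f4tL27, f4tL28, f4tL29, f4tL30, f4tL31, f4tL32, f4tL33, f4tL34, f4tL35, f4tL36, f4tL37, f4tL38, f4tL39, f4tL40, f4tL41, f4tL42, f4tL43, f4tL44, f4tL45, f4tL46, f4tL47, f4tL48, f4tL49, f4tL50, f4tL51]) f4t_vert1_c10 x (by omega) (by omega)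
  by_cases h11 : x < 1200
  · exact allFrom_sound (f := chkVertex f4tL1 [f4tL2, f4tL3, f4tL4, f4tL5, f4tL6, f4tL7, f4tL8, f4tL9, f4tL10, f4tL11, f4tL12, f4tL13, f4tL14, f4tL15, f4tL16, f4tL17, f4tL18, f4tL19, f4tL20, f4tL21, f4tL22, f4tL23, f4tL24, f4tL25, f4tL26, f4tL27, f4tL28, f4tL29, f4tL30, f4tL31, f4tL32, f4tL33, f4tL34, f4tL35, f4tL36, f4tL37, f4tL38, f4tL39, f4tL40, f4tL41, f4tL42, f4tL43, f4tL44, f4tL45, f4tL46, f4tL47, f4tL48, f4tL49, f4tL50, f4tL51]) f4t_vert1_c11 x (by omega) (by omega)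
  by_cases h12 : x < 1300
  · exact allFrom_sound (f := chkVertex f4tL1 [f4tL2, f4tL3, f4tL4, f4tL5, f4tL6, f4tL7, f4tL8, f4tL9, f4tL10, f4tL11, f4tL12, f4tL13, f4tL14, f4tL15, f4tL16, f4tL17, f4tL18, f4tL19, f4tL20, f4tL21, f4tL22, f4tL23, f4tL24, f4tL25, f4tL26, f4tL27, f4tL28, f4tL29, f4tL30, f4tL31, f4tL32, f4tL33, f4tL34, f4tL35, f4tL36, f4tL37, f4tL38, f4tL39, f4tL40, f4tL41, f4tL42, f4tL43, f4tL44, f4tL45, f4tL46, f4tL47, f4tL48, f4tL49, f4tL50, f4tL51]) f4t_vert1_c12 x (by omega) (by omega)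
  by_cases h13 : x < 1400
  · exact allFrom_sound (f := chkVertex f4tL1 [f4tL2, f4tL3, f4tL4, f4tL5, f4tL6, f4tL7, f4tL8, f4tL9, f4tL10, f4tL11, f4tL12, f4tL13, f4tL14, f4tL15, f4tL16, f4tL17, f4tL18, f4tL19, f4tL20, f4tL21, f4tL22, f4tL23, f4tL24, f4tL25, f4tL26, f4tL27, f4tL28, f4tL29, f4tL30, f4tL31, f4tL32, f4tL33, f4tL34, f4tL35, f4tL36, f4tL37, f4tL38, f4tL39, f4tL40, f4tL41, f4tL42, f4tL43, f4tL44, f4tL45, f4tL46, f4tL47, f4tL48, f4tL49, f4tL50, f4tL51]) f4t_vert1_c13 x (by omega) (by omega)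
  by_cases h14 : x < 1500
  · exact allFrom_sound (f := chkVertex f4tL1 [f4tL2, f4tL3, f4tL4, f4tL5, f4tL6, f4tL7, f4tL8, f4tL9, f4tL10, f4tL11, f4tL12, f4tL13, f4tL14, f4tL15, f4tL16, f4tL17, f4tL18, f4tL19, f4tL20, f4tL21, f4tL22, f4tL23, f4tL24, f4tL25, f4tL26, f4tL27, f4tL28, f4tL29, f4tL30, f4tL31, f4tL32, f4tL33, f4tL34, f4tL35, f4tL36, f4tL37, f4tL38, f4tL39, f4tL40, f4tL41, f4tL42, f4tL43, f4tL44, f4tL45, f4tL46, f4tL47, f4tL48, f4tL49, f4tL50, f4tL51]) f4t_vert1_c14 x (by omega) (by omega)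
  by_cases h15 : x < 1600
  · exact allFrom_sound (f := chkVertex f4tL1 [f4tL2, f4tL3, f4tL4, f4tL5, f4tL6, f4tL7, f4tL8, f4tL9, f4tL10, f4tL11, f4tL12, f4tL13, f4tL14, f4tL15, f4tL16, f4tL17, f4tL18, f4tL19, f4tL20, f4tL21, f4tL22, f4tL23, f4tL24, f4tL25, f4tL26, f4tL27, f4tL28, f4tL29, f4tL30, f4tL31, f4tL32, f4tL33, f4tL34, f4tL35, f4tL36, f4tL37, f4tL38, f4tL39, f4tL40, f4tL41, f4tL42, f4tL43, f4tL44, f4tL45, f4tL46, f4tL47, f4tL48, f4tL49, f4tL50, f4tL51]) f4t_vert1_c15 x (by omega) (by omega)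
  by_cases h16 : x < 1700
  · exact allFrom_sound (f := chkVertex f4tL1 [f4tL2, f4tL3, f4tL4, f4tL5, f4tL6, f4tL7, f4tL8, f4tL9, f4tL10, f4tL11, f4tL12, f4tL13, f4tL14, f4tL15, f4tL16, f4tL17, f4tL18, f4tL19, f4tL20, f4tL21, f4tL22, f4tL23, f4tL24, f4tL25, f4tL26, f4tL27, f4tL28, f4tL29, f4tL30, f4tL31, f4tL32, f4tL33, f4tL34, f4tL35, f4tL36, f4tL37, f4tL38, f4tL39, f4tL40, f4tL41, f4tL42, f4tL43, f4tL44, f4tL45, f4tL46, f4tL47, f4tL48, f4tL49, f4tL50, f4tL51]) f4t_vert1_c16 x (by omega) (by omega)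
  exact allFrom_sound (f := chkVertex f4tL1 [f4tL2, f4tL3, f4tL4, f4tL5, f4tL6, f4tL7, f4tL8, f4tL9, f4tL10, f4tL11, f4tL12, f4tL13, f4tL14, f4tL15, f4tL16, f4tL17, f4tL18, f4tL19, f4tL20, f4tL21, f4tL22, f4tL23, f4tL24, f4tL25, f4tL26, f4tL27, f4tL28, f4tL29, f4tL30, f4tL31, f4tL32, f4tL33, f4tL34, f4tL35, f4tL36, f4tL37, f4tL38, f4tL39, f4tL40, f4tL41, f4tL42, f4tL43, f4tL44, f4tL45, f4tL46, f4tL47, f4tL48, f4tL49, f4tL50, f4tL51]) f4t_vert1_c17 x (by omega) (by omega)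

theorem f4t_vert1' : ∀ v, v < 1755 → chkVertex f4tL1 [f4tL2, f4tL3, f4tL4, f4tL5, f4tL6, f4tL7, f4tL8, f4tL9, f4tL10, f4tL11, f4tL12, f4tL13, f4tL14, f4tL15, f4tL16, f4tL17, f4tL18, f4tL19, f4tL20, f4tL21, f4tL22, f4tL23, f4tL24, f4tL25, f4tL26, f4tL27, f4tL28, f4tL29, f4tL30, f4tL31, f4tL32, f4tL33, f4tL34, f4tL35, f4tL36, f4tL37, f4tL38, f4tL39, f4tL40, f4tL41, f4tL42, f4tL43, f4tL44, f4tL45, f4tL46, f4tL47, f4tL48, f4tL49, f4tL50, f4tL51] v = true := fun x hx => f4t_vert1 x (Nat.zero_le _) hx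

theorem f4t_nest2 : ∀ x, 0 ≤ x → x < 1755 → (chkNest f4tL1.S f4tL2) x = true := by
  intro x hlo hx
  exact allFrom_sound (f := chkNest f4tL1.S f4tL2) f4t_nest2_c0 x (by omega) (by omega)

theorem f4t_nest2' : ∀ x, x < 1755 → chkNest f4tL1.S f4tL2 x = true := fun x hx => f4t_nest2 x (Nat.zero_le _) hx

theorem f4t_vert2 : ∀ x, 0 ≤ x → x < 1755 → (chkVertex f4tL2 [f4tL3, f4tL4, f4tL5, f4tL6, f4tL7, f4tL8, f4tL9, f4tL10, f4tL11, f4tL12, f4tL13, f4tL14, f4tL15, f4tL16, f4tL17, f4tL18, f4tL19, f4tL20, f4tL21, f4tL22, f4tL23, f4tL24, f4tL25, f4tL26, f4tL27, f4tL28, f4tL29, f4tL30, f4tL31, f4tL32, f4tL33, f4tL34, f4tL35, f4tL36, f4tL37, f4tL38, f4tL39, f4tL40, f4tL41, f4tL42, f4tL43, f4tL44, f4tL45, f4tL46, f4tL47, f4tL48, f4tL49, f4tL50, f4tL51]) x = true := by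
  intro x hlo hx
  exact allFrom_sound (f := chkVertex f4tL2 [f4tL3, f4tL4, f4tL5, f4tL6, f4tL7, f4tL8, f4tL9, f4tL10, f4tL11, f4tL12, f4tL13, f4tL14, f4tL15, f4tL16, f4tL17, f4tL18, f4tL19, f4tL20, f4tL21, f4tL22, f4tL23, f4tL24, f4tL25, f4tL26, f4tL27, f4tL28, f4tL29, f4tL30, f4tL31, f4tL32, f4tL33, f4tL34, f4tL35, f4tL36, f4tL37, f4tL38, f4tL39, f4tL40, f4tL41, f4tL42, f4tL43, f4tL44, f4tL45, f4tL46, f4tL47, f4tL48, f4tL49, f4tL50, f4tL51]) f4t_vert2_c0 x (by omega) (by omega)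

theorem f4t_vert2' : ∀ v, v < 1755 → chkVertex f4tL2 [f4tL3, f4tL4, f4tL5, f4tL6, f4tL7, f4tL8, f4tL9, f4tL10, f4tL11, f4tL12, f4tL13, f4tL14, f4tL15, f4tL16, f4tL17, f4tL18, f4tL19, f4tL20, f4tL21, f4tL22, f4tL23, f4tL24, f4tL25, f4tL26, f4tL27, f4tL28, f4tL29, f4tL30, f4tL31, f4tL32, f4tL33, f4tL34, f4tL35, f4tL36, f4tL37, f4tL38, f4tL39, f4tL40, f4tL41, f4tL42, f4tL43, f4tL44, f4tL45, f4tL46, f4tL47, f4tL48, f4tL49, f4tL50, f4tL51] v = true := fun x hx => f4t_vert2 x (Nat.zero_le _) hx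

theorem f4t_nest3 : ∀ x, 0 ≤ x → x < 1755 → (chkNest f4tL2.S f4tL3) x = true := by
  intro x hlo hx
  exact allFrom_sound (f := chkNest f4tL2.S f4tL3) f4t_nest3_c0 x (by omega) (by omega)

theorem f4t_nest3' : ∀ x, x < 1755 → chkNest f4tL2.S f4tL3 x = true := fun x hx => f4t_nest3 x (Nat.zero_le _) hx

theorem f4t_vert3 : ∀ x, 0 ≤ x → x < 1755 → (chkVertex f4tL3 [f4tL4, f4tL5, f4tL6, f4tL7, f4tL8, f4tL9, f4tL10, f4tL11, f4tL12, f4tL13, f4tL14, f4tL15, f4tL16, f4tL17, f4tL18, f4tL19, f4tL20, f4tL21, f4tL22, f4tL23, f4tL24, f4tL25, f4tL26, f4tL27, f4tL28, f4tL29, f4tL30, f4tL31, f4tL32, f4tL33, f4tL34, f4tL35, f4tL36, f4tL37, f4tL38, f4tL39, f4tL40, f4tL41, f4tL42, f4tL43, f4tL44, f4tL45, f4tL46, f4tL47, f4tL48, f4tL49, f4tL50, f4tL51]) x = true := by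
  intro x hlo hx
  exact allFrom_sound (f := chkVertex f4tL3 [f4tL4, f4tL5, f4tL6, f4tL7, f4tL8, f4tL9, f4tL10, f4tL11, f4tL12, f4tL13, f4tL14, f4tL15, f4tL16, f4tL17, f4tL18, f4tL19, f4tL20, f4tL21, f4tL22, f4tL23, f4tL24, f4tL25, f4tL26, f4tL27, f4tL28, f4tL29, f4tL30, f4tL31, f4tL32, f4tL33, f4tL34, f4tL35, f4tL36, f4tL37, f4tL38, f4tL39, f4tL40, f4tL41, f4tL42, f4tL43, f4tL44, f4tL45, f4tL46, f4tL47, f4tL48, f4tL49, f4tL50, f4tL51]) f4t_vert3_c0 x (by omega) (by omega)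

theorem f4t_vert3' : ∀ v, v < 1755 → chkVertex f4tL3 [f4tL4, f4tL5, f4tL6, f4tL7, f4tL8, f4tL9, f4tL10, f4tL11, f4tL12, f4tL13, f4tL14, f4tL15, f4tL16, f4tL17, f4tL18, f4tL19, f4tL20, f4tL21, f4tL22, f4tL23, f4tL24, f4tL25, f4tL26, f4tL27, f4tL28, f4tL29, f4tL30, f4tL31, f4tL32, f4tL33, f4tL34, f4tL35, f4tL36, f4tL37, f4tL38, f4tL39, f4tL40, f4tL41, f4tL42, f4tL43, f4tL44, f4tL45, f4tL46, f4tL47, f4tL48, f4tL49, f4tL50, f4tL51] v = true := fun x hx => f4t_vert3 x (Nat.zero_le _) hx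

theorem f4t_nest4 : ∀ x, 0 ≤ x → x < 1755 → (chkNest f4tL3.S f4tL4) x = true := by
  intro x hlo hx
  exact allFrom_sound (f := chkNest f4tL3.S f4tL4) f4t_nest4_c0 x (by omega) (by omega)

theorem f4t_nest4' : ∀ x, x < 1755 → chkNest f4tL3.S f4tL4 x = true := fun x hx => f4t_nest4 x (Nat.zero_le _) hx

theorem f4t_vert4 : ∀ x, 0 ≤ x → x < 1755 → (chkVertex f4tL4 [f4tL5, f4tL6, f4tL7, f4tL8, f4tL9, f4tL10, f4tL11, f4tL12, f4tL13, f4tL14, f4tL15, f4tL16, f4tL17, f4tL18, f4tL19, f4tL20, f4tL21, f4tL22, f4tL23, f4tL24, f4tL25, f4tL26, f4tL27, f4tL28, f4tL29, f4tL30, f4tL31, f4tL32, f4tL33, f4tL34, f4tL35, f4tL36, f4tL37, f4tL38, f4tL39, f4tL40, f4tL41, f4tL42, f4tL43, f4tL44, f4tL45, f4tL46, f4tL47, f4tL48, f4tL49, f4tL50, f4tL51]) x = true := by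
  intro x hlo hx
  exact allFrom_sound (f := chkVertex f4tL4 [f4tL5, f4tL6, f4tL7, f4tL8, f4tL9, f4tL10, f4tL11, f4tL12, f4tL13, f4tL14, f4tL15, f4tL16, f4tL17, f4tL18, f4tL19, f4tL20, f4tL21, f4tL22, f4tL23, f4tL24, f4tL25, f4tL26, f4tL27, f4tL28, f4tL29, f4tL30, f4tL31, f4tL32, f4tL33, f4tL34, f4tL35, f4tL36, f4tL37, f4tL38, f4tL39, f4tL40, f4tL41, f4tL42, f4tL43, f4tL44, f4tL45, f4tL46, f4tL47, f4tL48, f4tL49, f4tL50, f4tL51]) f4t_vert4_c0 x (by omega) (by omega)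

theorem f4t_vert4' : ∀ v, v < 1755 → chkVertex f4tL4 [f4tL5, f4tL6, f4tL7, f4tL8, f4tL9, f4tL10, f4tL11, f4tL12, f4tL13, f4tL14, f4tL15, f4tL16, f4tL17, f4tL18, f4tL19, f4tL20, f4tL21, f4tL22, f4tL23, f4tL24, f4tL25, f4tL26, f4tL27, f4tL28, f4tL29, f4tL30, f4tL31, f4tL32, f4tL33, f4tL34, f4tL35, f4tL36, f4tL37, f4tL38, f4tL39, f4tL40, f4tL41, f4tL42, f4tL43, f4tL44, f4tL45, f4tL46, f4tL47, f4tL48, f4tL49, f4tL50, f4tL51] v = true := fun x hx => f4t_vert4 x (Nat.zero_le _) hx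

theorem f4t_nest5 : ∀ x, 0 ≤ x → x < 1755 → (chkNest f4tL4.S f4tL5) x = true := by
  intro x hlo hx
  exact allFrom_sound (f := chkNest f4tL4.S f4tL5) f4t_nest5_c0 x (by omega) (by omega)

theorem f4t_nest5' : ∀ x, x < 1755 → chkNest f4tL4.S f4tL5 x = true := fun x hx => f4t_nest5 x (Nat.zero_le _) hx

theorem f4t_vert5 : ∀ x, 0 ≤ x → x < 1755 → (chkVertex f4tL5 [f4tL6, f4tL7, f4tL8, f4tL9, f4tL10, f4tL11, f4tL12, f4tL13, f4tL14, f4tL15, f4tL16, f4tL17, f4tL18, f4tL19, f4tL20, f4tL21, f4tL22, f4tL23, f4tL24, f4tL25, f4tL26, f4tL27, f4tL28, f4tL29, f4tL30, f4tL31, f4tL32, f4tL33, f4tL34, f4tL35, f4tL36, f4tL37, f4tL38, f4tL39, f4tL40, f4tL41, f4tL42, f4tL43, f4tL44, f4tL45, f4tL46, f4tL47, f4tL48, f4tL49, f4tL50, f4tL51]) x = true := by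
  intro x hlo hx
  exact allFrom_sound (f := chkVertex f4tL5 [f4tL6, f4tL7, f4tL8, f4tL9, f4tL10, f4tL11, f4tL12, f4tL13, f4tL14, f4tL15, f4tL16, f4tL17, f4tL18, f4tL19, f4tL20, f4tL21, f4tL22, f4tL23, f4tL24, f4tL25, f4tL26, f4tL27, f4tL28, f4tL29, f4tL30, f4tL31, f4tL32, f4tL33, f4tL34, f4tL35, f4tL36, f4tL37, f4tL38, f4tL39, f4tL40, f4tL41, f4tL42, f4tL43, f4tL44, f4tL45, f4tL46, f4tL47, f4tL48, f4tL49, f4tL50, f4tL51]) f4t_vert5_c0 x (by omega) (by omega)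

theorem f4t_vert5' : ∀ v, v < 1755 → chkVertex f4tL5 [f4tL6, f4tL7, f4tL8, f4tL9, f4tL10, f4tL11, f4tL12, f4tL13, f4tL14, f4tL15, f4tL16, f4tL17, f4tL18, f4tL19, f4tL20, f4tL21, f4tL22, f4tL23, f4tL24, f4tL25, f4tL26, f4tL27, f4tL28, f4tL29, f4tL30, f4tL31, f4tL32, f4tL33, f4tL34, f4tL35, f4tL36, f4tL37, f4tL38, f4tL39, f4tL40, f4tL41, f4tL42, f4tL43, f4tL44, f4tL45, f4tL46, f4tL47, f4tL48, f4tL49, f4tL50, f4tL51] v = true := fun x hx => f4t_vert5 x (Nat.zero_le _) hx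

theorem f4t_nest6 : ∀ x, 0 ≤ x → x < 1755 → (chkNest f4tL5.S f4tL6) x = true := by
  intro x hlo hx
  exact allFrom_sound (f := chkNest f4tL5.S f4tL6) f4t_nest6_c0 x (by omega) (by omega)

theorem f4t_nest6' : ∀ x, x < 1755 → chkNest f4tL5.S f4tL6 x = true := fun x hx => f4t_nest6 x (Nat.zero_le _) hx

theorem f4t_vert6 : ∀ x, 0 ≤ x → x < 1755 → (chkVertex f4tL6 [f4tL7, f4tL8, f4tL9, f4tL10, f4tL11, f4tL12, f4tL13, f4tL14, f4tL15, f4tL16, f4tL17, f4tL18, f4tL19, f4tL20, f4tL21, f4tL22, f4tL23, f4tL24, f4tL25, f4tL26, f4tL27, f4tL28, f4tL29, f4tL30, f4tL31, f4tL32, f4tL33, f4tL34, f4tL35, f4tL36, f4tL37, f4tL38, f4tL39, f4tL40, f4tL41, f4tL42, f4tL43, f4tL44, f4tL45, f4tL46, f4tL47, f4tL48, f4tL49, f4tL50, f4tL51]) x = true := by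
  intro x hlo hx
  exact allFrom_sound (f := chkVertex f4tL6 [f4tL7, f4tL8, f4tL9, f4tL10, f4tL11, f4tL12, f4tL13, f4tL14, f4tL15, f4tL16, f4tL17, f4tL18, f4tL19, f4tL20, f4tL21, f4tL22, f4tL23, f4tL24, f4tL25, f4tL26, f4tL27, f4tL28, f4tL29, f4tL30, f4tL31, f4tL32, f4tL33, f4tL34, f4tL35, f4tL36, f4tL37, f4tL38, f4tL39, f4tL40, f4tL41, f4tL42, f4tL43, f4tL44, f4tL45, f4tL46, f4tL47, f4tL48, f4tL49, f4tL50, f4tL51]) f4t_vert6_c0 x (by omega) (by omega)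

theorem f4t_vert6' : ∀ v, v < 1755 → chkVertex f4tL6 [f4tL7, f4tL8, f4tL9, f4tL10, f4tL11, f4tL12, f4tL13, f4tL14, f4tL15, f4tL16, f4tL17, f4tL18, f4tL19, f4tL20, f4tL21, f4tL22, f4tL23, f4tL24, f4tL25, f4tL26, f4tL27, f4tL28, f4tL29, f4tL30, f4tL31, f4tL32, f4tL33, f4tL34, f4tL35, f4tL36, f4tL37, f4tL38, f4tL39, f4tL40, f4tL41, f4tL42, f4tL43, f4tL44, f4tL45, f4tL46, f4tL47, f4tL48, f4tL49, f4tL50, f4tL51] v = true := fun x hx => f4t_vert6 x (Nat.zero_le _) hx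

theorem f4t_nest7 : ∀ x, 0 ≤ x → x < 1755 → (chkNest f4tL6.S f4tL7) x = true := by
  intro x hlo hx
  exact allFrom_sound (f := chkNest f4tL6.S f4tL7) f4t_nest7_c0 x (by omega) (by omega)

theorem f4t_nest7' : ∀ x, x < 1755 → chkNest f4tL6.S f4tL7 x = true := fun x hx => f4t_nest7 x (Nat.zero_le _) hx

theorem f4t_vert7 : ∀ x, 0 ≤ x → x < 1755 → (chkVertex f4tL7 [f4tL8, f4tL9, f4tL10, f4tL11, f4tL12, f4tL13, f4tL14, f4tL15, f4tL16, f4tL17, f4tL18, f4tL19, f4tL20, f4tL21, f4tL22, f4tL23, f4tL24, f4tL25, f4tL26, f4tL27, f4tL28, f4tL29, f4tL30, f4tL31, f4tL32, f4tL33, f4tL34, f4tL35, f4tL36, f4tL37, f4tL38, f4tL39, f4tL40, f4tL41, f4tL42, f4tL43, f4tL44, f4tL45, f4tL46, f4tL47, f4tL48, f4tL49, f4tL50, f4tL51]) x = true := by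
  intro x hlo hx
  exact allFrom_sound (f := chkVertex f4tL7 [f4tL8, f4tL9, f4tL10, f4tL11, f4tL12, f4tL13, f4tL14, f4tL15, f4tL16, f4tL17, f4tL18, f4tL19, f4tL20, f4tL21, f4tL22, f4tL23, f4tL24, f4tL25, f4tL26, f4tL27, f4tL28, f4tL29, f4tL30, f4tL31, f4tL32, f4tL33, f4tL34, f4tL35, f4tL36, f4tL37, f4tL38, f4tL39, f4tL40, f4tL41, f4tL42, f4tL43, f4tL44, f4tL45, f4tL46, f4tL47, f4tL48, f4tL49, f4tL50, f4tL51]) f4t_vert7_c0 x (by omega) (by omega)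

theorem f4t_vert7' : ∀ v, v < 1755 → chkVertex f4tL7 [f4tL8, f4tL9, f4tL10, f4tL11, f4tL12, f4tL13, f4tL14, f4tL15, f4tL16, f4tL17, f4tL18, f4tL19, f4tL20, f4tL21, f4tL22, f4tL23, f4tL24, f4tL25, f4tL26, f4tL27, f4tL28, f4tL29, f4tL30, f4tL31, f4tL32, f4tL33, f4tL34, f4tL35, f4tL36, f4tL37, f4tL38, f4tL39, f4tL40, f4tL41, f4tL42, f4tL43, f4tL44, f4tL45, f4tL46, f4tL47, f4tL48, f4tL49, f4tL50, f4tL51] v = true := fun x hx => f4t_vert7 x (Nat.zero_le _) hx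

theorem f4t_nest8 : ∀ x, 0 ≤ x → x < 1755 → (chkNest f4tL7.S f4tL8) x = true := by
  intro x hlo hx
  exact allFrom_sound (f := chkNest f4tL7.S f4tL8) f4t_nest8_c0 x (by omega) (by omega)

theorem f4t_nest8' : ∀ x, x < 1755 → chkNest f4tL7.S f4tL8 x = true := fun x hx => f4t_nest8 x (Nat.zero_le _) hx

theorem f4t_vert8 : ∀ x, 0 ≤ x → x < 1755 → (chkVertex f4tL8 [f4tL9, f4tL10, f4tL11, f4tL12, f4tL13, f4tL14, f4tL15, f4tL16, f4tL17, f4tL18, f4tL19, f4tL20, f4tL21, f4tL22, f4tL23, f4tL24, f4tL25, f4tL26, f4tL27, f4tL28, f4tL29, f4tL30, f4tL31, f4tL32, f4tL33, f4tL34, f4tL35, f4tL36, f4tL37, f4tL38, f4tL39, f4tL40, f4tL41, f4tL42, f4tL43, f4tL44, f4tL45, f4tL46, f4tL47, f4tL48, f4tL49, f4tL50, f4tL51]) x = true := by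
  intro x hlo hx
  exact allFrom_sound (f := chkVertex f4tL8 [f4tL9, f4tL10, f4tL11, f4tL12, f4tL13, f4tL14, f4tL15, f4tL16, f4tL17, f4tL18, f4tL19, f4tL20, f4tL21, f4tL22, f4tL23, f4tL24, f4tL25, f4tL26, f4tL27, f4tL28, f4tL29, f4tL30, f4tL31, f4tL32, f4tL33, f4tL34, f4tL35, f4tL36, f4tL37, f4tL38, f4tL39, f4tL40, f4tL41, f4tL42, f4tL43, f4tL44, f4tL45, f4tL46, f4tL47, f4tL48, f4tL49, f4tL50, f4tL51]) f4t_vert8_c0 x (by omega) (by omega)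

theorem f4t_vert8' : ∀ v, v < 1755 → chkVertex f4tL8 [f4tL9, f4tL10, f4tL11, f4tL12, f4tL13, f4tL14, f4tL15, f4tL16, f4tL17, f4tL18, f4tL19, f4tL20, f4tL21, f4tL22, f4tL23, f4tL24, f4tL25, f4tL26, f4tL27, f4tL28, f4tL29, f4tL30, f4tL31, f4tL32, f4tL33, f4tL34, f4tL35, f4tL36, f4tL37, f4tL38, f4tL39, f4tL40, f4tL41, f4tL42, f4tL43, f4tL44, f4tL45, f4tL46, f4tL47, f4tL48, f4tL49, f4tL50, f4tL51] v = true := fun x hx => f4t_vert8 x (Nat.zero_le _) hx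

theorem f4t_nest9 : ∀ x, 0 ≤ x → x < 1755 → (chkNest f4tL8.S f4tL9) x = true := by
  intro x hlo hx
  exact allFrom_sound (f := chkNest f4tL8.S f4tL9) f4t_nest9_c0 x (by omega) (by omega)

theorem f4t_nest9' : ∀ x, x < 1755 → chkNest f4tL8.S f4tL9 x = true := fun x hx => f4t_nest9 x (Nat.zero_le _) hx

theorem f4t_vert9 : ∀ x, 0 ≤ x → x < 1755 → (chkVertex f4tL9 [f4tL10, f4tL11, f4tL12, f4tL13, f4tL14, f4tL15, f4tL16, f4tL17, f4tL18, f4tL19, f4tL20, f4tL21, f4tL22, f4tL23, f4tL24, f4tL25, f4tL26, f4tL27, f4tL28, f4tL29, f4tL30, f4tL31, f4tL32, f4tL33, f4tL34, f4tL35, f4tL36, f4tL37, f4tL38, f4tL39, f4tL40, f4tL41, f4tL42, f4tL43, f4tL44, f4tL45, f4tL46, f4tL47, f4tL48, f4tL49, f4tL50, f4tL51]) x = true := by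
  intro x hlo hx
  exact allFrom_sound (f := chkVertex f4tL9 [f4tL10, f4tL11, f4tL12, f4tL13, f4tL14, f4tL15, f4tL16, f4tL17, f4tL18, f4tL19, f4tL20, f4tL21, f4tL22, f4tL23, f4tL24, f4tL25, f4tL26, f4tL27, f4tL28, f4tL29, f4tL30, f4tL31, f4tL32, f4tL33, f4tL34, f4tL35, f4tL36, f4tL37, f4tL38, f4tL39, f4tL40, f4tL41, f4tL42, f4tL43, f4tL44, f4tL45, f4tL46, f4tL47, f4tL48, f4tL49, f4tL50, f4tL51]) f4t_vert9_c0 x (by omega) (by omega)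

theorem f4t_vert9' : ∀ v, v < 1755 → chkVertex f4tL9 [f4tL10, f4tL11, f4tL12, f4tL13, f4tL14, f4tL15, f4tL16, f4tL17, f4tL18, f4tL19, f4tL20, f4tL21, f4tL22, f4tL23, f4tL24, f4tL25, f4tL26, f4tL27, f4tL28, f4tL29, f4tL30, f4tL31, f4tL32, f4tL33, f4tL34, f4tL35, f4tL36, f4tL37, f4tL38, f4tL39, f4tL40, f4tL41, f4tL42, f4tL43, f4tL44, f4tL45, f4tL46, f4tL47, f4tL48, f4tL49, f4tL50, f4tL51] v = true := fun x hx => f4t_vert9 x (Nat.zero_le _) hx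

theorem f4t_nest10 : ∀ x, 0 ≤ x → x < 1755 → (chkNest f4tL9.S f4tL10) x = true := by
  intro x hlo hx
  exact allFrom_sound (f := chkNest f4tL9.S f4tL10) f4t_nest10_c0 x (by omega) (by omega)

theorem f4t_nest10' : ∀ x, x < 1755 → chkNest f4tL9.S f4tL10 x = true := fun x hx => f4t_nest10 x (Nat.zero_le _) hx

theorem f4t_vert10 : ∀ x, 0 ≤ x → x < 1755 → (chkVertex f4tL10 [f4tL11, f4tL12, f4tL13, f4tL14, f4tL15, f4tL16, f4tL17, f4tL18, f4tL19, f4tL20, f4tL21, f4tL22, f4tL23, f4tL24, f4tL25, f4tL26, f4tL27, f4tL28, f4tL29, f4tL30, f4tL31, f4tL32, f4tL33, f4tL34, f4tL35, f4tL36, f4tL37, f4tL38, f4tL39, f4tL40, f4tL41, f4tL42, f4tL43, f4tL44, f4tL45, f4tL46, f4tL47, f4tL48, f4tL49, f4tL50, f4tL51]) x = true := by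
  intro x hlo hx
  exact allFrom_sound (f := chkVertex f4tL10 [f4tL11, f4tL12, f4tL13, f4tL14, f4tL15, f4tL16, f4tL17, f4tL18, f4tL19, f4tL20, f4tL21, f4tL22, f4tL23, f4tL24, f4tL25, f4tL26, f4tL27, f4tL28, f4tL29, f4tL30, f4tL31, f4tL32, f4tL33, f4tL34, f4tL35, f4tL36, f4tL37, f4tL38, f4tL39, f4tL40, f4tL41, f4tL42, f4tL43, f4tL44, f4tL45, f4tL46, f4tL47, f4tL48, f4tL49, f4tL50, f4tL51]) f4t_vert10_c0 x (by omega) (by omega)

theorem f4t_vert10' : ∀ v, v < 1755 → chkVertex f4tL10 [f4tL11, f4tL12, f4tL13, f4tL14, f4tL15, f4tL16, f4tL17, f4tL18, f4tL19, f4tL20, f4tL21, f4tL22, f4tL23, f4tL24, f4tL25, f4tL26, f4tL27, f4tL28, f4tL29, f4tL30, f4tL31, f4tL32, f4tL33, f4tL34, f4tL35, f4tL36, f4tL37, f4tL38, f4tL39, f4tL40, f4tL41, f4tL42, f4tL43, f4tL44, f4tL45, f4tL46, f4tL47, f4tL48, f4tL49, f4tL50, f4tL51] v = true := fun x hx => f4t_vert10 x (Nat.zero_le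 _) hx

theorem f4t_nest11 : ∀ x, 0 ≤ x → x < 1755 → (chkNest f4tL10.S f4tL11) x = true := by
  intro x hlo hx
  exact allFrom_sound (f := chkNest f4tL10.S f4tL11) f4t_nest11_c0 x (by omega) (by omega)

theorem f4t_nest11' : ∀ x, x < 1755 → chkNest f4tL10.S f4tL11 x = true := fun x hx => f4t_nest11 x (Nat.zero_le _) hx

theorem f4t_vert11 : ∀ x, 0 ≤ x → x < 1755 → (chkVertex f4tL11 [f4tL12, f4tL13, f4tL14, f4tL15, f4tL16, f4tL17, f4tL18, f4tL19, f4tL20, f4tL21, f4tL22, f4tL23, f4tL24, f4tL25, f4tL26, f4tL27, f4tL28, f4tL29, f4tL30, f4tL31, f4tL32, f4tL33, f4tL34, f4tL35, f4tL36, f4tL37, f4tL38, f4tL39, f4tL40, f4tL41, f4tL42, f4tL43, f4tL44, f4tL45, f4tL46, f4tL47, f4tL48, f4tL49, f4tL50, f4tL51]) x = true := by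
  intro x hlo hx
  exact allFrom_sound (f := chkVertex f4tL11 [f4tL12, f4tL13, f4tL14, f4tL15, f4tL16, f4tL17, f4tL18, f4tL19, f4tL20, f4tL21, f4tL22, f4tL23, f4tL24, f4tL25, f4tL26, f4tL27, f4tL28, f4tL29, f4tL30, f4tL31, f4tL32, f4tL33, f4tL34, f4tL35, f4tL36, f4tL37, f4tL38, f4tL39, f4tL40, f4tL41, f4tL42, f4tL43, f4tL44, f4tL45, f4tL46, f4tL47, f4tL48, f4tL49, f4tL50, f4tL51]) f4t_vert11_c0 x (by omega) (by omega)

theorem f4t_vert11' : ∀ v, v < 1755 → chkVertex f4tL11 [f4tL12, f4tL13, f4tL14, f4tL15, f4tL16, f4tL17, f4tL18, f4tL19, f4tL20, f4tL21, f4tL22, f4tL23, f4tL24, f4tL25, f4tL26, f4tL27, f4tL28, f4tL29, f4tL30, f4tL31, f4tL32, f4tL33, f4tL34, f4tL35, f4tL36, f4tL37, f4tL38, f4tL39, f4tL40, f4tL41, f4tL42, f4tL43, f4tL44, f4tL45, f4tL46, f4tL47, f4tL48, f4tL49, f4tL50, f4tL51] v = true := fun x hx => f4t_vert11 x (Nat.zero_le _) hx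

theorem f4t_nest12 : ∀ x, 0 ≤ x → x < 1755 → (chkNest f4tL11.S f4tL12) x = true := by
  intro x hlo hx
  exact allFrom_sound (f := chkNest f4tL11.S f4tL12) f4t_nest12_c0 x (by omega) (by omega)

theorem f4t_nest12' : ∀ x, x < 1755 → chkNest f4tL11.S f4tL12 x = true := fun x hx => f4t_nest12 x (Nat.zero_le _) hx

theorem f4t_vert12 : ∀ x, 0 ≤ x → x < 1755 → (chkVertex f4tL12 [f4tL13, f4tL14, f4tL15, f4tL16, f4tL17, f4tL18, f4tL19, f4tL20, f4tL21, f4tL22, f4tL23, f4tL24, f4tL25, f4tL26, f4tL27, f4tL28, f4tL29, f4tL30, f4tL31, f4tL32, f4tL33, f4tL34, f4tL35, f4tL36, f4tL37, f4tL38, f4tL39, f4tL40, f4tL41, f4tL42, f4tL43, f4tL44, f4tL45, f4tL46, f4tL47, f4tL48, f4tL49, f4tL50, f4tL51]) x = true := by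
  intro x hlo hx
  exact allFrom_sound (f := chkVertex f4tL12 [f4tL13, f4tL14, f4tL15, f4tL16, f4tL17, f4tL18, f4tL19, f4tL20, f4tL21, f4tL22, f4tL23, f4tL24, f4tL25, f4tL26, f4tL27, f4tL28, f4tL29, f4tL30, f4tL31, f4tL32, f4tL33, f4tL34, f4tL35, f4tL36, f4tL37, f4tL38, f4tL39, f4tL40, f4tL41, f4tL42, f4tL43, f4tL44, f4tL45, f4tL46, f4tL47, f4tL48, f4tL49, f4tL50, f4tL51]) f4t_vert12_c0 x (by omega) (by omega)

theorem f4t_vert12' : ∀ v, v < 1755 → chkVertex f4tL12 [f4tL13, f4tL14, f4tL15, f4tL16, f4tL17, f4tL18, f4tL19, f4tL20, f4tL21, f4tL22, f4tL23, f4tL24, f4tL25, f4tL26, f4tL27, f4tL28, f4tL29, f4tL30, f4tL31, f4tL32, f4tL33, f4tL34, f4tL35, f4tL36, f4tL37, f4tL38, f4tL39, f4tL40, f4tL41, f4tL42, f4tL43, f4tL44, f4tL45, f4tL46, f4tL47, f4tL48, f4tL49, f4tL50, f4tL51] v = true := fun x hx => f4t_vert12 x (Nat.zero_le _) hx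

theorem f4t_nest13 : ∀ x, 0 ≤ x → x < 1755 → (chkNest f4tL12.S f4tL13) x = true := by
  intro x hlo hx
  exact allFrom_sound (f := chkNest f4tL12.S f4tL13) f4t_nest13_c0 x (by omega) (by omega)

theorem f4t_nest13' : ∀ x, x < 1755 → chkNest f4tL12.S f4tL13 x = true := fun x hx => f4t_nest13 x (Nat.zero_le _) hx

theorem f4t_vert13 : ∀ x, 0 ≤ x → x < 1755 → (chkVertex f4tL13 [f4tL14, f4tL15, f4tL16, f4tL17, f4tL18, f4tL19, f4tL20, f4tL21, f4tL22, f4tL23, f4tL24, f4tL25, f4tL26, f4tL27, f4tL28, f4tL29, f4tL30, f4tL31, f4tL32, f4tL33, f4tL34, f4tL35, f4tL36, f4tL37, f4tL38, f4tL39, f4tL40, f4tL41, f4tL42, f4tL43, f4tL44, f4tL45, f4tL46, f4tL47, f4tL48, f4tL49, f4tL50, f4tL51]) x = true := by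
  intro x hlo hx
  exact allFrom_sound (f := chkVertex f4tL13 [f4tL14, f4tL15, f4tL16, f4tL17, f4tL18, f4tL19, f4tL20, f4tL21, f4tL22, f4tL23, f4tL24, f4tL25, f4tL26, f4tL27, f4tL28, f4tL29, f4tL30, f4tL31, f4tL32, f4tL33, f4tL34, f4tL35, f4tL36, f4tL37, f4tL38, f4tL39, f4tL40, f4tL41, f4tL42, f4tL43, f4tL44, f4tL45, f4tL46, f4tL47, f4tL48, f4tL49, f4tL50, f4tL51]) f4t_vert13_c0 x (by omega) (by omega)

theorem f4t_vert13' : ∀ v, v < 1755 → chkVertex f4tL13 [f4tL14, f4tL15, f4tL16, f4tL17, f4tL18, f4tL19, f4tL20, f4tL21, f4tL22, f4tL23, f4tL24, f4tL25, f4tL26, f4tL27, f4tL28, f4tL29, f4tL30, f4tL31, f4tL32, f4tL33, f4tL34, f4tL35, f4tL36, f4tL37, f4tL38, f4tL39, f4tL40, f4tL41, f4tL42, f4tL43, f4tL44, f4tL45, f4tL46, f4tL47, f4tL48, f4tL49, f4tL50, f4tL51] v = true := fun x hx => f4t_vert13 x (Nat.zero_le _) hx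

theorem f4t_nest14 : ∀ x, 0 ≤ x → x < 1755 → (chkNest f4tL13.S f4tL14) x = true := by
  intro x hlo hx
  exact allFrom_sound (f := chkNest f4tL13.S f4tL14) f4t_nest14_c0 x (by omega) (by omega)

theorem f4t_nest14' : ∀ x, x < 1755 → chkNest f4tL13.S f4tL14 x = true := fun x hx => f4t_nest14 x (Nat.zero_le _) hx

theorem f4t_vert14 : ∀ x, 0 ≤ x → x < 1755 → (chkVertex f4tL14 [f4tL15, f4tL16, f4tL17, f4tL18, f4tL19, f4tL20, f4tL21, f4tL22, f4tL23, f4tL24, f4tL25, f4tL26, f4tL27, f4tL28, f4tL29, f4tL30, f4tL31, f4tL32, f4tL33, f4tL34, f4tL35, f4tL36, f4tL37, f4tL38, f4tL39, f4tL40, f4tL41, f4tL42, f4tL43, f4tL44, f4tL45, f4tL46, f4tL47, f4tL48, f4tL49, f4tL50, f4tL51]) x = true := by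
  intro x hlo hx
  exact allFrom_sound (f := chkVertex f4tL14 [f4tL15, f4tL16, f4tL17, f4tL18, f4tL19, f4tL20, f4tL21, f4tL22, f4tL23, f4tL24, f4tL25, f4tL26, f4tL27, f4tL28, f4tL29, f4tL30, f4tL31, f4tL32, f4tL33, f4tL34, f4tL35, f4tL36, f4tL37, f4tL38, f4tL39, f4tL40, f4tL41, f4tL42, f4tL43, f4tL44, f4tL45, f4tL46, f4tL47, f4tL48, f4tL49, f4tL50, f4tL51]) f4t_vert14_c0 x (by omega) (by omega)

theorem f4t_vert14' : ∀ v, v < 1755 → chkVertex f4tL14 [f4tL15, f4tL16, f4tL17, f4tL18, f4tL19, f4tL20, f4tL21, f4tL22, f4tL23, f4tL24, f4tL25, f4tL26, f4tL27, f4tL28, f4tL29, f4tL30, f4tL31, f4tL32, f4tL33, f4tL34, f4tL35, f4tL36, f4tL37, f4tL38, f4tL39, f4tL40, f4tL41, f4tL42, f4tL43, f4tL44, f4tL45, f4tL46, f4tL47, f4tL48, f4tL49, f4tL50, f4tL51] v = true := fun x hx => f4t_vert14 x (Nat.zero_le _) hx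

theorem f4t_nest15 : ∀ x, 0 ≤ x → x < 1755 → (chkNest f4tL14.S f4tL15) x = true := by
  intro x hlo hx
  exact allFrom_sound (f := chkNest f4tL14.S f4tL15) f4t_nest15_c0 x (by omega) (by omega)

theorem f4t_nest15' : ∀ x, x < 1755 → chkNest f4tL14.S f4tL15 x = true := fun x hx => f4t_nest15 x (Nat.zero_le _) hx

theorem f4t_vert15 : ∀ x, 0 ≤ x → x < 1755 → (chkVertex f4tL15 [f4tL16, f4tL17, f4tL18, f4tL19, f4tL20, f4tL21, f4tL22, f4tL23, f4tL24, f4tL25, f4tL26, f4tL27, f4tL28, f4tL29, f4tL30, f4tL31, f4tL32, f4tL33, f4tL34, f4tL35, f4tL36, f4tL37, f4tL38, f4tL39, f4tL40, f4tL41, f4tL42, f4tL43, f4tL44, f4tL45, f4tL46, f4tL47, f4tL48, f4tL49, f4tL50, f4tL51]) x = true := by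
  intro x hlo hx
  exact allFrom_sound (f := chkVertex f4tL15 [f4tL16, f4tL17, f4tL18, f4tL19, f4tL20, f4tL21, f4tL22, f4tL23, f4tL24, f4tL25, f4tL26, f4tL27, f4tL28, f4tL29, f4tL30, f4tL31, f4tL32, f4tL33, f4tL34, f4tL35, f4tL36, f4tL37, f4tL38, f4tL39, f4tL40, f4tL41, f4tL42, f4tL43, f4tL44, f4tL45, f4tL46, f4tL47, f4tL48, f4tL49, f4tL50, f4tL51]) f4t_vert15_c0 x (by omega) (by omega)

theorem f4t_vert15' : ∀ v, v < 1755 → chkVertex f4tL15 [f4tL16, f4tL17, f4tL18, f4tL19, f4tL20, f4tL21, f4tL22, f4tL23, f4tL24, f4tL25, f4tL26, f4tL27, f4tL28, f4tL29, f4tL30, f4tL31, f4tL32, f4tL33, f4tL34, f4tL35, f4tL36, f4tL37, f4tL38, f4tL39, f4tL40, f4tL41, f4tL42, f4tL43, f4tL44, f4tL45, f4tL46, f4tL47, f4tL48, f4tL49, f4tL50, f4tL51] v = true := fun x hx => f4t_vert15 x (Nat.zero_le _) hx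

theorem f4t_nest16 : ∀ x, 0 ≤ x → x < 1755 → (chkNest f4tL15.S f4tL16) x = true := by
  intro x hlo hx
  exact allFrom_sound (f := chkNest f4tL15.S f4tL16) f4t_nest16_c0 x (by omega) (by omega)

theorem f4t_nest16' : ∀ x, x < 1755 → chkNest f4tL15.S f4tL16 x = true := fun x hx => f4t_nest16 x (Nat.zero_le _) hx

theorem f4t_vert16 : ∀ x, 0 ≤ x → x < 1755 → (chkVertex f4tL16 [f4tL17, f4tL18, f4tL19, f4tL20, f4tL21, f4tL22, f4tL23, f4tL24, f4tL25, f4tL26, f4tL27, f4tL28, f4tL29, f4tL30, f4tL31, f4tL32, f4tL33, f4tL34, f4tL35, f4tL36, f4tL37, f4tL38, f4tL39, f4tL40, f4tL41, f4tL42, f4tL43, f4tL44, f4tL45, f4tL46, f4tL47, f4tL48, f4tL49, f4tL50, f4tL51]) x = true := by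
  intro x hlo hx
  exact allFrom_sound (f := chkVertex f4tL16 [f4tL17, f4tL18, f4tL19, f4tL20, f4tL21, f4tL22, f4tL23, f4tL24, f4tL25, f4tL26, f4tL27, f4tL28, f4tL29, f4tL30, f4tL31, f4tL32, f4tL33, f4tL34, f4tL35, f4tL36, f4tL37, f4tL38, f4tL39, f4tL40, f4tL41, f4tL42, f4tL43, f4tL44, f4tL45, f4tL46, f4tL47, f4tL48, f4tL49, f4tL50, f4tL51]) f4t_vert16_c0 x (by omega) (by omega)

theorem f4t_vert16' : ∀ v, v < 1755 → chkVertex f4tL16 [f4tL17, f4tL18, f4tL19, f4tL20, f4tL21, f4tL22, f4tL23, f4tL24, f4tL25, f4tL26, f4tL27, f4tL28, f4tL29, f4tL30, f4tL31, f4tL32, f4tL33, f4tL34, f4tL35, f4tL36, f4tL37, f4tL38, f4tL39, f4tL40, f4tL41, f4tL42, f4tL43, f4tL44, f4tL45, f4tL46, f4tL47, f4tL48, f4tL49, f4tL50, f4tL51] v = true := fun x hx => f4t_vert16 x (Nat.zero_le _) hx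

theorem f4t_nest17 : ∀ x, 0 ≤ x → x < 1755 → (chkNest f4tL16.S f4tL17) x = true := by
  intro x hlo hx
  exact allFrom_sound (f := chkNest f4tL16.S f4tL17) f4t_nest17_c0 x (by omega) (by omega)

theorem f4t_nest17' : ∀ x, x < 1755 → chkNest f4tL16.S f4tL17 x = true := fun x hx => f4t_nest17 x (Nat.zero_le _) hx

theorem f4t_vert17 : ∀ x, 0 ≤ x → x < 1755 → (chkVertex f4tL17 [f4tL18, f4tL19, f4tL20, f4tL21, f4tL22, f4tL23, f4tL24, f4tL25, f4tL26, f4tL27, f4tL28, f4tL29, f4tL30, f4tL31, f4tL32, f4tL33, f4tL34, f4tL35, f4tL36, f4tL37, f4tL38, f4tL39, f4tL40, f4tL41, f4tL42, f4tL43, f4tL44, f4tL45, f4tL46, f4tL47, f4tL48, f4tL49, f4tL50, f4tL51]) x = true := by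
  intro x hlo hx
  exact allFrom_sound (f := chkVertex f4tL17 [f4tL18, f4tL19, f4tL20, f4tL21, f4tL22, f4tL23, f4tL24, f4tL25, f4tL26, f4tL27, f4tL28, f4tL29, f4tL30, f4tL31, f4tL32, f4tL33, f4tL34, f4tL35, f4tL36, f4tL37, f4tL38, f4tL39, f4tL40, f4tL41, f4tL42, f4tL43, f4tL44, f4tL45, f4tL46, f4tL47, f4tL48, f4tL49, f4tL50, f4tL51]) f4t_vert17_c0 x (by omega) (by omega)

theorem f4t_vert17' : ∀ v, v < 1755 → chkVertex f4tL17 [f4tL18, f4tL19, f4tL20, f4tL21, f4tL22, f4tL23, f4tL24, f4tL25, f4tL26, f4tL27, f4tL28, f4tL29, f4tL30, f4tL31, f4tL32, f4tL33, f4tL34, f4tL35, f4tL36, f4tL37, f4tL38, f4tL39, f4tL40, f4tL41, f4tL42, f4tL43, f4tL44, f4tL45, f4tL46, f4tL47, f4tL48, f4tL49, f4tL50, f4tL51] v = true := fun x hx => f4t_vert17 x (Nat.zero_le _) hx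

theorem f4t_nest18 : ∀ x, 0 ≤ x → x < 1755 → (chkNest f4tL17.S f4tL18) x = true := by
  intro x hlo hx
  exact allFrom_sound (f := chkNest f4tL17.S f4tL18) f4t_nest18_c0 x (by omega) (by omega)

theorem f4t_nest18' : ∀ x, x < 1755 → chkNest f4tL17.S f4tL18 x = true := fun x hx => f4t_nest18 x (Nat.zero_le _) hx

theorem f4t_vert18 : ∀ x, 0 ≤ x → x < 1755 → (chkVertex f4tL18 [f4tL19, f4tL20, f4tL21, f4tL22, f4tL23, f4tL24, f4tL25, f4tL26, f4tL27, f4tL28, f4tL29, f4tL30, f4tL31, f4tL32, f4tL33, f4tL34, f4tL35, f4tL36, f4tL37, f4tL38, f4tL39, f4tL40, f4tL41, f4tL42, f4tL43, f4tL44, f4tL45, f4tL46, f4tL47, f4tL48, f4tL49, f4tL50, f4tL51]) x = true := by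
  intro x hlo hx
  exact allFrom_sound (f := chkVertex f4tL18 [f4tL19, f4tL20, f4tL21, f4tL22, f4tL23, f4tL24, f4tL25, f4tL26, f4tL27, f4tL28, f4tL29, f4tL30, f4tL31, f4tL32, f4tL33, f4tL34, f4tL35, f4tL36, f4tL37, f4tL38, f4tL39, f4tL40, f4tL41, f4tL42, f4tL43, f4tL44, f4tL45, f4tL46, f4tL47, f4tL48, f4tL49, f4tL50, f4tL51]) f4t_vert18_c0 x (by omega) (by omega)

theorem f4t_vert18' : ∀ v, v < 1755 → chkVertex f4tL18 [f4tL19, f4tL20, f4tL21, f4tL22, f4tL23, f4tL24, f4tL25, f4tL26, f4tL27, f4tL28, f4tL29, f4tL30, f4tL31, f4tL32, f4tL33, f4tL34, f4tL35, f4tL36, f4tL37, f4tL38, f4tL39, f4tL40, f4tL41, f4tL42, f4tL43, f4tL44, f4tL45, f4tL46, f4tL47, f4tL48, f4tL49, f4tL50, f4tL51] v = true := fun x hx => f4t_vert18 x (Nat.zero_le _) hx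

theorem f4t_nest19 : ∀ x, 0 ≤ x → x < 1755 → (chkNest f4tL18.S f4tL19) x = true := by
  intro x hlo hx
  exact allFrom_sound (f := chkNest f4tL18.S f4tL19) f4t_nest19_c0 x (by omega) (by omega)

theorem f4t_nest19' : ∀ x, x < 1755 → chkNest f4tL18.S f4tL19 x = true := fun x hx => f4t_nest19 x (Nat.zero_le _) hx

theorem f4t_vert19 : ∀ x, 0 ≤ x → x < 1755 → (chkVertex f4tL19 [f4tL20, f4tL21, f4tL22, f4tL23, f4tL24, f4tL25, f4tL26, f4tL27, f4tL28, f4tL29, f4tL30, f4tL31, f4tL32, f4tL33, f4tL34, f4tL35, f4tL36, f4tL37, f4tL38, f4tL39, f4tL40, f4tL41, f4tL42, f4tL43, f4tL44, f4tL45, f4tL46, f4tL47, f4tL48, f4tL49, f4tL50, f4tL51]) x = true := by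
  intro x hlo hx
  exact allFrom_sound (f := chkVertex f4tL19 [f4tL20, f4tL21, f4tL22, f4tL23, f4tL24, f4tL25, f4tL26, f4tL27, f4tL28, f4tL29, f4tL30, f4tL31, f4tL32, f4tL33, f4tL34, f4tL35, f4tL36, f4tL37, f4tL38, f4tL39, f4tL40, f4tL41, f4tL42, f4tL43, f4tL44, f4tL45, f4tL46, f4tL47, f4tL48, f4tL49, f4tL50, f4tL51]) f4t_vert19_c0 x (by omega) (by omega)

theorem f4t_vert19' : ∀ v, v < 1755 → chkVertex f4tL19 [f4tL20, f4tL21, f4tL22, f4tL23, f4tL24, f4tL25, f4tL26, f4tL27, f4tL28, f4tL29, f4tL30, f4tL31, f4tL32, f4tL33, f4tL34, f4tL35, f4tL36, f4tL37, f4tL38, f4tL39, f4tL40, f4tL41, f4tL42, f4tL43, f4tL44, f4tL45, f4tL46, f4tL47, f4tL48, f4tL49, f4tL50, f4tL51] v = true := fun x hx => f4t_vert19 x (Nat.zero_le _) hx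

theorem f4t_nest20 : ∀ x, 0 ≤ x → x < 1755 → (chkNest f4tL19.S f4tL20) x = true := by
  intro x hlo hx
  exact allFrom_sound (f := chkNest f4tL19.S f4tL20) f4t_nest20_c0 x (by omega) (by omega)

theorem f4t_nest20' : ∀ x, x < 1755 → chkNest f4tL19.S f4tL20 x = true := fun x hx => f4t_nest20 x (Nat.zero_le _) hx

theorem f4t_vert20 : ∀ x, 0 ≤ x → x < 1755 → (chkVertex f4tL20 [f4tL21, f4tL22, f4tL23, f4tL24, f4tL25, f4tL26, f4tL27, f4tL28, f4tL29, f4tL30, f4tL31, f4tL32, f4tL33, f4tL34, f4tL35, f4tL36, f4tL37, f4tL38, f4tL39, f4tL40, f4tL41, f4tL42, f4tL43, f4tL44, f4tL45, f4tL46, f4tL47, f4tL48, f4tL49, f4tL50, f4tL51]) x = true := by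
  intro x hlo hx
  exact allFrom_sound (f := chkVertex f4tL20 [f4tL21, f4tL22, f4tL23, f4tL24, f4tL25, f4tL26, f4tL27, f4tL28, f4tL29, f4tL30, f4tL31, f4tL32, f4tL33, f4tL34, f4tL35, f4tL36, f4tL37, f4tL38, f4tL39, f4tL40, f4tL41, f4tL42, f4tL43, f4tL44, f4tL45, f4tL46, f4tL47, f4tL48, f4tL49, f4tL50, f4tL51]) f4t_vert20_c0 x (by omega) (by omega)

theorem f4t_vert20' : ∀ v, v < 1755 → chkVertex f4tL20 [f4tL21, f4tL22, f4tL23, f4tL24, f4tL25, f4tL26, f4tL27, f4tL28, f4tL29, f4tL30, f4tL31, f4tL32, f4tL33, f4tL34, f4tL35, f4tL36, f4tL37, f4tL38, f4tL39, f4tL40, f4tL41, f4tL42, f4tL43, f4tL44, f4tL45, f4tL46, f4tL47, f4tL48, f4tL49, f4tL50, f4tL51] v = true := fun x hx => f4t_vert20 x (Nat.zero_le _) hx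

theorem f4t_nest21 : ∀ x, 0 ≤ x → x < 1755 → (chkNest f4tL20.S f4tL21) x = true := by
  intro x hlo hx
  exact allFrom_sound (f := chkNest f4tL20.S f4tL21) f4t_nest21_c0 x (by omega) (by omega)

theorem f4t_nest21' : ∀ x, x < 1755 → chkNest f4tL20.S f4tL21 x = true := fun x hx => f4t_nest21 x (Nat.zero_le _) hx

theorem f4t_vert21 : ∀ x, 0 ≤ x → x < 1755 → (chkVertex f4tL21 [f4tL22, f4tL23, f4tL24, f4tL25, f4tL26, f4tL27, f4tL28, f4tL29, f4tL30, f4tL31, f4tL32, f4tL33, f4tL34, f4tL35, f4tL36, f4tL37, f4tL38, f4tL39, f4tL40, f4tL41, f4tL42, f4tL43, f4tL44, f4tL45, f4tL46, f4tL47, f4tL48, f4tL49, f4tL50, f4tL51]) x = true := by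
  intro x hlo hx
  exact allFrom_sound (f := chkVertex f4tL21 [f4tL22, f4tL23, f4tL24, f4tL25, f4tL26, f4tL27, f4tL28, f4tL29, f4tL30, f4tL31, f4tL32, f4tL33, f4tL34, f4tL35, f4tL36, f4tL37, f4tL38, f4tL39, f4tL40, f4tL41, f4tL42, f4tL43, f4tL44, f4tL45, f4tL46, f4tL47, f4tL48, f4tL49, f4tL50, f4tL51]) f4t_vert21_c0 x (by omega) (by omega)

theorem f4t_vert21' : ∀ v, v < 1755 → chkVertex f4tL21 [f4tL22, f4tL23, f4tL24, f4tL25, f4tL26, f4tL27, f4tL28, f4tL29, f4tL30, f4tL31, f4tL32, f4tL33, f4tL34, f4tL35, f4tL36, f4tL37, f4tL38, f4tL39, f4tL40, f4tL41, f4tL42, f4tL43, f4tL44, f4tL45, f4tL46, f4tL47, f4tL48, f4tL49, f4tL50, f4tL51] v = true := fun x hx => f4t_vert21 x (Nat.zero_le _) hx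

theorem f4t_nest22 : ∀ x, 0 ≤ x → x < 1755 → (chkNest f4tL21.S f4tL22) x = true := by
  intro x hlo hx
  exact allFrom_sound (f := chkNest f4tL21.S f4tL22) f4t_nest22_c0 x (by omega) (by omega)

theorem f4t_nest22' : ∀ x, x < 1755 → chkNest f4tL21.S f4tL22 x = true := fun x hx => f4t_nest22 x (Nat.zero_le _) hx

theorem f4t_vert22 : ∀ x, 0 ≤ x → x < 1755 → (chkVertex f4tL22 [f4tL23, f4tL24, f4tL25, f4tL26, f4tL27, f4tL28, f4tL29, f4tL30, f4tL31, f4tL32, f4tL33, f4tL34, f4tL35, f4tL36, f4tL37, f4tL38, f4tL39, f4tL40, f4tL41, f4tL42, f4tL43, f4tL44, f4tL45, f4tL46, f4tL47, f4tL48, f4tL49, f4tL50, f4tL51]) x = true := by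
  intro x hlo hx
  exact allFrom_sound (f := chkVertex f4tL22 [f4tL23, f4tL24, f4tL25, f4tL26, f4tL27, f4tL28, f4tL29, f4tL30, f4tL31, f4tL32, f4tL33, f4tL34, f4tL35, f4tL36, f4tL37, f4tL38, f4tL39, f4tL40, f4tL41, f4tL42, f4tL43, f4tL44, f4tL45, f4tL46, f4tL47, f4tL48, f4tL49, f4tL50, f4tL51]) f4t_vert22_c0 x (by omega) (by omega)

theorem f4t_vert22' : ∀ v, v < 1755 → chkVertex f4tL22 [f4tL23, f4tL24, f4tL25, f4tL26, f4tL27, f4tL28, f4tL29, f4tL30, f4tL31, f4tL32, f4tL33, f4tL34, f4tL35, f4tL36, f4tL37, f4tL38, f4tL39, f4tL40, f4tL41, f4tL42, f4tL43, f4tL44, f4tL45, f4tL46, f4tL47, f4tL48, f4tL49, f4tL50, f4tL51] v = true := fun x hx => f4t_vert22 x (Nat.zero_le _) hx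

theorem f4t_nest23 : ∀ x, 0 ≤ x → x < 1755 → (chkNest f4tL22.S f4tL23) x = true := by
  intro x hlo hx
  exact allFrom_sound (f := chkNest f4tL22.S f4tL23) f4t_nest23_c0 x (by omega) (by omega)

theorem f4t_nest23' : ∀ x, x < 1755 → chkNest f4tL22.S f4tL23 x = true := fun x hx => f4t_nest23 x (Nat.zero_le _) hx

theorem f4t_vert23 : ∀ x, 0 ≤ x → x < 1755 → (chkVertex f4tL23 [f4tL24, f4tL25, f4tL26, f4tL27, f4tL28, f4tL29, f4tL30, f4tL31, f4tL32, f4tL33, f4tL34, f4tL35, f4tL36, f4tL37, f4tL38, f4tL39, f4tL40, f4tL41, f4tL42, f4tL43, f4tL44, f4tL45, f4tL46, f4tL47, f4tL48, f4tL49, f4tL50, f4tL51]) x = true := by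
  intro x hlo hx
  exact allFrom_sound (f := chkVertex f4tL23 [f4tL24, f4tL25, f4tL26, f4tL27, f4tL28, f4tL29, f4tL30, f4tL31, f4tL32, f4tL33, f4tL34, f4tL35, f4tL36, f4tL37, f4tL38, f4tL39, f4tL40, f4tL41, f4tL42, f4tL43, f4tL44, f4tL45, f4tL46, f4tL47, f4tL48, f4tL49, f4tL50, f4tL51]) f4t_vert23_c0 x (by omega) (by omega)

theorem f4t_vert23' : ∀ v, v < 1755 → chkVertex f4tL23 [f4tL24, f4tL25, f4tL26, f4tL27, f4tL28, f4tL29, f4tL30, f4tL31, f4tL32, f4tL33, f4tL34, f4tL35, f4tL36, f4tL37, f4tL38, f4tL39, f4tL40, f4tL41, f4tL42, f4tL43, f4tL44, f4tL45, f4tL46, f4tL47, f4tL48, f4tL49, f4tL50, f4tL51] v = true := fun x hx => f4t_vert23 x (Nat.zero_le _) hx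

theorem f4t_nest24 : ∀ x, 0 ≤ x → x < 1755 → (chkNest f4tL23.S f4tL24) x = true := by
  intro x hlo hx
  exact allFrom_sound (f := chkNest f4tL23.S f4tL24) f4t_nest24_c0 x (by omega) (by omega)

theorem f4t_nest24' : ∀ x, x < 1755 → chkNest f4tL23.S f4tL24 x = true := fun x hx => f4t_nest24 x (Nat.zero_le _) hx

theorem f4t_vert24 : ∀ x, 0 ≤ x → x < 1755 → (chkVertex f4tL24 [f4tL25, f4tL26, f4tL27, f4tL28, f4tL29, f4tL30, f4tL31, f4tL32, f4tL33, f4tL34, f4tL35, f4tL36, f4tL37, f4tL38, f4tL39, f4tL40, f4tL41, f4tL42, f4tL43, f4tL44, f4tL45, f4tL46, f4tL47, f4tL48, f4tL49, f4tL50, f4tL51]) x = true := by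
  intro x hlo hx
  exact allFrom_sound (f := chkVertex f4tL24 [f4tL25, f4tL26, f4tL27, f4tL28, f4tL29, f4tL30, f4tL31, f4tL32, f4tL33, f4tL34, f4tL35, f4tL36, f4tL37, f4tL38, f4tL39, f4tL40, f4tL41, f4tL42, f4tL43, f4tL44, f4tL45, f4tL46, f4tL47, f4tL48, f4tL49, f4tL50, f4tL51]) f4t_vert24_c0 x (by omega) (by omega)

theorem f4t_vert24' : ∀ v, v < 1755 → chkVertex f4tL24 [f4tL25, f4tL26, f4tL27, f4tL28, f4tL29, f4tL30, f4tL31, f4tL32, f4tL33, f4tL34, f4tL35, f4tL36, f4tL37, f4tL38, f4tL39, f4tL40, f4tL41, f4tL42, f4tL43, f4tL44, f4tL45, f4tL46, f4tL47, f4tL48, f4tL49, f4tL50, f4tL51] v = true := fun x hx => f4t_vert24 x (Nat.zero_le _) hx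

theorem f4t_nest25 : ∀ x, 0 ≤ x → x < 1755 → (chkNest f4tL24.S f4tL25) x = true := by
  intro x hlo hx
  exact allFrom_sound (f := chkNest f4tL24.S f4tL25) f4t_nest25_c0 x (by omega) (by omega)

theorem f4t_nest25' : ∀ x, x < 1755 → chkNest f4tL24.S f4tL25 x = true := fun x hx => f4t_nest25 x (Nat.zero_le _) hx

theorem f4t_vert25 : ∀ x, 0 ≤ x → x < 1755 → (chkVertex f4tL25 [f4tL26, f4tL27, f4tL28, f4tL29, f4tL30, f4tL31, f4tL32, f4tL33, f4tL34, f4tL35, f4tL36, f4tL37, f4tL38, f4tL39, f4tL40, f4tL41, f4tL42, f4tL43, f4tL44, f4tL45, f4tL46, f4tL47, f4tL48, f4tL49, f4tL50, f4tL51]) x = true := by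
  intro x hlo hx
  exact allFrom_sound (f := chkVertex f4tL25 [f4tL26, f4tL27, f4tL28, f4tL29, f4tL30, f4tL31, f4tL32, f4tL33, f4tL34, f4tL35, f4tL36, f4tL37, f4tL38, f4tL39, f4tL40, f4tL41, f4tL42, f4tL43, f4tL44, f4tL45, f4tL46, f4tL47, f4tL48, f4tL49, f4tL50, f4tL51]) f4t_vert25_c0 x (by omega) (by omega)

theorem f4t_vert25' : ∀ v, v < 1755 → chkVertex f4tL25 [f4tL26, f4tL27, f4tL28, f4tL29, f4tL30, f4tL31, f4tL32, f4tL33, f4tL34, f4tL35, f4tL36, f4tL37, f4tL38, f4tL39, f4tL40, f4tL41, f4tL42, f4tL43, f4tL44, f4tL45, f4tL46, f4tL47, f4tL48, f4tL49, f4tL50, f4tL51] v = true := fun x hx => f4t_vert25 x (Nat.zero_le _) hx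

theorem f4t_nest26 : ∀ x, 0 ≤ x → x < 1755 → (chkNest f4tL25.S f4tL26) x = true := by
  intro x hlo hx
  exact allFrom_sound (f := chkNest f4tL25.S f4tL26) f4t_nest26_c0 x (by omega) (by omega)

theorem f4t_nest26' : ∀ x, x < 1755 → chkNest f4tL25.S f4tL26 x = true := fun x hx => f4t_nest26 x (Nat.zero_le _) hx

theorem f4t_vert26 : ∀ x, 0 ≤ x → x < 1755 → (chkVertex f4tL26 [f4tL27, f4tL28, f4tL29, f4tL30, f4tL31, f4tL32, f4tL33, f4tL34, f4tL35, f4tL36, f4tL37, f4tL38, f4tL39, f4tL40, f4tL41, f4tL42, f4tL43, f4tL44, f4tL45, f4tL46, f4tL47, f4tL48, f4tL49, f4tL50, f4tL51]) x = true := by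
  intro x hlo hx
  exact allFrom_sound (f := chkVertex f4tL26 [f4tL27, f4tL28, f4tL29, f4tL30, f4tL31, f4tL32, f4tL33, f4tL34, f4tL35, f4tL36, f4tL37, f4tL38, f4tL39, f4tL40, f4tL41, f4tL42, f4tL43, f4tL44, f4tL45, f4tL46, f4tL47, f4tL48, f4tL49, f4tL50, f4tL51]) f4t_vert26_c0 x (by omega) (by omega)

theorem f4t_vert26' : ∀ v, v < 1755 → chkVertex f4tL26 [f4tL27, f4tL28, f4tL29, f4tL30, f4tL31, f4tL32, f4tL33, f4tL34, f4tL35, f4tL36, f4tL37, f4tL38, f4tL39, f4tL40, f4tL41, f4tL42, f4tL43, f4tL44, f4tL45, f4tL46, f4tL47, f4tL48, f4tL49, f4tL50, f4tL51] v = true := fun x hx => f4t_vert26 x (Nat.zero_le _) hx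

theorem f4t_nest27 : ∀ x, 0 ≤ x → x < 1755 → (chkNest f4tL26.S f4tL27) x = true := by
  intro x hlo hx
  exact allFrom_sound (f := chkNest f4tL26.S f4tL27) f4t_nest27_c0 x (by omega) (by omega)

theorem f4t_nest27' : ∀ x, x < 1755 → chkNest f4tL26.S f4tL27 x = true := fun x hx => f4t_nest27 x (Nat.zero_le _) hx

theorem f4t_vert27 : ∀ x, 0 ≤ x → x < 1755 → (chkVertex f4tL27 [f4tL28, f4tL29, f4tL30, f4tL31, f4tL32, f4tL33, f4tL34, f4tL35, f4tL36, f4tL37, f4tL38, f4tL39, f4tL40, f4tL41, f4tL42, f4tL43, f4tL44, f4tL45, f4tL46, f4tL47, f4tL48, f4tL49, f4tL50, f4tL51]) x = true := by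
  intro x hlo hx
  exact allFrom_sound (f := chkVertex f4tL27 [f4tL28, f4tL29, f4tL30, f4tL31, f4tL32, f4tL33, f4tL34, f4tL35, f4tL36, f4tL37, f4tL38, f4tL39, f4tL40, f4tL41, f4tL42, f4tL43, f4tL44, f4tL45, f4tL46, f4tL47, f4tL48, f4tL49, f4tL50, f4tL51]) f4t_vert27_c0 x (by omega) (by omega)

theorem f4t_vert27' : ∀ v, v < 1755 → chkVertex f4tL27 [f4tL28, f4tL29, f4tL30, f4tL31, f4tL32, f4tL33, f4tL34, f4tL35, f4tL36, f4tL37, f4tL38, f4tL39, f4tL40, f4tL41, f4tL42, f4tL43, f4tL44, f4tL45, f4tL46, f4tL47, f4tL48, f4tL49, f4tL50, f4tL51] v = true := fun x hx => f4t_vert27 x (Nat.zero_le _) hx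

theorem f4t_nest28 : ∀ x, 0 ≤ x → x < 1755 → (chkNest f4tL27.S f4tL28) x = true := by
  intro x hlo hx
  exact allFrom_sound (f := chkNest f4tL27.S f4tL28) f4t_nest28_c0 x (by omega) (by omega)

theorem f4t_nest28' : ∀ x, x < 1755 → chkNest f4tL27.S f4tL28 x = true := fun x hx => f4t_nest28 x (Nat.zero_le _) hx

theorem f4t_vert28 : ∀ x, 0 ≤ x → x < 1755 → (chkVertex f4tL28 [f4tL29, f4tL30, f4tL31, f4tL32, f4tL33, f4tL34, f4tL35, f4tL36, f4tL37, f4tL38, f4tL39, f4tL40, f4tL41, f4tL42, f4tL43, f4tL44, f4tL45, f4tL46, f4tL47, f4tL48, f4tL49, f4tL50, f4tL51]) x = true := by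
  intro x hlo hx
  exact allFrom_sound (f := chkVertex f4tL28 [f4tL29, f4tL30, f4tL31, f4tL32, f4tL33, f4tL34, f4tL35, f4tL36, f4tL37, f4tL38, f4tL39, f4tL40, f4tL41, f4tL42, f4tL43, f4tL44, f4tL45, f4tL46, f4tL47, f4tL48, f4tL49, f4tL50, f4tL51]) f4t_vert28_c0 x (by omega) (by omega)

theorem f4t_vert28' : ∀ v, v < 1755 → chkVertex f4tL28 [f4tL29, f4tL30, f4tL31, f4tL32, f4tL33, f4tL34, f4tL35, f4tL36, f4tL37, f4tL38, f4tL39, f4tL40, f4tL41, f4tL42, f4tL43, f4tL44, f4tL45, f4tL46, f4tL47, f4tL48, f4tL49, f4tL50, f4tL51] v = true := fun x hx => f4t_vert28 x (Nat.zero_le _) hx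

theorem f4t_nest29 : ∀ x, 0 ≤ x → x < 1755 → (chkNest f4tL28.S f4tL29) x = true := by
  intro x hlo hx
  exact allFrom_sound (f := chkNest f4tL28.S f4tL29) f4t_nest29_c0 x (by omega) (by omega)

theorem f4t_nest29' : ∀ x, x < 1755 → chkNest f4tL28.S f4tL29 x = true := fun x hx => f4t_nest29 x (Nat.zero_le _) hx

theorem f4t_vert29 : ∀ x, 0 ≤ x → x < 1755 → (chkVertex f4tL29 [f4tL30, f4tL31, f4tL32, f4tL33, f4tL34, f4tL35, f4tL36, f4tL37, f4tL38, f4tL39, f4tL40, f4tL41, f4tL42, f4tL43, f4tL44, f4tL45, f4tL46, f4tL47, f4tL48, f4tL49, f4tL50, f4tL51]) x = true := by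
  intro x hlo hx
  exact allFrom_sound (f := chkVertex f4tL29 [f4tL30, f4tL31, f4tL32, f4tL33, f4tL34, f4tL35, f4tL36, f4tL37, f4tL38, f4tL39, f4tL40, f4tL41, f4tL42, f4tL43, f4tL44, f4tL45, f4tL46, f4tL47, f4tL48, f4tL49, f4tL50, f4tL51]) f4t_vert29_c0 x (by omega) (by omega)

theorem f4t_vert29' : ∀ v, v < 1755 → chkVertex f4tL29 [f4tL30, f4tL31, f4tL32, f4tL33, f4tL34, f4tL35, f4tL36, f4tL37, f4tL38, f4tL39, f4tL40, f4tL41, f4tL42, f4tL43, f4tL44, f4tL45, f4tL46, f4tL47, f4tL48, f4tL49, f4tL50, f4tL51] v = true := fun x hx => f4t_vert29 x (Nat.zero_le _) hx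

theorem f4t_nest30 : ∀ x, 0 ≤ x → x < 1755 → (chkNest f4tL29.S f4tL30) x = true := by
  intro x hlo hx
  exact allFrom_sound (f := chkNest f4tL29.S f4tL30) f4t_nest30_c0 x (by omega) (by omega)

theorem f4t_nest30' : ∀ x, x < 1755 → chkNest f4tL29.S f4tL30 x = true := fun x hx => f4t_nest30 x (Nat.zero_le _) hx

theorem f4t_vert30 : ∀ x, 0 ≤ x → x < 1755 → (chkVertex f4tL30 [f4tL31, f4tL32, f4tL33, f4tL34, f4tL35, f4tL36, f4tL37, f4tL38, f4tL39, f4tL40, f4tL41, f4tL42, f4tL43, f4tL44, f4tL45, f4tL46, f4tL47, f4tL48, f4tL49, f4tL50, f4tL51]) x = true := by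
  intro x hlo hx
  exact allFrom_sound (f := chkVertex f4tL30 [f4tL31, f4tL32, f4tL33, f4tL34, f4tL35, f4tL36, f4tL37, f4tL38, f4tL39, f4tL40, f4tL41, f4tL42, f4tL43, f4tL44, f4tL45, f4tL46, f4tL47, f4tL48, f4tL49, f4tL50, f4tL51]) f4t_vert30_c0 x (by omega) (by omega)

theorem f4t_vert30' : ∀ v, v < 1755 → chkVertex f4tL30 [f4tL31, f4tL32, f4tL33, f4tL34, f4tL35, f4tL36, f4tL37, f4tL38, f4tL39, f4tL40, f4tL41, f4tL42, f4tL43, f4tL44, f4tL45, f4tL46, f4tL47, f4tL48, f4tL49, f4tL50, f4tL51] v = true := fun x hx => f4t_vert30 x (Nat.zero_le _) hx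

theorem f4t_nest31 : ∀ x, 0 ≤ x → x < 1755 → (chkNest f4tL30.S f4tL31) x = true := by
  intro x hlo hx
  exact allFrom_sound (f := chkNest f4tL30.S f4tL31) f4t_nest31_c0 x (by omega) (by omega)

theorem f4t_nest31' : ∀ x, x < 1755 → chkNest f4tL30.S f4tL31 x = true := fun x hx => f4t_nest31 x (Nat.zero_le _) hx

theorem f4t_vert31 : ∀ x, 0 ≤ x → x < 1755 → (chkVertex f4tL31 [f4tL32, f4tL33, f4tL34, f4tL35, f4tL36, f4tL37, f4tL38, f4tL39, f4tL40, f4tL41, f4tL42, f4tL43, f4tL44, f4tL45, f4tL46, f4tL47, f4tL48, f4tL49, f4tL50, f4tL51]) x = true := by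
  intro x hlo hx
  exact allFrom_sound (f := chkVertex f4tL31 [f4tL32, f4tL33, f4tL34, f4tL35, f4tL36, f4tL37, f4tL38, f4tL39, f4tL40, f4tL41, f4tL42, f4tL43, f4tL44, f4tL45, f4tL46, f4tL47, f4tL48, f4tL49, f4tL50, f4tL51]) f4t_vert31_c0 x (by omega) (by omega)

theorem f4t_vert31' : ∀ v, v < 1755 → chkVertex f4tL31 [f4tL32, f4tL33, f4tL34, f4tL35, f4tL36, f4tL37, f4tL38, f4tL39, f4tL40, f4tL41, f4tL42, f4tL43, f4tL44, f4tL45, f4tL46, f4tL47, f4tL48, f4tL49, f4tL50, f4tL51] v = true := fun x hx => f4t_vert31 x (Nat.zero_le _) hx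

theorem f4t_nest32 : ∀ x, 0 ≤ x → x < 1755 → (chkNest f4tL31.S f4tL32) x = true := by
  intro x hlo hx
  exact allFrom_sound (f := chkNest f4tL31.S f4tL32) f4t_nest32_c0 x (by omega) (by omega)

theorem f4t_nest32' : ∀ x, x < 1755 → chkNest f4tL31.S f4tL32 x = true := fun x hx => f4t_nest32 x (Nat.zero_le _) hx

theorem f4t_vert32 : ∀ x, 0 ≤ x → x < 1755 → (chkVertex f4tL32 [f4tL33, f4tL34, f4tL35, f4tL36, f4tL37, f4tL38, f4tL39, f4tL40, f4tL41, f4tL42, f4tL43, f4tL44, f4tL45, f4tL46, f4tL47, f4tL48, f4tL49, f4tL50, f4tL51]) x = true := by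
  intro x hlo hx
  exact allFrom_sound (f := chkVertex f4tL32 [f4tL33, f4tL34, f4tL35, f4tL36, f4tL37, f4tL38, f4tL39, f4tL40, f4tL41, f4tL42, f4tL43, f4tL44, f4tL45, f4tL46, f4tL47, f4tL48, f4tL49, f4tL50, f4tL51]) f4t_vert32_c0 x (by omega) (by omega)

theorem f4t_vert32' : ∀ v, v < 1755 → chkVertex f4tL32 [f4tL33, f4tL34, f4tL35, f4tL36, f4tL37, f4tL38, f4tL39, f4tL40, f4tL41, f4tL42, f4tL43, f4tL44, f4tL45, f4tL46, f4tL47, f4tL48, f4tL49, f4tL50, f4tL51] v = true := fun x hx => f4t_vert32 x (Nat.zero_le _) hx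

theorem f4t_nest33 : ∀ x, 0 ≤ x → x < 1755 → (chkNest f4tL32.S f4tL33) x = true := by
  intro x hlo hx
  exact allFrom_sound (f := chkNest f4tL32.S f4tL33) f4t_nest33_c0 x (by omega) (by omega)

theorem f4t_nest33' : ∀ x, x < 1755 → chkNest f4tL32.S f4tL33 x = true := fun x hx => f4t_nest33 x (Nat.zero_le _) hx

theorem f4t_vert33 : ∀ x, 0 ≤ x → x < 1755 → (chkVertex f4tL33 [f4tL34, f4tL35, f4tL36, f4tL37, f4tL38, f4tL39, f4tL40, f4tL41, f4tL42, f4tL43, f4tL44, f4tL45, f4tL46, f4tL47, f4tL48, f4tL49, f4tL50, f4tL51]) x = true := by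
  intro x hlo hx
  exact allFrom_sound (f := chkVertex f4tL33 [f4tL34, f4tL35, f4tL36, f4tL37, f4tL38, f4tL39, f4tL40, f4tL41, f4tL42, f4tL43, f4tL44, f4tL45, f4tL46, f4tL47, f4tL48, f4tL49, f4tL50, f4tL51]) f4t_vert33_c0 x (by omega) (by omega)

theorem f4t_vert33' : ∀ v, v < 1755 → chkVertex f4tL33 [f4tL34, f4tL35, f4tL36, f4tL37, f4tL38, f4tL39, f4tL40, f4tL41, f4tL42, f4tL43, f4tL44, f4tL45, f4tL46, f4tL47, f4tL48, f4tL49, f4tL50, f4tL51] v = true := fun x hx => f4t_vert33 x (Nat.zero_le _) hx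

theorem f4t_nest34 : ∀ x, 0 ≤ x → x < 1755 → (chkNest f4tL33.S f4tL34) x = true := by
  intro x hlo hx
  exact allFrom_sound (f := chkNest f4tL33.S f4tL34) f4t_nest34_c0 x (by omega) (by omega)

theorem f4t_nest34' : ∀ x, x < 1755 → chkNest f4tL33.S f4tL34 x = true := fun x hx => f4t_nest34 x (Nat.zero_le _) hx

theorem f4t_vert34 : ∀ x, 0 ≤ x → x < 1755 → (chkVertex f4tL34 [f4tL35, f4tL36, f4tL37, f4tL38, f4tL39, f4tL40, f4tL41, f4tL42, f4tL43, f4tL44, f4tL45, f4tL46, f4tL47, f4tL48, f4tL49, f4tL50, f4tL51]) x = true := by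
  intro x hlo hx
  exact allFrom_sound (f := chkVertex f4tL34 [f4tL35, f4tL36, f4tL37, f4tL38, f4tL39, f4tL40, f4tL41, f4tL42, f4tL43, f4tL44, f4tL45, f4tL46, f4tL47, f4tL48, f4tL49, f4tL50, f4tL51]) f4t_vert34_c0 x (by omega) (by omega)

theorem f4t_vert34' : ∀ v, v < 1755 → chkVertex f4tL34 [f4tL35, f4tL36, f4tL37, f4tL38, f4tL39, f4tL40, f4tL41, f4tL42, f4tL43, f4tL44, f4tL45, f4tL46, f4tL47, f4tL48, f4tL49, f4tL50, f4tL51] v = true := fun x hx => f4t_vert34 x (Nat.zero_le _) hx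

theorem f4t_nest35 : ∀ x, 0 ≤ x → x < 1755 → (chkNest f4tL34.S f4tL35) x = true := by
  intro x hlo hx
  exact allFrom_sound (f := chkNest f4tL34.S f4tL35) f4t_nest35_c0 x (by omega) (by omega)

theorem f4t_nest35' : ∀ x, x < 1755 → chkNest f4tL34.S f4tL35 x = true := fun x hx => f4t_nest35 x (Nat.zero_le _) hx

theorem f4t_vert35 : ∀ x, 0 ≤ x → x < 1755 → (chkVertex f4tL35 [f4tL36, f4tL37, f4tL38, f4tL39, f4tL40, f4tL41, f4tL42, f4tL43, f4tL44, f4tL45, f4tL46, f4tL47, f4tL48, f4tL49, f4tL50, f4tL51]) x = true := by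
  intro x hlo hx
  exact allFrom_sound (f := chkVertex f4tL35 [f4tL36, f4tL37, f4tL38, f4tL39, f4tL40, f4tL41, f4tL42, f4tL43, f4tL44, f4tL45, f4tL46, f4tL47, f4tL48, f4tL49, f4tL50, f4tL51]) f4t_vert35_c0 x (by omega) (by omega)

theorem f4t_vert35' : ∀ v, v < 1755 → chkVertex f4tL35 [f4tL36, f4tL37, f4tL38, f4tL39, f4tL40, f4tL41, f4tL42, f4tL43, f4tL44, f4tL45, f4tL46, f4tL47, f4tL48, f4tL49, f4tL50, f4tL51] v = true := fun x hx => f4t_vert35 x (Nat.zero_le _) hx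

theorem f4t_nest36 : ∀ x, 0 ≤ x → x < 1755 → (chkNest f4tL35.S f4tL36) x = true := by
  intro x hlo hx
  exact allFrom_sound (f := chkNest f4tL35.S f4tL36) f4t_nest36_c0 x (by omega) (by omega)

theorem f4t_nest36' : ∀ x, x < 1755 → chkNest f4tL35.S f4tL36 x = true := fun x hx => f4t_nest36 x (Nat.zero_le _) hx

theorem f4t_vert36 : ∀ x, 0 ≤ x → x < 1755 → (chkVertex f4tL36 [f4tL37, f4tL38, f4tL39, f4tL40, f4tL41, f4tL42, f4tL43, f4tL44, f4tL45, f4tL46, f4tL47, f4tL48, f4tL49, f4tL50, f4tL51]) x = true := by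
  intro x hlo hx
  exact allFrom_sound (f := chkVertex f4tL36 [f4tL37, f4tL38, f4tL39, f4tL40, f4tL41, f4tL42, f4tL43, f4tL44, f4tL45, f4tL46, f4tL47, f4tL48, f4tL49, f4tL50, f4tL51]) f4t_vert36_c0 x (by omega) (by omega)

theorem f4t_vert36' : ∀ v, v < 1755 → chkVertex f4tL36 [f4tL37, f4tL38, f4tL39, f4tL40, f4tL41, f4tL42, f4tL43, f4tL44, f4tL45, f4tL46, f4tL47, f4tL48, f4tL49, f4tL50, f4tL51] v = true := fun x hx => f4t_vert36 x (Nat.zero_le _) hx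

theorem f4t_nest37 : ∀ x, 0 ≤ x → x < 1755 → (chkNest f4tL36.S f4tL37) x = true := by
  intro x hlo hx
  exact allFrom_sound (f := chkNest f4tL36.S f4tL37) f4t_nest37_c0 x (by omega) (by omega)

theorem f4t_nest37' : ∀ x, x < 1755 → chkNest f4tL36.S f4tL37 x = true := fun x hx => f4t_nest37 x (Nat.zero_le _) hx

theorem f4t_vert37 : ∀ x, 0 ≤ x → x < 1755 → (chkVertex f4tL37 [f4tL38, f4tL39, f4tL40, f4tL41, f4tL42, f4tL43, f4tL44, f4tL45, f4tL46, f4tL47, f4tL48, f4tL49, f4tL50, f4tL51]) x = true := by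
  intro x hlo hx
  exact allFrom_sound (f := chkVertex f4tL37 [f4tL38, f4tL39, f4tL40, f4tL41, f4tL42, f4tL43, f4tL44, f4tL45, f4tL46, f4tL47, f4tL48, f4tL49, f4tL50, f4tL51]) f4t_vert37_c0 x (by omega) (by omega)

theorem f4t_vert37' : ∀ v, v < 1755 → chkVertex f4tL37 [f4tL38, f4tL39, f4tL40, f4tL41, f4tL42, f4tL43, f4tL44, f4tL45, f4tL46, f4tL47, f4tL48, f4tL49, f4tL50, f4tL51] v = true := fun x hx => f4t_vert37 x (Nat.zero_le _) hx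

theorem f4t_nest38 : ∀ x, 0 ≤ x → x < 1755 → (chkNest f4tL37.S f4tL38) x = true := by
  intro x hlo hx
  exact allFrom_sound (f := chkNest f4tL37.S f4tL38) f4t_nest38_c0 x (by omega) (by omega)

theorem f4t_nest38' : ∀ x, x < 1755 → chkNest f4tL37.S f4tL38 x = true := fun x hx => f4t_nest38 x (Nat.zero_le _) hx

theorem f4t_vert38 : ∀ x, 0 ≤ x → x < 1755 → (chkVertex f4tL38 [f4tL39, f4tL40, f4tL41, f4tL42, f4tL43, f4tL44, f4tL45, f4tL46, f4tL47, f4tL48, f4tL49, f4tL50, f4tL51]) x = true := by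
  intro x hlo hx
  exact allFrom_sound (f := chkVertex f4tL38 [f4tL39, f4tL40, f4tL41, f4tL42, f4tL43, f4tL44, f4tL45, f4tL46, f4tL47, f4tL48, f4tL49, f4tL50, f4tL51]) f4t_vert38_c0 x (by omega) (by omega)

theorem f4t_vert38' : ∀ v, v < 1755 → chkVertex f4tL38 [f4tL39, f4tL40, f4tL41, f4tL42, f4tL43, f4tL44, f4tL45, f4tL46, f4tL47, f4tL48, f4tL49, f4tL50, f4tL51] v = true := fun x hx => f4t_vert38 x (Nat.zero_le _) hx

theorem f4t_nest39 : ∀ x, 0 ≤ x → x < 1755 → (chkNest f4tL38.S f4tL39) x = true := by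
  intro x hlo hx
  exact allFrom_sound (f := chkNest f4tL38.S f4tL39) f4t_nest39_c0 x (by omega) (by omega)

theorem f4t_nest39' : ∀ x, x < 1755 → chkNest f4tL38.S f4tL39 x = true := fun x hx => f4t_nest39 x (Nat.zero_le _) hx

theorem f4t_vert39 : ∀ x, 0 ≤ x → x < 1755 → (chkVertex f4tL39 [f4tL40, f4tL41, f4tL42, f4tL43, f4tL44, f4tL45, f4tL46, f4tL47, f4tL48, f4tL49, f4tL50, f4tL51]) x = true := by
  intro x hlo hx
  exact allFrom_sound (f := chkVertex f4tL39 [f4tL40, f4tL41, f4tL42, f4tL43, f4tL44, f4tL45, f4tL46, f4tL47, f4tL48, f4tL49, f4tL50, f4tL51]) f4t_vert39_c0 x (by omega) (by omega)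

theorem f4t_vert39' : ∀ v, v < 1755 → chkVertex f4tL39 [f4tL40, f4tL41, f4tL42, f4tL43, f4tL44, f4tL45, f4tL46, f4tL47, f4tL48, f4tL49, f4tL50, f4tL51] v = true := fun x hx => f4t_vert39 x (Nat.zero_le _) hx

theorem f4t_nest40 : ∀ x, 0 ≤ x → x < 1755 → (chkNest f4tL39.S f4tL40) x = true := by
  intro x hlo hx
  exact allFrom_sound (f := chkNest f4tL39.S f4tL40) f4t_nest40_c0 x (by omega) (by omega)

theorem f4t_nest40' : ∀ x, x < 1755 → chkNest f4tL39.S f4tL40 x = true := fun x hx => f4t_nest40 x (Nat.zero_le _) hx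

theorem f4t_vert40 : ∀ x, 0 ≤ x → x < 1755 → (chkVertex f4tL40 [f4tL41, f4tL42, f4tL43, f4tL44, f4tL45, f4tL46, f4tL47, f4tL48, f4tL49, f4tL50, f4tL51]) x = true := by
  intro x hlo hx
  exact allFrom_sound (f := chkVertex f4tL40 [f4tL41, f4tL42, f4tL43, f4tL44, f4tL45, f4tL46, f4tL47, f4tL48, f4tL49, f4tL50, f4tL51]) f4t_vert40_c0 x (by omega) (by omega)

theorem f4t_vert40' : ∀ v, v < 1755 → chkVertex f4tL40 [f4tL41, f4tL42, f4tL43, f4tL44, f4tL45, f4tL46, f4tL47, f4tL48, f4tL49, f4tL50, f4tL51] v = true := fun x hx => f4t_vert40 x (Nat.zero_le _) hx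

theorem f4t_nest41 : ∀ x, 0 ≤ x → x < 1755 → (chkNest f4tL40.S f4tL41) x = true := by
  intro x hlo hx
  exact allFrom_sound (f := chkNest f4tL40.S f4tL41) f4t_nest41_c0 x (by omega) (by omega)

theorem f4t_nest41' : ∀ x, x < 1755 → chkNest f4tL40.S f4tL41 x = true := fun x hx => f4t_nest41 x (Nat.zero_le _) hx

theorem f4t_vert41 : ∀ x, 0 ≤ x → x < 1755 → (chkVertex f4tL41 [f4tL42, f4tL43, f4tL44, f4tL45, f4tL46, f4tL47, f4tL48, f4tL49, f4tL50, f4tL51]) x = true := by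
  intro x hlo hx
  exact allFrom_sound (f := chkVertex f4tL41 [f4tL42, f4tL43, f4tL44, f4tL45, f4tL46, f4tL47, f4tL48, f4tL49, f4tL50, f4tL51]) f4t_vert41_c0 x (by omega) (by omega)

theorem f4t_vert41' : ∀ v, v < 1755 → chkVertex f4tL41 [f4tL42, f4tL43, f4tL44, f4tL45, f4tL46, f4tL47, f4tL48, f4tL49, f4tL50, f4tL51] v = true := fun x hx => f4t_vert41 x (Nat.zero_le _) hx

theorem f4t_nest42 : ∀ x, 0 ≤ x → x < 1755 → (chkNest f4tL41.S f4tL42) x = true := by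
  intro x hlo hx
  exact allFrom_sound (f := chkNest f4tL41.S f4tL42) f4t_nest42_c0 x (by omega) (by omega)

theorem f4t_nest42' : ∀ x, x < 1755 → chkNest f4tL41.S f4tL42 x = true := fun x hx => f4t_nest42 x (Nat.zero_le _) hx

theorem f4t_vert42 : ∀ x, 0 ≤ x → x < 1755 → (chkVertex f4tL42 [f4tL43, f4tL44, f4tL45, f4tL46, f4tL47, f4tL48, f4tL49, f4tL50, f4tL51]) x = true := by
  intro x hlo hx
  exact allFrom_sound (f := chkVertex f4tL42 [f4tL43, f4tL44, f4tL45, f4tL46, f4tL47, f4tL48, f4tL49, f4tL50, f4tL51]) f4t_vert42_c0 x (by omega) (by omega)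

theorem f4t_vert42' : ∀ v, v < 1755 → chkVertex f4tL42 [f4tL43, f4tL44, f4tL45, f4tL46, f4tL47, f4tL48, f4tL49, f4tL50, f4tL51] v = true := fun x hx => f4t_vert42 x (Nat.zero_le _) hx

theorem f4t_nest43 : ∀ x, 0 ≤ x → x < 1755 → (chkNest f4tL42.S f4tL43) x = true := by
  intro x hlo hx
  exact allFrom_sound (f := chkNest f4tL42.S f4tL43) f4t_nest43_c0 x (by omega) (by omega)

theorem f4t_nest43' : ∀ x, x < 1755 → chkNest f4tL42.S f4tL43 x = true := fun x hx => f4t_nest43 x (Nat.zero_le _) hx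

theorem f4t_vert43 : ∀ x, 0 ≤ x → x < 1755 → (chkVertex f4tL43 [f4tL44, f4tL45, f4tL46, f4tL47, f4tL48, f4tL49, f4tL50, f4tL51]) x = true := by
  intro x hlo hx
  exact allFrom_sound (f := chkVertex f4tL43 [f4tL44, f4tL45, f4tL46, f4tL47, f4tL48, f4tL49, f4tL50, f4tL51]) f4t_vert43_c0 x (by omega) (by omega)

theorem f4t_vert43' : ∀ v, v < 1755 → chkVertex f4tL43 [f4tL44, f4tL45, f4tL46, f4tL47, f4tL48, f4tL49, f4tL50, f4tL51] v = true := fun x hx => f4t_vert43 x (Nat.zero_le _) hx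

theorem f4t_nest44 : ∀ x, 0 ≤ x → x < 1755 → (chkNest f4tL43.S f4tL44) x = true := by
  intro x hlo hx
  exact allFrom_sound (f := chkNest f4tL43.S f4tL44) f4t_nest44_c0 x (by omega) (by omega)

theorem f4t_nest44' : ∀ x, x < 1755 → chkNest f4tL43.S f4tL44 x = true := fun x hx => f4t_nest44 x (Nat.zero_le _) hx

theorem f4t_vert44 : ∀ x, 0 ≤ x → x < 1755 → (chkVertex f4tL44 [f4tL45, f4tL46, f4tL47, f4tL48, f4tL49, f4tL50, f4tL51]) x = true := by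
  intro x hlo hx
  exact allFrom_sound (f := chkVertex f4tL44 [f4tL45, f4tL46, f4tL47, f4tL48, f4tL49, f4tL50, f4tL51]) f4t_vert44_c0 x (by omega) (by omega)

theorem f4t_vert44' : ∀ v, v < 1755 → chkVertex f4tL44 [f4tL45, f4tL46, f4tL47, f4tL48, f4tL49, f4tL50, f4tL51] v = true := fun x hx => f4t_vert44 x (Nat.zero_le _) hx

theorem f4t_nest45 : ∀ x, 0 ≤ x → x < 1755 → (chkNest f4tL44.S f4tL45) x = true := by
  intro x hlo hx
  exact allFrom_sound (f := chkNest f4tL44.S f4tL45) f4t_nest45_c0 x (by omega) (by omega)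

theorem f4t_nest45' : ∀ x, x < 1755 → chkNest f4tL44.S f4tL45 x = true := fun x hx => f4t_nest45 x (Nat.zero_le _) hx

theorem f4t_vert45 : ∀ x, 0 ≤ x → x < 1755 → (chkVertex f4tL45 [f4tL46, f4tL47, f4tL48, f4tL49, f4tL50, f4tL51]) x = true := by
  intro x hlo hx
  exact allFrom_sound (f := chkVertex f4tL45 [f4tL46, f4tL47, f4tL48, f4tL49, f4tL50, f4tL51]) f4t_vert45_c0 x (by omega) (by omega)

theorem f4t_vert45' : ∀ v, v < 1755 → chkVertex f4tL45 [f4tL46, f4tL47, f4tL48, f4tL49, f4tL50, f4tL51] v = true := fun x hx => f4t_vert45 x (Nat.zero_le _) hx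

theorem f4t_nest46 : ∀ x, 0 ≤ x → x < 1755 → (chkNest f4tL45.S f4tL46) x = true := by
  intro x hlo hx
  exact allFrom_sound (f := chkNest f4tL45.S f4tL46) f4t_nest46_c0 x (by omega) (by omega)

theorem f4t_nest46' : ∀ x, x < 1755 → chkNest f4tL45.S f4tL46 x = true := fun x hx => f4t_nest46 x (Nat.zero_le _) hx

theorem f4t_vert46 : ∀ x, 0 ≤ x → x < 1755 → (chkVertex f4tL46 [f4tL47, f4tL48, f4tL49, f4tL50, f4tL51]) x = true := by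
  intro x hlo hx
  exact allFrom_sound (f := chkVertex f4tL46 [f4tL47, f4tL48, f4tL49, f4tL50, f4tL51]) f4t_vert46_c0 x (by omega) (by omega)

theorem f4t_vert46' : ∀ v, v < 1755 → chkVertex f4tL46 [f4tL47, f4tL48, f4tL49, f4tL50, f4tL51] v = true := fun x hx => f4t_vert46 x (Nat.zero_le _) hx

theorem f4t_nest47 : ∀ x, 0 ≤ x → x < 1755 → (chkNest f4tL46.S f4tL47) x = true := by
  intro x hlo hx
  exact allFrom_sound (f := chkNest f4tL46.S f4tL47) f4t_nest47_c0 x (by omega) (by omega)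

theorem f4t_nest47' : ∀ x, x < 1755 → chkNest f4tL46.S f4tL47 x = true := fun x hx => f4t_nest47 x (Nat.zero_le _) hx

theorem f4t_vert47 : ∀ x, 0 ≤ x → x < 1755 → (chkVertex f4tL47 [f4tL48, f4tL49, f4tL50, f4tL51]) x = true := by
  intro x hlo hx
  exact allFrom_sound (f := chkVertex f4tL47 [f4tL48, f4tL49, f4tL50, f4tL51]) f4t_vert47_c0 x (by omega) (by omega)

theorem f4t_vert47' : ∀ v, v < 1755 → chkVertex f4tL47 [f4tL48, f4tL49, f4tL50, f4tL51] v = true := fun x hx => f4t_vert47 x (Nat.zero_le _) hx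

theorem f4t_nest48 : ∀ x, 0 ≤ x → x < 1755 → (chkNest f4tL47.S f4tL48) x = true := by
  intro x hlo hx
  exact allFrom_sound (f := chkNest f4tL47.S f4tL48) f4t_nest48_c0 x (by omega) (by omega)

theorem f4t_nest48' : ∀ x, x < 1755 → chkNest f4tL47.S f4tL48 x = true := fun x hx => f4t_nest48 x (Nat.zero_le _) hx

theorem f4t_vert48 : ∀ x, 0 ≤ x → x < 1755 → (chkVertex f4tL48 [f4tL49, f4tL50, f4tL51]) x = true := by
  intro x hlo hx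
  exact allFrom_sound (f := chkVertex f4tL48 [f4tL49, f4tL50, f4tL51]) f4t_vert48_c0 x (by omega) (by omega)

theorem f4t_vert48' : ∀ v, v < 1755 → chkVertex f4tL48 [f4tL49, f4tL50, f4tL51] v = true := fun x hx => f4t_vert48 x (Nat.zero_le _) hx

theorem f4t_nest49 : ∀ x, 0 ≤ x → x < 1755 → (chkNest f4tL48.S f4tL49) x = true := by
  intro x hlo hx
  exact allFrom_sound (f := chkNest f4tL48.S f4tL49) f4t_nest49_c0 x (by omega) (by omega)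

theorem f4t_nest49' : ∀ x, x < 1755 → chkNest f4tL48.S f4tL49 x = true := fun x hx => f4t_nest49 x (Nat.zero_le _) hx

theorem f4t_vert49 : ∀ x, 0 ≤ x → x < 1755 → (chkVertex f4tL49 [f4tL50, f4tL51]) x = true := by
  intro x hlo hx
  exact allFrom_sound (f := chkVertex f4tL49 [f4tL50, f4tL51]) f4t_vert49_c0 x (by omega) (by omega)

theorem f4t_vert49' : ∀ v, v < 1755 → chkVertex f4tL49 [f4tL50, f4tL51] v = true := fun x hx => f4t_vert49 x (Nat.zero_le _) hx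

theorem f4t_nest50 : ∀ x, 0 ≤ x → x < 1755 → (chkNest f4tL49.S f4tL50) x = true := by
  intro x hlo hx
  exact allFrom_sound (f := chkNest f4tL49.S f4tL50) f4t_nest50_c0 x (by omega) (by omega)

theorem f4t_nest50' : ∀ x, x < 1755 → chkNest f4tL49.S f4tL50 x = true := fun x hx => f4t_nest50 x (Nat.zero_le _) hx

theorem f4t_vert50 : ∀ x, 0 ≤ x → x < 1755 → (chkVertex f4tL50 [f4tL51]) x = true := by
  intro x hlo hx
  exact allFrom_sound (f := chkVertex f4tL50 [f4tL51]) f4t_vert50_c0 x (by omega) (by omega)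

theorem f4t_vert50' : ∀ v, v < 1755 → chkVertex f4tL50 [f4tL51] v = true := fun x hx => f4t_vert50 x (Nat.zero_le _) hx

theorem f4t_nest51 : ∀ x, 0 ≤ x → x < 1755 → (chkNest f4tL50.S f4tL51) x = true := by
  intro x hlo hx
  exact allFrom_sound (f := chkNest f4tL50.S f4tL51) f4t_nest51_c0 x (by omega) (by omega)

theorem f4t_nest51' : ∀ x, x < 1755 → chkNest f4tL50.S f4tL51 x = true := fun x hx => f4t_nest51 x (Nat.zero_le _) hx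

theorem f4t_vert51 : ∀ x, 0 ≤ x → x < 1755 → (chkVertex f4tL51 []) x = true := by
  intro x hlo hx
  exact allFrom_sound (f := chkVertex f4tL51 []) f4t_vert51_c0 x (by omega) (by omega)

theorem f4t_vert51' : ∀ v, v < 1755 → chkVertex f4tL51 [] v = true := fun x hx => f4t_vert51 x (Nat.zero_le _) hx

theorem f4t_chain : ChainOK f4tL0.S [] [f4tL0, f4tL1, f4tL2, f4tL3, f4tL4, f4tL5, f4tL6, f4tL7, f4tL8, f4tL9, f4tL10, f4tL11, f4tL12, f4tL13, f4tL14, f4tL15, f4tL16, f4tL17, f4tL18, f4tL19, f4tL20, f4tL21, f4tL22, f4tL23, f4tL24, f4tL25, f4tL26, f4tL27, f4tL28, f4tL29, f4tL30, f4tL31, f4tL32, f4tL33, f4tL34, f4tL35, f4tL36, f4tL37, f4tL38, f4tL39, f4tL40, f4tL41, f4tL42, f4tL43, f4tL44, f4tL45, f4tL46, f4tL47, f4tL48, f4tL49, f4tL50, f4tL51] :=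
  ⟨f4t_head0, f4t_nest0', f4t_vert0', f4t_head1, f4t_nest1', f4t_vert1', f4t_head2, f4t_nest2', f4t_vert2', f4t_head3, f4t_nest3', f4t_vert3', f4t_head4, f4t_nest4', f4t_vert4', f4t_head5, f4t_nest5', f4t_vert5', f4t_head6, f4t_nest6', f4t_vert6', f4t_head7, f4t_nest7', f4t_vert7', f4t_head8, f4t_nest8', f4t_vert8', f4t_head9, f4t_nest9', f4t_vert9', f4t_head10, f4t_nest10', f4t_vert10', f4t_head11, f4t_nest11', f4t_vert11', f4t_head12, f4t_nest12', f4t_vert12', f4t_head13, f4t_nest13', f4t_vert13', f4t_head14, f4t_nest14', f4t_vert14', f4t_head15, f4t_nest15', f4t_vert15', f4t_head16, f4t_nest16', f4t_vert16', f4t_head17, f4t_nest17', f4t_vert17', f4t_head18, f4t_nest18', f4t_vert18', f4t_head19, f4t_nest19', f4t_vert19', f4t_head20, f4t_nest20', f4t_vert20', f4t_head21, f4t_nest21', f4t_vert21', f4t_head22, f4t_nest22', f4t_vert22', f4t_head23, f4t_nest23',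 f4t_vert23', f4t_head24, f4t_nest24', f4t_vert24', f4t_head25, f4t_nest25', f4t_vert25', f4t_head26, f4t_nest26', f4t_vert26', f4t_head27, f4t_nest27', f4t_vert27', f4t_head28, f4t_nest28', f4t_vert28', f4t_head29, f4t_nest29', f4t_vert29', f4t_head30, f4t_nest30', f4t_vert30', f4t_head31, f4t_nest31', f4t_vert31', f4t_head32, f4t_nest32', f4t_vert32', f4t_head33, f4t_nest33', f4t_vert33', f4t_head34, f4t_nest34', f4t_vert34', f4t_head35, f4t_nest35', f4t_vert35', f4t_head36, f4t_nest36', f4t_vert36', f4t_head37, f4t_nest37', f4t_vert37', f4t_head38, f4t_nest38', f4t_vert38', f4t_head39, f4t_nest39', f4t_vert39', f4t_head40, f4t_nest40', f4t_vert40', f4t_head41, f4t_nest41', f4t_vert41', f4t_head42, f4t_nest42', f4t_vert42', f4t_head43, f4t_nest43', f4t_vert43', f4t_head44, f4t_nest44', f4t_vert44', f4t_head45, f4t_nest45', f4t_vert45', f4t_head46, f4t_nest46',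 f4t_vert46', f4t_head47, f4t_nest47', f4t_vert47', f4t_head48, f4t_nest48', f4t_vert48', f4t_head49, f4t_nest49', f4t_vert49', f4t_head50, f4t_nest50', f4t_vert50', f4t_head51, f4t_nest51', f4t_vert51', trivial⟩

theorem f4t_full : ∀ x, 0 ≤ x → x < 1755 → (fun v => plook 21 f4ttbl0 v != 0) x = true := by
  intro x hlo hx
  exact allFrom_sound (f := fun v => plook 21 f4ttbl0 v != 0) f4t_full_c0 x (by omega) (by omega)

theorem f4t_hfull : ∀ v, v < 1755 → plook f4tL0.W f4tL0.tbl v ≠ 0 := fun v hv => by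
  have := f4t_full v (Nat.zero_le _) hv
  show plook 21 f4ttbl0 v ≠ 0
  simpa using this

theorem f4t_orb : ∀ x, 0 ≤ x → x < 1755 → (chkOrbV f4tL1.S.act [0, 1, 11, 91, 731] 3 f4tctab 2 19 f4totab) x = true := by
  intro x hlo hx
  exact allFrom_sound (f := chkOrbV f4tL1.S.act [0, 1, 11, 91, 731] 3 f4tctab 2 19 f4totab) f4t_orb_c0 x (by omega) (by omega)

theorem f4t_ap : ∀ x, 0 ≤ x → x < 1755 → (fun x => pact f4tL0.S.act (List.replicate 13 0) x == x) x = true := by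
  intro x hlo hx
  exact allFrom_sound (f := fun x => pact f4tL0.S.act (List.replicate 13 0) x == x) f4t_ap_c0 x (by omega) (by omega)

theorem f4t_bp : ∀ x, 0 ≤ x → x < 1755 → (fun x => pact f4tL0.S.act (List.replicate 3 2) x == x) x = true := by
  intro x hlo hx
  exact allFrom_sound (f := fun x => pact f4tL0.S.act (List.replicate 3 2) x == x) f4t_bp_c0 x (by omega) (by omega)

theorem f4t_hb : f4tL0.b < 1755 := by decide

theorem f4t_mat : ∀ x, 0 ≤ x → x < 1755 → (fun i => chkMat (f4tL0.S.act 0) f4tCode (f4tCols 0) 52 i && chkMat (f4tL0.S.act 2) f4tCode (f4tCols 1) 52 i) x = true := by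
  intro x hlo hx
  by_cases h0 : x < 900
  · exact allFrom_sound (f := fun i => chkMat (f4tL0.S.act 0) f4tCode (f4tCols 0) 52 i && chkMat (f4tL0.S.act 2) f4tCode (f4tCols 1) 52 i) f4t_mat_c0 x (by omega) (by omega)
  exact allFrom_sound (f := fun i => chkMat (f4tL0.S.act 0) f4tCode (f4tCols 0) 52 i && chkMat (f4tL0.S.act 2) f4tCode (f4tCols 1) 52 i) f4t_mat_c1 x (by omega) (by omega)

theorem f4t_hmono : ∀ i, i + 1 < 1755 → f4tCode i < f4tCode (i + 1) := fun i hi =>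
  Nat.blt_eq.mp (allBelow_sound f4t_mono i (by omega))

theorem f4t_hmat : ∀ j, j < f4tL0.S.g / 2 → ∀ i, i < 1755 →
    mvx (f4tCols j) 52 (f4tCode i) = f4tCode (f4tL0.S.act (2 * j) i) := by
  intro j hj i hi
  have hj' : j < 2 := hj
  have h := f4t_mat i (Nat.zero_le _) hi
  simp only [Bool.and_eq_true] at h
  interval_cases j
  · exact chkMat_sound h.1
  · exact chkMat_sound h.2

/-- Rigidity of the base: an element of the group fixing the base points is trivial. -/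
theorem f4t_hR : ∀ g ∈ f4tL0.S.H, (∀ x : Fin 1755, (x : ℕ) ∈ f4tBase → g x = x) → g = 1 := by
  intro g hg hfix
  exact rigid_xor f4tCode f4tBase f4tCmb f4t_hmono (by decide)
    (fun i hi => chkCmb0_sound (allBelow_sound f4t_cmb i hi))
    g (XInv.of_H f4tL0.S f4tCode f4tCols 52 f4t_hmat g hg) hfix

theorem f4t_bases : [f4tL0, f4tL1, f4tL2, f4tL3, f4tL4, f4tL5, f4tL6, f4tL7, f4tL8, f4tL9, f4tL10, f4tL11, f4tL12, f4tL13, f4tL14, f4tL15, f4tL16, f4tL17, f4tL18, f4tL19, f4tL20, f4tL21, f4tL22, f4tL23, f4tL24, f4tL25, f4tL26, f4tL27, f4tL28, f4tL29, f4tL30, f4tL31, f4tL32, f4tL33, f4tL34, f4tL35, f4tL36, f4tL37, f4tL38, f4tL39, f4tL40, f4tL41, f4tL42, f4tL43, f4tL44, f4tL45, f4tL46, f4tL47, f4tL48, f4tL49, f4tL50, f4tL51].map Lvl.b = f4tBase := by decide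

/-- The group of the certificate is simple of order `1755 * 10240`, transitive, with point
stabilisers of order `10240`; the group of the second level lies in it and fixes the base point. -/
theorem f4t_cert : IsSimpleGroup f4tL0.S.H ∧ Nat.card f4tL0.S.H = 1755 * 10240 ∧
    MulAction.IsPretransitive f4tL0.S.H (Fin 1755) ∧
    Nat.card (MulAction.stabilizer f4tL0.S.H (⟨f4tL0.b, f4t_hb⟩ : Fin 1755)) = 10240 ∧
    f4tL1.S.H ≤ f4tL0.S.H ∧ (∀ g ∈ f4tL1.S.H, g ⟨f4tL0.b, f4t_hb⟩ = ⟨f4tL0.b, f4t_hb⟩) :=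
  group_cert2 f4tL0 f4tL1 [f4tL2, f4tL3, f4tL4, f4tL5, f4tL6, f4tL7, f4tL8, f4tL9, f4tL10, f4tL11, f4tL12, f4tL13, f4tL14, f4tL15, f4tL16, f4tL17, f4tL18, f4tL19, f4tL20, f4tL21, f4tL22, f4tL23, f4tL24, f4tL25, f4tL26, f4tL27, f4tL28, f4tL29, f4tL30, f4tL31, f4tL32, f4tL33, f4tL34, f4tL35, f4tL36, f4tL37, f4tL38, f4tL39, f4tL40, f4tL41, f4tL42, f4tL43, f4tL44, f4tL45, f4tL46, f4tL47, f4tL48, f4tL49, f4tL50, f4tL51] f4t_chain
    (fun g hg hfix => f4t_hR g hg (fun x hx => hfix x (by rw [f4t_bases]; exact hx)))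
    rfl f4t_hb f4t_hfull [0, 1, 11, 91, 731] [1, 10, 80, 640, 1024] 3 f4tctab 2 19 f4totab
    (fun v hv => f4t_orb v (Nat.zero_le _) hv)
    (getD_lt_of_all _ _ (by norm_num) (by decide))
    (cls_of_chk _ _ _ _ _ f4t_cls).1 (cls_of_chk _ _ _ _ _ f4t_cls).2
    (sizes_of_chk _ _ _ _ _ f4t_sizes) f4t_arith
    10240 13 3 (by norm_num) (by norm_num) f4t_card (by norm_num) (by norm_num)
    (fun x hx => by simpa using f4t_ap x (Nat.zero_le _) hx)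
    (fun x hx => by simpa using f4t_bp x (Nat.zero_le _) hx)

end Cfsg.Agent.Lib.helper10
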