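/-
The permutation group of ²F₄(2) on 1755 points: it contains the Tits group (a simple group of
order 17971200) as a subgroup of index two, which is its commutator subgroup and contains all
its involutions.
-/
import Mathlib
import Cfsg.Agent.Lib.helper10.PermCert2
import Cfsg.Agent.Lib.helper10.F4Gam
import Cfsg.Agent.Lib.helper10.F4Chk
import Cfsg.Agent.Lib.helper10.F4tCert

set_option autoImplicit false
set_option maxRecDepth 100000

namespace Cfsg.Agent.Lib.helper10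

open MulAction

/-- The ambient group: the permutations of the points preserving the linear relations. -/
abbrev f4X : Subgroup (Equiv.Perm (Fin 1755)) := xinvG f4tCode

theorem f4g_hmat : ∀ j, j < f4gS.g / 2 → ∀ i, i < 1755 →
    mvx (f4gCols j) 52 (f4tCode i) = f4tCode (f4gS.act (2 * j) i) := by
  intro j hj i hi
  have hj' : j < 4 := hj
  interval_cases j
  · exact chkMat_sound (allBelow_sound f4g_mat0 i hi)
  · exact chkMat_sound (allBelow_sound f4g_mat1 i hi)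
  · exact chkMat_sound (allBelow_sound f4g_mat2 i hi)
  · exact chkMat_sound (allBelow_sound f4g_mat3 i hi)

theorem f4g_le_X : f4gS.H ≤ f4X :=
  fun g hg => XInv.of_H f4gS f4tCode f4gCols 52 f4g_hmat g hg

theorem f4t_le_X : f4tS0.H ≤ f4X :=
  fun g hg => XInv.of_H f4tL0.S f4tCode f4tCols 52 f4t_hmat g hg

theorem f4t_le_g : f4tS0.H ≤ f4gS.H := chkNest_spec (L := f4gLvl) (allBelow_sound f4g_nest)

theorem f4_rigid : ∀ g ∈ f4X, (∀ x : Fin 1755, (x : ℕ) ∈ f4tLs.map Lvl.b → g x = x) → g = 1 := by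
  intro g hg hfix
  exact rigid_xor f4tCode f4tBase f4tCmb f4t_hmono (by decide)
    (fun i hi => chkCmb0_sound (allBelow_sound f4t_cmb i hi)) g hg
    (fun x hx => hfix x (by rw [show f4tLs.map Lvl.b = f4tBase from f4t_bases]; exact hx))

/-- The three base points. -/
def f4b0 : Fin 1755 := ⟨0, by norm_num⟩
def f4b1 : Fin 1755 := ⟨731, by norm_num⟩
def f4b2 : Fin 1755 := ⟨19, by norm_num⟩

/-- Sifting is sound. -/
theorem f4_sift (fs : List (Fac 1755)) (h1 : facsPerm fs ∈ f4X) (h2 : siftF f4tLs fs = true) :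
    facsPerm fs ∈ f4tS0.H :=
  (chain_main f4X f4tLs f4tS0 [] f4t_chain f4t_le_X f4_rigid).2.2.2.1 fs h1
    (fun x hx => absurd hx (by simp)) h2

theorem f4_stab0 (h : Equiv.Perm (Fin 1755)) (hh : h ∈ f4tS0.H) (hfix : h f4b0 = f4b0) :
    h ∈ f4tS1.H :=
  (((chain_main f4X f4tLs f4tS0 [] f4t_chain f4t_le_X f4_rigid).2.2.2.2 f4tL0 f4tLs1 rfl
    f4t_hb).1 h hh).2 hfix

theorem f4_reach0 (v : Fin 1755) : ∃ h ∈ f4tS0.H, h f4b0 = v :=
  ((chain_main f4X f4tLs f4tS0 [] f4t_chain f4t_le_X f4_rigid).2.2.2.2 f4tL0 f4tLs1 rfl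
    f4t_hb).2 v (f4t_hfull v v.2)

theorem f4t1_le : f4tS1.H ≤ f4tS0.H :=
  (chain_main f4X f4tLs1 f4tS0 [0] f4t_chain.2.2.2 f4t_le_X f4_rigid).2.2.1

theorem f4_fix1 (g : Equiv.Perm (Fin 1755)) (hg : g ∈ f4tS1.H) : g f4b0 = f4b0 :=
  (chain_main f4X f4tLs1 f4tS0 [0] f4t_chain.2.2.2 f4t_le_X f4_rigid).2.1 g hg f4b0
    (by simp [f4b0])

theorem f4_stab1 (h : Equiv.Perm (Fin 1755)) (hh : h ∈ f4tS1.H) :
    plook f4tL1.W f4tL1.tbl (h f4b1) ≠ 0 ∧ (h f4b1 = f4b1 → h ∈ f4tS2.H) :=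
  ((chain_main f4X f4tLs1 f4tS0 [0] f4t_chain.2.2.2 f4t_le_X f4_rigid).2.2.2.2 f4tL1 f4tLs2 rfl
    (by decide)).1 h hh

theorem f4t2_le : f4tS2.H ≤ f4tS1.H :=
  (chain_main f4X f4tLs2 f4tS1 [0, 731] f4t_chain.2.2.2.2.2.2 (f4t1_le.trans f4t_le_X)
    f4_rigid).2.2.1

theorem f4_stab2 (h : Equiv.Perm (Fin 1755)) (hh : h ∈ f4tS2.H) :
    plook f4tL2.W f4tL2.tbl (h f4b2) ≠ 0 ∧ (h f4b2 = f4b2 → h ∈ Hs f4tLs3) :=
  ((chain_main f4X f4tLs2 f4tS1 [0, 731] f4t_chain.2.2.2.2.2.2 (f4t1_le.trans f4t_le_X)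
    f4_rigid).2.2.2.2 f4tL2 f4tLs3 rfl (by decide)).1 h hh

theorem f4_K3 : Hs f4tLs3 = ⊥ := by
  apply Subgroup.eq_bot_of_card_eq
  rw [(chain_main f4X f4tLs3 f4tS2 [0, 731, 19] f4t_chain.2.2.2.2.2.2.2.2.2
    ((f4t2_le.trans f4t1_le).trans f4t_le_X) f4_rigid).1]
  exact f4_card3

/-! ### Memberships in the Tits group -/

theorem pperm_sing {n : ℕ} (S : LetterSys n) (c : ℕ) : S.pperm [c] = S.L c := by
  rw [S.pperm_cons, S.pperm_nil, mul_one]

theorem pperm_two {n : ℕ} (S : LetterSys n) (c d : ℕ) : S.pperm [c, d] = S.L c * S.L d := by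
  rw [S.pperm_cons, pperm_sing]

theorem facsPerm_sing {n : ℕ} (S : LetterSys n) (p : List ℕ) :
    facsPerm [Fac.p S p] = S.pperm p := by
  simp [facsPerm, facPerm]

theorem facsPerm_three {n : ℕ} (S1 S2 S3 : LetterSys n) (a : ℕ) (p q : List ℕ) :
    facsPerm [Fac.p S1 [a], Fac.p S2 p, Fac.p S3 q] = S1.L a * S2.pperm p * S3.pperm q := by
  rw [facsPerm_cons, facsPerm_cons, facsPerm_sing, mul_assoc]
  show S1.pperm [a] * (S2.pperm p * S3.pperm q) = _
  rw [pperm_sing]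

theorem f4_path_mem (p : List ℕ) (h : siftF f4tLs [Fac.p f4gS p] = true) :
    f4gS.pperm p ∈ f4tS0.H := by
  have h1 := f4_sift [Fac.p f4gS p]
    (by rw [facsPerm_sing]; exact f4g_le_X (f4gS.pperm_mem p)) h
  rwa [facsPerm_sing] at h1

theorem f4_m0 : f4gS.L 0 ∈ f4tS0.H := by
  have h := f4_path_mem [0] (List.all_eq_true.mp f4_sift_m [0] (by simp))
  rwa [pperm_sing] at h

theorem f4_m2 : f4gS.L 2 ∈ f4tS0.H := by
  have h := f4_path_mem [2] (List.all_eq_true.mp f4_sift_m [2] (by simp))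
  rwa [pperm_sing] at h

theorem f4_m64 : f4gS.L 6 * f4gS.L 4 ∈ f4tS0.H := by
  have h := f4_path_mem [6, 4] (List.all_eq_true.mp f4_sift_m [6, 4] (by simp))
  rwa [pperm_two] at h

theorem f4_m44 : f4gS.L 4 * f4gS.L 4 ∈ f4tS0.H := by
  have h := f4_path_mem [4, 4] (List.all_eq_true.mp f4_sift_m [4, 4] (by simp))
  rwa [pperm_two] at h

theorem f4_beta0 : f4gS.L 4 f4b0 = f4b0 := Fin.ext (by rw [f4gS.hact]; exact f4_beta.1)

theorem f4_beta1 : f4gS.L 4 f4b1 = f4b1 := Fin.ext (by rw [f4gS.hact]; exact f4_beta.2.1)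

theorem f4_beta_not_mem : f4gS.L 4 ∉ f4tS0.H := by
  intro h
  have h1 := f4_stab0 _ h f4_beta0
  have h2 := (f4_stab1 _ h1).2 f4_beta1
  have h3 := (f4_stab2 _ h2).1
  apply h3
  rw [f4gS.hact]
  exact f4_beta.2.2

theorem f4_conj_gen (i : ℕ) (hi : i < 2) :
    f4gS.L 4 * f4tS0.L (2 * i) * (f4gS.L 4)⁻¹ ∈ f4tS0.H ∧
      (f4gS.L 4)⁻¹ * f4tS0.L (2 * i) * f4gS.L 4 ∈ f4tS0.H := by
  have h := allBelow_sound f4_sift_c i hi
  rw [Bool.and_eq_true] at h
  have e5 : f4gS.L 5 = (f4gS.L 4)⁻¹ := f4gS.hinv 4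
  have hβ : f4gS.L 4 ∈ f4X := f4g_le_X (f4gS.L_mem 4)
  have ht : f4tS0.L (2 * i) ∈ f4X := f4t_le_X (f4tS0.L_mem _)
  constructor
  · have h1 := f4_sift [Fac.p f4gS [4], Fac.p f4tS0 [2 * i], Fac.p f4gS [5]]
      (by
        rw [facsPerm_three, pperm_sing, pperm_sing, e5]
        exact mul_mem (mul_mem hβ ht) (inv_mem hβ)) h.1
    rwa [facsPerm_three, pperm_sing, pperm_sing, e5] at h1
  · have h1 := f4_sift [Fac.p f4gS [5], Fac.p f4tS0 [2 * i], Fac.p f4gS [4]]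
      (by
        rw [facsPerm_three, pperm_sing, pperm_sing, e5]
        exact mul_mem (mul_mem (inv_mem hβ) ht) hβ) h.2
    rwa [facsPerm_three, pperm_sing, pperm_sing, e5] at h1

theorem f4_conj (t : Equiv.Perm (Fin 1755)) (ht : t ∈ f4tS0.H) :
    f4gS.L 4 * t * (f4gS.L 4)⁻¹ ∈ f4tS0.H ∧ (f4gS.L 4)⁻¹ * t * f4gS.L 4 ∈ f4tS0.H := by
  have hT : f4tS0.H = Subgroup.closure {f4tS0.L 0, f4tS0.L 2} := f4tS0.H_eq_closure_pair rfl
  have key : ∀ t ∈ Subgroup.closure ({f4tS0.L 0, f4tS0.L 2} : Set (Equiv.Perm (Fin 1755))),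
      f4gS.L 4 * t * (f4gS.L 4)⁻¹ ∈ f4tS0.H ∧ (f4gS.L 4)⁻¹ * t * f4gS.L 4 ∈ f4tS0.H := by
    intro t ht
    induction ht using Subgroup.closure_induction with
    | mem x hx =>
      rcases hx with rfl | rfl
      · exact f4_conj_gen 0 (by norm_num)
      · exact f4_conj_gen 1 (by norm_num)
    | one =>
      constructor
      · rw [mul_one, mul_inv_cancel]
        exact Subgroup.one_mem _
      · rw [mul_one, inv_mul_cancel]
        exact Subgroup.one_mem _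
    | mul a b _ _ ha hb =>
      constructor
      · have e : f4gS.L 4 * (a * b) * (f4gS.L 4)⁻¹
            = (f4gS.L 4 * a * (f4gS.L 4)⁻¹) * (f4gS.L 4 * b * (f4gS.L 4)⁻¹) := by group
        rw [e]
        exact mul_mem ha.1 hb.1
      · have e : (f4gS.L 4)⁻¹ * (a * b) * f4gS.L 4
            = ((f4gS.L 4)⁻¹ * a * f4gS.L 4) * ((f4gS.L 4)⁻¹ * b * f4gS.L 4) := by group
        rw [e]
        exact mul_mem ha.2 hb.2
    | inv a _ ha =>
      constructor
      · have e : f4gS.L 4 * a⁻¹ * (f4gS.L 4)⁻¹ = (f4gS.L 4 * a * (f4gS.L 4)⁻¹)⁻¹ := by group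
        rw [e]
        exact inv_mem ha.1
      · have e : (f4gS.L 4)⁻¹ * a⁻¹ * f4gS.L 4 = ((f4gS.L 4)⁻¹ * a * f4gS.L 4)⁻¹ := by group
        rw [e]
        exact inv_mem ha.2
  exact key t (hT ▸ ht)

/-- The union of the Tits group and its coset of the letter `4`. -/
def f4K : Subgroup (Equiv.Perm (Fin 1755)) where
  carrier := {g | g ∈ f4tS0.H ∨ g * f4gS.L 4 ∈ f4tS0.H}
  one_mem' := Or.inl (Subgroup.one_mem _)
  mul_mem' := by
    rintro g h (hg | hg) (hh | hh)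
    · exact Or.inl (mul_mem hg hh)
    · right
      rw [mul_assoc]
      exact mul_mem hg hh
    · right
      have e : g * h * f4gS.L 4 = (g * f4gS.L 4) * ((f4gS.L 4)⁻¹ * h * f4gS.L 4) := by group
      rw [e]
      exact mul_mem hg (f4_conj h hh).2
    · left
      have e : g * h = (g * f4gS.L 4) * ((f4gS.L 4)⁻¹ * (h * f4gS.L 4) * f4gS.L 4)
          * (f4gS.L 4 * f4gS.L 4)⁻¹ := by group
      rw [e]
      exact mul_mem (mul_mem hg (f4_conj _ hh).2) (inv_mem f4_m44)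
  inv_mem' := by
    rintro g (hg | hg)
    · exact Or.inl (inv_mem hg)
    · right
      have e : g⁻¹ * f4gS.L 4 = (f4gS.L 4 * (g * f4gS.L 4)⁻¹ * (f4gS.L 4)⁻¹)
          * (f4gS.L 4 * f4gS.L 4) := by group
      rw [e]
      exact mul_mem (f4_conj _ (inv_mem hg)).1 f4_m44

theorem f4g_le_K : f4gS.H ≤ f4K := by
  apply f4gS.H_le_of_even
  intro j hj
  have hj' : j < 4 := hj
  interval_cases j
  · exact Or.inl f4_m0
  · exact Or.inl f4_m2
  · exact Or.inr f4_m44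
  · exact Or.inr f4_m64

theorem f4_cases (g : Equiv.Perm (Fin 1755)) (hg : g ∈ f4gS.H) :
    g ∈ f4tS0.H ∨ g * f4gS.L 4 ∈ f4tS0.H := f4g_le_K hg

/-! ### Index two and the commutator subgroup -/

theorem f4_index : (f4tS0.H.subgroupOf f4gS.H).index = 2 := by
  rw [Subgroup.index_eq_two_iff]
  refine ⟨⟨f4gS.L 4, f4gS.L_mem 4⟩, fun b => ?_⟩
  rcases f4_cases b b.2 with hb | hb
  · right
    refine ⟨Subgroup.mem_subgroupOf.mpr hb, fun h => ?_⟩
    have h' : (b : Equiv.Perm (Fin 1755)) * f4gS.L 4 ∈ f4tS0.H := Subgroup.mem_subgroupOf.mp h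
    exact f4_beta_not_mem ((Subgroup.mul_mem_cancel_left _ hb).mp h')
  · left
    refine ⟨Subgroup.mem_subgroupOf.mpr hb, fun h => ?_⟩
    have h' : (b : Equiv.Perm (Fin 1755)) ∈ f4tS0.H := Subgroup.mem_subgroupOf.mp h
    exact f4_beta_not_mem ((Subgroup.mul_mem_cancel_left _ h').mp hb)

theorem f4t_simple : IsSimpleGroup f4tS0.H := f4t_cert.1

theorem f4t_card' : Nat.card f4tS0.H = 17971200 := f4t_cert.2.1

theorem f4t_perfect : commutator ↥f4tS0.H = ⊤ := by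
  have := f4t_simple
  have hn : (commutator ↥f4tS0.H).Normal := inferInstance
  rcases hn.eq_bot_or_eq_top with h | h
  · exfalso
    have hc := (commutator_eq_bot_iff_center_eq_top (G := ↥f4tS0.H)).mp h
    let _ : CommGroup ↥f4tS0.H := Group.commGroupOfCenterEqTop hc
    have hp := IsSimpleGroup.prime_card (α := ↥f4tS0.H)
    rw [f4t_card'] at hp
    norm_num at hp
  · exact h

theorem f4_comm : commutator ↥f4gS.H = f4tS0.H.subgroupOf f4gS.H := by
  apply le_antisymm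
  · have hN : (f4tS0.H.subgroupOf f4gS.H).Normal := Subgroup.normal_of_index_eq_two f4_index
    apply Subgroup.Normal.quotient_commutative_iff_commutator_le.mp
    have hc : Nat.card (↥f4gS.H ⧸ f4tS0.H.subgroupOf f4gS.H) = 2 := f4_index
    have : Fact (Nat.Prime 2) := ⟨Nat.prime_two⟩
    have hcyc : IsCyclic (↥f4gS.H ⧸ f4tS0.H.subgroupOf f4gS.H) := isCyclic_of_prime_card hc
    exact IsCyclic.isMulCommutative
  · have h1 : (commutator ↥f4tS0.H).map (Subgroup.inclusion f4t_le_g) ≤ commutator ↥f4gS.H := by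
      rw [commutator_def, commutator_def, Subgroup.map_commutator]
      exact Subgroup.commutator_mono le_top le_top
    rw [f4t_perfect, ← MonoidHom.range_eq_map, Subgroup.inclusion_range] at h1
    exact h1

/-! ### Involutions -/

theorem f4_decomp_aux (t u1 u2 : Equiv.Perm (Fin 1755)) (ht : t ∈ f4tS1.H)
    (hu1m : u1 ∈ f4tS1.H) (hu1b : u1 f4b1 = t f4b1) (hu2m : u2 ∈ f4tS2.H)
    (hu2b : u2 f4b2 = (u1⁻¹ * t) f4b2) : t = u1 * u2 := by
  have ht2 : u1⁻¹ * t ∈ f4tS2.H := by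
    apply (f4_stab1 _ (mul_mem (inv_mem hu1m) ht)).2
    rw [Equiv.Perm.mul_apply, Equiv.Perm.inv_eq_iff_eq]
    exact hu1b.symm
  have ht3 : u2⁻¹ * (u1⁻¹ * t) ∈ Hs f4tLs3 := by
    apply (f4_stab2 _ (mul_mem (inv_mem hu2m) ht2)).2
    rw [Equiv.Perm.mul_apply, Equiv.Perm.inv_eq_iff_eq]
    exact hu2b.symm
  rw [f4_K3, Subgroup.mem_bot] at ht3
  have e : t = u1 * (u2 * (u2⁻¹ * (u1⁻¹ * t))) := by group
  rw [ht3, mul_one] at e
  exact e

/-- The elements of the stabiliser of the first base point in the Tits group are products of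
two transversal elements. -/
theorem f4_decomp (t : Equiv.Perm (Fin 1755)) (ht : t ∈ f4tS1.H) :
    ∃ v w : Fin 1755, plook f4tL1.W f4tL1.tbl v ≠ 0 ∧ plook f4tL2.W f4tL2.tbl w ≠ 0 ∧
      t = f4tS1.pperm (pdec f4tL1.q f4tL1.W (plook f4tL1.W f4tL1.tbl v)) *
          f4tS2.pperm (pdec f4tL2.q f4tL2.W (plook f4tL2.W f4tL2.tbl w)) := by
  have hv0 := (f4_stab1 t ht).1
  have hu1b : f4tS1.pperm (pdec f4tL1.q f4tL1.W (plook f4tL1.W f4tL1.tbl (t f4b1))) f4b1
      = t f4b1 := by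
    apply Fin.ext
    rw [f4tS1.pperm_apply]
    exact (chkVertex_spec (f4t_vert1' (t f4b1) (t f4b1).2) hv0).1
  have hu1m : f4tS1.pperm (pdec f4tL1.q f4tL1.W (plook f4tL1.W f4tL1.tbl (t f4b1))) ∈ f4tS1.H :=
    f4tS1.pperm_mem _
  have ht2 : (f4tS1.pperm (pdec f4tL1.q f4tL1.W (plook f4tL1.W f4tL1.tbl (t f4b1))))⁻¹ * t
      ∈ f4tS2.H := by
    apply (f4_stab1 _ (mul_mem (inv_mem hu1m) ht)).2
    rw [Equiv.Perm.mul_apply, Equiv.Perm.inv_eq_iff_eq]
    exact hu1b.symm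
  have hw0 := (f4_stab2 _ ht2).1
  refine ⟨t f4b1, ((f4tS1.pperm (pdec f4tL1.q f4tL1.W (plook f4tL1.W f4tL1.tbl (t f4b1))))⁻¹ * t)
    f4b2, hv0, hw0, ?_⟩
  apply f4_decomp_aux t _ _ ht hu1m hu1b (f4tS2.pperm_mem _)
  apply Fin.ext
  rw [f4tS2.pperm_apply]
  exact (chkVertex_spec (f4t_vert2' _ (Fin.is_lt _)) hw0).1

/-- No product of the letter `4` with an element of the stabiliser of the first base point in
the Tits group is an involution. -/
theorem f4_no_inv (v w : Fin 1755) (hv : plook f4tL1.W f4tL1.tbl v ≠ 0)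
    (hw : plook f4tL2.W f4tL2.tbl w ≠ 0) (y : Equiv.Perm (Fin 1755))
    (hy : y = f4gS.L 4 * f4tS1.pperm (pdec f4tL1.q f4tL1.W (plook f4tL1.W f4tL1.tbl v)) *
      f4tS2.pperm (pdec f4tL2.q f4tL2.W (plook f4tL2.W f4tL2.tbl w))) : y * y ≠ 1 := by
  intro hyy
  have hchk : f4chkInv v = true := by
    have hv' := v.2
    rcases Nat.lt_or_ge (v : ℕ) 859 with h0 | h0
    · have h := allBelow_sound f4_inv_0 ((v : ℕ) - 0) (by omega)
      have e : 0 + ((v : ℕ) - 0) = v := by omega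
      rw [e] at h
      exact h
    rcases Nat.lt_or_ge (v : ℕ) 987 with h1 | h1
    · have h := allBelow_sound f4_inv_1 ((v : ℕ) - 859) (by omega)
      have e : 859 + ((v : ℕ) - 859) = v := by omega
      rw [e] at h
      exact h
    rcases Nat.lt_or_ge (v : ℕ) 1115 with h2 | h2
    · have h := allBelow_sound f4_inv_2 ((v : ℕ) - 987) (by omega)
      have e : 987 + ((v : ℕ) - 987) = v := by omega
      rw [e] at h
      exact h
    rcases Nat.lt_or_ge (v : ℕ) 1243 with h3 | h3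
    · have h := allBelow_sound f4_inv_3 ((v : ℕ) - 1115) (by omega)
      have e : 1115 + ((v : ℕ) - 1115) = v := by omega
      rw [e] at h
      exact h
    rcases Nat.lt_or_ge (v : ℕ) 1371 with h4 | h4
    · have h := allBelow_sound f4_inv_4 ((v : ℕ) - 1243) (by omega)
      have e : 1243 + ((v : ℕ) - 1243) = v := by omega
      rw [e] at h
      exact h
    rcases Nat.lt_or_ge (v : ℕ) 1499 with h5 | h5
    · have h := allBelow_sound f4_inv_5 ((v : ℕ) - 1371) (by omega)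
      have e : 1371 + ((v : ℕ) - 1371) = v := by omega
      rw [e] at h
      exact h
    rcases Nat.lt_or_ge (v : ℕ) 1627 with h6 | h6
    · have h := allBelow_sound f4_inv_6 ((v : ℕ) - 1499) (by omega)
      have e : 1499 + ((v : ℕ) - 1499) = v := by omega
      rw [e] at h
      exact h
    · have h := allBelow_sound f4_inv_7 ((v : ℕ) - 1627) (by omega)
      have e : 1627 + ((v : ℕ) - 1627) = v := by omega
      rw [e] at h
      exact h
  simp only [f4chkInv, nforce_eq, lforce_eq] at hchk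
  rw [if_neg hv] at hchk
  have h2 := allBelow_sound hchk w w.2
  rw [if_neg hw, List.any_eq_true] at h2
  obtain ⟨y0, hy0, hne⟩ := h2
  have hy0lt : y0 < 1755 := by
    simp only [List.mem_cons, List.mem_nil_iff, or_false] at hy0
    rcases hy0 with rfl | rfl <;> norm_num
  rw [← facsPerm_three] at hy
  have h3 : ((y (y ⟨y0, hy0lt⟩) : Fin 1755) : ℕ) = y0 := by
    rw [← Equiv.Perm.mul_apply, hyy]
    rfl
  rw [hy, facsPerm_apply, facsPerm_apply] at h3
  have hX : ∀ X : ℕ, (!(Nat.beq X y0)) = true → X ≠ y0 := by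
    intro X hX e
    subst e
    simp at hX
  exact hX _ hne h3

/-- Every involution of the large group lies in the Tits group. -/
theorem f4_invol (x : Equiv.Perm (Fin 1755)) (hx : x ∈ f4gS.H) (hxx : x * x = 1) :
    x ∈ f4tS0.H := by
  by_contra hxT
  have : Fact (Nat.Prime 2) := ⟨Nat.prime_two⟩
  obtain ⟨a, ha⟩ := Equiv.Perm.exists_fixed_point_of_prime (p := 2) (n := 1) (α := Fin 1755)
    (by rw [Fintype.card_fin]; norm_num) (σ := x) (by rw [pow_one, pow_two]; exact hxx)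
  obtain ⟨s, hs, hsa⟩ := f4_reach0 a
  have hyΓ : s⁻¹ * x * s ∈ f4gS.H :=
    mul_mem (mul_mem (inv_mem (f4t_le_g hs)) hx) (f4t_le_g hs)
  have hyT : s⁻¹ * x * s ∉ f4tS0.H := by
    intro h
    apply hxT
    have e : x = s * (s⁻¹ * x * s) * s⁻¹ := by group
    rw [e]
    exact mul_mem (mul_mem hs h) (inv_mem hs)
  have hyy : (s⁻¹ * x * s) * (s⁻¹ * x * s) = 1 := by
    have e : (s⁻¹ * x * s) * (s⁻¹ * x * s) = s⁻¹ * (x * x) * s := by group
    rw [e, hxx]
    group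
  have hy0 : (s⁻¹ * x * s) f4b0 = f4b0 := by
    rw [Equiv.Perm.mul_apply, Equiv.Perm.mul_apply, hsa, ha, Equiv.Perm.inv_eq_iff_eq, hsa]
  generalize s⁻¹ * x * s = y at hyΓ hyT hyy hy0
  have hyβ : y * f4gS.L 4 ∈ f4tS0.H := (f4_cases y hyΓ).resolve_left hyT
  have ht : (y * f4gS.L 4)⁻¹ ∈ f4tS1.H := by
    apply f4_stab0 _ (inv_mem hyβ)
    rw [Equiv.Perm.inv_eq_iff_eq, Equiv.Perm.mul_apply, f4_beta0, hy0]
  obtain ⟨v, w, hv, hw, hdec⟩ := f4_decomp _ ht
  apply f4_no_inv v w hv hw y _ hyy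
  rw [mul_assoc, ← hdec, mul_inv_rev, mul_inv_cancel_left]
  exact eq_inv_of_mul_eq_one_left hyy

end Cfsg.Agent.Lib.helper10
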