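/-
The group ²F₄(2) of the Prelude (generated by explicit 52 × 52 matrices over the field with two
elements) is isomorphic to the permutation group of a letter system on 1755 points: the points
are the vectors of the orbit of the highest root vector, which span the module.
-/
import Mathlib
import Cfsg.Prelude.Def_LieTwisted
import Cfsg.Agent.Lib.helper10.PermCert2
import Cfsg.Agent.Lib.helper10.F4Lin
import Cfsg.Agent.Lib.helper10.F4Gam
import Cfsg.Agent.Lib.helper10.F4Chk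
import Cfsg.Agent.Lib.helper10.F4Tab
import Cfsg.Agent.Lib.helper10.F4Chk2
import Cfsg.Agent.Lib.helper10.F4Chk3
import Cfsg.Agent.Lib.helper10.F4Chk4
import Cfsg.Agent.Lib.helper10.F4Chk5
import Cfsg.Agent.Lib.helper10.F4tCert

set_option autoImplicit false
set_option maxRecDepth 100000

namespace Cfsg.Agent.Lib.helper10

open Cfsg.Lie Matrix MulAction

/-! ### The columns of the root elements -/

theorem f4x_spec : ∀ p ∈ f4Allowed,
    ColSpec (chevF4.x (ZMod 2) p.1 ((p.2 : ℕ) : ZMod 2)) (f4xc p.1 p.2) := by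
  intro p hp
  apply f4chkX_sound
  have h : p ∈ f4Allowed.take 8 ++ ((f4Allowed.drop 8).take 8 ++ f4Allowed.drop 16) := by
    have e : f4Allowed.take 8 ++ ((f4Allowed.drop 8).take 8 ++ f4Allowed.drop 16) = f4Allowed := by
      decide
    rw [e]
    exact hp
  rcases List.mem_append.mp h with h | h
  · exact List.all_eq_true.mp f4x_chk_a p h
  rcases List.mem_append.mp h with h | h
  · exact List.all_eq_true.mp f4x_chk_b p h
  · exact List.all_eq_true.mp f4x_chk_c p h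

/-! ### The twelve words -/

theorem f4WL_allowed' (k : ℕ) (hk : k < 12) : ∀ p ∈ f4WL.getD k [], p ∈ f4Allowed := by
  intro p hp
  have h := List.all_eq_true.mp (allBelow_sound f4WL_allowed k hk) p hp
  exact List.contains_iff_mem.mp h

theorem f4_tab : ∀ k, k < 12 → ∀ i, i < 1755 →
    f4wact f4xc (f4WL.getD k []) (f4tCode i) = f4tCode (pact f4gS.act (f4PL.getD k []) i) := by
  intro k hk
  interval_cases k
  · exact f4tabChk_sound f4_tab0_0 f4_tab0_1 f4_tab0_2
  · exact f4tabChk_sound f4_tab1_0 f4_tab1_1 f4_tab1_2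
  · exact f4tabChk_sound f4_tab2_0 f4_tab2_1 f4_tab2_2
  · exact f4tabChk_sound f4_tab3_0 f4_tab3_1 f4_tab3_2
  · exact f4tabChk_sound f4_tab4_0 f4_tab4_1 f4_tab4_2
  · exact f4tabChk_sound f4_tab5_0 f4_tab5_1 f4_tab5_2
  · exact f4tabChk_sound f4_tab6_0 f4_tab6_1 f4_tab6_2
  · exact f4tabChk_sound f4_tab7_0 f4_tab7_1 f4_tab7_2
  · exact f4tabChk_sound f4_tab8_0 f4_tab8_1 f4_tab8_2
  · exact f4tabChk_sound f4_tab9_0 f4_tab9_1 f4_tab9_2
  · exact f4tabChk_sound f4_tab10_0 f4_tab10_1 f4_tab10_2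
  · exact f4tabChk_sound f4_tab11_0 f4_tab11_1 f4_tab11_2

/-- The vector of a point. -/
def f4pt (i : Fin 1755) : chevF4.Idx → ZMod 2 := f4dec (f4tCode i)

theorem f4_rel (k : ℕ) (hk : k < 12) (i : Fin 1755) :
    chevF4.wordMat (ZMod 2) (f4wz (f4WL.getD k [])) *ᵥ f4pt i
      = f4pt (f4gS.pperm (f4PL.getD k []) i) := by
  have h1 := f4_tab k hk i i.2
  show _ *ᵥ f4dec (f4tCode i) = f4dec (f4tCode ((f4gS.pperm (f4PL.getD k []) i : Fin 1755) : ℕ))
  rw [f4gS.pperm_apply, ← h1]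
  exact wordMat_dec f4xc f4Allowed f4x_spec _ (f4WL_allowed' k hk) _

theorem f4pt_inj : Function.Injective f4pt := by
  intro i j h
  have h1 : f4tCode i = f4tCode j := f4dec_inj (plook_lt _ _ _) (plook_lt _ _ _) h
  exact code_inj f4tCode f4t_hmono i j h1

/-! ### The points span the module -/

theorem f4_fix_one (M : Matrix chevF4.Idx chevF4.Idx (ZMod 2))
    (h : ∀ i : Fin 1755, M *ᵥ f4pt i = f4pt i) : M = 1 := by
  apply mat_eq_one_of_basis
  intro k hk
  have h1 := Nat.eq_of_beq_eq_true (allBelow_sound f4_span k hk)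
  rw [← h1]
  apply fix_xfold
  intro t
  cases Nat.testBit (f4SpanMask.getD k 0) t
  · show M *ᵥ f4dec 0 = f4dec 0
    rw [f4dec_zero, Matrix.mulVec_zero]
  · exact h ⟨f4SpanPts.getD t 0, getD_lt_of_all f4SpanPts 1755 (by norm_num) (by decide) t⟩

/-! ### The graph of the isomorphism -/

/-- The pairs (matrix, permutation) with the same action on the points. -/
def f4Rel : Subgroup (GL chevF4.Idx (ZMod 2) × Equiv.Perm (Fin 1755)) where
  carrier := {x | ∀ i, (x.1 : Matrix chevF4.Idx chevF4.Idx (ZMod 2)) *ᵥ f4pt i = f4pt (x.2 i)}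
  one_mem' := fun i => by
    show ((1 : GL chevF4.Idx (ZMod 2)) : Matrix chevF4.Idx chevF4.Idx (ZMod 2)) *ᵥ f4pt i = f4pt i
    rw [Units.val_one, Matrix.one_mulVec]
  mul_mem' := fun {x y} hx hy i => by
    show ((x.1 * y.1 : GL chevF4.Idx (ZMod 2)) : Matrix chevF4.Idx chevF4.Idx (ZMod 2)) *ᵥ f4pt i
      = f4pt (x.2 (y.2 i))
    rw [Units.val_mul, ← Matrix.mulVec_mulVec, hy i, hx (y.2 i)]
  inv_mem' := fun {x} hx i => by
    show ((x.1⁻¹ : GL chevF4.Idx (ZMod 2)) : Matrix chevF4.Idx chevF4.Idx (ZMod 2)) *ᵥ f4pt i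
      = f4pt (x.2⁻¹ i)
    have h := hx (x.2⁻¹ i)
    have e : x.2 (x.2⁻¹ i) = i := by
      rw [← Equiv.Perm.mul_apply, mul_inv_cancel, Equiv.Perm.one_apply]
    rw [e] at h
    rw [← h, Matrix.mulVec_mulVec, ← Units.val_mul, inv_mul_cancel, Units.val_one,
      Matrix.one_mulVec]

/-- The generators of the graph. -/
def f4Gens : Set (GL chevF4.Idx (ZMod 2) × Equiv.Perm (Fin 1755)) :=
  {x | (∃ w ∈ f4Words (ZMod 2) 1,
      (x.1 : Matrix chevF4.Idx chevF4.Idx (ZMod 2)) = chevF4.wordMat (ZMod 2) w) ∧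
    x ∈ f4Rel ∧ x.2 ∈ f4gS.H}

/-- The graph of the isomorphism. -/
def f4D : Subgroup (GL chevF4.Idx (ZMod 2) × Equiv.Perm (Fin 1755)) := Subgroup.closure f4Gens

theorem f4D_le : f4D ≤ f4Rel := (Subgroup.closure_le _).mpr (fun _ hx => hx.2.1)

theorem f4Words_cases : ∀ w ∈ f4Words (ZMod 2) 1, ∃ k, k < 12 ∧ w = f4wz (f4WL.getD k []) := by
  rintro w (⟨t, rfl | rfl⟩ | ⟨t, u, rfl | rfl⟩)
  · fin_cases t
    · exact ⟨0, by norm_num, by decide⟩
    · exact ⟨1, by norm_num, by decide⟩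
  · fin_cases t
    · exact ⟨2, by norm_num, by decide⟩
    · exact ⟨3, by norm_num, by decide⟩
  · fin_cases t <;> fin_cases u
    · exact ⟨4, by norm_num, by decide⟩
    · exact ⟨6, by norm_num, by decide⟩
    · exact ⟨5, by norm_num, by decide⟩
    · exact ⟨7, by norm_num, by decide⟩
  · fin_cases t <;> fin_cases u
    · exact ⟨8, by norm_num, by decide⟩
    · exact ⟨10, by norm_num, by decide⟩
    · exact ⟨9, by norm_num, by decide⟩
    · exact ⟨11, by norm_num, by decide⟩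

theorem f4D_fst : f4D.map (MonoidHom.fst _ _) = twistedF4 (ZMod 2) 1 := by
  unfold f4D twistedF4 ChevalleyDatum.genSubgroup
  rw [MonoidHom.map_closure]
  congr 1
  ext g
  constructor
  · rintro ⟨x, hx, rfl⟩
    exact hx.1
  · rintro ⟨w, hw, hg⟩
    obtain ⟨k, hk, rfl⟩ := f4Words_cases w hw
    refine ⟨(g, f4gS.pperm (f4PL.getD k [])), ⟨⟨_, hw, hg⟩, ?_, f4gS.pperm_mem _⟩, rfl⟩
    intro i
    show (g : Matrix chevF4.Idx chevF4.Idx (ZMod 2)) *ᵥ f4pt i = _
    rw [hg]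
    exact f4_rel k hk i

/-! ### The words are invertible -/

theorem f4_unit_mul (k : ℕ) (hk : k < 12) :
    chevF4.wordMat (ZMod 2) (f4wz (f4WL.getD k [])) *
      chevF4.wordMat (ZMod 2) (f4wz (f4WL.getD k []).reverse) = 1 := by
  apply mat_eq_one_of_basis
  intro j hj
  have h1 := Nat.eq_of_beq_eq_true (allBelow_sound (allBelow_sound f4_unit_chk k hk) j hj)
  rw [← Matrix.mulVec_mulVec,
    wordMat_dec f4xc f4Allowed f4x_spec _
      (fun p hp => f4WL_allowed' k hk p (List.mem_reverse.mp hp)) _,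
    wordMat_dec f4xc f4Allowed f4x_spec _ (f4WL_allowed' k hk) _, h1]

/-- The matrices of the words as units. -/
def f4unit (k : ℕ) (hk : k < 12) : GL chevF4.Idx (ZMod 2) :=
  ⟨chevF4.wordMat (ZMod 2) (f4wz (f4WL.getD k [])),
   chevF4.wordMat (ZMod 2) (f4wz (f4WL.getD k []).reverse),
   f4_unit_mul k hk, mul_eq_one_comm.mp (f4_unit_mul k hk)⟩

theorem f4_gen_mem (k : ℕ) (hk : k < 12) (hw : f4wz (f4WL.getD k []) ∈ f4Words (ZMod 2) 1) :
    (f4unit k hk, f4gS.pperm (f4PL.getD k [])) ∈ f4D := by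
  apply Subgroup.subset_closure
  refine ⟨⟨_, hw, rfl⟩, ?_, f4gS.pperm_mem _⟩
  intro i
  exact f4_rel k hk i

theorem pperm_single {n : ℕ} (S : LetterSys n) (c : ℕ) : S.pperm [c] = S.L c := by
  rw [S.pperm_cons, S.pperm_nil, mul_one]

theorem f4D_snd : f4D.map (MonoidHom.snd _ _) = f4gS.H := by
  apply le_antisymm
  · rw [Subgroup.map_le_iff_le_comap]
    unfold f4D
    rw [Subgroup.closure_le]
    intro x hx
    exact hx.2.2
  · apply f4gS.H_le_of_even
    intro j hj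
    have hg : f4gS.g = 8 := rfl
    rw [hg] at hj
    have hj' : j < 4 := by omega
    interval_cases j
    · refine ⟨_, f4_gen_mem 1 (by norm_num) (Or.inl ⟨1, Or.inl (by decide)⟩), ?_⟩
      exact pperm_single f4gS 0
    · refine ⟨_, f4_gen_mem 3 (by norm_num) (Or.inl ⟨1, Or.inr (by decide)⟩), ?_⟩
      exact pperm_single f4gS 2
    · refine ⟨_, f4_gen_mem 5 (by norm_num) (Or.inr ⟨1, 0, Or.inl (by decide)⟩), ?_⟩
      exact pperm_single f4gS 4
    · refine ⟨_, f4_gen_mem 9 (by norm_num) (Or.inr ⟨1, 0, Or.inr (by decide)⟩), ?_⟩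
      exact pperm_single f4gS 6

/-- The group ²F₄(2) is isomorphic to the permutation group of the letter system. -/
theorem f4_iso : Nonempty (↥(twistedF4 (ZMod 2) 1) ≃* ↥f4gS.H) := by
  have h1 : ∀ b : Equiv.Perm (Fin 1755), ((1 : GL chevF4.Idx (ZMod 2)), b) ∈ f4D → b = 1 := by
    intro b hb
    have h := f4D_le hb
    ext i
    have h2 : ((1 : GL chevF4.Idx (ZMod 2)) : Matrix chevF4.Idx chevF4.Idx (ZMod 2)) *ᵥ f4pt i
        = f4pt (b i) := h i
    rw [Units.val_one, Matrix.one_mulVec] at h2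
    rw [← f4pt_inj h2]
    rfl
  have h2 : ∀ a : GL chevF4.Idx (ZMod 2), (a, (1 : Equiv.Perm (Fin 1755))) ∈ f4D → a = 1 := by
    intro a ha
    have h := f4D_le ha
    apply Units.ext
    exact f4_fix_one _ (fun i => h i)
  obtain ⟨e⟩ := equiv_of_graph f4D h1 h2
  exact ⟨(MulEquiv.subgroupCongr f4D_fst).symm.trans (e.trans (MulEquiv.subgroupCongr f4D_snd))⟩

end Cfsg.Agent.Lib.helper10
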