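/-
A group isomorphic to the permutation group of ²F₄(2) on 1755 points: its commutator subgroup
has index two, is isomorphic to the simple permutation group of order 17971200, and contains
all involutions.  The group ²F₄(2) of the Prelude is such a group.
-/
import Mathlib
import Cfsg.Prelude.Def_LieTwisted
import Cfsg.Agent.Lib.helper10.F4Iso
import Cfsg.Agent.Lib.helper10.F4Grp

set_option autoImplicit false
set_option maxRecDepth 100000

namespace Cfsg.Agent.Lib.helper10

/-- Transport of the commutator subgroup along an isomorphism. -/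
theorem comm_transport {G G' : Type*} [Group G] [Group G'] (e : G ≃* G') (N : Subgroup G')
    (hN : commutator G' = N) :
    (commutator G).index = N.index ∧ Nonempty (↥(commutator G) ≃* ↥N) ∧
      ∀ g : G, e g ∈ N → g ∈ commutator G := by
  have hmap : (commutator G).map (e : G →* G') = N := by
    rw [← hN, commutator_def, Subgroup.map_commutator,
      Subgroup.map_top_of_surjective _ e.surjective]
    rfl
  refine ⟨?_, ?_, ?_⟩
  · rw [← Subgroup.index_map_equiv _ e, hmap]
  · exact ⟨(e.subgroupMap (commutator G)).trans (MulEquiv.subgroupCongr hmap)⟩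
  · intro g hg
    rw [← hmap] at hg
    obtain ⟨c, hc, hce⟩ := hg
    have : c = g := e.injective hce
    rwa [this] at hc

/-- The commutator subgroup of a group isomorphic to the permutation group of ²F₄(2) has index
two, is isomorphic to the simple permutation group of order 17971200, and contains all the
involutions. -/
theorem f4_main {A : Type*} [Group A] (T : Subgroup A) (h : Nonempty (↥T ≃* ↥f4gS.H)) :
    (commutator ↥T).index = 2 ∧ Nonempty (↥(commutator ↥T) ≃* ↥f4tS0.H) ∧
    ∀ g : ↥T, g * g = 1 → g ∈ commutator ↥T := by
  obtain ⟨e⟩ := h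
  obtain ⟨h1, ⟨φ⟩, h3⟩ := comm_transport e (f4tS0.H.subgroupOf f4gS.H) f4_comm
  refine ⟨h1.trans f4_index, ⟨φ.trans (Subgroup.subgroupOfEquivOfLe f4t_le_g)⟩, ?_⟩
  intro g hg
  apply h3
  apply Subgroup.mem_subgroupOf.mpr
  apply f4_invol _ (e g).2
  have h2 : e g * e g = 1 := by rw [← map_mul, hg, map_one]
  exact congrArg Subtype.val h2

end Cfsg.Agent.Lib.helper10
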