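import Mathlib
import Cfsg.Agent.Lib.helper42.FGDefs

/-! S1915 piece LEMM (helper10): a 2-group with a self-centralizing cyclic subgroup of index 2
and a central element of order 4 has exactly four elements of square 1, forming a four-group.
No exponent arithmetic: the conjugation `α` on `B` has `α² = 1`, commutators `[y, B]` have
square 1, and `x ↦ x * α x` has fibres of size at most 2 with image the fixed points of `α`. -/

set_option autoImplicit false

namespace Cfsg.Agent.Lib.helper42.FG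

/-- in a cyclic subgroup the elements of square 1 are `1` and the involution -/
theorem h10_cyc_sq {Γ : Type*} [Group Γ] [Finite Γ] (B : Subgroup Γ) (hcyc : IsCyclic B) (z : Γ)
    (hz : z ∈ B) (hz1 : z ≠ 1) (hz2 : z ^ 2 = 1) (x : Γ) (hx : x ∈ B) (hx2 : x ^ 2 = 1) :
    x = 1 ∨ x = z := by
  classical
  have : Fintype ↥B := Fintype.ofFinite _
  have hle := IsCyclic.card_pow_eq_one_le (α := ↥B) (n := 2) (by norm_num)
  by_contra hcon
  have hx1 : x ≠ 1 := fun h => hcon (Or.inl h)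
  have hxz : x ≠ z := fun h => hcon (Or.inr h)
  have hsub : ({(1 : ↥B), ⟨z, hz⟩, ⟨x, hx⟩} : Finset ↥B) ⊆
      Finset.univ.filter (fun a : ↥B => a ^ 2 = 1) := by
    intro a ha
    simp only [Finset.mem_insert, Finset.mem_singleton] at ha
    rw [Finset.mem_filter]
    refine ⟨Finset.mem_univ _, ?_⟩
    rcases ha with rfl | rfl | rfl
    · simp
    · exact Subtype.ext hz2
    · exact Subtype.ext hx2
  have hcard : ({(1 : ↥B), ⟨z, hz⟩, ⟨x, hx⟩} : Finset ↥B).card = 3 := by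
    rw [Finset.card_insert_of_notMem, Finset.card_insert_of_notMem, Finset.card_singleton]
    · simp only [Finset.mem_singleton]
      intro h
      exact hxz (congrArg Subtype.val h).symm
    · simp only [Finset.mem_insert, Finset.mem_singleton]
      rintro (h | h)
      · exact hz1 (congrArg Subtype.val h).symm
      · exact hx1 (congrArg Subtype.val h).symm
  have := Finset.card_le_card hsub
  omega

/-- group version of LEMM -/
theorem h10_modular_grp {Γ : Type*} [Group Γ] [Finite Γ] (h2 : IsPGroup 2 Γ) (B : Subgroup Γ)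
    (hcyc : IsCyclic B) (hidx : B.index = 2)
    (hself : ∀ y : Γ, (∀ x ∈ B, y * x = x * y) → y ∈ B)
    (b₀ : Γ) (hb₀ : b₀ ∈ B) (hb₀4 : orderOf b₀ = 4) (hb₀c : ∀ y : Γ, y * b₀ = b₀ * y) :
    ∃ X : Subgroup Γ, (∀ x : Γ, x ^ 2 = 1 → x ∈ X) ∧ (∀ x ∈ X, x ^ 2 = 1) ∧ Nat.card X = 4 := by
  classical
  have : Fact (Nat.Prime 2) := ⟨Nat.prime_two⟩
  have hBn : B.Normal := Subgroup.normal_of_index_eq_two hidx
  have hcomm : ∀ x ∈ B, ∀ x' ∈ B, x * x' = x' * x := by
    intro x hx x' hx'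
    obtain ⟨g, hg⟩ := hcyc.exists_generator
    obtain ⟨k, hk⟩ := Subgroup.mem_zpowers_iff.mp (hg ⟨x, hx⟩)
    obtain ⟨k', hk'⟩ := Subgroup.mem_zpowers_iff.mp (hg ⟨x', hx'⟩)
    have e1 : x = (g : Γ) ^ k := by
      have h1 := congrArg Subtype.val hk
      simpa using h1.symm
    have e2 : x' = (g : Γ) ^ k' := by
      have h1 := congrArg Subtype.val hk'
      simpa using h1.symm
    rw [e1, e2, ← zpow_add, ← zpow_add, add_comm]
  set z : Γ := b₀ ^ 2 with hzdef
  have hzB : z ∈ B := B.pow_mem hb₀ 2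
  have hz1 : z ≠ 1 := by
    intro h
    have h1 := orderOf_dvd_of_pow_eq_one h
    rw [hb₀4] at h1
    omega
  have hz2 : z ^ 2 = 1 := by
    rw [hzdef, ← pow_mul]
    have h1 := pow_orderOf_eq_one b₀
    rw [hb₀4] at h1
    exact h1
  have hzc : ∀ y : Γ, y * z = z * y := by
    intro y
    rw [hzdef, pow_two, ← mul_assoc, hb₀c y, mul_assoc, hb₀c y, mul_assoc]
  have hzinv : z⁻¹ = z := by
    rw [inv_eq_iff_mul_eq_one, ← pow_two]
    exact hz2
  have hsq : ∀ x ∈ B, x ^ 2 = 1 → x = 1 ∨ x = z :=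
    fun x hx hx2 => h10_cyc_sq B hcyc z hzB hz1 hz2 x hx hx2
  have hsqmem : ∀ y : Γ, y ^ 2 ∈ B := fun y => Subgroup.sq_mem_of_index_two hidx y
  have hconjB : ∀ (y x : Γ), x ∈ B → y * x * y⁻¹ ∈ B := fun y x hx => hBn.conj_mem x hx y
  have hαα : ∀ (y x : Γ), x ∈ B → y * (y * x * y⁻¹) * y⁻¹ = x := by
    intro y x hx
    have h1 : y * y * x = x * (y * y) := by
      have h0 := hcomm _ (hsqmem y) x hx
      rw [pow_two] at h0
      exact h0
    calc y * (y * x * y⁻¹) * y⁻¹ = (y * y * x) * (y * y)⁻¹ := by group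
      _ = x := by rw [h1]; group
  have hclaim : ∀ (y x : Γ), x ∈ B → (y * x * y⁻¹ * x⁻¹) ^ 2 = 1 := by
    intro y x hx
    obtain ⟨g, hg⟩ := hcyc.exists_generator
    have hgB : (g : Γ) ∈ B := g.2
    obtain ⟨k, hk⟩ := Subgroup.mem_zpowers_iff.mp (hg ⟨y * (g : Γ) * y⁻¹, hconjB y g hgB⟩)
    have hk' : y * (g : Γ) * y⁻¹ = (g : Γ) ^ k := by
      have h1 := congrArg Subtype.val hk
      simpa using h1.symm
    have hpow : ∀ x ∈ B, y * x * y⁻¹ = x ^ k := by
      intro x hx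
      obtain ⟨e, he⟩ := Subgroup.mem_zpowers_iff.mp (hg ⟨x, hx⟩)
      have hx' : x = (g : Γ) ^ e := by
        have h1 := congrArg Subtype.val he
        simpa using h1.symm
      rw [hx', ← conj_zpow, hk', ← zpow_mul, ← zpow_mul, mul_comm]
    have h1 : b₀ ^ (k - 1) = 1 := by
      have h3 := hpow b₀ hb₀
      rw [hb₀c y, mul_inv_cancel_right] at h3
      rw [zpow_sub, zpow_one, ← h3, mul_inv_cancel]
    have h4 : (4 : ℤ) ∣ k - 1 := by
      have h3 := (orderOf_dvd_iff_zpow_eq_one).mpr h1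
      rw [hb₀4] at h3
      exact_mod_cast h3
    have hwB : y * x * y⁻¹ * x⁻¹ ∈ B := B.mul_mem (hconjB y x hx) (B.inv_mem hx)
    have hαw : y * (y * x * y⁻¹ * x⁻¹) * y⁻¹ = (y * x * y⁻¹ * x⁻¹)⁻¹ := by
      have e1 : y * (y * x * y⁻¹ * x⁻¹) * y⁻¹ = (y * (y * x * y⁻¹) * y⁻¹) * (y * x * y⁻¹)⁻¹ := by
        group
      rw [e1, hαα y x hx]
      group
    have h5 : (y * x * y⁻¹ * x⁻¹) ^ (k + 1) = 1 := by
      rw [zpow_add, zpow_one, ← hpow _ hwB, hαw, inv_mul_cancel]
    have h6 : ((orderOf (y * x * y⁻¹ * x⁻¹) : ℕ) : ℤ) ∣ k + 1 :=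
      orderOf_dvd_iff_zpow_eq_one.mpr h5
    obtain ⟨a, ha⟩ := (IsPGroup.iff_orderOf.mp h2) (y * x * y⁻¹ * x⁻¹)
    have ha1 : a ≤ 1 := by
      by_contra hcon
      have h8 : (4 : ℕ) ∣ orderOf (y * x * y⁻¹ * x⁻¹) := by
        rw [ha]
        exact pow_dvd_pow 2 (by omega : 2 ≤ a)
      have h7 : (4 : ℤ) ∣ k + 1 := (by exact_mod_cast h8 : (4 : ℤ) ∣
        ((orderOf (y * x * y⁻¹ * x⁻¹) : ℕ) : ℤ)).trans h6
      omega
    have h9 : orderOf (y * x * y⁻¹ * x⁻¹) ∣ 2 := by
      rw [ha]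
      exact pow_dvd_pow 2 ha1
    exact orderOf_dvd_iff_pow_eq_one.mp h9
  have hL1 : ∀ (y x : Γ), x ∈ B → y * x * y⁻¹ = x⁻¹ → x = 1 ∨ x = z := by
    intro y x hx hinv
    have h1 := hclaim y x hx
    rw [hinv] at h1
    have hx2B : x⁻¹ * x⁻¹ ∈ B := B.mul_mem (B.inv_mem hx) (B.inv_mem hx)
    rcases hsq _ hx2B h1 with h | h
    · have h3 : x ^ 2 = 1 := by
        have h4 : (x ^ 2)⁻¹ = 1 := by
          rw [pow_two, mul_inv_rev]
          exact h
        exact inv_eq_one.mp h4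
      exact hsq x hx h3
    · exfalso
      have hx2 : x ^ 2 = z := by
        have h' : (x ^ 2)⁻¹ = z := by
          rw [pow_two, mul_inv_rev]
          exact h
        rw [← hzinv, ← h', inv_inv]
      have h3 : (x * b₀⁻¹) ^ 2 = 1 := by
        have hc := hcomm x hx b₀⁻¹ (B.inv_mem hb₀)
        rw [pow_two]
        calc x * b₀⁻¹ * (x * b₀⁻¹) = x * (b₀⁻¹ * x) * b₀⁻¹ := by group
          _ = x * (x * b₀⁻¹) * b₀⁻¹ := by rw [hc]
          _ = x * x * (b₀ * b₀)⁻¹ := by group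
          _ = x ^ 2 * (b₀ ^ 2)⁻¹ := by rw [pow_two, pow_two]
          _ = 1 := by rw [hx2, mul_inv_cancel]
      have hcen : y * x * y⁻¹ = x := by
        rcases hsq _ (B.mul_mem hx (B.inv_mem hb₀)) h3 with h4 | h4
        · have hxb : x = b₀ := by
            rw [mul_inv_eq_one] at h4
            exact h4
          rw [hxb, hb₀c y, mul_inv_cancel_right]
        · have hxb : x = z * b₀ := by
            rw [mul_inv_eq_iff_eq_mul] at h4
            exact h4
          rw [hxb, ← mul_assoc, hzc y, mul_assoc z, hb₀c y, ← mul_assoc, mul_inv_cancel_right]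
      rw [hcen] at hinv
      have h5 : x ^ 2 = 1 := by
        rw [pow_two]
        nth_rewrite 1 [hinv]
        exact inv_mul_cancel x
      rw [hx2] at h5
      exact hz1 h5
  -- an element outside B
  obtain ⟨y, hy⟩ : ∃ y : Γ, y ∉ B := by
    by_contra h
    have hall : ∀ y : Γ, y ∈ B := fun y => by_contra (fun hy => h ⟨y, hy⟩)
    have htop : B = ⊤ := (Subgroup.eq_top_iff' B).mpr hall
    rw [htop, Subgroup.index_top] at hidx
    omega
  -- the fixed points of conjugation by y, a proper subgroup of B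
  let F' : Subgroup ↥B :=
    { carrier := {x | y * x.1 * y⁻¹ = x.1}
      mul_mem' := by
        intro a b ha hb
        have ha' : y * a.1 * y⁻¹ = a.1 := ha
        have hb' : y * b.1 * y⁻¹ = b.1 := hb
        show y * (a.1 * b.1) * y⁻¹ = a.1 * b.1
        calc y * (a.1 * b.1) * y⁻¹ = (y * a.1 * y⁻¹) * (y * b.1 * y⁻¹) := by group
          _ = a.1 * b.1 := by rw [ha', hb']
      one_mem' := by
        show y * (1 : Γ) * y⁻¹ = 1
        group
      inv_mem' := by
        intro a ha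
        have ha' : y * a.1 * y⁻¹ = a.1 := ha
        show y * (a.1)⁻¹ * y⁻¹ = (a.1)⁻¹
        calc y * (a.1)⁻¹ * y⁻¹ = (y * a.1 * y⁻¹)⁻¹ := by group
          _ = (a.1)⁻¹ := by rw [ha'] }
  have hF'mem : ∀ x : ↥B, x ∈ F' ↔ y * x.1 * y⁻¹ = x.1 := fun x => Iff.rfl
  have hF'ne : F' ≠ ⊤ := by
    intro htop
    apply hy
    apply hself y
    intro x hx
    have h1 : (⟨x, hx⟩ : ↥B) ∈ F' := by
      rw [htop]
      exact Subgroup.mem_top _
    have h3 : y * x * y⁻¹ = x := h1
    calc y * x = (y * x * y⁻¹) * y := by group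
      _ = x * y := by rw [h3]
  have hF'card : 2 * Nat.card F' ≤ Nat.card ↥B := by
    obtain ⟨k, hk⟩ := Subgroup.card_subgroup_dvd_card F'
    have hpos : 0 < Nat.card F' := Nat.card_pos
    have hk1 : k ≠ 1 := by
      intro h1
      rw [h1, mul_one] at hk
      exact hF'ne (Subgroup.eq_top_of_card_eq F' hk.symm)
    have hk0 : k ≠ 0 := by
      intro h0
      rw [h0, mul_zero] at hk
      have h3 : 0 < Nat.card ↥B := Nat.card_pos
      omega
    rw [hk]
    have hk2 : 2 ≤ k := by omega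
    nlinarith
  have : Fintype ↥B := Fintype.ofFinite _
  let Nf : ↥B → ↥B := fun x => ⟨x.1 * (y * x.1 * y⁻¹), B.mul_mem x.2 (hconjB y x.1 x.2)⟩
  have hNf : ∀ x : ↥B, (Nf x).1 = x.1 * (y * x.1 * y⁻¹) := fun x => rfl
  have hfib : ∀ b ∈ (Finset.univ : Finset ↥B).image Nf,
      ((Finset.univ : Finset ↥B).filter (fun x => Nf x = b)).card ≤ 2 := by
    intro b hb
    obtain ⟨x₀, -, rfl⟩ := Finset.mem_image.mp hb
    have hsub : (Finset.univ : Finset ↥B).filter (fun x => Nf x = Nf x₀) ⊆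
        {x₀, ⟨z * x₀.1, B.mul_mem hzB x₀.2⟩} := by
      intro x hx
      have hx' : Nf x = Nf x₀ := (Finset.mem_filter.mp hx).2
      have hx'' : x.1 * (y * x.1 * y⁻¹) = x₀.1 * (y * x₀.1 * y⁻¹) := congrArg Subtype.val hx'
      have hc := hcomm x.1⁻¹ (B.inv_mem x.2) x₀.1 x₀.2
      have hd : y * (x.1 * x₀.1⁻¹) * y⁻¹ = (x.1 * x₀.1⁻¹)⁻¹ := by
        calc y * (x.1 * x₀.1⁻¹) * y⁻¹
            = x.1⁻¹ * (x.1 * (y * x.1 * y⁻¹)) * (y * x₀.1 * y⁻¹)⁻¹ := by group
          _ = x.1⁻¹ * (x₀.1 * (y * x₀.1 * y⁻¹)) * (y * x₀.1 * y⁻¹)⁻¹ := by rw [hx'']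
          _ = x.1⁻¹ * x₀.1 := by group
          _ = x₀.1 * x.1⁻¹ := hc
          _ = (x.1 * x₀.1⁻¹)⁻¹ := by group
      rcases hL1 y (x.1 * x₀.1⁻¹) (B.mul_mem x.2 (B.inv_mem x₀.2)) hd with h | h
      · have hE : x = x₀ := Subtype.ext (mul_inv_eq_one.mp h)
        rw [hE]
        exact Finset.mem_insert_self _ _
      · have hE : x = ⟨z * x₀.1, B.mul_mem hzB x₀.2⟩ := Subtype.ext (mul_inv_eq_iff_eq_mul.mp h)
        rw [hE]
        exact Finset.mem_insert_of_mem (Finset.mem_singleton_self _)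
    exact (Finset.card_le_card hsub).trans Finset.card_le_two
  have h1 := Finset.card_le_mul_card_image (Finset.univ : Finset ↥B) 2 hfib
  let Ffin : Finset ↥B := Finset.univ.filter (fun x : ↥B => y * x.1 * y⁻¹ = x.1)
  have hFc : Nat.card F' = Ffin.card := by
    rw [Nat.card_eq_fintype_card, Fintype.card_subtype]
    rfl
  have himg : (Finset.univ : Finset ↥B).image Nf ⊆ Ffin := by
    intro b hb
    obtain ⟨x, -, rfl⟩ := Finset.mem_image.mp hb
    rw [Finset.mem_filter]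
    refine ⟨Finset.mem_univ _, ?_⟩
    rw [hNf]
    have hc := hcomm (y * x.1 * y⁻¹) (hconjB y x.1 x.2) x.1 x.2
    calc y * (x.1 * (y * x.1 * y⁻¹)) * y⁻¹ = (y * x.1 * y⁻¹) * (y * (y * x.1 * y⁻¹) * y⁻¹) := by
          group
      _ = (y * x.1 * y⁻¹) * x.1 := by rw [hαα y x.1 x.2]
      _ = x.1 * (y * x.1 * y⁻¹) := hc
  have hcardB : (Finset.univ : Finset ↥B).card = Nat.card ↥B := by
    rw [Nat.card_eq_fintype_card]
    rfl
  have himgeq : (Finset.univ : Finset ↥B).image Nf = Ffin := by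
    apply Finset.eq_of_subset_of_card_le himg
    rw [hcardB] at h1
    omega
  -- the involution outside B
  have hy2 : (⟨(y ^ 2)⁻¹, B.inv_mem (hsqmem y)⟩ : ↥B) ∈ Ffin := by
    rw [Finset.mem_filter]
    refine ⟨Finset.mem_univ _, ?_⟩
    show y * (y ^ 2)⁻¹ * y⁻¹ = (y ^ 2)⁻¹
    rw [pow_two]
    group
  rw [← himgeq] at hy2
  obtain ⟨x, -, hx⟩ := Finset.mem_image.mp hy2
  have hx' : x.1 * (y * x.1 * y⁻¹) = (y ^ 2)⁻¹ := congrArg Subtype.val hx
  have hx'' : x.1 * (y * x.1 * y⁻¹) = (y * y)⁻¹ := by rw [hx', pow_two]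
  obtain ⟨t, ht2, htB⟩ : ∃ t : Γ, t ^ 2 = 1 ∧ t ∉ B := by
    refine ⟨x.1 * y, ?_, ?_⟩
    · rw [pow_two]
      calc x.1 * y * (x.1 * y) = (x.1 * (y * x.1 * y⁻¹)) * (y * y) := by group
        _ = 1 := by rw [hx'', inv_mul_cancel]
    · intro h
      apply hy
      have h3 : y = x.1⁻¹ * (x.1 * y) := by group
      rw [h3]
      exact B.mul_mem (B.inv_mem x.2) h
  have htinv : t⁻¹ = t := by
    rw [inv_eq_iff_mul_eq_one, ← pow_two]
    exact ht2
  -- all elements of square 1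
  have hΩ : ∀ u : Γ, u ^ 2 = 1 → u = 1 ∨ u = z ∨ u = t ∨ u = z * t := by
    intro u hu
    by_cases huB : u ∈ B
    · rcases hsq u huB hu with h | h
      · exact Or.inl h
      · exact Or.inr (Or.inl h)
    · have huinv : u⁻¹ = u := by
        rw [inv_eq_iff_mul_eq_one, ← pow_two]
        exact hu
      have hutB : u * t ∈ B := by
        rw [Subgroup.mul_mem_iff_of_index_two hidx]
        exact ⟨fun h => (huB h).elim, fun h => (htB h).elim⟩
      have hinv : t * (u * t) * t⁻¹ = (u * t)⁻¹ := by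
        rw [mul_inv_rev, htinv, huinv]
        calc t * (u * t) * t = t * u * (t * t) := by group
          _ = t * u := by rw [← pow_two, ht2, mul_one]
      rcases hL1 t (u * t) hutB hinv with h | h
      · right; right; left
        have h3 : u = t⁻¹ := eq_inv_of_mul_eq_one_left h
        rw [h3, htinv]
      · right; right; right
        have h3 : u = z * t⁻¹ := eq_mul_inv_of_mul_eq h
        rw [h3, htinv]
  have hzt2 : (z * t) ^ 2 = 1 := by
    rw [pow_two]
    calc z * t * (z * t) = z * (t * z) * t := by group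
      _ = z * (z * t) * t := by rw [hzc t]
      _ = z * z * (t * t) := by group
      _ = z ^ 2 * t ^ 2 := by rw [pow_two, pow_two]
      _ = 1 := by rw [hz2, ht2, one_mul]
  have hcomt : ∀ u : Γ, u ^ 2 = 1 → u * t = t * u := by
    intro u hu
    rcases hΩ u hu with h | h | h | h
    · rw [h, one_mul, mul_one]
    · rw [h, (hzc t).symm]
    · rw [h]
    · rw [h, mul_assoc, ← mul_assoc t z t, hzc t, mul_assoc z t t]
  have hcomΩ : ∀ u v : Γ, u ^ 2 = 1 → v ^ 2 = 1 → u * v = v * u := by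
    intro u v hu hv
    rcases hΩ v hv with h | h | h | h
    · rw [h, one_mul, mul_one]
    · rw [h, hzc u]
    · rw [h, hcomt u hu]
    · rw [h, ← mul_assoc, hzc u, mul_assoc, hcomt u hu, mul_assoc]
  let X : Subgroup Γ :=
    { carrier := {u | u ^ 2 = 1}
      mul_mem' := by
        intro u v hu hv
        have hu' : u ^ 2 = 1 := hu
        have hv' : v ^ 2 = 1 := hv
        show (u * v) ^ 2 = 1
        rw [pow_two]
        calc u * v * (u * v) = u * (v * u) * v := by group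
          _ = u * (u * v) * v := by rw [hcomΩ v u hv' hu']
          _ = u * u * (v * v) := by group
          _ = u ^ 2 * v ^ 2 := by rw [pow_two, pow_two]
          _ = 1 := by rw [hu', hv', one_mul]
      one_mem' := by
        show (1 : Γ) ^ 2 = 1
        exact one_pow 2
      inv_mem' := by
        intro u hu
        have hu' : u ^ 2 = 1 := hu
        show (u⁻¹) ^ 2 = 1
        rw [inv_pow, hu', inv_one] }
  refine ⟨X, fun u hu => hu, fun u hu => hu, ?_⟩
  have hXset : (X : Set Γ) = {1, z, t, z * t} := by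
    ext u
    constructor
    · intro hu
      have hu' : u ^ 2 = 1 := hu
      rcases hΩ u hu' with h | h | h | h
      · rw [h]; simp
      · rw [h]; simp
      · rw [h]; simp
      · rw [h]; simp
    · intro hu
      simp only [Set.mem_insert_iff, Set.mem_singleton_iff] at hu
      show u ^ 2 = 1
      rcases hu with h | h | h | h
      · rw [h]; exact one_pow 2
      · rw [h]; exact hz2
      · rw [h]; exact ht2
      · rw [h]; exact hzt2
  have htz : t ≠ z * t := by
    intro h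
    apply hz1
    have h3 : z * t = 1 * t := by rw [one_mul]; exact h.symm
    exact mul_right_cancel h3
  have hzt : z ≠ t := fun h => htB (h ▸ hzB)
  have hzzt : z ≠ z * t := by
    intro h
    apply htB
    have h3 : t = 1 := by
      have h4 : z * 1 = z * t := by rw [mul_one]; exact h
      exact (mul_left_cancel h4).symm
    rw [h3]
    exact B.one_mem
  have h1t : (1 : Γ) ≠ t := fun h => htB (h ▸ B.one_mem)
  have h1zt : (1 : Γ) ≠ z * t := by
    intro h
    apply htB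
    have h3 : t = z⁻¹ := eq_inv_of_mul_eq_one_right h.symm
    rw [h3]
    exact B.inv_mem hzB
  show Nat.card ↥(X : Set Γ) = 4
  rw [Nat.card_coe_set_eq, hXset, Set.ncard_insert_of_notMem, Set.ncard_insert_of_notMem,
    Set.ncard_pair htz]
  · simp only [Set.mem_insert_iff, Set.mem_singleton_iff]
    rintro (h | h)
    · exact hzt h
    · exact hzzt h
  · simp only [Set.mem_insert_iff, Set.mem_singleton_iff]
    rintro (h | h | h)
    · exact hz1 h.symm
    · exact h1t h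
    · exact h1zt h

variable {G : Type*} [Group G] [Finite G]

/-- LEMM -/
theorem modular_omega (S₁ B : Subgroup G) (hBS : B ≤ S₁) (hcyc : IsCyclic B) (h2 : IsPGroup 2 S₁)
    (hidx : B.relIndex S₁ = 2) (hself : ∀ y ∈ S₁, (∀ x ∈ B, y * x = x * y) → y ∈ B)
    (b₀ : G) (hb₀ : b₀ ∈ B) (hb₀4 : orderOf b₀ = 4) (hb₀c : ∀ y ∈ S₁, y * b₀ = b₀ * y) :
    ∃ X : Subgroup G, X ≤ S₁ ∧ (∀ x ∈ S₁, x ^ 2 = 1 → x ∈ X) ∧ El X ∧ Nat.card X = 4 := by
  have hcyc' : IsCyclic ↥(B.subgroupOf S₁) :=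
    (Subgroup.subgroupOfEquivOfLe hBS).isCyclic.mpr hcyc
  have hb₀' : orderOf (⟨b₀, hBS hb₀⟩ : ↥S₁) = 4 := by
    rw [← hb₀4]
    exact Subgroup.orderOf_mk b₀ (hBS hb₀)
  obtain ⟨X', hX1, hX2, hX3⟩ := h10_modular_grp (Γ := ↥S₁) h2 (B.subgroupOf S₁) hcyc' hidx
    (fun y hy => by
      rw [Subgroup.mem_subgroupOf]
      apply hself y.1 y.2
      intro x hx
      have h0 := hy ⟨x, hBS hx⟩ (by rw [Subgroup.mem_subgroupOf]; exact hx)
      exact congrArg Subtype.val h0)
    ⟨b₀, hBS hb₀⟩ (by rw [Subgroup.mem_subgroupOf]; exact hb₀) hb₀'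
    (fun y => Subtype.ext (hb₀c y.1 y.2))
  refine ⟨X'.map S₁.subtype, Subgroup.map_subtype_le X', ?_, ?_, ?_⟩
  · intro x hx hx2
    rw [Subgroup.mem_map]
    exact ⟨⟨x, hx⟩, hX1 _ (Subtype.ext hx2), rfl⟩
  · have hexp : ∀ e ∈ X'.map S₁.subtype, e ^ 2 = 1 := by
      intro e he
      obtain ⟨e', he', rfl⟩ := Subgroup.mem_map.mp he
      have h0 := hX2 e' he'
      have h3 := congrArg Subtype.val h0
      simpa using h3
    refine ⟨?_, hexp⟩
    intro x hx y hy
    have hxy := hexp (x * y) (Subgroup.mul_mem _ hx hy)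
    have hx2 := hexp x hx
    have hy2 := hexp y hy
    have hxi : x⁻¹ = x := by rw [inv_eq_iff_mul_eq_one, ← pow_two]; exact hx2
    have hyi : y⁻¹ = y := by rw [inv_eq_iff_mul_eq_one, ← pow_two]; exact hy2
    have hxyi : (x * y)⁻¹ = x * y := by rw [inv_eq_iff_mul_eq_one, ← pow_two]; exact hxy
    rw [← hxyi, mul_inv_rev, hxi, hyi]
  · rw [Subgroup.card_map_of_injective S₁.subtype_injective]
    exact hX3

end Cfsg.Agent.Lib.helper42.FG
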