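import Mathlib
import Cfsg.Agent.Lib.helper42.FGDefs
import Cfsg.Agent.Lib.helper17.FGAUT
import Cfsg.Agent.Lib.helper73.FGK1C

/-! S1915 piece T2C4 (helper10 racer copy): in the faithful case the element `u₁` of `U` acts on
`S` as conjugation by `c * s`, where `s` is an involution outside `B` and `c ∈ B` is found by a
fibre count of `c ↦ s c s⁻¹ c⁻¹` on `B` (no exponent arithmetic). -/

set_option autoImplicit false

namespace Cfsg.Agent.Lib.helper42.FG

variable {G : Type*} [Group G] [Finite G]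

/-- T2C4 (racer copy) -/
theorem h10_case_faithful_k2 {A S U : Subgroup G} (h : Cfg A S U) {B : Subgroup G}
    (hB : BData S U B)
    {z : G} (hzB : z ∈ B) (hz : ZData S z) (b : G) (hb : Subgroup.zpowers b = B) (hbz : b * b ≠ z)
    (u₀ : G) (hu₀ : u₀ ∈ U) (hu₀b : u₀ * b * u₀⁻¹ = b * z)
    (hu₀s : ∀ s ∈ S, s ∉ B → s ^ 2 = 1 → u₀ * s * u₀⁻¹ = s * z)
    (u₁ : G) (hu₁ : u₁ ∈ U) (hu₁b : u₁ * b * u₁⁻¹ = b⁻¹ * z) : Inner S U := by
  classical
  have : Fact (Nat.Prime 2) := ⟨Nat.prime_two⟩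
  have hBS := hB.hBS
  have hbB : b ∈ B := by
    rw [← hb]
    exact Subgroup.mem_zpowers b
  have hbS : b ∈ S := hBS hbB
  have hzS : z ∈ S := hz.hzS
  have hcomm : ∀ x ∈ B, ∀ y ∈ B, x * y = y * x := by
    intro x hx y hy
    rw [← hb] at hx hy
    obtain ⟨k, rfl⟩ := Subgroup.mem_zpowers_iff.mp hx
    obtain ⟨k', rfl⟩ := Subgroup.mem_zpowers_iff.mp hy
    rw [← zpow_add, ← zpow_add, add_comm]
  have hz1 : z ≠ 1 := by
    intro h1
    have h2 := hz.hz2
    rw [h1, orderOf_one] at h2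
    omega
  have hzz : z * z = 1 := by
    have h1 := pow_orderOf_eq_one z
    rw [hz.hz2, pow_two] at h1
    exact h1
  have hzc := hz.hzc
  have hgen : ∀ (t t' : G), t * b * t⁻¹ = t' * b * t'⁻¹ →
      ∀ x ∈ B, t * x * t⁻¹ = t' * x * t'⁻¹ := by
    intro t t' htt x hx
    rw [← hb] at hx
    obtain ⟨k, rfl⟩ := Subgroup.mem_zpowers_iff.mp hx
    rw [← conj_zpow, ← conj_zpow, htt]
  have hnS : ∀ t ∈ S, ∀ x ∈ B, t * x * t⁻¹ ∈ B := fun t ht x hx =>
    (Subgroup.mem_normalizer_iff.mp (hB.hSB ht) x).mp hx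
  have hidx2 : ∀ a ∈ S, ∀ c ∈ S, (a * c ∈ B ↔ (a ∈ B ↔ c ∈ B)) := by
    intro a ha c hc
    have h1 := Subgroup.mul_mem_iff_of_index_two (H := B.subgroupOf S) hB.hidx
      (a := ⟨a, ha⟩) (b := ⟨c, hc⟩)
    exact h1
  -- an involution outside B
  obtain ⟨E, hES, hE, hEc⟩ := h.hc
  obtain ⟨s, hsE, hsB⟩ : ∃ s ∈ E, s ∉ B := by
    by_contra hcon
    have hall : ∀ e ∈ E, e ∈ B := fun e he => by_contra fun hn => hcon ⟨e, he, hn⟩
    have hsub : (E : Set G) ⊆ {1, z} := by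
      intro e he
      rcases k1_of_cyclic hB hzB hz e (hall e he) (hE.2 e he) with h1 | h1
      · rw [h1]; simp
      · rw [h1]; simp
    have h1 : (E : Set G).ncard ≤ ({1, z} : Set G).ncard :=
      Set.ncard_le_ncard hsub (Set.toFinite _)
    have h2 : ({1, z} : Set G).ncard ≤ 2 := by
      have h3 := Set.ncard_insert_le (1 : G) {z}
      rw [Set.ncard_singleton] at h3
      exact h3
    have h3 : Nat.card E = (E : Set G).ncard := Nat.card_coe_set_eq _
    omega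
  have hsS : s ∈ S := hES hsE
  have hs2 : s ^ 2 = 1 := hE.2 s hsE
  have hss : s * s = 1 := by rw [← pow_two]; exact hs2
  have hsinv : s⁻¹ = s := inv_eq_of_mul_eq_one_left hss
  have hdec : ∀ y ∈ S, y ∉ B → y * s ∈ B := by
    intro y hy hyB
    rw [hidx2 y hy s hsS]
    exact ⟨fun h1 => (hyB h1).elim, fun h1 => (hsB h1).elim⟩
  -- an element of B commuting with s is central in S, hence 1 or z
  have hcen : ∀ e ∈ B, s * e = e * s → e = 1 ∨ e = z := by
    intro e he hes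
    apply hz.hzu e (hBS he)
    intro x hx
    by_cases hxB : x ∈ B
    · exact hcomm e he x hxB
    · obtain ⟨c, hc, rfl⟩ : ∃ c ∈ B, x = c * s :=
        ⟨x * s, hdec x hx hxB, by rw [mul_assoc, hss, mul_one]⟩
      calc e * (c * s) = (e * c) * s := (mul_assoc e c s).symm
        _ = (c * e) * s := by rw [hcomm e he c hc]
        _ = c * (e * s) := mul_assoc c e s
        _ = c * (s * e) := by rw [hes]
        _ = c * s * e := (mul_assoc c s e).symm
  -- the action of s on b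
  have h2S : ∃ n : ℕ, orderOf b = 2 ^ n := by
    have hSp : IsPGroup 2 S := IsPGroup.of_card h.hSyl
    obtain ⟨k, hk⟩ := hSp ⟨b, hbS⟩
    have hk' : b ^ (2 ^ k) = 1 := by
      have h1 := congrArg Subtype.val hk
      simpa using h1
    obtain ⟨m, -, hm⟩ := (Nat.dvd_prime_pow Nat.prime_two).mp (orderOf_dvd_of_pow_eq_one hk')
    exact ⟨m, hm⟩
  have hsb : s * b * s⁻¹ ∈ Subgroup.zpowers b := by
    rw [hb]
    exact hnS s hsS b hbB
  have htt : (s * s) * b = b * (s * s) := by rw [hss, one_mul, mul_one]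
  have hzb' : z ∈ Subgroup.zpowers b := by
    rw [hb]
    exact hzB
  have haut := aut_cyclic_two b z s h2S hzb' hz.hz2 hsb htt
  have hmain : s * b * s⁻¹ = b⁻¹ * z := by
    rcases haut with h1 | h1 | h1 | h1
    · exfalso
      apply hsB
      apply hB.hself s hsS
      intro x hx
      have h3 := hgen s 1 (by rw [h1]; group) x hx
      have h4 : s * x * s⁻¹ = x := by rw [h3]; group
      calc s * x = (s * x * s⁻¹) * s := by group
        _ = x * s := by rw [h4]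
    · exfalso
      have hbs2 : (b * s) ^ 2 = 1 := by
        rw [pow_two]
        calc b * s * (b * s) = b * (s * b * s⁻¹) * (s * s) := by group
          _ = 1 := by rw [h1, hss, mul_inv_cancel, one_mul]
      have hbsS : b * s ∈ S := S.mul_mem hbS hsS
      have hbsB : b * s ∉ B := by
        rw [hidx2 b hbS s hsS]
        intro h3
        exact hsB (h3.mp hbB)
      have h3 := hu₀s (b * s) hbsS hbsB hbs2
      have h4 := hu₀s s hsS hsB hs2
      have h5 : u₀ * (b * s) * u₀⁻¹ = (u₀ * b * u₀⁻¹) * (u₀ * s * u₀⁻¹) := by group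
      rw [h5, hu₀b, h4] at h3
      have h6 : b * z * (s * z) = b * s := by
        calc b * z * (s * z) = b * (z * s) * z := by group
          _ = b * (s * z) * z := by rw [hzc s hsS]
          _ = b * s * (z * z) := by group
          _ = b * s := by rw [hzz, mul_one]
      rw [h6] at h3
      apply hz1
      have h7 : b * s * 1 = b * s * z := by rw [mul_one]; exact h3
      exact (mul_left_cancel h7).symm
    · exfalso
      have hbbB : b * b ∈ B := B.mul_mem hbB hbB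
      have hzb : z * b = b * z := hcomm z hzB b hbB
      have h3 : s * (b * b) = (b * b) * s := by
        calc s * (b * b) = (s * b * s⁻¹) * (s * b * s⁻¹) * s := by group
          _ = (b * z) * (b * z) * s := by rw [h1]
          _ = b * (z * b) * z * s := by group
          _ = b * (b * z) * z * s := by rw [hzb]
          _ = b * b * (z * z) * s := by group
          _ = b * b * s := by rw [hzz, mul_one]
      rcases hcen (b * b) hbbB h3 with h4 | h4
      · have hb2 : b ^ 2 = 1 := by rw [pow_two]; exact h4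
        rcases k1_of_cyclic hB hzB hz b hbB hb2 with h5 | h5
        · rw [h5] at hu₀b
          apply hz1
          have h6 : u₀ * 1 * u₀⁻¹ = 1 := by group
          rw [h6, one_mul] at hu₀b
          exact hu₀b.symm
        · rw [h5, hzz] at hu₀b
          exact hz1 (conj_eq_one_iff.mp hu₀b)
      · exact hbz h4
    · exact h1
  have hu₁1 : u₁ ≠ 1 := by
    intro h1
    rw [h1] at hu₁b
    apply hbz
    have h3 : b = b⁻¹ * z := by
      have h4 : (1 : G) * b * 1⁻¹ = b := by group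
      rw [h4] at hu₁b
      exact hu₁b
    calc b * b = b * (b⁻¹ * z) := by rw [← h3]
      _ = z := by group
  -- w := u₁ s u₁⁻¹
  have hnU : ∀ x, x ∈ B ↔ u₁ * x * u₁⁻¹ ∈ B := fun x =>
    Subgroup.mem_normalizer_iff.mp (hB.hUB hu₁) x
  have hnUS : ∀ x, x ∈ S ↔ u₁ * x * u₁⁻¹ ∈ S := fun x =>
    Subgroup.mem_normalizer_iff.mp (h.hUS hu₁) x
  obtain ⟨w, hwdef⟩ : ∃ w : G, w = u₁ * s * u₁⁻¹ := ⟨_, rfl⟩
  have hwS : w ∈ S := by
    rw [hwdef]
    exact (hnUS s).mp hsS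
  have hwB : w ∉ B := by
    rw [hwdef]
    exact fun h1 => hsB ((hnU s).mpr h1)
  have hww : w * w = 1 := by
    calc w * w = u₁ * (s * s) * u₁⁻¹ := by rw [hwdef]; group
      _ = 1 := by rw [hss]; group
  have hwinv : w⁻¹ = w := inv_eq_of_mul_eq_one_left hww
  have hb'B : s * w ∈ B := by
    rw [hidx2 s hsS w hwS]
    exact ⟨fun h1 => (hsB h1).elim, fun h1 => (hwB h1).elim⟩
  -- the counting
  have : Fintype ↥B := Fintype.ofFinite _
  let Φ : ↥B → ↥B := fun c =>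
    ⟨s * c.1 * s⁻¹ * c.1⁻¹, B.mul_mem (hnS s hsS c.1 c.2) (B.inv_mem c.2)⟩
  have hΦ : ∀ c : ↥B, (Φ c).1 = s * c.1 * s⁻¹ * c.1⁻¹ := fun c => rfl
  let K : Subgroup ↥B :=
    { carrier := {d | s * d.1 * s⁻¹ = d.1⁻¹}
      mul_mem' := by
        intro a c ha hc
        have ha' : s * a.1 * s⁻¹ = a.1⁻¹ := ha
        have hc' : s * c.1 * s⁻¹ = c.1⁻¹ := hc
        show s * (a.1 * c.1) * s⁻¹ = (a.1 * c.1)⁻¹
        calc s * (a.1 * c.1) * s⁻¹ = (s * a.1 * s⁻¹) * (s * c.1 * s⁻¹) := by group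
          _ = a.1⁻¹ * c.1⁻¹ := by rw [ha', hc']
          _ = c.1⁻¹ * a.1⁻¹ := hcomm _ (B.inv_mem a.2) _ (B.inv_mem c.2)
          _ = (a.1 * c.1)⁻¹ := by rw [mul_inv_rev]
      one_mem' := by
        show s * (1 : G) * s⁻¹ = (1 : G)⁻¹
        group
      inv_mem' := by
        intro a ha
        have ha' : s * a.1 * s⁻¹ = a.1⁻¹ := ha
        show s * (a.1)⁻¹ * s⁻¹ = ((a.1)⁻¹)⁻¹
        calc s * (a.1)⁻¹ * s⁻¹ = (s * a.1 * s⁻¹)⁻¹ := by group
          _ = ((a.1)⁻¹)⁻¹ := by rw [ha'] }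
  have hKne : K ≠ ⊤ := by
    intro htop
    have h1 : (⟨b, hbB⟩ : ↥B) ∈ K := by
      rw [htop]
      exact Subgroup.mem_top _
    have h3 : s * b * s⁻¹ = b⁻¹ := h1
    rw [hmain] at h3
    apply hz1
    have h4 : b⁻¹ * z = b⁻¹ * 1 := by rw [mul_one]; exact h3
    exact mul_left_cancel h4
  have hKcard : 2 * Nat.card K ≤ Nat.card ↥B := by
    obtain ⟨k, hk⟩ := Subgroup.card_subgroup_dvd_card K
    have hpos : 0 < Nat.card K := Nat.card_pos
    have hk1 : k ≠ 1 := by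
      intro h1
      rw [h1, mul_one] at hk
      exact hKne (Subgroup.eq_top_of_card_eq K hk.symm)
    have hk0 : k ≠ 0 := by
      intro h0
      rw [h0, mul_zero] at hk
      have h3 : 0 < Nat.card ↥B := Nat.card_pos
      omega
    rw [hk]
    have hk2 : 2 ≤ k := by omega
    nlinarith
  have hfib : ∀ d ∈ (Finset.univ : Finset ↥B).image Φ,
      ((Finset.univ : Finset ↥B).filter (fun c => Φ c = d)).card ≤ 2 := by
    intro d hd
    obtain ⟨c₀, -, rfl⟩ := Finset.mem_image.mp hd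
    have hsub : (Finset.univ : Finset ↥B).filter (fun c => Φ c = Φ c₀) ⊆
        {c₀, ⟨c₀.1 * z, B.mul_mem c₀.2 hzB⟩} := by
      intro c hc
      have hc' : Φ c = Φ c₀ := (Finset.mem_filter.mp hc).2
      have hc'' : s * c.1 * s⁻¹ * c.1⁻¹ = s * c₀.1 * s⁻¹ * c₀.1⁻¹ := congrArg Subtype.val hc'
      have heB : c₀.1⁻¹ * c.1 ∈ B := B.mul_mem (B.inv_mem c₀.2) c.2
      have e2 : s * (c₀.1⁻¹ * c.1) * s⁻¹ = c₀.1⁻¹ * c.1 := by
        calc s * (c₀.1⁻¹ * c.1) * s⁻¹
            = (s * c₀.1 * s⁻¹)⁻¹ * ((s * c.1 * s⁻¹ * c.1⁻¹) * c.1) := by group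
          _ = (s * c₀.1 * s⁻¹)⁻¹ * ((s * c₀.1 * s⁻¹ * c₀.1⁻¹) * c.1) := by rw [hc'']
          _ = c₀.1⁻¹ * c.1 := by group
      have hes : s * (c₀.1⁻¹ * c.1) = (c₀.1⁻¹ * c.1) * s := by
        calc s * (c₀.1⁻¹ * c.1) = (s * (c₀.1⁻¹ * c.1) * s⁻¹) * s := by group
          _ = (c₀.1⁻¹ * c.1) * s := by rw [e2]
      rcases hcen _ heB hes with h1 | h1
      · have hE : c = c₀ := Subtype.ext (inv_mul_eq_one.mp h1).symm
        rw [hE]
        exact Finset.mem_insert_self _ _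
      · have hE : c = ⟨c₀.1 * z, B.mul_mem c₀.2 hzB⟩ :=
          Subtype.ext (inv_mul_eq_iff_eq_mul.mp h1)
        rw [hE]
        exact Finset.mem_insert_of_mem (Finset.mem_singleton_self _)
    exact (Finset.card_le_card hsub).trans Finset.card_le_two
  have h1 := Finset.card_le_mul_card_image (Finset.univ : Finset ↥B) 2 hfib
  let Kfin : Finset ↥B := Finset.univ.filter (fun d : ↥B => s * d.1 * s⁻¹ = d.1⁻¹)
  have hKc : Nat.card K = Kfin.card := by
    rw [Nat.card_eq_fintype_card, Fintype.card_subtype]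
    rfl
  have himg : (Finset.univ : Finset ↥B).image Φ ⊆ Kfin := by
    intro d hd
    obtain ⟨c, -, rfl⟩ := Finset.mem_image.mp hd
    rw [Finset.mem_filter]
    refine ⟨Finset.mem_univ _, ?_⟩
    rw [hΦ]
    calc s * (s * c.1 * s⁻¹ * c.1⁻¹) * s⁻¹
        = (s * s) * c.1 * (s * s)⁻¹ * (s * c.1 * s⁻¹)⁻¹ := by group
      _ = c.1 * (s * c.1 * s⁻¹)⁻¹ := by rw [hss]; group
      _ = (s * c.1 * s⁻¹ * c.1⁻¹)⁻¹ := by group
  have hcardB : (Finset.univ : Finset ↥B).card = Nat.card ↥B := by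
    rw [Nat.card_eq_fintype_card]
    rfl
  have himgeq : (Finset.univ : Finset ↥B).image Φ = Kfin := by
    apply Finset.eq_of_subset_of_card_le himg
    rw [hcardB] at h1
    omega
  have hb'K : (⟨s * w, hb'B⟩ : ↥B) ∈ Kfin := by
    rw [Finset.mem_filter]
    refine ⟨Finset.mem_univ _, ?_⟩
    show s * (s * w) * s⁻¹ = (s * w)⁻¹
    calc s * (s * w) * s⁻¹ = (s * s) * w * s⁻¹ := by group
      _ = w * s⁻¹ := by rw [hss, one_mul]
      _ = w⁻¹ * s⁻¹ := by rw [hwinv]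
      _ = (s * w)⁻¹ := by rw [mul_inv_rev]
  rw [← himgeq] at hb'K
  obtain ⟨c, -, hc⟩ := Finset.mem_image.mp hb'K
  have hc' : s * c.1 * s⁻¹ * c.1⁻¹ = s * w := congrArg Subtype.val hc
  have hxs : (c.1 * s) * s * (c.1 * s)⁻¹ = w := by
    have h3 : c.1 * s⁻¹ * c.1⁻¹ = w := by
      have h4 : s * (c.1 * s⁻¹ * c.1⁻¹) = s * w := by rw [← hc']; group
      exact mul_left_cancel h4
    calc (c.1 * s) * s * (c.1 * s)⁻¹ = c.1 * s * c.1⁻¹ := by group
      _ = c.1 * s⁻¹ * c.1⁻¹ := by rw [hsinv]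
      _ = w := h3
  have hxb : (c.1 * s) * b * (c.1 * s)⁻¹ = b⁻¹ * z := by
    have h3 : b⁻¹ * z ∈ B := B.mul_mem (B.inv_mem hbB) hzB
    calc (c.1 * s) * b * (c.1 * s)⁻¹ = c.1 * (s * b * s⁻¹) * c.1⁻¹ := by group
      _ = c.1 * (b⁻¹ * z) * c.1⁻¹ := by rw [hmain]
      _ = (b⁻¹ * z) * c.1 * c.1⁻¹ := by rw [hcomm c.1 c.2 _ h3]
      _ = b⁻¹ * z := by group
  refine ⟨u₁, hu₁, hu₁1, c.1 * s, S.mul_mem (hBS c.2) hsS, ?_⟩
  have honB : ∀ y ∈ B, u₁ * y * u₁⁻¹ = (c.1 * s) * y * (c.1 * s)⁻¹ :=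
    hgen u₁ (c.1 * s) (by rw [hu₁b, hxb])
  intro y hy
  by_cases hyB : y ∈ B
  · exact honB y hyB
  · have h3 := hdec y hy hyB
    have h4 := honB (y * s) h3
    calc u₁ * y * u₁⁻¹ = (u₁ * (y * s) * u₁⁻¹) * (u₁ * s * u₁⁻¹)⁻¹ := by group
      _ = ((c.1 * s) * (y * s) * (c.1 * s)⁻¹) * ((c.1 * s) * s * (c.1 * s)⁻¹)⁻¹ := by
          rw [h4, ← hwdef, hxs]
      _ = (c.1 * s) * y * (c.1 * s)⁻¹ := by group

end Cfsg.Agent.Lib.helper42.FG
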