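import Mathlib
import Cfsg.Agent.Lib.helper3.GfDefs

/-! S4395 piece GOURSAT, racing copy (helper10), core: the data of VQ for both covers and the
matching of IRRMATCH enter as hypotheses. -/

set_option autoImplicit false

namespace Cfsg.Agent.Lib.helper3.Gf

/-- conjugation by a power of `y` acts on the quotient as the iterate of `T` -/
theorem h10_gf_conj_iter {K : Type*} [Group K] (P : Subgroup K) (hPn : P.Normal) (y : K)
    {V : Type*} [AddCommGroup V] (T : V ≃+ V) (pr : ↥P → V)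
    (hconj : ∀ (u : ↥P) (hu : y * (u : K) * y⁻¹ ∈ P), pr ⟨y * (u : K) * y⁻¹, hu⟩ = T (pr u))
    (j : ℕ) (u : ↥P) :
    pr ⟨y ^ j * (u : K) * (y ^ j)⁻¹, hPn.conj_mem u u.2 (y ^ j)⟩ = (⇑T)^[j] (pr u) := by
  induction j with
  | zero =>
    have h0 : (⟨y ^ 0 * (u : K) * (y ^ 0)⁻¹, hPn.conj_mem u u.2 (y ^ 0)⟩ : ↥P) = u :=
      Subtype.ext (by simp)
    rw [h0]
    rfl
  | succ j ih =>
    rw [Function.iterate_succ_apply', ← ih,
      ← hconj _ (hPn.conj_mem _ (hPn.conj_mem u u.2 (y ^ j)) y)]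
    congr 1
    apply Subtype.ext
    simp [pow_succ', mul_assoc]

/-- every element is `u * y ^ j` -/
theorem h10_gf_decomp {K : Type*} [Group K] [Finite K] (P : Subgroup K) (hPn : P.Normal) (y : K)
    (hsup : P ⊔ Subgroup.zpowers y = ⊤) (a : K) : ∃ (u : ↥P) (j : ℕ), a = (u : K) * y ^ j := by
  have ha : a ∈ P ⊔ Subgroup.zpowers y := by
    rw [hsup]
    trivial
  rw [Subgroup.mem_sup_of_normal_left] at ha
  obtain ⟨u, hu, z, hz, rfl⟩ := ha
  rw [← (isOfFinOrder_of_finite y).mem_powers_iff_mem_zpowers, Submonoid.mem_powers_iff] at hz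
  obtain ⟨j, rfl⟩ := hz
  exact ⟨⟨u, hu⟩, j, rfl⟩

/-- powers of `y` with congruent exponents differ by an element of `P` -/
theorem h10_gf_pow_modEq {K : Type*} [Group K] (P : Subgroup K) (hPn : P.Normal) (y : K) (n : ℕ)
    (hn : y ^ n ∈ P) (k1 k2 : ℕ) (hk : k1 ≡ k2 [MOD n]) : y ^ k1 * (y ^ k2)⁻¹ ∈ P := by
  have := hPn
  rw [← QuotientGroup.eq_one_iff]
  have h1 : ((y : K) : K ⧸ P) ^ n = 1 := by
    rw [← QuotientGroup.mk_pow]
    exact (QuotientGroup.eq_one_iff _).mpr hn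
  have h2 : orderOf ((y : K) : K ⧸ P) ∣ n := orderOf_dvd_of_pow_eq_one h1
  have h3 : ((y : K) : K ⧸ P) ^ k1 = ((y : K) : K ⧸ P) ^ k2 :=
    pow_eq_pow_iff_modEq.mpr (hk.of_dvd h2)
  rw [QuotientGroup.mk_mul, QuotientGroup.mk_inv, QuotientGroup.mk_pow, QuotientGroup.mk_pow, h3,
    mul_inv_cancel]

/-- `y ^ (q ^ r)` lies in `N`: its class is fixed by `T` -/
theorem h10_gf_pow_mem_N (p q r : ℕ) {K : Type*} [Group K] (N P : Subgroup K) (y : K)
    (h : Cov p q r N P y) {V : Type*} [AddCommGroup V] (T : V ≃+ V) (pr : ↥P → V)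
    (hI : Irr p q T) (hker : ∀ u : ↥P, pr u = 0 ↔ (u : K) ∈ N)
    (hconj : ∀ (u : ↥P) (hu : y * (u : K) * y⁻¹ ∈ P), pr ⟨y * (u : K) * y⁻¹, hu⟩ = T (pr u)) :
    y ^ (q ^ r) ∈ N := by
  have hz : y ^ (q ^ r) ∈ P := h.ord_mem
  have hfix : T (pr ⟨y ^ (q ^ r), hz⟩) = pr ⟨y ^ (q ^ r), hz⟩ := by
    rw [← hconj ⟨y ^ (q ^ r), hz⟩ (h.P_normal.conj_mem _ hz y)]
    congr 1
    apply Subtype.ext
    show y * y ^ (q ^ r) * y⁻¹ = y ^ (q ^ r)
    rw [← pow_succ', pow_succ, mul_inv_cancel_right]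
  let W : AddSubgroup V :=
    { carrier := {v | T v = v}
      add_mem' := fun {a b} ha hb => by
        have ha' : T a = a := ha
        have hb' : T b = b := hb
        show T (a + b) = a + b
        rw [map_add, ha', hb']
      zero_mem' := map_zero T
      neg_mem' := fun {a} ha => by
        have ha' : T a = a := ha
        show T (-a) = -a
        rw [map_neg, ha'] }
  rcases hI.irr W (fun w hw => by
      have hw' : T w = w := hw
      show T (T w) = T w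
      exact congrArg T hw') with hW | hW
  · have h1 : pr ⟨y ^ (q ^ r), hz⟩ ∈ W := hfix
    rw [hW] at h1
    exact (hker _).mp (AddSubgroup.mem_bot.mp h1)
  · obtain ⟨v, hv⟩ := hI.ne
    have h1 : v ∈ W := by
      rw [hW]
      exact AddSubgroup.mem_top v
    exact (hv h1).elim

/-- GOURSAT core (racing copy) -/
theorem h10_goursat_core (p q r : ℕ) [Fact p.Prime] [Fact q.Prime] {A B : Type*} [Group A]
    [Finite A] [Group B] [Finite B]
    (NA PA : Subgroup A) (yA : A) (NB PB : Subgroup B) (yB : B)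
    (hA : Cov p q r NA PA yA) (hB : Cov p q r NB PB yB)
    {VA VB : Type*} [AddCommGroup VA] [AddCommGroup VB]
    (TA : VA ≃+ VA) (prA : ↥PA → VA) (hIA : Irr p q TA) (hsA : Function.Surjective prA)
    (haA : ∀ u v : ↥PA, prA (u * v) = prA u + prA v)
    (hkA : ∀ u : ↥PA, prA u = 0 ↔ (u : A) ∈ NA)
    (hcA : ∀ (u : ↥PA) (hu : yA * (u : A) * yA⁻¹ ∈ PA),
      prA ⟨yA * (u : A) * yA⁻¹, hu⟩ = TA (prA u))
    (TB : VB ≃+ VB) (prB : ↥PB → VB) (hIB : Irr p q TB) (hsB : Function.Surjective prB)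
    (haB : ∀ u v : ↥PB, prB (u * v) = prB u + prB v)
    (hkB : ∀ u : ↥PB, prB u = 0 ↔ (u : B) ∈ NB)
    (hcB : ∀ (u : ↥PB) (hu : yB * (u : B) * yB⁻¹ ∈ PB),
      prB ⟨yB * (u : B) * yB⁻¹, hu⟩ = TB (prB u))
    (m : ℕ) (ψ : VA ≃+ VB) (hm : ¬ q ∣ m) (hψ : ∀ v : VA, ψ (TA v) = (⇑TB)^[m] (ψ v)) :
    ∃ F : Subgroup (A × B), (∀ a : A, ∃ b : B, (a, b) ∈ F) ∧ (∀ b : B, ∃ a : A, (a, b) ∈ F) ∧
      (∀ a : A, (a, (1 : B)) ∈ F ↔ a ∈ NA) ∧ (∀ b : B, ((1 : A), b) ∈ F ↔ b ∈ NB) := by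
  classical
  have hq : q.Prime := Fact.out
  have hPAn := hA.P_normal
  have hPBn := hB.P_normal
  have hpr1A : prA 1 = 0 := by
    have h1 := haA 1 1
    rw [mul_one] at h1
    exact (add_eq_left.mp h1.symm)
  have hpr1B : prB 1 = 0 := by
    have h1 := haB 1 1
    rw [mul_one] at h1
    exact (add_eq_left.mp h1.symm)
  have hψiter : ∀ (j : ℕ) (v : VA), ψ ((⇑TA)^[j] v) = (⇑TB)^[m * j] (ψ v) := by
    intro j v
    induction j with
    | zero => simp
    | succ j ih =>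
      rw [Function.iterate_succ_apply', hψ, ih, ← Function.iterate_add_apply]
      congr 1
      ring
  have hzA : yA ^ (q ^ r) ∈ NA := h10_gf_pow_mem_N p q r NA PA yA hA TA prA hIA hkA hcA
  have hzB : yB ^ (q ^ r) ∈ NB := h10_gf_pow_mem_N p q r NB PB yB hB TB prB hIB hkB hcB
  have hcop : Nat.Coprime (q ^ r) m :=
    Nat.Coprime.pow_left r ((Nat.Prime.coprime_iff_not_dvd hq).mpr hm)
  let S : Set (A × B) := {x | ∃ (u : ↥PA) (w : ↥PB) (j : ℕ),
    x.1 = (u : A) * yA ^ j ∧ x.2 = (w : B) * yB ^ (m * j) ∧ ψ (prA u) = prB w}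
  have hS1 : (1 : A × B) ∈ S :=
    ⟨1, 1, 0, by simp, by simp, by rw [hpr1A, hpr1B, map_zero]⟩
  have hSmul : ∀ x x' : A × B, x ∈ S → x' ∈ S → x * x' ∈ S := by
    rintro x x' ⟨u, w, j, h1, h2, h3⟩ ⟨u', w', j', h1', h2', h3'⟩
    refine ⟨u * ⟨yA ^ j * (u' : A) * (yA ^ j)⁻¹, hPAn.conj_mem u' u'.2 (yA ^ j)⟩,
      w * ⟨yB ^ (m * j) * (w' : B) * (yB ^ (m * j))⁻¹, hPBn.conj_mem w' w'.2 (yB ^ (m * j))⟩,
      j + j', ?_, ?_, ?_⟩
    · show x.1 * x'.1 = _
      rw [h1, h1']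
      simp [pow_add, mul_assoc]
    · show x.2 * x'.2 = _
      rw [h2, h2']
      simp [pow_add, mul_add, mul_assoc]
    · rw [haA, haB, map_add, h10_gf_conj_iter PA hPAn yA TA prA hcA j u',
        h10_gf_conj_iter PB hPBn yB TB prB hcB (m * j) w', hψiter, h3, h3']
  let F : Subgroup (A × B) :=
    { carrier := S
      mul_mem' := fun {x x'} hx hx' => hSmul x x' hx hx'
      one_mem' := hS1
      inv_mem' := fun {x} hx => by
        have hpow : ∀ k : ℕ, x ^ k ∈ S := by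
          intro k
          induction k with
          | zero =>
            rw [pow_zero]
            exact hS1
          | succ k ih =>
            rw [pow_succ]
            exact hSmul _ _ ih hx
        have hx1 : x ^ (Nat.card (A × B)) = 1 := pow_card_eq_one'
        have hpos : 0 < Nat.card (A × B) := Nat.card_pos
        have hinv : x⁻¹ = x ^ (Nat.card (A × B) - 1) := by
          apply inv_eq_of_mul_eq_one_right
          rw [← pow_succ', Nat.sub_add_cancel hpos, hx1]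
        rw [hinv]
        exact hpow _ }
  have hdvdA : ∀ j : ℕ, q ^ r ∣ j → yA ^ j ∈ NA := by
    rintro j ⟨t, rfl⟩
    rw [pow_mul]
    exact NA.pow_mem hzA t
  have hdvdB : ∀ j : ℕ, q ^ r ∣ j → yB ^ j ∈ NB := by
    rintro j ⟨t, rfl⟩
    rw [pow_mul]
    exact NB.pow_mem hzB t
  refine ⟨F, ?_, ?_, ?_, ?_⟩
  · intro a
    obtain ⟨u, j, rfl⟩ := h10_gf_decomp PA hPAn yA hA.sup_top a
    obtain ⟨w, hw⟩ := hsB (ψ (prA u))
    exact ⟨(w : B) * yB ^ (m * j), ⟨u, w, j, rfl, rfl, hw.symm⟩⟩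
  · intro b
    obtain ⟨w, k, rfl⟩ := h10_gf_decomp PB hPBn yB hB.sup_top b
    obtain ⟨j, hj⟩ : ∃ j : ℕ, k ≡ m * j [MOD q ^ r] := by
      have : NeZero (q ^ r) := ⟨pow_ne_zero r hq.ne_zero⟩
      obtain ⟨j, hj⟩ := ZMod.natCast_zmod_surjective
        ((((ZMod.unitOfCoprime m hcop.symm)⁻¹ : (ZMod (q ^ r))ˣ) : ZMod (q ^ r)) *
          (k : ZMod (q ^ r)))
      refine ⟨j, ?_⟩
      rw [← ZMod.natCast_eq_natCast_iff]
      push_cast
      rw [hj, ← mul_assoc]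
      have h1 : (m : ZMod (q ^ r)) = ((ZMod.unitOfCoprime m hcop.symm : (ZMod (q ^ r))ˣ) :
          ZMod (q ^ r)) := (ZMod.coe_unitOfCoprime m hcop.symm).symm
      rw [h1, Units.mul_inv, one_mul]
    have hz : yB ^ k * (yB ^ (m * j))⁻¹ ∈ PB :=
      h10_gf_pow_modEq PB hPBn yB (q ^ r) hB.ord_mem k (m * j) hj
    obtain ⟨u, hu⟩ := hsA (ψ.symm (prB (w * ⟨yB ^ k * (yB ^ (m * j))⁻¹, hz⟩)))
    refine ⟨(u : A) * yA ^ j, ⟨u, w * ⟨yB ^ k * (yB ^ (m * j))⁻¹, hz⟩, j, rfl, ?_, ?_⟩⟩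
    · show (w : B) * yB ^ k = (w : B) * (yB ^ k * (yB ^ (m * j))⁻¹) * yB ^ (m * j)
      simp [mul_assoc]
    · rw [hu, AddEquiv.apply_symm_apply]
  · intro a
    constructor
    · rintro ⟨u, w, j, h1, h2, h3⟩
      have h1' : a = (u : A) * yA ^ j := h1
      have h2' : (1 : B) = (w : B) * yB ^ (m * j) := h2
      have hyw : yB ^ (m * j) = (w : B)⁻¹ := eq_inv_of_mul_eq_one_right h2'.symm
      have hyB : yB ^ (m * j) ∈ PB := by
        rw [hyw]
        exact PB.inv_mem w.2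
      have hdvd : q ^ r ∣ m * j := hB.ord_dvd _ hyB
      have hdj : q ^ r ∣ j := (Nat.Coprime.dvd_mul_left hcop).mp hdvd
      have hjA : yA ^ j ∈ NA := hdvdA j hdj
      have hwN : (w : B) ∈ NB := by
        have h4 := NB.inv_mem (hdvdB (m * j) hdvd)
        rw [hyw, inv_inv] at h4
        exact h4
      have hprw : prB w = 0 := (hkB w).mpr hwN
      have hpru : prA u = 0 := (AddEquiv.map_eq_zero_iff ψ).mp (h3.trans hprw)
      have huN : (u : A) ∈ NA := (hkA u).mp hpru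
      rw [h1']
      exact NA.mul_mem huN hjA
    · intro ha
      exact ⟨⟨a, hA.N_le_P ha⟩, 1, 0, by simp, by simp,
        by rw [(hkA ⟨a, hA.N_le_P ha⟩).mpr ha, map_zero, hpr1B]⟩
  · intro b
    constructor
    · rintro ⟨u, w, j, h1, h2, h3⟩
      have h1' : (1 : A) = (u : A) * yA ^ j := h1
      have h2' : b = (w : B) * yB ^ (m * j) := h2
      have hyu : yA ^ j = (u : A)⁻¹ := eq_inv_of_mul_eq_one_right h1'.symm
      have hyA : yA ^ j ∈ PA := by
        rw [hyu]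
        exact PA.inv_mem u.2
      have hdj : q ^ r ∣ j := hA.ord_dvd _ hyA
      have huN : (u : A) ∈ NA := by
        have h4 := NA.inv_mem (hdvdA j hdj)
        rw [hyu, inv_inv] at h4
        exact h4
      have hpru : prA u = 0 := (hkA u).mpr huN
      have hprw : prB w = 0 := by
        rw [← h3, hpru, map_zero]
      have hwN : (w : B) ∈ NB := (hkB w).mp hprw
      rw [h2']
      exact NB.mul_mem hwN (hdvdB (m * j) (Dvd.dvd.mul_left hdj m))
    · intro hb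
      exact ⟨1, ⟨b, hB.N_le_P hb⟩, 0, by simp, by simp,
        by rw [hpr1A, map_zero, (hkB ⟨b, hB.N_le_P hb⟩).mpr hb]⟩

end Cfsg.Agent.Lib.helper3.Gf
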