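import Mathlib
import Cfsg.Agent.Lib.helper3.GfDefs
import Cfsg.Agent.Lib.helper10.GfGOURSATcore
import Cfsg.Agent.Lib.helper46.GfVQ
import Cfsg.Agent.Lib.helper40.GfIRRMATCH

/-! S4395 piece GOURSAT, racing copy (helper10): wrapper over the core, with VQ (helper46) and
IRRMATCH (helper40 copy). -/

set_option autoImplicit false

namespace Cfsg.Agent.Lib.helper3.Gf

universe u

/-- GOURSAT (racing copy) -/
theorem h10_goursat (p q r : ℕ) [Fact p.Prime] [Fact q.Prime] (hpq : p ≠ q) {A B : Type u} [Group A] [Finite A] [Group B] [Finite B]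
    (NA PA : Subgroup A) (yA : A) (NB PB : Subgroup B) (yB : B)
    (hA : Cov p q r NA PA yA) (hB : Cov p q r NB PB yB) :
    ∃ F : Subgroup (A × B), (∀ a : A, ∃ b : B, (a, b) ∈ F) ∧ (∀ b : B, ∃ a : A, (a, b) ∈ F) ∧
      (∀ a : A, (a, (1 : B)) ∈ F ↔ a ∈ NA) ∧ (∀ b : B, ((1 : A), b) ∈ F ↔ b ∈ NB) := by
  obtain ⟨VA, _, _, TA, prA, hIA, hsA, haA, hkA, hcA⟩ := vq p q r hpq NA PA yA hA
  obtain ⟨VB, _, _, TB, prB, hIB, hsB, haB, hkB, hcB⟩ := vq p q r hpq NB PB yB hB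
  obtain ⟨m, ψ, hm, hψ⟩ := h40_irr_match p q hpq TA TB hIA hIB
  exact h10_goursat_core p q r NA PA yA NB PB yB hA hB TA prA hIA hsA haA hkA hcA
    TB prB hIB hsB haB hkB hcB m ψ hm hψ

end Cfsg.Agent.Lib.helper3.Gf
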