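import Cfsg.Agent.Lib.helper3.GfHeis

/-! S4395 piece EXB, sub-leaves HCARD (order) and HCOV1 (formal fields), racing copies
(helper10). -/

set_option autoImplicit false

namespace Cfsg.Agent.Lib.helper3.Gf

universe u

open HG

section
variable {n : ℕ} [NeZero n] {L : Type u} [Field L] {σ : L →+* L} {lam : L} [h : HData n L σ lam]

/-- HCARD (racing copy) -/
theorem h10_hcard_HG [Finite L] (hnorm : ∀ x : L, ∃ z, z + σ z = x * σ x) :
    Finite (HG n L σ lam) ∧
    Nat.card (HG n L σ lam) = Nat.card L * Nat.card {z : L // z + σ z = 0} * n := by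
  choose c hc using hnorm
  let e : HG n L σ lam ≃ L × {z : L // z + σ z = 0} × ZMod n :=
    { toFun := fun g => (g.x, ⟨g.z - c g.x, by
        rw [map_sub]
        linear_combination g.hz - hc g.x⟩, g.k)
      invFun := fun t => ⟨t.1, t.2.1.1 + c t.1, t.2.2, by
        rw [map_add]
        linear_combination t.2.1.2 + hc t.1⟩
      left_inv := fun g => by
        ext <;> simp
      right_inv := fun t => by
        rcases t with ⟨x, ⟨z, hz⟩, k⟩
        simp }
  have hfin : Finite (HG n L σ lam) := Finite.of_equiv _ e.symm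
  refine ⟨hfin, ?_⟩
  rw [Nat.card_congr e, Nat.card_prod, Nat.card_prod, Nat.card_zmod, mul_assoc]

/-- HCOV1 (racing copy) -/
theorem h10_hcov1 :
    (HN : Subgroup (HG n L σ lam)) ≤ HP ∧ (HN : Subgroup (HG n L σ lam)) ≤ Subgroup.center (HG n L σ lam) ∧
    (HP : Subgroup (HG n L σ lam)).Normal ∧
    ∀ u ∈ (HP : Subgroup (HG n L σ lam)), ∀ v ∈ (HP : Subgroup (HG n L σ lam)),
      u * v * u⁻¹ * v⁻¹ ∈ (HN : Subgroup (HG n L σ lam)) := by
  refine ⟨?_, ?_, ?_, ?_⟩
  · intro g hg
    exact (mem_HP g).mpr ((mem_HN g).mp hg).2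
  · intro g hg
    obtain ⟨hx, hk⟩ := (mem_HN g).mp hg
    rw [Subgroup.mem_center_iff]
    intro a
    ext
    · simp [hx, hk, pw_zero]
    · simp [hx, hk, pw_zero]
      ring
    · simp [hk]
  · constructor
    intro g hg a
    have hk := (mem_HP g).mp hg
    rw [mem_HP]
    simp [hk]
  · intro u hu v hv
    have hku := (mem_HP u).mp hu
    have hkv := (mem_HP v).mp hv
    rw [mem_HN]
    constructor
    · simp [hku, hkv, pw_zero]
    · simp [hku, hkv]

end

end Cfsg.Agent.Lib.helper3.Gf
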