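import Cfsg.Agent.Lib.helper3.GfHeis

/-! S4395 piece EXB, sub-leaf HCOV5 (irreducibility), racing copy (helper10). -/

set_option autoImplicit false

namespace Cfsg.Agent.Lib.helper3.Gf

universe u

open HG

section
variable {n : ℕ} [NeZero n] {L : Type u} [Field L] {σ : L →+* L} {lam : L} [h : HData n L σ lam]

omit [NeZero n] in
/-- `pw lam 1 = lam` -/
theorem h10_pw_one (hn : lam ^ n = 1) : pw lam (1 : ZMod n) = lam := by
  unfold pw
  rw [ZMod.val_one_eq_one_mod]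
  rcases Nat.lt_or_ge 1 n with h1 | h1
  · rw [Nat.mod_eq_of_lt h1, pow_one]
  · rcases Nat.eq_zero_or_pos n with h0 | hpos
    · subst h0
      simp
    · have hn1 : n = 1 := by omega
      subst hn1
      rw [pow_one] at hn
      simp [hn]

/-- HCOV5 (racing copy) -/
theorem h10_hcov5 (hirr : ∀ W : AddSubgroup L, (∀ w ∈ W, lam * w ∈ W) → W = ⊥ ∨ W = ⊤) :
    ∀ W : Subgroup (HG n L σ lam), (HN : Subgroup (HG n L σ lam)) ≤ W → W ≤ HP →
      (∀ w ∈ W, (Hy : HG n L σ lam) * w * (Hy : HG n L σ lam)⁻¹ ∈ W) →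
      W = HN ∨ W = HP := by
  intro W hNW hWP hy
  have hk : ∀ g ∈ W, g.k = 0 := fun g hg => (mem_HP g).mp (hWP hg)
  let W' : AddSubgroup L :=
    { carrier := {x | ∃ g ∈ W, g.x = x}
      add_mem' := by
        rintro a b ⟨g, hg, rfl⟩ ⟨g', hg', rfl⟩
        refine ⟨g * g', W.mul_mem hg hg', ?_⟩
        rw [mul_x, hk g hg, pw_zero, one_mul]
      zero_mem' := ⟨1, W.one_mem, rfl⟩
      neg_mem' := by
        rintro a ⟨g, hg, rfl⟩
        refine ⟨g⁻¹, W.inv_mem hg, ?_⟩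
        rw [inv_x, hk g hg, neg_zero, pw_zero, one_mul] }
  have hW'mem : ∀ x, x ∈ W' ↔ ∃ g ∈ W, g.x = x := fun x => Iff.rfl
  have hstable : ∀ w ∈ W', lam * w ∈ W' := by
    rintro w ⟨g, hg, rfl⟩
    refine ⟨Hy * g * Hy⁻¹, hy g hg, ?_⟩
    have hyx : (Hy : HG n L σ lam).x = 0 := rfl
    have hyk : (Hy : HG n L σ lam).k = 1 := rfl
    rw [mul_x, mul_x, mul_k, inv_x, hyx, hyk, hk g hg, h10_pw_one h.pown]
    ring
  rcases hirr W' hstable with hW' | hW'
  · left
    apply le_antisymm _ hNW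
    intro g hg
    have h1 : g.x ∈ W' := ⟨g, hg, rfl⟩
    rw [hW'] at h1
    exact (mem_HN g).mpr ⟨AddSubgroup.mem_bot.mp h1, hk g hg⟩
  · right
    apply le_antisymm hWP
    intro g hg
    have hgk : g.k = 0 := (mem_HP g).mp hg
    have h1 : g.x ∈ W' := by
      rw [hW']
      exact AddSubgroup.mem_top _
    obtain ⟨g', hg', hx⟩ := h1
    have h2 : g * g'⁻¹ ∈ (HN : Subgroup (HG n L σ lam)) := by
      rw [mem_HN]
      constructor
      · rw [mul_x, inv_x, hgk, hk g' hg', neg_zero, pw_zero, hx]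
        ring
      · rw [mul_k, inv_k, hgk, hk g' hg']
        simp
    have h3 : g = (g * g'⁻¹) * g' := by group
    rw [h3]
    exact W.mul_mem (hNW h2) hg'

end

end Cfsg.Agent.Lib.helper3.Gf
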