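import Mathlib
import Cfsg.Prelude.Def_Sporadic_a

/-!
Parity facts for the concrete length-24 code `Cfsg.golayCode`:
it is self-orthogonal and doubly even (all weights divisible by four), hence any two
code words meet evenly.  Also: supports of sums are symmetric differences.
-/

set_option autoImplicit false
open Cfsg

namespace Cfsg.Agent.Lib.helper10

theorem zmod2_eq_zero_or_one (a : ZMod 2) : a = 0 ∨ a = 1 := by
  revert a; decide

theorem mem_support₂ {α : Type*} [Fintype α] (u : α → ZMod 2) (i : α) :
    i ∈ support₂ u ↔ u i = 1 := by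
  unfold support₂
  rw [Finset.mem_filter]
  rcases zmod2_eq_zero_or_one (u i) with h | h <;> simp [h]

/-- The support of a sum of binary words is the symmetric difference of the supports. -/
theorem support₂_add {α : Type*} [Fintype α] [DecidableEq α] (u v : α → ZMod 2) :
    support₂ (u + v) = symmDiff (support₂ u) (support₂ v) := by
  ext i
  rw [Finset.mem_symmDiff, mem_support₂, mem_support₂, mem_support₂, Pi.add_apply]
  rcases zmod2_eq_zero_or_one (u i) with h | h <;>
    rcases zmod2_eq_zero_or_one (v i) with h' | h' <;> rw [h, h'] <;> decide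

theorem support₂_zero {α : Type*} [Fintype α] : support₂ (0 : α → ZMod 2) = ∅ := by
  ext i
  rw [mem_support₂]
  simp

/-- The dot product of two binary words is the parity of the size of the intersection of their
supports. -/
theorem dot_eq_card_inter {α : Type*} [Fintype α] [DecidableEq α] (u v : α → ZMod 2) :
    ∑ i, u i * v i = ((support₂ u ∩ support₂ v).card : ZMod 2) := by
  rw [Finset.card_eq_sum_ones, Nat.cast_sum, ← Finset.sum_filter_add_sum_filter_not Finset.univ
    (fun i => i ∈ support₂ u ∩ support₂ v)]
  have h1 : ∑ i ∈ Finset.univ.filter (fun i => i ∈ support₂ u ∩ support₂ v), u i * v i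
      = ∑ i ∈ support₂ u ∩ support₂ v, ((1 : ℕ) : ZMod 2) := by
    rw [Finset.filter_mem_eq_inter, Finset.univ_inter]
    apply Finset.sum_congr rfl
    intro i hi
    rw [Finset.mem_inter, mem_support₂, mem_support₂] at hi
    rw [hi.1, hi.2]; simp
  have h2 : ∑ i ∈ Finset.univ.filter (fun i => ¬ i ∈ support₂ u ∩ support₂ v), u i * v i = 0 := by
    apply Finset.sum_eq_zero
    intro i hi
    rw [Finset.mem_filter, Finset.mem_inter, mem_support₂, mem_support₂] at hi
    rcases zmod2_eq_zero_or_one (u i) with h | h
    · rw [h, zero_mul]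
    · rcases zmod2_eq_zero_or_one (v i) with h' | h'
      · rw [h', mul_zero]
      · exact absurd ⟨h, h'⟩ hi.2
  rw [h1, h2, add_zero]

theorem even_card_inter_of_dot {α : Type*} [Fintype α] [DecidableEq α] {u v : α → ZMod 2}
    (h : ∑ i, u i * v i = 0) : Even (support₂ u ∩ support₂ v).card := by
  rw [dot_eq_card_inter] at h
  rw [even_iff_two_dvd]
  exact (ZMod.natCast_eq_zero_iff _ 2).mp h

theorem qr_dot_one (t : ZMod 23) : ∑ i : GolayPt, qrWord t i = 0 := by
  revert t; decide +kernel

theorem qr_dot_qr (s t : ZMod 23) : ∑ i : GolayPt, qrWord s i * qrWord t i = 0 := by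
  revert s t; decide +kernel

theorem qr_weight (t : ZMod 23) : (support₂ (qrWord t)).card = 12 := by
  revert t; decide +kernel

theorem one_dot_one : ∑ _i : GolayPt, (1 : ZMod 2) * 1 = 0 := by
  decide +kernel

theorem one_weight : (support₂ (1 : GolayPt → ZMod 2)).card = 24 := by
  decide +kernel

/-- The generators of the code are pairwise orthogonal. -/
theorem gen_dot_gen {u v : GolayPt → ZMod 2} (hu : u ∈ Set.range qrWord ∪ {1})
    (hv : v ∈ Set.range qrWord ∪ {1}) : ∑ i, u i * v i = 0 := by
  rcases hu with ⟨s, rfl⟩ | hu
  · rcases hv with ⟨t, rfl⟩ | hv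
    · exact qr_dot_qr s t
    · rw [Set.mem_singleton_iff] at hv
      subst hv
      simpa using qr_dot_one s
  · rw [Set.mem_singleton_iff] at hu
    subst hu
    rcases hv with ⟨t, rfl⟩ | hv
    · simpa using qr_dot_one t
    · rw [Set.mem_singleton_iff] at hv
      subst hv
      exact one_dot_one

/-- The length-24 code is self-orthogonal. -/
theorem golayCode_dot {u v : GolayPt → ZMod 2} (hu : u ∈ golayCode) (hv : v ∈ golayCode) :
    ∑ i, u i * v i = 0 := by
  unfold golayCode at hu hv
  induction hu using Submodule.span_induction with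
  | mem u hu =>
    induction hv using Submodule.span_induction with
    | mem v hv => exact gen_dot_gen hu hv
    | zero => simp
    | add x y _ _ hx hy =>
      simp only [Pi.add_apply, mul_add, Finset.sum_add_distrib, hx, hy, add_zero]
    | smul a x _ hx =>
      simp only [Pi.smul_apply, smul_eq_mul, mul_left_comm _ a, ← Finset.mul_sum, hx, mul_zero]
  | zero => simp
  | add x y _ _ hx hy =>
    simp only [Pi.add_apply, add_mul, Finset.sum_add_distrib, hx, hy, add_zero]
  | smul a x _ hx =>
    simp only [Pi.smul_apply, smul_eq_mul, mul_assoc, ← Finset.mul_sum, hx, mul_zero]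

/-- Any two code words meet in an even number of points. -/
theorem golayCode_even_inter {u v : GolayPt → ZMod 2} (hu : u ∈ golayCode) (hv : v ∈ golayCode) :
    Even (support₂ u ∩ support₂ v).card :=
  even_card_inter_of_dot (golayCode_dot hu hv)

/-- The length-24 code is doubly even. -/
theorem golayCode_four_dvd {u : GolayPt → ZMod 2} (hu : u ∈ golayCode) :
    4 ∣ (support₂ u).card := by
  have hu' := hu
  unfold golayCode at hu'
  induction hu' using Submodule.span_induction with
  | mem u hu' =>
    rcases hu' with ⟨t, rfl⟩ | hu'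
    · rw [qr_weight]; decide
    · rw [Set.mem_singleton_iff] at hu'
      subst hu'
      rw [one_weight]; decide
  | zero => rw [support₂_zero]; simp
  | add x y hx hy ihx ihy =>
    have hx' : x ∈ golayCode := hx
    have hy' : y ∈ golayCode := hy
    have h1 := ihx hx'
    have h2 := ihy hy'
    have h3 := golayCode_even_inter hx' hy'
    rw [support₂_add]
    have h4 : (symmDiff (support₂ x) (support₂ y)).card + 2 * (support₂ x ∩ support₂ y).card
        = (support₂ x).card + (support₂ y).card := by
      have e1 := Finset.card_sdiff_add_card_inter (support₂ x) (support₂ y)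
      have e2 := Finset.card_sdiff_add_card_inter (support₂ y) (support₂ x)
      have e3 : (symmDiff (support₂ x) (support₂ y)).card
          = (support₂ x \ support₂ y).card + (support₂ y \ support₂ x).card := by
        rw [symmDiff_def, Finset.sup_eq_union]
        apply Finset.card_union_of_disjoint
        rw [Finset.disjoint_left]
        intro i hi hi'
        rw [Finset.mem_sdiff] at hi hi'
        exact hi.2 hi'.1
      rw [Finset.inter_comm (support₂ y) (support₂ x)] at e2
      omega
    obtain ⟨a, ha⟩ := h1
    obtain ⟨b, hb⟩ := h2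
    obtain ⟨c, hc⟩ := h3
    omega
  | smul a x hx ihx =>
    have hx' : x ∈ golayCode := hx
    rcases zmod2_eq_zero_or_one a with h | h
    · subst h
      rw [zero_smul, support₂_zero]; simp
    · subst h
      rw [one_smul]; exact ihx hx'

/-- Supports of code words are closed under symmetric difference. -/
theorem supports_symmDiff {s t : Finset GolayPt}
    (hs : s ∈ supports (golayCode : Set (GolayPt → ZMod 2)))
    (ht : t ∈ supports (golayCode : Set (GolayPt → ZMod 2))) :
    symmDiff s t ∈ supports (golayCode : Set (GolayPt → ZMod 2)) := by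
  obtain ⟨u, hu, rfl⟩ := hs
  obtain ⟨v, hv, rfl⟩ := ht
  exact ⟨u + v, golayCode.add_mem hu hv, support₂_add u v⟩

theorem supports_four_dvd {s : Finset GolayPt}
    (hs : s ∈ supports (golayCode : Set (GolayPt → ZMod 2))) : 4 ∣ s.card := by
  obtain ⟨u, hu, rfl⟩ := hs
  exact golayCode_four_dvd hu

theorem supports_even_inter {s t : Finset GolayPt}
    (hs : s ∈ supports (golayCode : Set (GolayPt → ZMod 2)))
    (ht : t ∈ supports (golayCode : Set (GolayPt → ZMod 2))) : Even (s ∩ t).card := by
  obtain ⟨u, hu, rfl⟩ := hs
  obtain ⟨v, hv, rfl⟩ := ht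
  exact golayCode_even_inter hu hv

end Cfsg.Agent.Lib.helper10
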