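/-
Reconstruction of a Steiner system S(3, 6, 22) from a strongly regular graph with parameters
(100, 22, 0, 6): counting around a vertex `o`. The neighbours of `o` are the points, and each
vertex `w` at distance two from `o` gives the block of common neighbours of `o` and `w`.
-/
import Mathlib
import Cfsg.Prelude.Def_Sporadic_a

set_option autoImplicit false
set_option linter.unusedSectionVars false

namespace Cfsg.Agent.Lib.helper10

open Finset

section Recon

variable {V : Type*} [Fintype V] [DecidableEq V] (G : SimpleGraph V) [DecidableRel G.Adj]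

/-- The hypotheses of a strongly regular graph with parameters (100, 22, 0, 6), in terms of
finsets. -/
structure Srg100 : Prop where
  card : Fintype.card V = 100
  deg : ∀ v, (Finset.univ.filter (fun x => G.Adj v x)).card = 22
  tri : ∀ v w x, G.Adj v w → G.Adj v x → ¬ G.Adj w x
  mu : ∀ v w, v ≠ w → ¬ G.Adj v w →
    (Finset.univ.filter (fun x => G.Adj v x ∧ G.Adj w x)).card = 6

theorem srg100_of_isSRGWith (hG : G.IsSRGWith 100 22 0 6) : Srg100 G := by
  have hcn : ∀ v w, Fintype.card (G.commonNeighbors v w)
      = (Finset.univ.filter (fun x => G.Adj v x ∧ G.Adj w x)).card := by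
    intro v w
    refine Fintype.card_of_subtype _ fun x => ?_
    rw [Finset.mem_filter, SimpleGraph.mem_commonNeighbors]
    simp
  refine ⟨hG.card, fun v => ?_, fun v w x hvw hvx hwx => ?_, fun v w hne hnadj => ?_⟩
  · have h1 := hG.regular v
    rw [← SimpleGraph.card_neighborFinset_eq_degree, SimpleGraph.neighborFinset_eq_filter] at h1
    exact h1
  · have h1 := hG.of_adj v w hvw
    rw [hcn, Finset.card_eq_zero, Finset.filter_eq_empty_iff] at h1
    exact h1 (Finset.mem_univ x) ⟨hvx, hwx⟩
  · have h1 := hG.of_not_adj hne hnadj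
    rw [hcn] at h1
    exact h1

/-- The vertices at distance two from `o`. -/
def far (o : V) : Finset V := Finset.univ.filter (fun w => w ≠ o ∧ ¬ G.Adj o w)

/-- The common neighbours of `o` and `w`. -/
def cn (o w : V) : Finset V := Finset.univ.filter (fun a => G.Adj o a ∧ G.Adj w a)

variable {G}

theorem mem_far {o w : V} : w ∈ far G o ↔ w ≠ o ∧ ¬ G.Adj o w := by
  rw [far, Finset.mem_filter]
  simp

theorem mem_cn {o w a : V} : a ∈ cn G o w ↔ G.Adj o a ∧ G.Adj w a := by
  rw [cn, Finset.mem_filter]
  simp

variable (h : Srg100 G)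

include h

theorem card_cn {o w : V} (hw : w ∈ far G o) : (cn G o w).card = 6 := by
  rw [mem_far] at hw
  exact h.mu o w (Ne.symm hw.1) hw.2

theorem card_far (o : V) : (far G o).card = 77 := by
  have h1 : (Finset.univ : Finset V)
      = insert o (Finset.univ.filter (fun x => G.Adj o x) ∪ far G o) := by
    ext x
    simp only [Finset.mem_univ, Finset.mem_insert, Finset.mem_union, Finset.mem_filter,
      true_and, mem_far, true_iff]
    by_cases hx : x = o
    · exact Or.inl hx
    · by_cases hx' : G.Adj o x
      · exact Or.inr (Or.inl hx')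
      · exact Or.inr (Or.inr ⟨hx, hx'⟩)
  have h2 : Disjoint (Finset.univ.filter (fun x => G.Adj o x)) (far G o) := by
    rw [Finset.disjoint_left]
    intro x hx hx'
    rw [Finset.mem_filter] at hx
    exact (mem_far.mp hx').2 hx.2
  have h3 : o ∉ Finset.univ.filter (fun x => G.Adj o x) ∪ far G o := by
    rw [Finset.mem_union, Finset.mem_filter, mem_far]
    rintro (⟨-, h4⟩ | ⟨h4, -⟩)
    · exact G.loopless.irrefl o h4
    · exact h4 rfl
  have h5 := congrArg Finset.card h1
  rw [Finset.card_univ, h.card, Finset.card_insert_of_notMem h3,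
    Finset.card_union_of_disjoint h2, h.deg o] at h5
  omega

/-- A neighbour of `o` has 21 neighbours at distance two from `o`. -/
theorem card_far_adj {o a : V} (ha : G.Adj o a) :
    ((far G o).filter (fun w => G.Adj a w)).card = 21 := by
  have h1 : Finset.univ.filter (fun x => G.Adj a x)
      = insert o ((far G o).filter (fun w => G.Adj a w)) := by
    ext x
    simp only [Finset.mem_univ, Finset.mem_insert, Finset.mem_filter, true_and, mem_far]
    constructor
    · intro hx
      by_cases hxo : x = o
      · exact Or.inl hxo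
      · exact Or.inr ⟨⟨hxo, fun hox => h.tri o a x ha hox hx⟩, hx⟩
    · rintro (hx | ⟨-, hx⟩)
      · rw [hx]
        exact ha.symm
      · exact hx
  have h2 : o ∉ (far G o).filter (fun w => G.Adj a w) := by
    rw [Finset.mem_filter, mem_far]
    exact fun h3 => h3.1.1 rfl
  have h4 := congrArg Finset.card h1
  rw [h.deg a, Finset.card_insert_of_notMem h2] at h4
  omega

/-- Two distinct neighbours of `o` have 5 common neighbours at distance two from `o`. -/
theorem card_far_adj_two {o a a' : V} (ha : G.Adj o a) (ha' : G.Adj o a') (hne : a ≠ a') :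
    ((far G o).filter (fun w => G.Adj a w ∧ G.Adj a' w)).card = 5 := by
  have hnadj : ¬ G.Adj a a' := h.tri o a a' ha ha'
  have h1 : Finset.univ.filter (fun x => G.Adj a x ∧ G.Adj a' x)
      = insert o ((far G o).filter (fun w => G.Adj a w ∧ G.Adj a' w)) := by
    ext x
    simp only [Finset.mem_univ, Finset.mem_insert, Finset.mem_filter, true_and, mem_far]
    constructor
    · intro hx
      by_cases hxo : x = o
      · exact Or.inl hxo
      · exact Or.inr ⟨⟨hxo, fun hox => h.tri o a x ha hox hx.1⟩, hx⟩
    · rintro (hx | ⟨-, hx⟩)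
      · rw [hx]
        exact ⟨ha.symm, ha'.symm⟩
      · exact hx
  have h2 : o ∉ (far G o).filter (fun w => G.Adj a w ∧ G.Adj a' w) := by
    rw [Finset.mem_filter, mem_far]
    exact fun h3 => h3.1.1 rfl
  have h4 := congrArg Finset.card h1
  rw [h.mu a a' hne hnadj, Finset.card_insert_of_notMem h2] at h4
  omega

/-- A vertex at distance two from `o` has 16 neighbours at distance two from `o`. -/
theorem card_far_adj_far {o w : V} (hw : w ∈ far G o) :
    ((far G o).filter (fun w' => G.Adj w w')).card = 16 := by
  have hw' := mem_far.mp hw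
  have h1 : Finset.univ.filter (fun x => G.Adj w x)
      = cn G o w ∪ (far G o).filter (fun w' => G.Adj w w') := by
    ext x
    simp only [Finset.mem_univ, Finset.mem_union, Finset.mem_filter, true_and, mem_far, mem_cn]
    constructor
    · intro hx
      by_cases hox : G.Adj o x
      · exact Or.inl ⟨hox, hx⟩
      · refine Or.inr ⟨⟨fun hxo => ?_, hox⟩, hx⟩
        rw [hxo] at hx
        exact hw'.2 hx.symm
    · rintro (hx | hx)
      · exact hx.2
      · exact hx.2
  have h2 : Disjoint (cn G o w) ((far G o).filter (fun w' => G.Adj w w')) := by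
    rw [Finset.disjoint_left]
    intro x hx hx'
    rw [Finset.mem_filter, mem_far] at hx'
    exact hx'.1.2 (mem_cn.mp hx).1
  have h4 := congrArg Finset.card h1
  rw [h.deg w, Finset.card_union_of_disjoint h2, card_cn h hw] at h4
  omega

/-- Adjacent vertices at distance two from `o` have disjoint blocks. -/
theorem cn_inter_of_adj {o w w' : V} (hadj : G.Adj w w') : (cn G o w ∩ cn G o w').card = 0 := by
  rw [Finset.card_eq_zero, Finset.eq_empty_iff_forall_notMem]
  intro a ha
  rw [Finset.mem_inter, mem_cn, mem_cn] at ha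
  exact h.tri w w' a hadj ha.1.2 ha.2.2

omit h in
theorem cn_inter_eq_sum (o w w' : V) :
    (cn G o w ∩ cn G o w').card = ∑ a ∈ cn G o w, if G.Adj a w' then 1 else 0 := by
  rw [← Finset.card_filter]
  congr 1
  ext a
  rw [Finset.mem_inter, Finset.mem_filter, mem_cn, mem_cn]
  constructor
  · rintro ⟨h1, h2⟩
    exact ⟨h1, h2.2.symm⟩
  · rintro ⟨h1, h2⟩
    exact ⟨h1, h1.1, h2.symm⟩

/-- First moment of the intersection sizes of the block of `w` with all blocks. -/
theorem sum_cn_inter {o w : V} (hw : w ∈ far G o) :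
    ∑ w' ∈ far G o, (cn G o w ∩ cn G o w').card = 126 := by
  have h1 : ∀ w' ∈ far G o, (cn G o w ∩ cn G o w').card
      = ∑ a ∈ cn G o w, if G.Adj a w' then 1 else 0 := fun w' _ => cn_inter_eq_sum o w w'
  rw [Finset.sum_congr rfl h1, Finset.sum_comm]
  have h2 : ∀ a ∈ cn G o w, (∑ w' ∈ far G o, if G.Adj a w' then 1 else 0) = 21 := by
    intro a ha
    rw [← Finset.card_filter]
    exact card_far_adj h (mem_cn.mp ha).1
  rw [Finset.sum_congr rfl h2, Finset.sum_const, card_cn h hw]
  rfl

/-- Second moment of the intersection sizes of the block of `w` with all blocks. -/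
theorem sum_cn_inter_sq {o w : V} (hw : w ∈ far G o) :
    ∑ w' ∈ far G o, (cn G o w ∩ cn G o w').card * (cn G o w ∩ cn G o w').card = 276 := by
  have h1 : ∀ w' ∈ far G o, (cn G o w ∩ cn G o w').card * (cn G o w ∩ cn G o w').card
      = ∑ a ∈ cn G o w, ∑ a' ∈ cn G o w, if G.Adj a w' ∧ G.Adj a' w' then 1 else 0 := by
    intro w' _
    rw [cn_inter_eq_sum o w w', Finset.sum_mul_sum]
    refine Finset.sum_congr rfl fun a _ => Finset.sum_congr rfl fun a' _ => ?_
    by_cases h3 : G.Adj a w' <;> by_cases h4 : G.Adj a' w' <;> simp [h3, h4]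
  rw [Finset.sum_congr rfl h1, Finset.sum_comm]
  have h2 : ∀ a ∈ cn G o w, (∑ w' ∈ far G o, ∑ a' ∈ cn G o w,
      if G.Adj a w' ∧ G.Adj a' w' then 1 else 0) = 46 := by
    intro a ha
    rw [Finset.sum_comm]
    have h5 : ∀ a' ∈ cn G o w, (∑ w' ∈ far G o, if G.Adj a w' ∧ G.Adj a' w' then 1 else 0)
        = if a' = a then 21 else 5 := by
      intro a' ha'
      rw [← Finset.card_filter]
      by_cases h6 : a' = a
      · rw [if_pos h6, h6]
        have h7 : (far G o).filter (fun w' => G.Adj a w' ∧ G.Adj a w')
            = (far G o).filter (fun w' => G.Adj a w') := by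
          ext x
          simp
        rw [h7]
        exact card_far_adj h (mem_cn.mp ha).1
      · rw [if_neg h6]
        exact card_far_adj_two h (mem_cn.mp ha).1 (mem_cn.mp ha').1 (Ne.symm h6)
    rw [Finset.sum_congr rfl h5, Finset.sum_ite, Finset.filter_eq' , if_pos ha,
      Finset.sum_const, Finset.sum_const, Finset.card_singleton, Finset.filter_ne',
      Finset.card_erase_of_mem ha, card_cn h hw]
    rfl
  rw [Finset.sum_congr rfl h2, Finset.sum_const, card_cn h hw]
  rfl

/-- Distinct non-adjacent vertices at distance two from `o` have blocks meeting in exactly two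
points. -/
theorem cn_inter_of_not_adj {o w w' : V} (hw : w ∈ far G o) (hw' : w' ∈ far G o) (hne : w' ≠ w)
    (hnadj : ¬ G.Adj w w') : (cn G o w ∩ cn G o w').card = 2 := by
  -- split the blocks into `w`, the neighbours of `w`, and the rest
  have hsplit : ∀ f : V → ℕ, ∑ w' ∈ far G o, f w'
      = f w + ∑ w' ∈ (far G o).filter (fun w' => G.Adj w w'), f w'
        + ∑ w' ∈ (far G o).filter (fun w' => w' ≠ w ∧ ¬ G.Adj w w'), f w' := by
    intro f
    rw [← Finset.sum_filter_add_sum_filter_not (far G o) (fun w' => w' = w),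
      Finset.filter_eq', if_pos hw, Finset.sum_singleton,
      ← Finset.sum_filter_add_sum_filter_not ((far G o).filter (fun w' => ¬ w' = w))
        (fun w' => G.Adj w w'), Finset.filter_filter, Finset.filter_filter, add_assoc]
    congr 2
    refine Finset.sum_congr ?_ fun _ _ => rfl
    ext x
    simp only [Finset.mem_filter]
    constructor
    · rintro ⟨hx, -, hx'⟩
      exact ⟨hx, hx'⟩
    · rintro ⟨hx, hx'⟩
      refine ⟨hx, fun hxw => ?_, hx'⟩
      rw [hxw] at hx'
      exact G.loopless.irrefl w hx'
  have hzero : ∀ f : V → ℕ, (∀ w', G.Adj w w' → f w' = 0) →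
      ∑ w' ∈ (far G o).filter (fun w' => G.Adj w w'), f w' = 0 := by
    intro f hf
    exact Finset.sum_eq_zero fun x hx => hf x (Finset.mem_filter.mp hx).2
  have hself : cn G o w ∩ cn G o w = cn G o w := Finset.inter_self _
  have e1 := hsplit (fun w' => (cn G o w ∩ cn G o w').card)
  have e2 := hsplit (fun w' => (cn G o w ∩ cn G o w').card * (cn G o w ∩ cn G o w').card)
  have e3 := hsplit (fun _ => 1)
  rw [sum_cn_inter h hw, hself, card_cn h hw,
    hzero _ (fun w' hadj => cn_inter_of_adj h hadj)] at e1
  rw [sum_cn_inter_sq h hw, hself, card_cn h hw,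
    hzero _ (fun w' hadj => by rw [cn_inter_of_adj h hadj])] at e2
  rw [Finset.sum_const, Finset.sum_const, Finset.sum_const, card_far h, card_far_adj_far h hw,
    smul_eq_mul, smul_eq_mul, smul_eq_mul, mul_one, mul_one, mul_one] at e3
  -- the variance vanishes
  have hle : ∀ x ∈ (far G o).filter (fun w' => w' ≠ w ∧ ¬ G.Adj w w'),
      4 * (cn G o w ∩ cn G o x).card
        ≤ (cn G o w ∩ cn G o x).card * (cn G o w ∩ cn G o x).card + 4 := by
    intro x _
    nlinarith [sq_nonneg (((cn G o w ∩ cn G o x).card : ℤ) - 2)]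
  have hsum : ∑ x ∈ (far G o).filter (fun w' => w' ≠ w ∧ ¬ G.Adj w w'),
        4 * (cn G o w ∩ cn G o x).card
      = ∑ x ∈ (far G o).filter (fun w' => w' ≠ w ∧ ¬ G.Adj w w'),
        ((cn G o w ∩ cn G o x).card * (cn G o w ∩ cn G o x).card + 4) := by
    rw [← Finset.mul_sum, Finset.sum_add_distrib, Finset.sum_const, smul_eq_mul]
    omega
  have hall := (Finset.sum_eq_sum_iff_of_le hle).mp hsum w'
    (Finset.mem_filter.mpr ⟨hw', hne, hnadj⟩)
  nlinarith [sq_nonneg (((cn G o w ∩ cn G o w').card : ℤ) - 2)]

end Recon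

end Cfsg.Agent.Lib.helper10
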