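/-
Reconstruction of a Steiner system S(3, 6, 22) from a strongly regular graph with parameters
(100, 22, 0, 6): the blocks form a Steiner system on the neighbours of a vertex, and the graph
is isomorphic to the point-block graph of this system.
-/
import Mathlib
import Cfsg.Prelude.Def_Sporadic_a
import Cfsg.Agent.Lib.helper10.Steiner3622b
import Cfsg.Agent.Lib.helper10.HSRecon

set_option autoImplicit false
set_option linter.unusedSectionVars false

namespace Cfsg.Agent.Lib.helper10

open Finset

section Recon2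

variable {V : Type*} [Fintype V] [DecidableEq V] (G : SimpleGraph V) [DecidableRel G.Adj]

/-- The block of a vertex `w`: its neighbours among the neighbours of `o`. -/
def blkOf (o w : V) : Finset {v : V // G.Adj o v} := (cn G o w).subtype (fun v => G.Adj o v)

/-- The blocks of the vertices at distance two from `o`. -/
def hsBlocks (o : V) : Set (Finset {v : V // G.Adj o v}) := {b | ∃ w ∈ far G o, b = blkOf G o w}

variable {G}

theorem mem_blkOf {o w : V} {a : {v : V // G.Adj o v}} : a ∈ blkOf G o w ↔ G.Adj w a := by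
  rw [blkOf, Finset.mem_subtype, mem_cn]
  exact ⟨fun h => h.2, fun h => ⟨a.2, h⟩⟩

theorem blkOf_inter_card (o w w' : V) :
    (blkOf G o w ∩ blkOf G o w').card = (cn G o w ∩ cn G o w').card := by
  have h1 : blkOf G o w ∩ blkOf G o w' = (cn G o w ∩ cn G o w').subtype (fun v => G.Adj o v) := by
    ext a
    simp only [blkOf, Finset.mem_inter, Finset.mem_subtype]
  rw [h1, Finset.card_subtype, Finset.filter_true_of_mem]
  intro a ha
  exact (mem_cn.mp (Finset.mem_inter.mp ha).1).1

variable (h : Srg100 G)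

include h

theorem cn_inter_le_two {o w w' : V} (hw : w ∈ far G o) (hw' : w' ∈ far G o) (hne : w' ≠ w) :
    (cn G o w ∩ cn G o w').card ≤ 2 := by
  by_cases hadj : G.Adj w w'
  · rw [cn_inter_of_adj h hadj]
    norm_num
  · rw [cn_inter_of_not_adj h hw hw' hne hadj]

/-- Every 3-subset of the neighbours of `o` lies in the block of exactly one vertex. -/
theorem exists_unique_cn {o : V} {T : Finset V}
    (hT : T ⊆ Finset.univ.filter (fun x => G.Adj o x)) (hT3 : T.card = 3) :
    ∃ w, (w ∈ far G o ∧ T ⊆ cn G o w) ∧ ∀ w', w' ∈ far G o → T ⊆ cn G o w' → w' = w := by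
  have huniq : ∀ w w', w ∈ far G o → w' ∈ far G o → T ⊆ cn G o w → T ⊆ cn G o w' → w' = w := by
    intro w w' hw hw' hTw hTw'
    by_contra hne
    have h1 := cn_inter_le_two h hw hw' hne
    have h2 := Finset.card_le_card (Finset.subset_inter hTw hTw')
    omega
  have hdisj : ((far G o : Finset V) : Set V).PairwiseDisjoint
      (fun w => (cn G o w).powersetCard 3) := by
    intro w hw w' hw' hne
    rw [Function.onFun, Finset.disjoint_left]
    intro S hS hS'
    rw [Finset.mem_powersetCard] at hS hS'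
    have h1 := cn_inter_le_two h (Finset.mem_coe.mp hw) (Finset.mem_coe.mp hw') (Ne.symm hne)
    have h2 := Finset.card_le_card (Finset.subset_inter hS.1 hS'.1)
    omega
  have hcard : ((far G o).biUnion (fun w => (cn G o w).powersetCard 3)).card = 1540 := by
    rw [Finset.card_biUnion hdisj]
    have h1 : ∀ w ∈ far G o, ((cn G o w).powersetCard 3).card = 20 := by
      intro w hw
      rw [Finset.card_powersetCard, card_cn h hw]
      rfl
    rw [Finset.sum_congr rfl h1, Finset.sum_const, card_far h]
    rfl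
  have hsub : (far G o).biUnion (fun w => (cn G o w).powersetCard 3)
      ⊆ (Finset.univ.filter (fun x => G.Adj o x)).powersetCard 3 := by
    intro S hS
    rw [Finset.mem_biUnion] at hS
    obtain ⟨w, hw, hS⟩ := hS
    rw [Finset.mem_powersetCard] at hS ⊢
    refine ⟨fun a ha => ?_, hS.2⟩
    rw [Finset.mem_filter]
    exact ⟨Finset.mem_univ _, (mem_cn.mp (hS.1 ha)).1⟩
  have hc22 : ((Finset.univ.filter (fun x => G.Adj o x)).powersetCard 3).card = 1540 := by
    rw [Finset.card_powersetCard, h.deg o]
    rfl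
  have heq := Finset.eq_of_subset_of_card_le hsub (by rw [hc22, hcard])
  have hTm : T ∈ (far G o).biUnion (fun w => (cn G o w).powersetCard 3) := by
    rw [heq, Finset.mem_powersetCard]
    exact ⟨hT, hT3⟩
  rw [Finset.mem_biUnion] at hTm
  obtain ⟨w, hw, hTw⟩ := hTm
  exact ⟨w, ⟨hw, (Finset.mem_powersetCard.mp hTw).1⟩, fun w' hw' hTw' =>
    huniq w w' hw hw' (Finset.mem_powersetCard.mp hTw).1 hTw'⟩

theorem card_pt (o : V) : Fintype.card {v : V // G.Adj o v} = 22 := by
  rw [Fintype.card_subtype]
  exact h.deg o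

theorem card_blkOf {o w : V} (hw : w ∈ far G o) : (blkOf G o w).card = 6 := by
  have h1 := blkOf_inter_card (G := G) o w w
  rw [Finset.inter_self, Finset.inter_self, card_cn h hw] at h1
  exact h1

theorem blkOf_injOn {o w w' : V} (hw : w ∈ far G o) (hw' : w' ∈ far G o)
    (e : blkOf G o w = blkOf G o w') : w = w' := by
  by_contra hne
  have h1 := cn_inter_le_two h hw hw' (Ne.symm hne)
  rw [← blkOf_inter_card, ← e, Finset.inter_self, card_blkOf h hw] at h1
  omega

/-- The blocks form a Steiner system S(3, 6, 22) on the neighbours of `o`. -/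
theorem hsBlocks_steiner (o : V) : Cfsg.IsSteinerSystem 3 6 (hsBlocks G o) := by
  refine ⟨?_, fun s hs => ?_⟩
  · rintro b ⟨w, hw, rfl⟩
    exact card_blkOf h hw
  · have hT : s.map (Function.Embedding.subtype _) ⊆ Finset.univ.filter (fun x => G.Adj o x) := by
      intro v hv
      obtain ⟨a, -, rfl⟩ := Finset.mem_map.mp hv
      rw [Finset.mem_filter]
      exact ⟨Finset.mem_univ _, a.2⟩
    obtain ⟨w, ⟨hw, hTw⟩, huniq⟩ := exists_unique_cn h hT (by rw [Finset.card_map, hs])
    refine ⟨blkOf G o w, ⟨⟨w, hw, rfl⟩, fun a ha => ?_⟩, ?_⟩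
    · rw [mem_blkOf]
      exact (mem_cn.mp (hTw (Finset.mem_map_of_mem _ ha))).2
    · rintro b ⟨⟨w', hw', rfl⟩, hsb⟩
      have h1 : s.map (Function.Embedding.subtype _) ⊆ cn G o w' := by
        intro v hv
        obtain ⟨a, ha, rfl⟩ := Finset.mem_map.mp hv
        rw [mem_cn]
        exact ⟨a.2, mem_blkOf.mp (hsb ha)⟩
      rw [huniq w' hw' h1]

omit h in
/-- The map from the vertices of the graph to the vertices of the point-block graph. -/
def hsMap (G : SimpleGraph V) [DecidableRel G.Adj] (o : V) (v : V) :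
    Option ({v : V // G.Adj o v} ⊕ ↥(hsBlocks G o)) :=
  if hv : v = o then none
  else if hv' : G.Adj o v then some (Sum.inl ⟨v, hv'⟩)
  else some (Sum.inr ⟨blkOf G o v, v, mem_far.mpr ⟨hv, hv'⟩, rfl⟩)

omit h in
theorem hsMap_self (o : V) : hsMap G o o = none := by
  rw [hsMap, dif_pos rfl]

omit h in
theorem hsMap_nbr {o v : V} (hv : G.Adj o v) : hsMap G o v = some (Sum.inl ⟨v, hv⟩) := by
  have hne : v ≠ o := fun e => G.loopless.irrefl o (e ▸ hv)
  rw [hsMap, dif_neg hne, dif_pos hv]

omit h in
theorem hsMap_far {o v : V} (hv : v ∈ far G o) :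
    hsMap G o v = some (Sum.inr ⟨blkOf G o v, v, hv, rfl⟩) := by
  have hv' := mem_far.mp hv
  rw [hsMap, dif_neg hv'.1, dif_neg hv'.2]

omit h in
theorem vertex_cases (o v : V) : v = o ∨ G.Adj o v ∨ v ∈ far G o := by
  by_cases h1 : v = o
  · exact Or.inl h1
  · by_cases h2 : G.Adj o v
    · exact Or.inr (Or.inl h2)
    · exact Or.inr (Or.inr (mem_far.mpr ⟨h1, h2⟩))

theorem hsMap_bijective (o : V) : Function.Bijective (hsMap G o) := by
  constructor
  · intro u v e
    rcases vertex_cases (G := G) o u with hu | hu | hu <;>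
      rcases vertex_cases (G := G) o v with hv | hv | hv
    · rw [hu, hv]
    · rw [hu, hsMap_self, hsMap_nbr hv] at e
      exact absurd e (by simp)
    · rw [hu, hsMap_self, hsMap_far hv] at e
      exact absurd e (by simp)
    · rw [hv, hsMap_self, hsMap_nbr hu] at e
      exact absurd e (by simp)
    · rw [hsMap_nbr hu, hsMap_nbr hv] at e
      simpa using e
    · rw [hsMap_nbr hu, hsMap_far hv] at e
      exact absurd e (by simp)
    · rw [hv, hsMap_self, hsMap_far hu] at e
      exact absurd e (by simp)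
    · rw [hsMap_far hu, hsMap_nbr hv] at e
      exact absurd e (by simp)
    · rw [hsMap_far hu, hsMap_far hv] at e
      have e' : blkOf G o u = blkOf G o v :=
        congrArg Subtype.val (Sum.inr.inj (Option.some.inj e))
      exact blkOf_injOn h hu hv e'
  · intro y
    rcases y with _ | a | ⟨b, w, hw, rfl⟩
    · exact ⟨o, hsMap_self o⟩
    · exact ⟨a.1, hsMap_nbr a.2⟩
    · exact ⟨w, hsMap_far hw⟩

theorem hsMap_adj (o u v : V) :
    (Cfsg.pointBlockGraph (hsBlocks G o)).Adj (hsMap G o u) (hsMap G o v) ↔ G.Adj u v := by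
  have hB := hsBlocks_steiner h o
  rcases vertex_cases (G := G) o u with hu | hu | hu <;>
    rcases vertex_cases (G := G) o v with hv | hv | hv
  · rw [hu, hv, hsMap_self]
    exact ⟨fun e => absurd e pb_adj_none_none, fun e => absurd e (G.loopless.irrefl o)⟩
  · rw [hu, hsMap_self, hsMap_nbr hv]
    exact ⟨fun _ => hv, fun _ => pb_adj_none_inl _⟩
  · rw [hu, hsMap_self, hsMap_far hv]
    exact ⟨fun e => absurd e (pb_adj_none_inr _), fun e => absurd e (mem_far.mp hv).2⟩
  · rw [hv, hsMap_self, hsMap_nbr hu]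
    exact ⟨fun _ => hu.symm, fun _ => pb_adj_inl_none _⟩
  · rw [hsMap_nbr hu, hsMap_nbr hv]
    exact ⟨fun e => absurd e (pb_adj_inl_inl _ _), fun e => absurd e (h.tri o u v hu hv)⟩
  · rw [hsMap_nbr hu, hsMap_far hv, pb_adj_inl_inr]
    show (⟨u, hu⟩ : {v : V // G.Adj o v}) ∈ blkOf G o v ↔ G.Adj u v
    rw [mem_blkOf]
    exact ⟨fun e => e.symm, fun e => e.symm⟩
  · rw [hv, hsMap_self, hsMap_far hu]
    exact ⟨fun e => absurd e (pb_adj_inr_none _), fun e => absurd e.symm (mem_far.mp hu).2⟩
  · rw [hsMap_far hu, hsMap_nbr hv, pb_adj_inr_inl]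
    show (⟨v, hv⟩ : {v : V // G.Adj o v}) ∈ blkOf G o u ↔ G.Adj u v
    rw [mem_blkOf]
  · rw [hsMap_far hu, hsMap_far hv, pb_adj_inr_inr hB]
    show Disjoint (blkOf G o u) (blkOf G o v) ↔ G.Adj u v
    rw [Finset.disjoint_iff_inter_eq_empty, ← Finset.card_eq_zero, blkOf_inter_card]
    constructor
    · intro e
      by_contra hnadj
      by_cases huv : v = u
      · rw [huv, Finset.inter_self, card_cn h hu] at e
        omega
      · rw [cn_inter_of_not_adj h hu hv huv hnadj] at e
        omega
    · intro e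
      exact cn_inter_of_adj h e

/-- A strongly regular graph with parameters (100, 22, 0, 6) is isomorphic to the point-block
graph of the Steiner system of its blocks. -/
theorem exists_iso_pointBlockGraph (o : V) :
    Nonempty (G ≃g Cfsg.pointBlockGraph (hsBlocks G o)) :=
  ⟨{ toEquiv := Equiv.ofBijective (hsMap G o) (hsMap_bijective h o)
     map_rel_iff' := fun {u v} => hsMap_adj h o u v }⟩

end Recon2

end Cfsg.Agent.Lib.helper10
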