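/-
Isomorphic Steiner systems S(3, 6, 22) have isomorphic point-block graphs, and any two strongly
regular graphs with parameters (100, 22, 0, 6) are isomorphic.
-/
import Mathlib
import Cfsg.Prelude.Def_Sporadic_a
import Cfsg.Agent.Lib.helper10.Steiner3622b
import Cfsg.Agent.Lib.helper10.S3622Unique
import Cfsg.Agent.Lib.helper10.HSRecon
import Cfsg.Agent.Lib.helper10.HSRecon2

set_option autoImplicit false
set_option linter.unusedSectionVars false

namespace Cfsg.Agent.Lib.helper10

open Finset

section PBIso

variable {α β : Type*} [DecidableEq α] [DecidableEq β] {B : Set (Finset α)}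
  {B' : Set (Finset β)}

/-- The bijection between the blocks induced by an isomorphism of set systems. -/
def blockEquiv (e : α ≃ β) (he : (fun b => b.image e) '' B = B') : B ≃ B' where
  toFun b := ⟨(b : Finset α).image e, by
    rw [← he]
    exact ⟨b.1, b.2, rfl⟩⟩
  invFun b' := ⟨(b' : Finset β).image e.symm, by
    have h1 : (b' : Finset β) ∈ (fun b => b.image e) '' B := by
      rw [he]
      exact b'.2
    obtain ⟨b, hb, e1⟩ := h1
    have e2 : (b' : Finset β) = b.image e := e1.symm
    rw [e2, Finset.image_image]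
    simpa using hb⟩
  left_inv b := by
    apply Subtype.ext
    show ((b : Finset α).image e).image e.symm = b
    rw [Finset.image_image]
    simp
  right_inv b' := by
    apply Subtype.ext
    show ((b' : Finset β).image e.symm).image e = b'
    rw [Finset.image_image]
    simp

theorem blockEquiv_coe (e : α ≃ β) (he : (fun b => b.image e) '' B = B') (b : B) :
    ((blockEquiv e he b : B') : Finset β) = (b : Finset α).image e := rfl

/-- The vertex bijection of point-block graphs induced by an isomorphism of set systems. -/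
def pbEquiv (e : α ≃ β) (he : (fun b => b.image e) '' B = B') :
    Option (α ⊕ B) ≃ Option (β ⊕ B') :=
  Equiv.optionCongr (Equiv.sumCongr e (blockEquiv e he))

theorem pbEquiv_none (e : α ≃ β) (he : (fun b => b.image e) '' B = B') :
    pbEquiv e he none = none := rfl

theorem pbEquiv_inl (e : α ≃ β) (he : (fun b => b.image e) '' B = B') (a : α) :
    pbEquiv e he (some (Sum.inl a)) = some (Sum.inl (e a)) := rfl

theorem pbEquiv_inr (e : α ≃ β) (he : (fun b => b.image e) '' B = B') (b : B) :
    pbEquiv e he (some (Sum.inr b)) = some (Sum.inr (blockEquiv e he b)) := rfl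

theorem pbEquiv_adj (hB : Cfsg.IsSteinerSystem 3 6 B) (hB' : Cfsg.IsSteinerSystem 3 6 B')
    (e : α ≃ β) (he : (fun b => b.image e) '' B = B') (u v : Option (α ⊕ B)) :
    (Cfsg.pointBlockGraph B').Adj (pbEquiv e he u) (pbEquiv e he v)
      ↔ (Cfsg.pointBlockGraph B).Adj u v := by
  rcases u with _ | a | b <;> rcases v with _ | a' | b'
  · rw [pbEquiv_none]
    exact ⟨fun h => absurd h pb_adj_none_none, fun h => absurd h pb_adj_none_none⟩
  · rw [pbEquiv_none, pbEquiv_inl]
    exact ⟨fun _ => pb_adj_none_inl _, fun _ => pb_adj_none_inl _⟩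
  · rw [pbEquiv_none, pbEquiv_inr]
    exact ⟨fun h => absurd h (pb_adj_none_inr _), fun h => absurd h (pb_adj_none_inr _)⟩
  · rw [pbEquiv_none, pbEquiv_inl]
    exact ⟨fun _ => pb_adj_inl_none _, fun _ => pb_adj_inl_none _⟩
  · rw [pbEquiv_inl, pbEquiv_inl]
    exact ⟨fun h => absurd h (pb_adj_inl_inl _ _), fun h => absurd h (pb_adj_inl_inl _ _)⟩
  · rw [pbEquiv_inl, pbEquiv_inr, pb_adj_inl_inr, pb_adj_inl_inr, blockEquiv_coe]
    exact e.injective.mem_finset_image
  · rw [pbEquiv_none, pbEquiv_inr]
    exact ⟨fun h => absurd h (pb_adj_inr_none _), fun h => absurd h (pb_adj_inr_none _)⟩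
  · rw [pbEquiv_inl, pbEquiv_inr, pb_adj_inr_inl, pb_adj_inr_inl, blockEquiv_coe]
    exact e.injective.mem_finset_image
  · rw [pbEquiv_inr, pbEquiv_inr, pb_adj_inr_inr hB, pb_adj_inr_inr hB', blockEquiv_coe,
      blockEquiv_coe]
    exact Finset.disjoint_image e.injective

/-- The isomorphism of point-block graphs induced by an isomorphism of Steiner systems. -/
def pbIso (hB : Cfsg.IsSteinerSystem 3 6 B) (hB' : Cfsg.IsSteinerSystem 3 6 B')
    (e : α ≃ β) (he : (fun b => b.image e) '' B = B') :
    Cfsg.pointBlockGraph B ≃g Cfsg.pointBlockGraph B' where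
  toEquiv := pbEquiv e he
  map_rel_iff' := fun {u v} => pbEquiv_adj hB hB' e he u v

end PBIso

section Unique

variable {V W : Type*} [Fintype V] [Fintype W] [DecidableEq V] [DecidableEq W]
  {G : SimpleGraph V} {H : SimpleGraph W} [DecidableRel G.Adj] [DecidableRel H.Adj]

/-- Any two strongly regular graphs with parameters (100, 22, 0, 6) are isomorphic. -/
theorem srg100_unique (hG : Srg100 G) (hH : Srg100 H) : Nonempty (G ≃g H) := by
  obtain ⟨o⟩ : Nonempty V := Fintype.card_pos_iff.mp (by rw [hG.card]; norm_num)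
  obtain ⟨o'⟩ : Nonempty W := Fintype.card_pos_iff.mp (by rw [hH.card]; norm_num)
  obtain ⟨φ⟩ := exists_iso_pointBlockGraph hG o
  obtain ⟨φ'⟩ := exists_iso_pointBlockGraph hH o'
  have hB := hsBlocks_steiner hG o
  have hB' := hsBlocks_steiner hH o'
  obtain ⟨e, he⟩ := s3622_unique (card_pt hG o) (card_pt hH o') hB hB'
  exact ⟨(φ.trans (pbIso hB hB' e he)).trans φ'.symm⟩

end Unique

end Cfsg.Agent.Lib.helper10
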