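/-
The automorphism group of the point-block graph of a Steiner system S(3, 6, 22) (the
Higman-Sims graph): it is transitive on the 100 vertices, the stabilizer of the extra vertex is
the automorphism group of the Steiner system, and the order is 88704000.
-/
import Mathlib
import Cfsg.Prelude.Def_Sporadic_a
import Cfsg.Agent.S0428
import Cfsg.Agent.Lib.helper10.Steiner3622
import Cfsg.Agent.Lib.helper10.Steiner3622b
import Cfsg.Agent.Lib.helper10.S3622Unique
import Cfsg.Agent.Lib.helper10.S3622Aut
import Cfsg.Agent.Lib.helper10.HSRecon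
import Cfsg.Agent.Lib.helper10.HSRecon2
import Cfsg.Agent.Lib.helper10.HSIso

set_option autoImplicit false
set_option linter.unusedSectionVars false

namespace Cfsg.Agent.Lib.helper10

open Finset
open scoped Pointwise

section HSAut

variable {α : Type*} [Fintype α] [DecidableEq α] {B : Set (Finset α)}

theorem aut_image_eq (g : Cfsg.setSystemAut B) :
    (fun b => b.image (g : Equiv.Perm α)) '' B = B :=
  MulAction.mem_stabilizer_iff.mp g.2

variable (hB : Cfsg.IsSteinerSystem 3 6 B) (hα : Fintype.card α = 22)

include hB hα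

/-- The automorphism group of the point-block graph is transitive on the vertices. -/
theorem exists_aut_to_none (v : Option (α ⊕ B)) :
    ∃ ψ : Cfsg.pointBlockGraph B ≃g Cfsg.pointBlockGraph B, ψ v = none := by
  classical
  have : Fintype B := Fintype.ofFinite B
  have hS : Srg100 (Cfsg.pointBlockGraph B) :=
    srg100_of_isSRGWith _ (Cfsg.Agent.S0428.result hα hB)
  have hB' := hsBlocks_steiner hS v
  obtain ⟨e, he⟩ := s3622_unique (card_pt hS v) hα hB' hB
  obtain ⟨φ, hφ⟩ : ∃ φ : Cfsg.pointBlockGraph B ≃g
      Cfsg.pointBlockGraph (hsBlocks (Cfsg.pointBlockGraph B) v), φ v = none :=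
    ⟨{ toEquiv := Equiv.ofBijective (hsMap (Cfsg.pointBlockGraph B) v) (hsMap_bijective hS v)
       map_rel_iff' := fun {u w} => hsMap_adj hS v u w }, hsMap_self v⟩
  refine ⟨φ.trans (pbIso hB' hB e he), ?_⟩
  show pbEquiv e he (φ v) = none
  rw [hφ, pbEquiv_none]

/-- The stabilizer of the extra vertex in the automorphism group of the point-block graph is in
bijection with the automorphism group of the Steiner system. -/
theorem card_stab_none :
    Nat.card (MulAction.stabilizer (Cfsg.pointBlockGraph B ≃g Cfsg.pointBlockGraph B)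
      (none : Option (α ⊕ B))) = 887040 := by
  rw [← s3622_card_aut hB hα]
  symm
  have hmem : ∀ g : Cfsg.setSystemAut B, pbIso hB hB (g : Equiv.Perm α) (aut_image_eq g)
      ∈ MulAction.stabilizer (Cfsg.pointBlockGraph B ≃g Cfsg.pointBlockGraph B)
        (none : Option (α ⊕ B)) := fun g => MulAction.mem_stabilizer_iff.mpr rfl
  refine Nat.card_eq_of_bijective (fun g : Cfsg.setSystemAut B =>
    (⟨pbIso hB hB (g : Equiv.Perm α) (aut_image_eq g), hmem g⟩ :
      MulAction.stabilizer (Cfsg.pointBlockGraph B ≃g Cfsg.pointBlockGraph B)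
        (none : Option (α ⊕ B)))) ⟨?_, ?_⟩
  · intro g g' e
    have e1 : pbIso hB hB (g : Equiv.Perm α) (aut_image_eq g)
        = pbIso hB hB (g' : Equiv.Perm α) (aut_image_eq g') := congrArg Subtype.val e
    apply Subtype.ext
    apply Equiv.ext
    intro a
    have e2 := congrArg (fun φ : Cfsg.pointBlockGraph B ≃g Cfsg.pointBlockGraph B =>
      φ (some (Sum.inl a))) e1
    have e3 : (some (Sum.inl ((g : Equiv.Perm α) a)) : Option (α ⊕ B))
        = some (Sum.inl ((g' : Equiv.Perm α) a)) := e2
    exact Sum.inl.inj (Option.some.inj e3)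
  · intro s
    have hs : (s : Cfsg.pointBlockGraph B ≃g Cfsg.pointBlockGraph B) none = none :=
      MulAction.mem_stabilizer_iff.mp s.2
    -- the images of the points are points
    have h1 : ∀ a : α, ∃ a' : α, (s : Cfsg.pointBlockGraph B ≃g Cfsg.pointBlockGraph B)
        (some (Sum.inl a)) = some (Sum.inl a') := by
      intro a
      have hadj := (s : Cfsg.pointBlockGraph B ≃g Cfsg.pointBlockGraph B).map_rel_iff.mpr
        (pb_adj_none_inl (B := B) a)
      rw [hs] at hadj
      rcases hv : (s : Cfsg.pointBlockGraph B ≃g Cfsg.pointBlockGraph B) (some (Sum.inl a))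
        with _ | a' | b'
      · rw [hv] at hadj
        exact absurd hadj pb_adj_none_none
      · exact ⟨a', rfl⟩
      · rw [hv] at hadj
        exact absurd hadj (pb_adj_none_inr b')
    choose f hf using h1
    -- the images of the blocks are blocks
    have h2 : ∀ b : B, ∃ b' : B, (s : Cfsg.pointBlockGraph B ≃g Cfsg.pointBlockGraph B)
        (some (Sum.inr b)) = some (Sum.inr b') := by
      intro b
      have hnadj : ¬ (Cfsg.pointBlockGraph B).Adj
          ((s : Cfsg.pointBlockGraph B ≃g Cfsg.pointBlockGraph B) none)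
          ((s : Cfsg.pointBlockGraph B ≃g Cfsg.pointBlockGraph B) (some (Sum.inr b))) :=
        fun hadj => pb_adj_none_inr b
          ((s : Cfsg.pointBlockGraph B ≃g Cfsg.pointBlockGraph B).map_rel_iff.mp hadj)
      rw [hs] at hnadj
      rcases hv : (s : Cfsg.pointBlockGraph B ≃g Cfsg.pointBlockGraph B) (some (Sum.inr b))
        with _ | a' | b'
      · exfalso
        have := (s : Cfsg.pointBlockGraph B ≃g Cfsg.pointBlockGraph B).injective (hv.trans hs.symm)
        exact absurd this (by simp)
      · rw [hv] at hnadj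
        exact absurd (pb_adj_none_inl a') hnadj
      · exact ⟨b', rfl⟩
    choose fB hfB using h2
    have hfinj : Function.Injective f := by
      intro a a' e
      have e1 : (s : Cfsg.pointBlockGraph B ≃g Cfsg.pointBlockGraph B) (some (Sum.inl a))
          = (s : Cfsg.pointBlockGraph B ≃g Cfsg.pointBlockGraph B) (some (Sum.inl a')) := by
        rw [hf, hf, e]
      exact Sum.inl.inj (Option.some.inj
        ((s : Cfsg.pointBlockGraph B ≃g Cfsg.pointBlockGraph B).injective e1))
    have hfbij : Function.Bijective f := Finite.injective_iff_bijective.mp hfinj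
    have hmem_iff : ∀ (a : α) (b : B), f a ∈ (fB b : Finset α) ↔ a ∈ (b : Finset α) := by
      intro a b
      have h3 := (s : Cfsg.pointBlockGraph B ≃g Cfsg.pointBlockGraph B).map_rel_iff
        (a := some (Sum.inl a)) (b := some (Sum.inr b))
      rw [hf, hfB, pb_adj_inl_inr, pb_adj_inl_inr] at h3
      exact h3
    have himg : ∀ b : B, (b : Finset α).image (Equiv.ofBijective f hfbij) = (fB b : Finset α) := by
      intro b
      refine Finset.eq_of_subset_of_card_le ?_ ?_
      · intro y hy
        obtain ⟨a, ha, rfl⟩ := Finset.mem_image.mp hy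
        exact (hmem_iff a b).mpr ha
      · rw [Finset.card_image_of_injective _ (Equiv.ofBijective f hfbij).injective,
          hB.1 _ (fB b).2, hB.1 _ b.2]
    have hg : Equiv.ofBijective f hfbij ∈ Cfsg.setSystemAut B := by
      rw [mem_aut_iff]
      intro c hc
      have := himg ⟨c, hc⟩
      rw [this]
      exact (fB ⟨c, hc⟩).2
    refine ⟨⟨Equiv.ofBijective f hfbij, hg⟩, ?_⟩
    apply Subtype.ext
    apply RelIso.ext
    intro v
    rcases v with _ | a | b
    · exact hs.symm
    · exact (hf a).symm
    · show (some (Sum.inr (blockEquiv (Equiv.ofBijective f hfbij) _ b)) : Option (α ⊕ B))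
        = (s : Cfsg.pointBlockGraph B ≃g Cfsg.pointBlockGraph B) (some (Sum.inr b))
      rw [hfB]
      congr 2
      exact Subtype.ext (himg b)

/-- The point-block graph of an S(3, 6, 22) has exactly 88704000 automorphisms. -/
theorem card_aut_pointBlockGraph :
    Nat.card (Cfsg.pointBlockGraph B ≃g Cfsg.pointBlockGraph B) = 88704000 := by
  classical
  have : Fintype B := Fintype.ofFinite B
  have h1 := Subgroup.card_mul_index
    (MulAction.stabilizer (Cfsg.pointBlockGraph B ≃g Cfsg.pointBlockGraph B)
      (none : Option (α ⊕ B)))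
  have horb : MulAction.orbit (Cfsg.pointBlockGraph B ≃g Cfsg.pointBlockGraph B)
      (none : Option (α ⊕ B)) = Set.univ := by
    ext v
    simp only [Set.mem_univ, iff_true]
    obtain ⟨ψ, hψ⟩ := exists_aut_to_none hB hα v
    refine ⟨ψ⁻¹, ?_⟩
    show ψ⁻¹ none = v
    rw [← hψ]
    exact RelIso.inv_apply_self ψ v
  have hV : Nat.card (Option (α ⊕ B)) = 100 := by
    rw [Nat.card_eq_fintype_card]
    exact (Cfsg.Agent.S0428.result hα hB).card
  rw [MulAction.index_stabilizer, horb, Set.ncard_univ, card_stab_none hB hα, hV] at h1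
  omega

end HSAut

end Cfsg.Agent.Lib.helper10
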