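/-
The automorphism group of the point-block graph of a Steiner system S(3, 6, 22) has a simple
subgroup of index 2 (the Higman-Sims group): the automorphisms inducing an even permutation of
the 100 vertices.
-/
import Mathlib
import Cfsg.Prelude.Def_Sporadic_a
import Cfsg.Agent.Lib.helper10.Steiner3622
import Cfsg.Agent.Lib.helper10.Steiner3622b
import Cfsg.Agent.Lib.helper10.Hyperoval
import Cfsg.Agent.Lib.helper10.S3622Aut
import Cfsg.Agent.Lib.helper10.BaerSign
import Cfsg.Agent.Lib.helper10.BaerFix
import Cfsg.Agent.Lib.helper10.M22Simple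
import Cfsg.Agent.Lib.helper10.HSIso
import Cfsg.Agent.Lib.helper10.HSAut
import Cfsg.Agent.Lib.helper10.PrimSimple

set_option autoImplicit false
set_option linter.unusedSectionVars false

namespace Cfsg.Agent.Lib.helper10

open Finset
open scoped Pointwise

section SignEven

/-- The sign of an involution with an even number of 2-cycles. -/
theorem sign_of_invol_card_fix_even {β : Type*} [Fintype β] [DecidableEq β] (t : Equiv.Perm β)
    (ht2 : ∀ a, t (t a) = a) (k : ℕ)
    (hfix : (Finset.univ.filter (fun w => t w = w)).card + 2 * k = Fintype.card β)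
    (hk : Even k) : Equiv.Perm.sign t = 1 := by
  by_cases hne1 : t = 1
  · rw [hne1, map_one]
  have hsq : t ^ 2 = 1 := by
    ext a
    rw [pow_two, Equiv.Perm.mul_apply, ht2, Equiv.Perm.one_apply]
  have hsupp : t.support.card = 2 * k := by
    have h1 : t.support = (Finset.univ.filter (fun w => t w = w))ᶜ := by
      ext w
      simp
    rw [h1, Finset.card_compl]
    omega
  have hord : orderOf t = 2 := orderOf_eq_prime hsq hne1
  obtain ⟨n, hn⟩ := Equiv.Perm.cycleType_prime_order (σ := t) (by rw [hord]; norm_num)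
  rw [hord] at hn
  have hsum := Equiv.Perm.sum_cycleType t
  rw [hn, Multiset.sum_replicate, hsupp, smul_eq_mul] at hsum
  have hnk : n + 1 = k := by omega
  rw [Equiv.Perm.sign_of_cycleType, hn, Multiset.sum_replicate, Multiset.card_replicate, hnk,
    smul_eq_mul, pow_add, pow_mul]
  have h2 : ((-1 : ℤˣ) ^ k) ^ 2 = 1 := by rw [← pow_mul, mul_comm, pow_mul]; simp
  rw [h2, one_mul, hk.neg_one_pow]

end SignEven

section OddEven

variable {α : Type*} [Fintype α] [DecidableEq α] {B : Set (Finset α)}

/-- An involutory automorphism of an S(3, 6, 22) which is an odd permutation of the points and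
fixes exactly 21 blocks. -/
theorem exists_baer_21 (hB : Cfsg.IsSteinerSystem 3 6 B) (hα : Fintype.card α = 22) :
    ∃ t : Equiv.Perm α, t ∈ Cfsg.setSystemAut B ∧ (∀ a, t (t a) = a) ∧
      Equiv.Perm.sign t = -1 ∧ ((blk B).filter fun c => c.image t = c).card = 21 := by
  obtain ⟨x⟩ : Nonempty α := Fintype.card_pos_iff.mp (by rw [hα]; norm_num)
  obtain ⟨b, hb, hx⟩ := exists_block_notMem hB hα x
  have hb6 := hB.1 b hb
  obtain ⟨u₁, hu₁, u₂, hu₂, hne⟩ := Finset.one_lt_card.mp (by rw [hb6]; norm_num : 1 < b.card)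
  obtain ⟨t, ht, ht2, b', hb', hxb', h1b', h2b', hfix⟩ :=
    exists_baer_full hB hα hb hx hu₁ hu₂ hne
  have hmaps := mem_aut_iff.mp ht
  have hbb' : b ≠ b' := fun h => hx (h ▸ hxb')
  have hb'6 := hB.1 b' hb'
  have hU : b ∩ b' = {u₁, u₂} := by
    symm
    refine Finset.eq_of_subset_of_card_le ?_ ?_
    · intro y hy
      rw [Finset.mem_insert, Finset.mem_singleton] at hy
      rcases hy with rfl | rfl
      · exact Finset.mem_inter.mpr ⟨hu₁, h1b'⟩
      · exact Finset.mem_inter.mpr ⟨hu₂, h2b'⟩
    · rw [Finset.card_pair hne]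
      exact s3622_inter_le_two hB hb hb' hbb'
  have hUb : ({u₁, u₂} : Finset α) ⊆ b := hU ▸ Finset.inter_subset_left
  have hUb' : ({u₁, u₂} : Finset α) ⊆ b' := hU ▸ Finset.inter_subset_right
  have hUsub : ({u₁, u₂} : Finset α) ⊆ b ∪ b' := hUb.trans Finset.subset_union_left
  have hE : ∀ w, t w = w ↔ w ∈ (b ∪ b') \ {u₁, u₂} := by
    intro w
    rw [hfix w, Finset.mem_sdiff, Finset.mem_union, Finset.mem_insert, Finset.mem_singleton,
      not_or]
  have hE8 : ((b ∪ b') \ {u₁, u₂}).card = 8 := by
    have h1 := Finset.card_union_add_card_inter b b'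
    rw [hU, Finset.card_pair hne, hb6, hb'6] at h1
    rw [Finset.card_sdiff_of_subset hUsub, Finset.card_pair hne]
    omega
  have hE4 : ∀ c ∈ B, (c ∩ ((b ∪ b') \ {u₁, u₂})).card = 0 ∨
      (c ∩ ((b ∪ b') \ {u₁, u₂})).card = 2 ∨ (c ∩ ((b ∪ b') \ {u₁, u₂})).card = 4 := by
    intro c hc
    have e1 : c ∩ ((b ∪ b') \ {u₁, u₂}) = (c ∩ (b ∪ b')) \ (c ∩ {u₁, u₂}) := by
      ext y
      simp only [Finset.mem_inter, Finset.mem_sdiff, Finset.mem_union]
      tauto
    have e2 : c ∩ {u₁, u₂} ⊆ c ∩ (b ∪ b') :=
      Finset.inter_subset_inter (Finset.Subset.refl c) hUsub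
    have e3 : c ∩ (b ∪ b') = (c ∩ b) ∪ (c ∩ b') := Finset.inter_union_distrib_left _ _ _
    have e4 : (c ∩ b) ∩ (c ∩ b') = c ∩ {u₁, u₂} := by
      rw [← hU]
      ext y
      simp only [Finset.mem_inter]
      tauto
    have e5 := Finset.card_union_add_card_inter (c ∩ b) (c ∩ b')
    rw [e4, ← e3] at e5
    have e6 : (c ∩ ((b ∪ b') \ {u₁, u₂})).card
        = (c ∩ (b ∪ b')).card - (c ∩ {u₁, u₂}).card := by
      rw [e1, Finset.card_sdiff_of_subset e2]
    have e7 : (c ∩ {u₁, u₂}).card ≤ 2 :=
      (Finset.card_le_card Finset.inter_subset_right).trans (by rw [Finset.card_pair hne])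
    have e8 : (c ∩ {u₁, u₂}).card ≤ (c ∩ b).card := by
      rw [← e4]
      exact Finset.card_le_card Finset.inter_subset_left
    have e9 : (c ∩ {u₁, u₂}).card ≤ (c ∩ b').card := by
      rw [← e4]
      exact Finset.card_le_card Finset.inter_subset_right
    by_cases hcb : c = b
    · have k1 : (c ∩ b).card = 6 := by rw [hcb, Finset.inter_self, hb6]
      have k2 : (c ∩ b').card = 2 := by rw [hcb, hU, Finset.card_pair hne]
      have k3 : (c ∩ {u₁, u₂}).card = 2 := by
        rw [hcb, Finset.inter_eq_right.mpr hUb, Finset.card_pair hne]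
      omega
    · by_cases hcb' : c = b'
      · have k1 : (c ∩ b').card = 6 := by rw [hcb', Finset.inter_self, hb'6]
        have k2 : (c ∩ b).card = 2 := by rw [hcb', Finset.inter_comm, hU, Finset.card_pair hne]
        have k3 : (c ∩ {u₁, u₂}).card = 2 := by
          rw [hcb', Finset.inter_eq_right.mpr hUb', Finset.card_pair hne]
        omega
      · rcases s3622_inter_zero_or_two hB hα hc hb hcb with p | p <;>
          rcases s3622_inter_zero_or_two hB hα hc hb' hcb' with q | q <;> omega
  refine ⟨t, ht, ht2, ?_, card_fixed_blocks hB hα t hmaps ht2 hE hE8 hE4⟩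
  refine sign_of_invol_card_fix t ht2 7 ?_ (by decide)
  have h1 : Finset.univ.filter (fun w => t w = w) = (b ∪ b') \ {u₁, u₂} := by
    ext w
    rw [Finset.mem_filter, hE w]
    simp
  rw [h1, hE8, hα]

/-- The even automorphisms of an S(3, 6, 22) are transitive on the blocks. -/
theorem evenAut_block_trans (hB : Cfsg.IsSteinerSystem 3 6 B) (hα : Fintype.card α = 22)
    {c c' : Finset α} (hc : c ∈ B) (hc' : c' ∈ B) : ∃ g ∈ evenAut B, c.image g = c' := by
  have hex : ∀ d ∈ B, ∃ x, x ∉ d := by
    intro d hd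
    by_contra hcon
    push Not at hcon
    have h1 : (Finset.univ : Finset α) ⊆ d := fun y _ => hcon y
    have h2 := Finset.card_le_card h1
    rw [Finset.card_univ, hα, hB.1 d hd] at h2
    omega
  obtain ⟨x, hx⟩ := hex c hc
  obtain ⟨x', hx'⟩ := hex c' hc'
  have hcc : c.card = c'.card := (hB.1 c hc).trans (hB.1 c' hc').symm
  obtain ⟨σ, hσ⟩ := exists_equiv_of_card (rfl : Fintype.card α = Fintype.card α) c c' hcc
  obtain ⟨g, ⟨hg1, hg2, hg3⟩, -⟩ := s3622_aut_frame hB hα hc hx hc' hx' σ hσ
  have himg : c.image g = c' :=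
    image_eq_of_maps g (fun a ha => by rw [hg3 a ha]; exact (hσ a).mp ha) hcc
  rcases Int.units_eq_one_or (Equiv.Perm.sign g) with hs | hs
  · exact ⟨g, mem_evenAut.mpr ⟨hs, hg1⟩, himg⟩
  · obtain ⟨u₁, hu₁, u₂, hu₂, hne⟩ :=
      Finset.one_lt_card.mp (by rw [hB.1 c' hc']; norm_num : 1 < c'.card)
    obtain ⟨h, h1, h2, h3, h4⟩ := exists_odd_aut hB hα hc' hx' hu₁ hu₂ hne
    have hfix : c'.image h = c' := by
      by_contra hcon
      have k1 := s3622_inter_le_two hB (mem_aut_iff.mp h1 c' hc') hc' hcon
      have k2 : c' \ {u₁, u₂} ⊆ c'.image h ∩ c' := by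
        intro w hw
        rw [Finset.mem_sdiff, Finset.mem_insert, Finset.mem_singleton, not_or] at hw
        refine Finset.mem_inter.mpr ⟨?_, hw.1⟩
        have := Finset.mem_image_of_mem h hw.1
        rwa [h3 w hw.1 hw.2.1 hw.2.2] at this
      have k3 := Finset.card_le_card k2
      have k4 := Finset.le_card_sdiff ({u₁, u₂} : Finset α) c'
      rw [Finset.card_pair hne, hB.1 c' hc'] at k4
      omega
    refine ⟨h * g, mem_evenAut.mpr ⟨?_, Subgroup.mul_mem _ h1 hg1⟩, ?_⟩
    · rw [map_mul, hs, h4]
      rfl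
    · rw [Equiv.Perm.coe_mul, ← Finset.image_image, himg, hfix]

end OddEven

section PbHom

variable {α : Type*} [Fintype α] [DecidableEq α] {B : Set (Finset α)}

/-- The homomorphism from the automorphism group of an S(3, 6, 22) to the automorphism group
of its point-block graph. -/
def pbHom (hB : Cfsg.IsSteinerSystem 3 6 B) :
    Cfsg.setSystemAut B →* (Cfsg.pointBlockGraph B ≃g Cfsg.pointBlockGraph B) where
  toFun g := pbIso hB hB (g : Equiv.Perm α) (aut_image_eq g)
  map_one' := by
    apply RelIso.ext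
    intro v
    rcases v with _ | a | b
    · rfl
    · rfl
    · show (some (Sum.inr (blockEquiv _ _ b)) : Option (α ⊕ B)) = some (Sum.inr b)
      congr 2
      apply Subtype.ext
      rw [blockEquiv_coe]
      simp
  map_mul' g₁ g₂ := by
    apply RelIso.ext
    intro v
    rcases v with _ | a | b
    · rfl
    · rfl
    · show (some (Sum.inr (blockEquiv _ _ b)) : Option (α ⊕ B))
        = some (Sum.inr (blockEquiv _ _ (blockEquiv _ _ b)))
      congr 2
      apply Subtype.ext
      rw [blockEquiv_coe, blockEquiv_coe, blockEquiv_coe, Finset.image_image]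
      rfl

theorem pbHom_apply (hB : Cfsg.IsSteinerSystem 3 6 B) (g : Cfsg.setSystemAut B)
    (v : Option (α ⊕ B)) :
    pbHom hB g v = pbEquiv (g : Equiv.Perm α) (aut_image_eq g) v := rfl

theorem pbHom_injective (hB : Cfsg.IsSteinerSystem 3 6 B) : Function.Injective (pbHom hB) := by
  intro g g' e
  apply Subtype.ext
  apply Equiv.ext
  intro a
  have e2 := congrArg (fun φ : Cfsg.pointBlockGraph B ≃g Cfsg.pointBlockGraph B =>
    φ (some (Sum.inl a))) e
  have e3 : (some (Sum.inl ((g : Equiv.Perm α) a)) : Option (α ⊕ B))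
      = some (Sum.inl ((g' : Equiv.Perm α) a)) := e2
  exact Sum.inl.inj (Option.some.inj e3)

variable [Fintype B]

/-- The sign of the permutation of the vertices induced by an automorphism of the point-block
graph. -/
def signV (B : Set (Finset α)) [Fintype B] :
    (Cfsg.pointBlockGraph B ≃g Cfsg.pointBlockGraph B) →* ℤˣ :=
  Equiv.Perm.sign.comp
    (MulAction.toPermHom (Cfsg.pointBlockGraph B ≃g Cfsg.pointBlockGraph B) (Option (α ⊕ B)))

theorem signV_pbHom (hB : Cfsg.IsSteinerSystem 3 6 B) (g : Cfsg.setSystemAut B) :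
    signV B (pbHom hB g) = Equiv.Perm.sign (g : Equiv.Perm α)
      * Equiv.Perm.sign (blockEquiv (g : Equiv.Perm α) (aut_image_eq g)) := by
  have h1 : MulAction.toPermHom (Cfsg.pointBlockGraph B ≃g Cfsg.pointBlockGraph B)
      (Option (α ⊕ B)) (pbHom hB g) = pbEquiv (g : Equiv.Perm α) (aut_image_eq g) :=
    Equiv.ext fun v => rfl
  show Equiv.Perm.sign (MulAction.toPermHom (Cfsg.pointBlockGraph B ≃g Cfsg.pointBlockGraph B)
      (Option (α ⊕ B)) (pbHom hB g)) = _
  rw [h1, pbEquiv, Equiv.optionCongr_sign]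
  exact Equiv.Perm.sign_sumCongr _ _

/-- An involutory automorphism fixing exactly 21 blocks induces an even permutation of the
blocks. -/
theorem sign_block_of_21 (hB : Cfsg.IsSteinerSystem 3 6 B) (hα : Fintype.card α = 22)
    (t : Cfsg.setSystemAut B) (ht2 : ∀ a, (t : Equiv.Perm α) ((t : Equiv.Perm α) a) = a)
    (h21 : ((blk B).filter fun c => c.image (t : Equiv.Perm α) = c).card = 21) :
    Equiv.Perm.sign (blockEquiv (t : Equiv.Perm α) (aut_image_eq t)) = 1 := by
  refine sign_of_invol_card_fix_even _ (fun c => ?_) 28 ?_ (by decide)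
  · apply Subtype.ext
    rw [blockEquiv_coe, blockEquiv_coe, Finset.image_image]
    have : ((t : Equiv.Perm α) ∘ (t : Equiv.Perm α) : α → α) = id := funext ht2
    rw [this, Finset.image_id]
  · have h1 : (Finset.univ.filter fun c : B =>
        blockEquiv (t : Equiv.Perm α) (aut_image_eq t) c = c)
        = Finset.univ.filter (fun c : B => (c : Finset α).image (t : Equiv.Perm α) = c) := by
      ext c
      simp only [Finset.mem_filter, Finset.mem_univ, true_and]
      rw [Subtype.ext_iff, blockEquiv_coe]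
    rw [h1, card_filter_blocks B (fun c => c.image (t : Equiv.Perm α) = c), h21, card_blocks_eq,
      s3622_card_blk hB hα]

/-- An even automorphism of the Steiner system induces an even permutation of the vertices. -/
theorem signV_even (hB : Cfsg.IsSteinerSystem 3 6 B) (hα : Fintype.card α = 22)
    (g : Cfsg.setSystemAut B) (hg : Equiv.Perm.sign (g : Equiv.Perm α) = 1) :
    signV B (pbHom hB g) = 1 := by
  have hsimp := evenAut_simple hB hα
  rcases hsimp.eq_bot_or_eq_top_of_normal
    ((signV B).comp ((pbHom hB).comp (Subgroup.inclusion (evenAut_le hB hα)))).ker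
    (MonoidHom.normal_ker _) with h | h
  · exfalso
    have hinj := (MonoidHom.ker_eq_bot_iff _).mp h
    have h1 := Nat.card_le_card_of_injective _ hinj
    rw [card_evenAut hB hα, Nat.card_eq_fintype_card, Fintype.card_units_int] at h1
    omega
  · have hmem : (⟨g.1, mem_evenAut.mpr ⟨hg, g.2⟩⟩ : evenAut B)
        ∈ ((signV B).comp ((pbHom hB).comp (Subgroup.inclusion (evenAut_le hB hα)))).ker := by
      rw [h]
      trivial
    exact MonoidHom.mem_ker.mp hmem

/-- The sign of the permutation of the vertices induced by an automorphism of the Steiner system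
is its sign on the points. -/
theorem signV_pbHom_eq (hB : Cfsg.IsSteinerSystem 3 6 B) (hα : Fintype.card α = 22)
    (g : Cfsg.setSystemAut B) : signV B (pbHom hB g) = Equiv.Perm.sign (g : Equiv.Perm α) := by
  obtain ⟨t, ht, ht2, hs, h21⟩ := exists_baer_21 hB hα
  have ht0 : signV B (pbHom hB ⟨t, ht⟩) = -1 := by
    rw [signV_pbHom, sign_block_of_21 hB hα ⟨t, ht⟩ ht2 h21, mul_one]
    exact hs
  rcases Int.units_eq_one_or (Equiv.Perm.sign (g : Equiv.Perm α)) with h | h
  · rw [h]
    exact signV_even hB hα g h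
  · have key : signV B (pbHom hB g)
        = signV B (pbHom hB ⟨t, ht⟩) * signV B (pbHom hB ((⟨t, ht⟩ : Cfsg.setSystemAut B)⁻¹ * g)) := by
      rw [← map_mul, ← map_mul, mul_inv_cancel_left]
    have h2 : Equiv.Perm.sign ((((⟨t, ht⟩ : Cfsg.setSystemAut B)⁻¹ * g :
        Cfsg.setSystemAut B) : Equiv.Perm α)) = 1 := by
      show Equiv.Perm.sign (t⁻¹ * (g : Equiv.Perm α)) = 1
      rw [map_mul, map_inv, hs, h]
      rfl
    rw [key, ht0, signV_even hB hα _ h2, h, mul_one]

end PbHom

section HS

variable {α : Type*} [Fintype α] [DecidableEq α] {B : Set (Finset α)}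

/-- The automorphism group of the point-block graph of an S(3, 6, 22) has a simple subgroup of
order 44352000. -/
theorem exists_hs (hB : Cfsg.IsSteinerSystem 3 6 B) (hα : Fintype.card α = 22) :
    ∃ H : Subgroup (Cfsg.pointBlockGraph B ≃g Cfsg.pointBlockGraph B),
      IsSimpleGroup H ∧ Nat.card H = 44352000 := by
  classical
  have : Fintype B := Fintype.ofFinite B
  have hA : Nat.card (Cfsg.pointBlockGraph B ≃g Cfsg.pointBlockGraph B) = 88704000 :=
    card_aut_pointBlockGraph hB hα
  have hfin : Finite (Cfsg.pointBlockGraph B ≃g Cfsg.pointBlockGraph B) :=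
    Nat.finite_of_card_ne_zero (by rw [hA]; norm_num)
  have hVcard : Nat.card (Option (α ⊕ B)) = 100 := by
    rw [Nat.card_eq_fintype_card]
    exact (Cfsg.Agent.S0428.result hα hB).card
  obtain ⟨t, ht, ht2, hs, h21⟩ := exists_baer_21 hB hα
  have hsign := signV_pbHom_eq (B := B) hB hα
  have hφ₀ : signV B (pbHom hB ⟨t, ht⟩) = -1 := by
    rw [hsign]
    exact hs
  -- the order
  have hidx : (signV B).ker.index = 2 := by
    rw [Subgroup.index_ker]
    have hr : (signV B).range = ⊤ := by
      rw [Subgroup.eq_top_iff']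
      intro u
      rcases Int.units_eq_one_or u with rfl | rfl
      · exact one_mem _
      · exact ⟨pbHom hB ⟨t, ht⟩, hφ₀⟩
    rw [hr, Subgroup.card_top, Nat.card_eq_fintype_card, Fintype.card_units_int]
  have hHcard : Nat.card (signV B).ker = 44352000 := by
    have h1 := Subgroup.card_mul_index (signV B).ker
    rw [hidx, hA] at h1
    omega
  refine ⟨(signV B).ker, ?_, hHcard⟩
  -- transitivity
  have htoNone : ∀ v : Option (α ⊕ B), ∃ h : (signV B).ker, h • v = none := by
    intro v
    obtain ⟨ψ, hψ⟩ := exists_aut_to_none hB hα v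
    rcases Int.units_eq_one_or (signV B ψ) with h | h
    · exact ⟨⟨ψ, MonoidHom.mem_ker.mpr h⟩, hψ⟩
    · refine ⟨⟨pbHom hB ⟨t, ht⟩ * ψ, MonoidHom.mem_ker.mpr (by rw [map_mul, hφ₀, h]; rfl)⟩, ?_⟩
      show pbHom hB ⟨t, ht⟩ (ψ v) = none
      rw [hψ]
      rfl
  have htrans : MulAction.IsPretransitive (signV B).ker (Option (α ⊕ B)) := by
    refine ⟨fun x y => ?_⟩
    obtain ⟨h₁, e₁⟩ := htoNone x
    obtain ⟨h₂, e₂⟩ := htoNone y
    refine ⟨h₂⁻¹ * h₁, ?_⟩
    rw [mul_smul, e₁, ← e₂, inv_smul_smul]
  -- the stabilizer of the extra vertex in the full automorphism group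
  have hstabA : (pbHom hB).range = MulAction.stabilizer
      (Cfsg.pointBlockGraph B ≃g Cfsg.pointBlockGraph B) (none : Option (α ⊕ B)) := by
    apply Subgroup.eq_of_le_of_card_ge
    · rintro _ ⟨g, rfl⟩
      exact MulAction.mem_stabilizer_iff.mpr rfl
    · rw [card_stab_none hB hα, ← s3622_card_aut hB hα]
      exact (Nat.card_congr (MonoidHom.ofInjective (pbHom_injective hB)).toEquiv).le
  -- the stabilizer in the subgroup is the image of the even automorphisms
  have hjmem : ∀ g : evenAut B,
      ((pbHom hB).comp (Subgroup.inclusion (evenAut_le hB hα))) g ∈ (signV B).ker := by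
    intro g
    refine MonoidHom.mem_ker.mpr ?_
    show signV B (pbHom hB (Subgroup.inclusion (evenAut_le hB hα) g)) = 1
    rw [hsign]
    exact (mem_evenAut.mp g.2).1
  have hjmem2 : ∀ g : evenAut B,
      (((pbHom hB).comp (Subgroup.inclusion (evenAut_le hB hα))).codRestrict (signV B).ker hjmem) g
        ∈ MulAction.stabilizer (signV B).ker (none : Option (α ⊕ B)) := by
    intro g
    exact MulAction.mem_stabilizer_iff.mpr rfl
  have hjsurj : Function.Surjective
      ((((pbHom hB).comp (Subgroup.inclusion (evenAut_le hB hα))).codRestrict (signV B).ker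
        hjmem).codRestrict (MulAction.stabilizer (signV B).ker (none : Option (α ⊕ B)))
          hjmem2) := by
    intro s
    have h1 : (s.1.1 : Cfsg.pointBlockGraph B ≃g Cfsg.pointBlockGraph B) ∈ (pbHom hB).range := by
      rw [hstabA]
      exact MulAction.mem_stabilizer_iff.mpr (MulAction.mem_stabilizer_iff.mp s.2)
    obtain ⟨g, hg⟩ := h1
    have h2 : Equiv.Perm.sign (g : Equiv.Perm α) = 1 := by
      rw [← hsign, hg]
      exact MonoidHom.mem_ker.mp s.1.2
    refine ⟨⟨g.1, mem_evenAut.mpr ⟨h2, g.2⟩⟩, ?_⟩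
    apply Subtype.ext
    apply Subtype.ext
    exact hg
  have hjinj : Function.Injective
      ((((pbHom hB).comp (Subgroup.inclusion (evenAut_le hB hα))).codRestrict (signV B).ker
        hjmem).codRestrict (MulAction.stabilizer (signV B).ker (none : Option (α ⊕ B)))
          hjmem2) := by
    intro g g' e
    have e1 : pbHom hB (Subgroup.inclusion (evenAut_le hB hα) g)
        = pbHom hB (Subgroup.inclusion (evenAut_le hB hα) g') :=
      congrArg (fun s : MulAction.stabilizer (signV B).ker (none : Option (α ⊕ B)) =>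
        (s.1.1 : Cfsg.pointBlockGraph B ≃g Cfsg.pointBlockGraph B)) e
    have e2 := pbHom_injective hB e1
    exact Subtype.ext (congrArg (fun s : Cfsg.setSystemAut B => (s : Equiv.Perm α)) e2)
  have hsimpStab : IsSimpleGroup (MulAction.stabilizer (signV B).ker (none : Option (α ⊕ B))) := by
    have := evenAut_simple hB hα
    have : Nontrivial (MulAction.stabilizer (signV B).ker (none : Option (α ⊕ B))) :=
      hjinj.nontrivial
    exact IsSimpleGroup.isSimpleGroup_of_surjective _ hjsurj
  -- primitivity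
  have hinv' : ∀ S : Set (Option (α ⊕ B)),
      (∀ g ∈ MulAction.stabilizer (signV B).ker (none : Option (α ⊕ B)), ∀ s ∈ S, g • s ∈ S) →
      ∀ (g : Equiv.Perm α) (hg : g ∈ evenAut B), ∀ v ∈ S,
        pbEquiv g (aut_image_eq ⟨g, evenAut_le hB hα hg⟩) v ∈ S := by
    intro S hinv g hg v hv
    exact hinv _ (hjmem2 ⟨g, hg⟩) v hv
  have hprim : MulAction.IsPreprimitive (signV B).ker (Option (α ⊕ B)) := by
    apply isPreprimitive_of_stab_invariant (none : Option (α ⊕ B))
    intro S hnone hinv hdvd
    have hpts : ∀ p p' : α, some (Sum.inl p) ∈ S → some (Sum.inl p') ∈ S := by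
      intro p p' hp
      have := evenAut_two_trans hB hα
      have htr : MulAction.IsPretransitive (evenAut B) α :=
        MulAction.isPretransitive_of_is_two_pretransitive
      obtain ⟨g, hg⟩ := MulAction.exists_smul_eq (evenAut B) p p'
      have hg' : (g : Equiv.Perm α) p = p' := hg
      have h1 := hinv' S hinv g.1 g.2 _ hp
      rwa [pbEquiv_inl, hg'] at h1
    have hblks : ∀ c c' : B, some (Sum.inr c) ∈ S → some (Sum.inr c') ∈ S := by
      intro c c' hc
      obtain ⟨g, hg, himg⟩ := evenAut_block_trans hB hα c.2 c'.2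
      have h1 := hinv' S hinv g hg _ hc
      rw [pbEquiv_inr] at h1
      have e : blockEquiv g (aut_image_eq ⟨g, evenAut_le hB hα hg⟩) c = c' := Subtype.ext himg
      rwa [e] at h1
    have hcount : S.ncard = (Finset.univ.filter (· ∈ S)).card := by
      rw [← Set.ncard_coe_finset]
      congr 1
      ext v
      simp
    rw [hVcard, hcount, card_filter_option_sum] at hdvd
    rw [if_pos hnone] at hdvd
    by_cases h1 : ∃ p : α, some (Sum.inl p) ∈ S
    · obtain ⟨p, hp⟩ := h1
      have hall : ∀ p', some (Sum.inl p') ∈ S := fun p' => hpts p p' hp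
      have c1 : (Finset.univ.filter fun p : α => some (Sum.inl p) ∈ S).card = 22 := by
        rw [Finset.filter_true_of_mem (fun p _ => hall p), Finset.card_univ, hα]
      by_cases h2 : ∃ c : B, some (Sum.inr c) ∈ S
      · obtain ⟨c, hc⟩ := h2
        right
        ext v
        simp only [Set.mem_univ, iff_true]
        rcases v with _ | p' | c'
        · exact hnone
        · exact hall p'
        · exact hblks c c' hc
      · exfalso
        push Not at h2
        have c2 : (Finset.univ.filter fun c : B => some (Sum.inr c) ∈ S).card = 0 := by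
          rw [Finset.card_eq_zero, Finset.filter_eq_empty_iff]
          exact fun c _ => h2 c
        rw [c1, c2] at hdvd
        omega
    · push Not at h1
      have c1 : (Finset.univ.filter fun p : α => some (Sum.inl p) ∈ S).card = 0 := by
        rw [Finset.card_eq_zero, Finset.filter_eq_empty_iff]
        exact fun p _ => h1 p
      by_cases h2 : ∃ c : B, some (Sum.inr c) ∈ S
      · exfalso
        obtain ⟨c, hc⟩ := h2
        have c2 : (Finset.univ.filter fun c : B => some (Sum.inr c) ∈ S).card = 77 := by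
          rw [Finset.filter_true_of_mem (fun c' _ => hblks c c' hc), Finset.card_univ,
            card_blocks_eq, s3622_card_blk hB hα]
        rw [c1, c2] at hdvd
        omega
      · left
        push Not at h2
        ext v
        rw [Set.mem_singleton_iff]
        rcases v with _ | p' | c'
        · exact ⟨fun _ => rfl, fun _ => hnone⟩
        · exact ⟨fun h => absurd h (h1 p'), fun h => by simp at h⟩
        · exact ⟨fun h => absurd h (h2 c'), fun h => by simp at h⟩
  exact simple_of_prim_of_stab_simple (none : Option (α ⊕ B)) hsimpStab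
    (fun N hN htr hreg => no_regular_normal_100 hVcard (none : Option (α ⊕ B)) N hN htr hreg)

end HS

end Cfsg.Agent.Lib.helper10
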