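import Mathlib
import Cfsg.Agent.Lib.helper10.PermSimple
import Cfsg.Agent.Lib.helper10.J2Data

set_option autoImplicit false
set_option maxRecDepth 100000

namespace Cfsg.Agent.Lib.helper10

theorem j2_head0 : chkHead [] j2L0 = true := by decide +kernel

theorem j2_nest0_c0 : allBelow (fun i => (chkNest j2L0.S j2L0) (0 + i)) 100 = true := by decide +kernel

theorem j2_vert0_c0 : allBelow (fun i => (chkVertex j2L0 [j2L1, j2L2, j2L3, j2L4]) (0 + i)) 100 = true := by decide +kernel

theorem j2_head1 : chkHead [0] j2L1 = true := by decide +kernel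

theorem j2_nest1_c0 : allBelow (fun i => (chkNest j2L0.S j2L1) (0 + i)) 100 = true := by decide +kernel

theorem j2_vert1_c0 : allBelow (fun i => (chkVertex j2L1 [j2L2, j2L3, j2L4]) (0 + i)) 100 = true := by decide +kernel

theorem j2_head2 : chkHead [0, 1] j2L2 = true := by decide +kernel

theorem j2_nest2_c0 : allBelow (fun i => (chkNest j2L1.S j2L2) (0 + i)) 100 = true := by decide +kernel

theorem j2_vert2_c0 : allBelow (fun i => (chkVertex j2L2 [j2L3, j2L4]) (0 + i)) 100 = true := by decide +kernel

theorem j2_head3 : chkHead [0, 1, 2] j2L3 = true := by decide +kernel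

theorem j2_nest3_c0 : allBelow (fun i => (chkNest j2L2.S j2L3) (0 + i)) 100 = true := by decide +kernel

theorem j2_vert3_c0 : allBelow (fun i => (chkVertex j2L3 [j2L4]) (0 + i)) 100 = true := by decide +kernel

theorem j2_head4 : chkHead [0, 1, 2, 3] j2L4 = true := by decide +kernel

theorem j2_nest4_c0 : allBelow (fun i => (chkNest j2L3.S j2L4) (0 + i)) 100 = true := by decide +kernel

theorem j2_vert4_c0 : allBelow (fun i => (chkVertex j2L4 []) (0 + i)) 100 = true := by decide +kernel

theorem j2_inv_c0 : allBelow (fun i => (fun v => chkInvV j2L0.S.act j2row 7 100 36 0 v && chkInvV j2L0.S.act j2row 7 100 36 2 v) (0 + i)) 100 = true := by decide +kernel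

theorem j2_prop_c0 : allBelow (fun i => (chkPropV (fun v => rowMask 7 36 (j2row v)) 100 8 51 j2ptab) (5 + i)) 95 = true := by decide +kernel

theorem j2_full_c0 : allBelow (fun i => (fun v => plook 13 j2tbl0 v != 0) (0 + i)) 100 = true := by decide +kernel

theorem j2_orb_c0 : allBelow (fun i => (chkOrbV j2L1.S.act [0, 1, 5] 2 j2ctab 2 11 j2otab) (0 + i)) 100 = true := by decide +kernel

theorem j2_cls : allBelow (fun v => decide (plook 2 j2ctab v < 3) && (decide (plook 2 j2ctab v = 0) == decide (v = 0))) 100 = true := by decide +kernel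

theorem j2_sizes : allBelow (fun j => cntBelow (fun v => plook 2 j2ctab v == j) 100 == ([1, 36, 63] : List ℕ).getD j 0) 3 = true := by decide +kernel

theorem j2_arith : chkArith (fun j => ([1, 36, 63] : List ℕ).getD j 0) 100 3 = true := by decide +kernel

theorem j2_card : ([j2L0, j2L1, j2L2, j2L3, j2L4].map orbCard).prod = 100 * 6048 := by decide +kernel

theorem j2_ap_c0 : allBelow (fun i => (fun x => pact j2L0.S.act (List.replicate 7 0) x == x) (0 + i)) 100 = true := by decide +kernel

theorem j2_bp_c0 : allBelow (fun i => (fun x => pact j2L0.S.act (List.replicate 5 2) x == x) (0 + i)) 100 = true := by decide +kernel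

theorem j2_ane : j2L0.S.act 0 0 ≠ 0 := by decide +kernel

theorem j2_bne : j2L0.S.act 2 0 ≠ 0 := by decide +kernel

theorem j2_fix1 : 0 < cntBelow (fun x => j2L0.S.act 0 x == x) 100 := by decide +kernel

theorem j2_fix2 : cntBelow (fun x => j2L0.S.act 0 x == x) 100 < 5 := by decide +kernel

end Cfsg.Agent.Lib.helper10
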