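import Mathlib
import Cfsg.Agent.Lib.helper10.PermSimple
import Cfsg.Agent.Lib.helper10.J2Chk0

set_option autoImplicit false
set_option maxRecDepth 100000

namespace Cfsg.Agent.Lib.helper10

theorem j2_nest0 : ∀ x, 0 ≤ x → x < 100 → (chkNest j2L0.S j2L0) x = true := by
  intro x hlo hx
  exact allFrom_sound (f := chkNest j2L0.S j2L0) j2_nest0_c0 x (by omega) (by omega)

theorem j2_nest0' : ∀ x, x < 100 → chkNest j2L0.S j2L0 x = true := fun x hx => j2_nest0 x (Nat.zero_le _) hx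

theorem j2_vert0 : ∀ x, 0 ≤ x → x < 100 → (chkVertex j2L0 [j2L1, j2L2, j2L3, j2L4]) x = true := by
  intro x hlo hx
  exact allFrom_sound (f := chkVertex j2L0 [j2L1, j2L2, j2L3, j2L4]) j2_vert0_c0 x (by omega) (by omega)

theorem j2_vert0' : ∀ v, v < 100 → chkVertex j2L0 [j2L1, j2L2, j2L3, j2L4] v = true := fun x hx => j2_vert0 x (Nat.zero_le _) hx

theorem j2_nest1 : ∀ x, 0 ≤ x → x < 100 → (chkNest j2L0.S j2L1) x = true := by
  intro x hlo hx
  exact allFrom_sound (f := chkNest j2L0.S j2L1) j2_nest1_c0 x (by omega) (by omega)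

theorem j2_nest1' : ∀ x, x < 100 → chkNest j2L0.S j2L1 x = true := fun x hx => j2_nest1 x (Nat.zero_le _) hx

theorem j2_vert1 : ∀ x, 0 ≤ x → x < 100 → (chkVertex j2L1 [j2L2, j2L3, j2L4]) x = true := by
  intro x hlo hx
  exact allFrom_sound (f := chkVertex j2L1 [j2L2, j2L3, j2L4]) j2_vert1_c0 x (by omega) (by omega)

theorem j2_vert1' : ∀ v, v < 100 → chkVertex j2L1 [j2L2, j2L3, j2L4] v = true := fun x hx => j2_vert1 x (Nat.zero_le _) hx

theorem j2_nest2 : ∀ x, 0 ≤ x → x < 100 → (chkNest j2L1.S j2L2) x = true := by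
  intro x hlo hx
  exact allFrom_sound (f := chkNest j2L1.S j2L2) j2_nest2_c0 x (by omega) (by omega)

theorem j2_nest2' : ∀ x, x < 100 → chkNest j2L1.S j2L2 x = true := fun x hx => j2_nest2 x (Nat.zero_le _) hx

theorem j2_vert2 : ∀ x, 0 ≤ x → x < 100 → (chkVertex j2L2 [j2L3, j2L4]) x = true := by
  intro x hlo hx
  exact allFrom_sound (f := chkVertex j2L2 [j2L3, j2L4]) j2_vert2_c0 x (by omega) (by omega)

theorem j2_vert2' : ∀ v, v < 100 → chkVertex j2L2 [j2L3, j2L4] v = true := fun x hx => j2_vert2 x (Nat.zero_le _) hx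

theorem j2_nest3 : ∀ x, 0 ≤ x → x < 100 → (chkNest j2L2.S j2L3) x = true := by
  intro x hlo hx
  exact allFrom_sound (f := chkNest j2L2.S j2L3) j2_nest3_c0 x (by omega) (by omega)

theorem j2_nest3' : ∀ x, x < 100 → chkNest j2L2.S j2L3 x = true := fun x hx => j2_nest3 x (Nat.zero_le _) hx

theorem j2_vert3 : ∀ x, 0 ≤ x → x < 100 → (chkVertex j2L3 [j2L4]) x = true := by
  intro x hlo hx
  exact allFrom_sound (f := chkVertex j2L3 [j2L4]) j2_vert3_c0 x (by omega) (by omega)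

theorem j2_vert3' : ∀ v, v < 100 → chkVertex j2L3 [j2L4] v = true := fun x hx => j2_vert3 x (Nat.zero_le _) hx

theorem j2_nest4 : ∀ x, 0 ≤ x → x < 100 → (chkNest j2L3.S j2L4) x = true := by
  intro x hlo hx
  exact allFrom_sound (f := chkNest j2L3.S j2L4) j2_nest4_c0 x (by omega) (by omega)

theorem j2_nest4' : ∀ x, x < 100 → chkNest j2L3.S j2L4 x = true := fun x hx => j2_nest4 x (Nat.zero_le _) hx

theorem j2_vert4 : ∀ x, 0 ≤ x → x < 100 → (chkVertex j2L4 []) x = true := by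
  intro x hlo hx
  exact allFrom_sound (f := chkVertex j2L4 []) j2_vert4_c0 x (by omega) (by omega)

theorem j2_vert4' : ∀ v, v < 100 → chkVertex j2L4 [] v = true := fun x hx => j2_vert4 x (Nat.zero_le _) hx

theorem j2_chain : ChainOK j2L0.S [] [j2L0, j2L1, j2L2, j2L3, j2L4] :=
  ⟨j2_head0, j2_nest0', j2_vert0', j2_head1, j2_nest1', j2_vert1', j2_head2, j2_nest2', j2_vert2', j2_head3, j2_nest3', j2_vert3', j2_head4, j2_nest4', j2_vert4', trivial⟩

theorem j2_inv : ∀ x, 0 ≤ x → x < 100 → (fun v => chkInvV j2L0.S.act j2row 7 100 36 0 v && chkInvV j2L0.S.act j2row 7 100 36 2 v) x = true := by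
  intro x hlo hx
  exact allFrom_sound (f := fun v => chkInvV j2L0.S.act j2row 7 100 36 0 v && chkInvV j2L0.S.act j2row 7 100 36 2 v) j2_inv_c0 x (by omega) (by omega)

theorem j2_hinv : ∀ j, j < j2L0.S.g / 2 → ∀ v, v < 100 → chkInvV j2L0.S.act j2row 7 100 36 (2 * j) v = true := by
  intro j hj v hv
  have hj' : j < 2 := hj
  have h := j2_inv v (Nat.zero_le _) hv
  simp only [Bool.and_eq_true] at h
  interval_cases j
  · exact h.1
  · exact h.2

theorem j2_prop : ∀ x, 5 ≤ x → x < 100 → (chkPropV (fun v => rowMask 7 36 (j2row v)) 100 8 51 j2ptab) x = true := by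
  intro x hlo hx
  exact allFrom_sound (f := chkPropV (fun v => rowMask 7 36 (j2row v)) 100 8 51 j2ptab) j2_prop_c0 x (by omega) (by omega)

theorem j2_full : ∀ x, 0 ≤ x → x < 100 → (fun v => plook 13 j2tbl0 v != 0) x = true := by
  intro x hlo hx
  exact allFrom_sound (f := fun v => plook 13 j2tbl0 v != 0) j2_full_c0 x (by omega) (by omega)

theorem j2_hfull : ∀ v, v < 100 → plook j2L0.W j2L0.tbl v ≠ 0 := fun v hv => by
  have := j2_full v (Nat.zero_le _) hv
  show plook 13 j2tbl0 v ≠ 0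
  simpa using this

theorem j2_orb : ∀ x, 0 ≤ x → x < 100 → (chkOrbV j2L1.S.act [0, 1, 5] 2 j2ctab 2 11 j2otab) x = true := by
  intro x hlo hx
  exact allFrom_sound (f := chkOrbV j2L1.S.act [0, 1, 5] 2 j2ctab 2 11 j2otab) j2_orb_c0 x (by omega) (by omega)

theorem j2_ap : ∀ x, 0 ≤ x → x < 100 → (fun x => pact j2L0.S.act (List.replicate 7 0) x == x) x = true := by
  intro x hlo hx
  exact allFrom_sound (f := fun x => pact j2L0.S.act (List.replicate 7 0) x == x) j2_ap_c0 x (by omega) (by omega)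

theorem j2_bp : ∀ x, 0 ≤ x → x < 100 → (fun x => pact j2L0.S.act (List.replicate 5 2) x == x) x = true := by
  intro x hlo hx
  exact allFrom_sound (f := fun x => pact j2L0.S.act (List.replicate 5 2) x == x) j2_bp_c0 x (by omega) (by omega)

theorem j2_hb : j2L0.b < 100 := by decide

/-- The group of the certificate is simple of order `100 * 6048`, transitive, with point
stabilisers of order `6048`. -/
theorem j2_cert : IsSimpleGroup j2L0.S.H ∧ Nat.card j2L0.S.H = 100 * 6048 ∧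
    MulAction.IsPretransitive j2L0.S.H (Fin 100) ∧
    Nat.card (MulAction.stabilizer j2L0.S.H (⟨j2L0.b, j2_hb⟩ : Fin 100)) = 6048 :=
  group_cert j2L0 j2L1 [j2L2, j2L3, j2L4] j2_chain 5 (by decide) j2row 7 36 8 51 j2ptab
    j2_hinv j2_prop rfl j2_hb j2_hfull [0, 1, 5] [1, 36, 63] 2 j2ctab 2 11 j2otab
    (fun v hv => j2_orb v (Nat.zero_le _) hv)
    (getD_lt_of_all _ _ (by norm_num) (by decide))
    (cls_of_chk _ _ _ _ _ j2_cls).1 (cls_of_chk _ _ _ _ _ j2_cls).2
    (sizes_of_chk _ _ _ _ _ j2_sizes) j2_arith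
    6048 5 7 2 4 (by norm_num) (by norm_num) j2_card (by norm_num) (by norm_num) (by norm_num) (by norm_num)
    (fun x hx => by simpa using j2_ap x (Nat.zero_le _) hx) ⟨0, by norm_num, j2_ane⟩
    (fun x hx => by simpa using j2_bp x (Nat.zero_le _) hx) ⟨0, by norm_num, j2_bne⟩
    j2_fix1 j2_fix2 (by norm_num)

end Cfsg.Agent.Lib.helper10
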