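import Mathlib
import Cfsg.Agent.Lib.helper10.PermSimple
import Cfsg.Agent.Lib.helper10.J3Data

set_option autoImplicit false
set_option maxRecDepth 100000

namespace Cfsg.Agent.Lib.helper10

theorem j3_head0 : chkHead [] j3L0 = true := by decide +kernel

theorem j3_nest0_c0 : allBelow (fun i => (chkNest j3L0.S j3L0) (0 + i)) 2100 = true := by decide +kernel

theorem j3_nest0_c1 : allBelow (fun i => (chkNest j3L0.S j3L0) (2100 + i)) 2100 = true := by decide +kernel

theorem j3_nest0_c2 : allBelow (fun i => (chkNest j3L0.S j3L0) (4200 + i)) 1956 = true := by decide +kernel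

theorem j3_vert0_c0 : allBelow (fun i => (chkVertex j3L0 [j3L1, j3L2, j3L3]) (0 + i)) 1100 = true := by decide +kernel

theorem j3_vert0_c1 : allBelow (fun i => (chkVertex j3L0 [j3L1, j3L2, j3L3]) (1100 + i)) 1100 = true := by decide +kernel

theorem j3_vert0_c2 : allBelow (fun i => (chkVertex j3L0 [j3L1, j3L2, j3L3]) (2200 + i)) 1100 = true := by decide +kernel

theorem j3_vert0_c3 : allBelow (fun i => (chkVertex j3L0 [j3L1, j3L2, j3L3]) (3300 + i)) 1100 = true := by decide +kernel

theorem j3_vert0_c4 : allBelow (fun i => (chkVertex j3L0 [j3L1, j3L2, j3L3]) (4400 + i)) 1100 = true := by decide +kernel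

theorem j3_vert0_c5 : allBelow (fun i => (chkVertex j3L0 [j3L1, j3L2, j3L3]) (5500 + i)) 656 = true := by decide +kernel

end Cfsg.Agent.Lib.helper10
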