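import Mathlib
import Cfsg.Agent.Lib.helper10.PermSimple
import Cfsg.Agent.Lib.helper10.J3Data

set_option autoImplicit false
set_option maxRecDepth 100000

namespace Cfsg.Agent.Lib.helper10

theorem j3_head1 : chkHead [0] j3L1 = true := by decide +kernel

theorem j3_nest1_c0 : allBelow (fun i => (chkNest j3L0.S j3L1) (0 + i)) 2100 = true := by decide +kernel

theorem j3_nest1_c1 : allBelow (fun i => (chkNest j3L0.S j3L1) (2100 + i)) 2100 = true := by decide +kernel

theorem j3_nest1_c2 : allBelow (fun i => (chkNest j3L0.S j3L1) (4200 + i)) 1956 = true := by decide +kernel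

theorem j3_vert1_c0 : allBelow (fun i => (chkVertex j3L1 [j3L2, j3L3]) (0 + i)) 6156 = true := by decide +kernel

theorem j3_head2 : chkHead [0, 1] j3L2 = true := by decide +kernel

theorem j3_nest2_c0 : allBelow (fun i => (chkNest j3L1.S j3L2) (0 + i)) 2100 = true := by decide +kernel

theorem j3_nest2_c1 : allBelow (fun i => (chkNest j3L1.S j3L2) (2100 + i)) 2100 = true := by decide +kernel

theorem j3_nest2_c2 : allBelow (fun i => (chkNest j3L1.S j3L2) (4200 + i)) 1956 = true := by decide +kernel

theorem j3_vert2_c0 : allBelow (fun i => (chkVertex j3L2 [j3L3]) (0 + i)) 6156 = true := by decide +kernel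

end Cfsg.Agent.Lib.helper10
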