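import Mathlib
import Cfsg.Agent.Lib.helper10.PermSimple
import Cfsg.Agent.Lib.helper10.J3Data

set_option autoImplicit false
set_option maxRecDepth 100000

namespace Cfsg.Agent.Lib.helper10

theorem j3_head3 : chkHead [0, 1, 2] j3L3 = true := by decide +kernel

theorem j3_nest3_c0 : allBelow (fun i => (chkNest j3L2.S j3L3) (0 + i)) 2100 = true := by decide +kernel

theorem j3_nest3_c1 : allBelow (fun i => (chkNest j3L2.S j3L3) (2100 + i)) 2100 = true := by decide +kernel

theorem j3_nest3_c2 : allBelow (fun i => (chkNest j3L2.S j3L3) (4200 + i)) 1956 = true := by decide +kernel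

theorem j3_vert3_c0 : allBelow (fun i => (chkVertex j3L3 []) (0 + i)) 6156 = true := by decide +kernel

theorem j3_inv_c0 : allBelow (fun i => (fun v => chkInvV j3L0.S.act j3row 13 6156 85 0 v && chkInvV j3L0.S.act j3row 13 6156 85 2 v) (0 + i)) 250 = true := by decide +kernel

theorem j3_inv_c1 : allBelow (fun i => (fun v => chkInvV j3L0.S.act j3row 13 6156 85 0 v && chkInvV j3L0.S.act j3row 13 6156 85 2 v) (250 + i)) 250 = true := by decide +kernel

theorem j3_inv_c2 : allBelow (fun i => (fun v => chkInvV j3L0.S.act j3row 13 6156 85 0 v && chkInvV j3L0.S.act j3row 13 6156 85 2 v) (500 + i)) 250 = true := by decide +kernel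

theorem j3_inv_c3 : allBelow (fun i => (fun v => chkInvV j3L0.S.act j3row 13 6156 85 0 v && chkInvV j3L0.S.act j3row 13 6156 85 2 v) (750 + i)) 250 = true := by decide +kernel

theorem j3_inv_c4 : allBelow (fun i => (fun v => chkInvV j3L0.S.act j3row 13 6156 85 0 v && chkInvV j3L0.S.act j3row 13 6156 85 2 v) (1000 + i)) 250 = true := by decide +kernel

end Cfsg.Agent.Lib.helper10
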