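import Mathlib
import Cfsg.Agent.Lib.helper10.PermSimple
import Cfsg.Agent.Lib.helper10.J3Data

set_option autoImplicit false
set_option maxRecDepth 100000

namespace Cfsg.Agent.Lib.helper10

theorem j3_inv_c5 : allBelow (fun i => (fun v => chkInvV j3L0.S.act j3row 13 6156 85 0 v && chkInvV j3L0.S.act j3row 13 6156 85 2 v) (1250 + i)) 250 = true := by decide +kernel

theorem j3_inv_c6 : allBelow (fun i => (fun v => chkInvV j3L0.S.act j3row 13 6156 85 0 v && chkInvV j3L0.S.act j3row 13 6156 85 2 v) (1500 + i)) 250 = true := by decide +kernel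

theorem j3_inv_c7 : allBelow (fun i => (fun v => chkInvV j3L0.S.act j3row 13 6156 85 0 v && chkInvV j3L0.S.act j3row 13 6156 85 2 v) (1750 + i)) 250 = true := by decide +kernel

theorem j3_inv_c8 : allBelow (fun i => (fun v => chkInvV j3L0.S.act j3row 13 6156 85 0 v && chkInvV j3L0.S.act j3row 13 6156 85 2 v) (2000 + i)) 250 = true := by decide +kernel

theorem j3_inv_c9 : allBelow (fun i => (fun v => chkInvV j3L0.S.act j3row 13 6156 85 0 v && chkInvV j3L0.S.act j3row 13 6156 85 2 v) (2250 + i)) 250 = true := by decide +kernel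

theorem j3_inv_c10 : allBelow (fun i => (fun v => chkInvV j3L0.S.act j3row 13 6156 85 0 v && chkInvV j3L0.S.act j3row 13 6156 85 2 v) (2500 + i)) 250 = true := by decide +kernel

theorem j3_inv_c11 : allBelow (fun i => (fun v => chkInvV j3L0.S.act j3row 13 6156 85 0 v && chkInvV j3L0.S.act j3row 13 6156 85 2 v) (2750 + i)) 250 = true := by decide +kernel

theorem j3_inv_c12 : allBelow (fun i => (fun v => chkInvV j3L0.S.act j3row 13 6156 85 0 v && chkInvV j3L0.S.act j3row 13 6156 85 2 v) (3000 + i)) 250 = true := by decide +kernel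

theorem j3_inv_c13 : allBelow (fun i => (fun v => chkInvV j3L0.S.act j3row 13 6156 85 0 v && chkInvV j3L0.S.act j3row 13 6156 85 2 v) (3250 + i)) 250 = true := by decide +kernel

theorem j3_inv_c14 : allBelow (fun i => (fun v => chkInvV j3L0.S.act j3row 13 6156 85 0 v && chkInvV j3L0.S.act j3row 13 6156 85 2 v) (3500 + i)) 250 = true := by decide +kernel

end Cfsg.Agent.Lib.helper10
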