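import Mathlib
import Cfsg.Agent.Lib.helper10.PermSimple
import Cfsg.Agent.Lib.helper10.J3Data

set_option autoImplicit false
set_option maxRecDepth 100000

namespace Cfsg.Agent.Lib.helper10

theorem j3_inv_c15 : allBelow (fun i => (fun v => chkInvV j3L0.S.act j3row 13 6156 85 0 v && chkInvV j3L0.S.act j3row 13 6156 85 2 v) (3750 + i)) 250 = true := by decide +kernel

theorem j3_inv_c16 : allBelow (fun i => (fun v => chkInvV j3L0.S.act j3row 13 6156 85 0 v && chkInvV j3L0.S.act j3row 13 6156 85 2 v) (4000 + i)) 250 = true := by decide +kernel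

theorem j3_inv_c17 : allBelow (fun i => (fun v => chkInvV j3L0.S.act j3row 13 6156 85 0 v && chkInvV j3L0.S.act j3row 13 6156 85 2 v) (4250 + i)) 250 = true := by decide +kernel

theorem j3_inv_c18 : allBelow (fun i => (fun v => chkInvV j3L0.S.act j3row 13 6156 85 0 v && chkInvV j3L0.S.act j3row 13 6156 85 2 v) (4500 + i)) 250 = true := by decide +kernel

theorem j3_inv_c19 : allBelow (fun i => (fun v => chkInvV j3L0.S.act j3row 13 6156 85 0 v && chkInvV j3L0.S.act j3row 13 6156 85 2 v) (4750 + i)) 250 = true := by decide +kernel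

theorem j3_inv_c20 : allBelow (fun i => (fun v => chkInvV j3L0.S.act j3row 13 6156 85 0 v && chkInvV j3L0.S.act j3row 13 6156 85 2 v) (5000 + i)) 250 = true := by decide +kernel

theorem j3_inv_c21 : allBelow (fun i => (fun v => chkInvV j3L0.S.act j3row 13 6156 85 0 v && chkInvV j3L0.S.act j3row 13 6156 85 2 v) (5250 + i)) 250 = true := by decide +kernel

theorem j3_inv_c22 : allBelow (fun i => (fun v => chkInvV j3L0.S.act j3row 13 6156 85 0 v && chkInvV j3L0.S.act j3row 13 6156 85 2 v) (5500 + i)) 250 = true := by decide +kernel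

theorem j3_inv_c23 : allBelow (fun i => (fun v => chkInvV j3L0.S.act j3row 13 6156 85 0 v && chkInvV j3L0.S.act j3row 13 6156 85 2 v) (5750 + i)) 250 = true := by decide +kernel

theorem j3_inv_c24 : allBelow (fun i => (fun v => chkInvV j3L0.S.act j3row 13 6156 85 0 v && chkInvV j3L0.S.act j3row 13 6156 85 2 v) (6000 + i)) 156 = true := by decide +kernel

end Cfsg.Agent.Lib.helper10
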