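import Mathlib
import Cfsg.Agent.Lib.helper10.PermSimple
import Cfsg.Agent.Lib.helper10.J3Data

set_option autoImplicit false
set_option maxRecDepth 100000

namespace Cfsg.Agent.Lib.helper10

theorem j3_prop_c0 : allBelow (fun i => (chkPropV (fun v => rowMask 13 85 (j3row v)) 6156 14 73 j3ptab) (4 + i)) 1100 = true := by decide +kernel

theorem j3_prop_c1 : allBelow (fun i => (chkPropV (fun v => rowMask 13 85 (j3row v)) 6156 14 73 j3ptab) (1104 + i)) 1100 = true := by decide +kernel

theorem j3_prop_c2 : allBelow (fun i => (chkPropV (fun v => rowMask 13 85 (j3row v)) 6156 14 73 j3ptab) (2204 + i)) 1100 = true := by decide +kernel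

theorem j3_prop_c3 : allBelow (fun i => (chkPropV (fun v => rowMask 13 85 (j3row v)) 6156 14 73 j3ptab) (3304 + i)) 1100 = true := by decide +kernel

theorem j3_prop_c4 : allBelow (fun i => (chkPropV (fun v => rowMask 13 85 (j3row v)) 6156 14 73 j3ptab) (4404 + i)) 1100 = true := by decide +kernel

theorem j3_prop_c5 : allBelow (fun i => (chkPropV (fun v => rowMask 13 85 (j3row v)) 6156 14 73 j3ptab) (5504 + i)) 652 = true := by decide +kernel

theorem j3_full_c0 : allBelow (fun i => (fun v => plook 23 j3tbl0 v != 0) (0 + i)) 6156 = true := by decide +kernel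

theorem j3_orb_c0 : allBelow (fun i => (chkOrbV j3L1.S.act [0, 1, 2, 3, 5, 7, 10, 63] 3 j3ctab 2 21 j3otab) (0 + i)) 6156 = true := by decide +kernel

theorem j3_cls : allBelow (fun v => decide (plook 3 j3ctab v < 8) && (decide (plook 3 j3ctab v = 0) == decide (v = 0))) 6156 = true := by decide +kernel

theorem j3_sizes : allBelow (fun j => cntBelow (fun v => plook 3 j3ctab v == j) 6156 == ([1, 85, 510, 680, 1360, 2040, 1360, 120] : List ℕ).getD j 0) 8 = true := by decide +kernel

end Cfsg.Agent.Lib.helper10
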