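import Mathlib
import Cfsg.Agent.Lib.helper10.PermSimple
import Cfsg.Agent.Lib.helper10.J3Data

set_option autoImplicit false
set_option maxRecDepth 100000

namespace Cfsg.Agent.Lib.helper10

theorem j3_arith : chkArith (fun j => ([1, 85, 510, 680, 1360, 2040, 1360, 120] : List ℕ).getD j 0) 6156 8 = true := by decide +kernel

theorem j3_card : ([j3L0, j3L1, j3L2, j3L3].map orbCard).prod = 6156 * 8160 := by decide +kernel

theorem j3_ap_c0 : allBelow (fun i => (fun x => pact j3L0.S.act (List.replicate 17 0) x == x) (0 + i)) 1600 = true := by decide +kernel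

theorem j3_ap_c1 : allBelow (fun i => (fun x => pact j3L0.S.act (List.replicate 17 0) x == x) (1600 + i)) 1600 = true := by decide +kernel

theorem j3_ap_c2 : allBelow (fun i => (fun x => pact j3L0.S.act (List.replicate 17 0) x == x) (3200 + i)) 1600 = true := by decide +kernel

theorem j3_ap_c3 : allBelow (fun i => (fun x => pact j3L0.S.act (List.replicate 17 0) x == x) (4800 + i)) 1356 = true := by decide +kernel

theorem j3_bp_c0 : allBelow (fun i => (fun x => pact j3L0.S.act (List.replicate 19 2) x == x) (0 + i)) 1600 = true := by decide +kernel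

theorem j3_bp_c1 : allBelow (fun i => (fun x => pact j3L0.S.act (List.replicate 19 2) x == x) (1600 + i)) 1600 = true := by decide +kernel

theorem j3_bp_c2 : allBelow (fun i => (fun x => pact j3L0.S.act (List.replicate 19 2) x == x) (3200 + i)) 1600 = true := by decide +kernel

theorem j3_bp_c3 : allBelow (fun i => (fun x => pact j3L0.S.act (List.replicate 19 2) x == x) (4800 + i)) 1356 = true := by decide +kernel

end Cfsg.Agent.Lib.helper10
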