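import Mathlib
import Cfsg.Agent.Lib.helper10.PermSimple
import Cfsg.Agent.Lib.helper10.J3Data

set_option autoImplicit false
set_option maxRecDepth 100000

namespace Cfsg.Agent.Lib.helper10

theorem j3_ane : j3L0.S.act 0 1 ≠ 1 := by decide +kernel

theorem j3_bne : j3L0.S.act 2 0 ≠ 0 := by decide +kernel

theorem j3_fix1 : 0 < cntBelow (fun x => j3L0.S.act 0 x == x) 6156 := by decide +kernel

theorem j3_fix2 : cntBelow (fun x => j3L0.S.act 0 x == x) 6156 < 19 := by decide +kernel

end Cfsg.Agent.Lib.helper10
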