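import Mathlib
import Cfsg.Agent.Lib.helper10.PermSimple
import Cfsg.Agent.Lib.helper10.J3Chk0
import Cfsg.Agent.Lib.helper10.J3Chk1
import Cfsg.Agent.Lib.helper10.J3Chk2
import Cfsg.Agent.Lib.helper10.J3Chk3
import Cfsg.Agent.Lib.helper10.J3Chk4
import Cfsg.Agent.Lib.helper10.J3Chk5
import Cfsg.Agent.Lib.helper10.J3Chk6
import Cfsg.Agent.Lib.helper10.J3Chk7

set_option autoImplicit false
set_option maxRecDepth 100000

namespace Cfsg.Agent.Lib.helper10

theorem j3_nest0 : ∀ x, 0 ≤ x → x < 6156 → (chkNest j3L0.S j3L0) x = true := by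
  intro x hlo hx
  by_cases h0 : x < 2100
  · exact allFrom_sound (f := chkNest j3L0.S j3L0) j3_nest0_c0 x (by omega) (by omega)
  by_cases h1 : x < 4200
  · exact allFrom_sound (f := chkNest j3L0.S j3L0) j3_nest0_c1 x (by omega) (by omega)
  exact allFrom_sound (f := chkNest j3L0.S j3L0) j3_nest0_c2 x (by omega) (by omega)

theorem j3_nest0' : ∀ x, x < 6156 → chkNest j3L0.S j3L0 x = true := fun x hx => j3_nest0 x (Nat.zero_le _) hx

theorem j3_vert0 : ∀ x, 0 ≤ x → x < 6156 → (chkVertex j3L0 [j3L1, j3L2, j3L3]) x = true := by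
  intro x hlo hx
  by_cases h0 : x < 1100
  · exact allFrom_sound (f := chkVertex j3L0 [j3L1, j3L2, j3L3]) j3_vert0_c0 x (by omega) (by omega)
  by_cases h1 : x < 2200
  · exact allFrom_sound (f := chkVertex j3L0 [j3L1, j3L2, j3L3]) j3_vert0_c1 x (by omega) (by omega)
  by_cases h2 : x < 3300
  · exact allFrom_sound (f := chkVertex j3L0 [j3L1, j3L2, j3L3]) j3_vert0_c2 x (by omega) (by omega)
  by_cases h3 : x < 4400
  · exact allFrom_sound (f := chkVertex j3L0 [j3L1, j3L2, j3L3]) j3_vert0_c3 x (by omega) (by omega)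
  by_cases h4 : x < 5500
  · exact allFrom_sound (f := chkVertex j3L0 [j3L1, j3L2, j3L3]) j3_vert0_c4 x (by omega) (by omega)
  exact allFrom_sound (f := chkVertex j3L0 [j3L1, j3L2, j3L3]) j3_vert0_c5 x (by omega) (by omega)

theorem j3_vert0' : ∀ v, v < 6156 → chkVertex j3L0 [j3L1, j3L2, j3L3] v = true := fun x hx => j3_vert0 x (Nat.zero_le _) hx

theorem j3_nest1 : ∀ x, 0 ≤ x → x < 6156 → (chkNest j3L0.S j3L1) x = true := by
  intro x hlo hx
  by_cases h0 : x < 2100
  · exact allFrom_sound (f := chkNest j3L0.S j3L1) j3_nest1_c0 x (by omega) (by omega)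
  by_cases h1 : x < 4200
  · exact allFrom_sound (f := chkNest j3L0.S j3L1) j3_nest1_c1 x (by omega) (by omega)
  exact allFrom_sound (f := chkNest j3L0.S j3L1) j3_nest1_c2 x (by omega) (by omega)

theorem j3_nest1' : ∀ x, x < 6156 → chkNest j3L0.S j3L1 x = true := fun x hx => j3_nest1 x (Nat.zero_le _) hx

theorem j3_vert1 : ∀ x, 0 ≤ x → x < 6156 → (chkVertex j3L1 [j3L2, j3L3]) x = true := by
  intro x hlo hx
  exact allFrom_sound (f := chkVertex j3L1 [j3L2, j3L3]) j3_vert1_c0 x (by omega) (by omega)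

theorem j3_vert1' : ∀ v, v < 6156 → chkVertex j3L1 [j3L2, j3L3] v = true := fun x hx => j3_vert1 x (Nat.zero_le _) hx

theorem j3_nest2 : ∀ x, 0 ≤ x → x < 6156 → (chkNest j3L1.S j3L2) x = true := by
  intro x hlo hx
  by_cases h0 : x < 2100
  · exact allFrom_sound (f := chkNest j3L1.S j3L2) j3_nest2_c0 x (by omega) (by omega)
  by_cases h1 : x < 4200
  · exact allFrom_sound (f := chkNest j3L1.S j3L2) j3_nest2_c1 x (by omega) (by omega)
  exact allFrom_sound (f := chkNest j3L1.S j3L2) j3_nest2_c2 x (by omega) (by omega)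

theorem j3_nest2' : ∀ x, x < 6156 → chkNest j3L1.S j3L2 x = true := fun x hx => j3_nest2 x (Nat.zero_le _) hx

theorem j3_vert2 : ∀ x, 0 ≤ x → x < 6156 → (chkVertex j3L2 [j3L3]) x = true := by
  intro x hlo hx
  exact allFrom_sound (f := chkVertex j3L2 [j3L3]) j3_vert2_c0 x (by omega) (by omega)

theorem j3_vert2' : ∀ v, v < 6156 → chkVertex j3L2 [j3L3] v = true := fun x hx => j3_vert2 x (Nat.zero_le _) hx

theorem j3_nest3 : ∀ x, 0 ≤ x → x < 6156 → (chkNest j3L2.S j3L3) x = true := by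
  intro x hlo hx
  by_cases h0 : x < 2100
  · exact allFrom_sound (f := chkNest j3L2.S j3L3) j3_nest3_c0 x (by omega) (by omega)
  by_cases h1 : x < 4200
  · exact allFrom_sound (f := chkNest j3L2.S j3L3) j3_nest3_c1 x (by omega) (by omega)
  exact allFrom_sound (f := chkNest j3L2.S j3L3) j3_nest3_c2 x (by omega) (by omega)

theorem j3_nest3' : ∀ x, x < 6156 → chkNest j3L2.S j3L3 x = true := fun x hx => j3_nest3 x (Nat.zero_le _) hx

theorem j3_vert3 : ∀ x, 0 ≤ x → x < 6156 → (chkVertex j3L3 []) x = true := by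
  intro x hlo hx
  exact allFrom_sound (f := chkVertex j3L3 []) j3_vert3_c0 x (by omega) (by omega)

theorem j3_vert3' : ∀ v, v < 6156 → chkVertex j3L3 [] v = true := fun x hx => j3_vert3 x (Nat.zero_le _) hx

theorem j3_chain : ChainOK j3L0.S [] [j3L0, j3L1, j3L2, j3L3] :=
  ⟨j3_head0, j3_nest0', j3_vert0', j3_head1, j3_nest1', j3_vert1', j3_head2, j3_nest2', j3_vert2', j3_head3, j3_nest3', j3_vert3', trivial⟩

theorem j3_inv : ∀ x, 0 ≤ x → x < 6156 → (fun v => chkInvV j3L0.S.act j3row 13 6156 85 0 v && chkInvV j3L0.S.act j3row 13 6156 85 2 v) x = true := by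
  intro x hlo hx
  by_cases h0 : x < 250
  · exact allFrom_sound (f := fun v => chkInvV j3L0.S.act j3row 13 6156 85 0 v && chkInvV j3L0.S.act j3row 13 6156 85 2 v) j3_inv_c0 x (by omega) (by omega)
  by_cases h1 : x < 500
  · exact allFrom_sound (f := fun v => chkInvV j3L0.S.act j3row 13 6156 85 0 v && chkInvV j3L0.S.act j3row 13 6156 85 2 v) j3_inv_c1 x (by omega) (by omega)
  by_cases h2 : x < 750
  · exact allFrom_sound (f := fun v => chkInvV j3L0.S.act j3row 13 6156 85 0 v && chkInvV j3L0.S.act j3row 13 6156 85 2 v) j3_inv_c2 x (by omega) (by omega)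
  by_cases h3 : x < 1000
  · exact allFrom_sound (f := fun v => chkInvV j3L0.S.act j3row 13 6156 85 0 v && chkInvV j3L0.S.act j3row 13 6156 85 2 v) j3_inv_c3 x (by omega) (by omega)
  by_cases h4 : x < 1250
  · exact allFrom_sound (f := fun v => chkInvV j3L0.S.act j3row 13 6156 85 0 v && chkInvV j3L0.S.act j3row 13 6156 85 2 v) j3_inv_c4 x (by omega) (by omega)
  by_cases h5 : x < 1500
  · exact allFrom_sound (f := fun v => chkInvV j3L0.S.act j3row 13 6156 85 0 v && chkInvV j3L0.S.act j3row 13 6156 85 2 v) j3_inv_c5 x (by omega) (by omega)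
  by_cases h6 : x < 1750
  · exact allFrom_sound (f := fun v => chkInvV j3L0.S.act j3row 13 6156 85 0 v && chkInvV j3L0.S.act j3row 13 6156 85 2 v) j3_inv_c6 x (by omega) (by omega)
  by_cases h7 : x < 2000
  · exact allFrom_sound (f := fun v => chkInvV j3L0.S.act j3row 13 6156 85 0 v && chkInvV j3L0.S.act j3row 13 6156 85 2 v) j3_inv_c7 x (by omega) (by omega)
  by_cases h8 : x < 2250
  · exact allFrom_sound (f := fun v => chkInvV j3L0.S.act j3row 13 6156 85 0 v && chkInvV j3L0.S.act j3row 13 6156 85 2 v) j3_inv_c8 x (by omega) (by omega)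
  by_cases h9 : x < 2500
  · exact allFrom_sound (f := fun v => chkInvV j3L0.S.act j3row 13 6156 85 0 v && chkInvV j3L0.S.act j3row 13 6156 85 2 v) j3_inv_c9 x (by omega) (by omega)
  by_cases h10 : x < 2750
  · exact allFrom_sound (f := fun v => chkInvV j3L0.S.act j3row 13 6156 85 0 v && chkInvV j3L0.S.act j3row 13 6156 85 2 v) j3_inv_c10 x (by omega) (by omega)
  by_cases h11 : x < 3000
  · exact allFrom_sound (f := fun v => chkInvV j3L0.S.act j3row 13 6156 85 0 v && chkInvV j3L0.S.act j3row 13 6156 85 2 v) j3_inv_c11 x (by omega) (by omega)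
  by_cases h12 : x < 3250
  · exact allFrom_sound (f := fun v => chkInvV j3L0.S.act j3row 13 6156 85 0 v && chkInvV j3L0.S.act j3row 13 6156 85 2 v) j3_inv_c12 x (by omega) (by omega)
  by_cases h13 : x < 3500
  · exact allFrom_sound (f := fun v => chkInvV j3L0.S.act j3row 13 6156 85 0 v && chkInvV j3L0.S.act j3row 13 6156 85 2 v) j3_inv_c13 x (by omega) (by omega)
  by_cases h14 : x < 3750
  · exact allFrom_sound (f := fun v => chkInvV j3L0.S.act j3row 13 6156 85 0 v && chkInvV j3L0.S.act j3row 13 6156 85 2 v) j3_inv_c14 x (by omega) (by omega)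
  by_cases h15 : x < 4000
  · exact allFrom_sound (f := fun v => chkInvV j3L0.S.act j3row 13 6156 85 0 v && chkInvV j3L0.S.act j3row 13 6156 85 2 v) j3_inv_c15 x (by omega) (by omega)
  by_cases h16 : x < 4250
  · exact allFrom_sound (f := fun v => chkInvV j3L0.S.act j3row 13 6156 85 0 v && chkInvV j3L0.S.act j3row 13 6156 85 2 v) j3_inv_c16 x (by omega) (by omega)
  by_cases h17 : x < 4500
  · exact allFrom_sound (f := fun v => chkInvV j3L0.S.act j3row 13 6156 85 0 v && chkInvV j3L0.S.act j3row 13 6156 85 2 v) j3_inv_c17 x (by omega) (by omega)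
  by_cases h18 : x < 4750
  · exact allFrom_sound (f := fun v => chkInvV j3L0.S.act j3row 13 6156 85 0 v && chkInvV j3L0.S.act j3row 13 6156 85 2 v) j3_inv_c18 x (by omega) (by omega)
  by_cases h19 : x < 5000
  · exact allFrom_sound (f := fun v => chkInvV j3L0.S.act j3row 13 6156 85 0 v && chkInvV j3L0.S.act j3row 13 6156 85 2 v) j3_inv_c19 x (by omega) (by omega)
  by_cases h20 : x < 5250
  · exact allFrom_sound (f := fun v => chkInvV j3L0.S.act j3row 13 6156 85 0 v && chkInvV j3L0.S.act j3row 13 6156 85 2 v) j3_inv_c20 x (by omega) (by omega)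
  by_cases h21 : x < 5500
  · exact allFrom_sound (f := fun v => chkInvV j3L0.S.act j3row 13 6156 85 0 v && chkInvV j3L0.S.act j3row 13 6156 85 2 v) j3_inv_c21 x (by omega) (by omega)
  by_cases h22 : x < 5750
  · exact allFrom_sound (f := fun v => chkInvV j3L0.S.act j3row 13 6156 85 0 v && chkInvV j3L0.S.act j3row 13 6156 85 2 v) j3_inv_c22 x (by omega) (by omega)
  by_cases h23 : x < 6000
  · exact allFrom_sound (f := fun v => chkInvV j3L0.S.act j3row 13 6156 85 0 v && chkInvV j3L0.S.act j3row 13 6156 85 2 v) j3_inv_c23 x (by omega) (by omega)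
  exact allFrom_sound (f := fun v => chkInvV j3L0.S.act j3row 13 6156 85 0 v && chkInvV j3L0.S.act j3row 13 6156 85 2 v) j3_inv_c24 x (by omega) (by omega)

theorem j3_hinv : ∀ j, j < j3L0.S.g / 2 → ∀ v, v < 6156 → chkInvV j3L0.S.act j3row 13 6156 85 (2 * j) v = true := by
  intro j hj v hv
  have hj' : j < 2 := hj
  have h := j3_inv v (Nat.zero_le _) hv
  simp only [Bool.and_eq_true] at h
  interval_cases j
  · exact h.1
  · exact h.2

theorem j3_prop : ∀ x, 4 ≤ x → x < 6156 → (chkPropV (fun v => rowMask 13 85 (j3row v)) 6156 14 73 j3ptab) x = true := by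
  intro x hlo hx
  by_cases h0 : x < 1104
  · exact allFrom_sound (f := chkPropV (fun v => rowMask 13 85 (j3row v)) 6156 14 73 j3ptab) j3_prop_c0 x (by omega) (by omega)
  by_cases h1 : x < 2204
  · exact allFrom_sound (f := chkPropV (fun v => rowMask 13 85 (j3row v)) 6156 14 73 j3ptab) j3_prop_c1 x (by omega) (by omega)
  by_cases h2 : x < 3304
  · exact allFrom_sound (f := chkPropV (fun v => rowMask 13 85 (j3row v)) 6156 14 73 j3ptab) j3_prop_c2 x (by omega) (by omega)
  by_cases h3 : x < 4404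
  · exact allFrom_sound (f := chkPropV (fun v => rowMask 13 85 (j3row v)) 6156 14 73 j3ptab) j3_prop_c3 x (by omega) (by omega)
  by_cases h4 : x < 5504
  · exact allFrom_sound (f := chkPropV (fun v => rowMask 13 85 (j3row v)) 6156 14 73 j3ptab) j3_prop_c4 x (by omega) (by omega)
  exact allFrom_sound (f := chkPropV (fun v => rowMask 13 85 (j3row v)) 6156 14 73 j3ptab) j3_prop_c5 x (by omega) (by omega)

theorem j3_full : ∀ x, 0 ≤ x → x < 6156 → (fun v => plook 23 j3tbl0 v != 0) x = true := by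
  intro x hlo hx
  exact allFrom_sound (f := fun v => plook 23 j3tbl0 v != 0) j3_full_c0 x (by omega) (by omega)

theorem j3_hfull : ∀ v, v < 6156 → plook j3L0.W j3L0.tbl v ≠ 0 := fun v hv => by
  have := j3_full v (Nat.zero_le _) hv
  show plook 23 j3tbl0 v ≠ 0
  simpa using this

theorem j3_orb : ∀ x, 0 ≤ x → x < 6156 → (chkOrbV j3L1.S.act [0, 1, 2, 3, 5, 7, 10, 63] 3 j3ctab 2 21 j3otab) x = true := by
  intro x hlo hx
  exact allFrom_sound (f := chkOrbV j3L1.S.act [0, 1, 2, 3, 5, 7, 10, 63] 3 j3ctab 2 21 j3otab) j3_orb_c0 x (by omega) (by omega)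

theorem j3_ap : ∀ x, 0 ≤ x → x < 6156 → (fun x => pact j3L0.S.act (List.replicate 17 0) x == x) x = true := by
  intro x hlo hx
  by_cases h0 : x < 1600
  · exact allFrom_sound (f := fun x => pact j3L0.S.act (List.replicate 17 0) x == x) j3_ap_c0 x (by omega) (by omega)
  by_cases h1 : x < 3200
  · exact allFrom_sound (f := fun x => pact j3L0.S.act (List.replicate 17 0) x == x) j3_ap_c1 x (by omega) (by omega)
  by_cases h2 : x < 4800
  · exact allFrom_sound (f := fun x => pact j3L0.S.act (List.replicate 17 0) x == x) j3_ap_c2 x (by omega) (by omega)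
  exact allFrom_sound (f := fun x => pact j3L0.S.act (List.replicate 17 0) x == x) j3_ap_c3 x (by omega) (by omega)

theorem j3_bp : ∀ x, 0 ≤ x → x < 6156 → (fun x => pact j3L0.S.act (List.replicate 19 2) x == x) x = true := by
  intro x hlo hx
  by_cases h0 : x < 1600
  · exact allFrom_sound (f := fun x => pact j3L0.S.act (List.replicate 19 2) x == x) j3_bp_c0 x (by omega) (by omega)
  by_cases h1 : x < 3200
  · exact allFrom_sound (f := fun x => pact j3L0.S.act (List.replicate 19 2) x == x) j3_bp_c1 x (by omega) (by omega)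
  by_cases h2 : x < 4800
  · exact allFrom_sound (f := fun x => pact j3L0.S.act (List.replicate 19 2) x == x) j3_bp_c2 x (by omega) (by omega)
  exact allFrom_sound (f := fun x => pact j3L0.S.act (List.replicate 19 2) x == x) j3_bp_c3 x (by omega) (by omega)

theorem j3_hb : j3L0.b < 6156 := by decide

/-- The group of the certificate is simple of order `6156 * 8160`, transitive, with point
stabilisers of order `8160`. -/
theorem j3_cert : IsSimpleGroup j3L0.S.H ∧ Nat.card j3L0.S.H = 6156 * 8160 ∧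
    MulAction.IsPretransitive j3L0.S.H (Fin 6156) ∧
    Nat.card (MulAction.stabilizer j3L0.S.H (⟨j3L0.b, j3_hb⟩ : Fin 6156)) = 8160 :=
  group_cert j3L0 j3L1 [j3L2, j3L3] j3_chain 4 (by decide) j3row 13 85 14 73 j3ptab
    j3_hinv j3_prop rfl j3_hb j3_hfull [0, 1, 2, 3, 5, 7, 10, 63] [1, 85, 510, 680, 1360, 2040, 1360, 120] 3 j3ctab 2 21 j3otab
    (fun v hv => j3_orb v (Nat.zero_le _) hv)
    (getD_lt_of_all _ _ (by norm_num) (by decide))
    (cls_of_chk _ _ _ _ _ j3_cls).1 (cls_of_chk _ _ _ _ _ j3_cls).2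
    (sizes_of_chk _ _ _ _ _ j3_sizes) j3_arith
    8160 19 17 1 324 (by norm_num) (by norm_num) j3_card (by norm_num) (by norm_num) (by norm_num) (by norm_num)
    (fun x hx => by simpa using j3_ap x (Nat.zero_le _) hx) ⟨1, by norm_num, j3_ane⟩
    (fun x hx => by simpa using j3_bp x (Nat.zero_le _) hx) ⟨0, by norm_num, j3_bne⟩
    j3_fix1 j3_fix2 (by norm_num)

end Cfsg.Agent.Lib.helper10
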