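import Mathlib
import Cfsg.Agent.Lib.helper10.J3MData

set_option autoImplicit false
set_option maxRecDepth 100000

namespace Cfsg.Agent.Lib.helper10

theorem j3m_om : omAll j3mTabs 58 := by decide +kernel

theorem j3m_chk1 : allBelow (fun i => wchk j3mTabs 0 4 (j3mWords.getD (4 + i) []) (4 + i)) 4 = true := by
  decide +kernel

theorem j3m_chk2 : allBelow (fun i => wchk j3mTabs 4 8 (j3mWords.getD (8 + i) []) (8 + i)) 4 = true := by
  decide +kernel

theorem j3m_chk3 : allBelow (fun i => wchk j3mTabs 0 13 (j3mWords.getD (13 + i) []) (13 + i)) 43 = true := by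
  decide +kernel

theorem j3m_chkw56 : wchk j3mTabs 13 56 (j3mWords.getD 56 []) 56 = true := by decide +kernel

theorem j3m_chkw57 : wchk j3mTabs 13 56 (j3mWords.getD 57 []) 57 = true := by decide +kernel

theorem j3m_chkw12 : wchk j3mTabs 13 56 (j3mWords.getD 12 []) 12 = true := by decide +kernel

theorem j3m_chkw0 : wchk j3mTabs 56 57 (j3mWords.getD 0 []) 0 = true := by decide +kernel

theorem j3m_chkw2 : wchk j3mTabs 57 58 (j3mWords.getD 2 []) 2 = true := by decide +kernel

end Cfsg.Agent.Lib.helper10
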