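import Mathlib
import Cfsg.Agent.Lib.helper10.J3OData

set_option autoImplicit false
set_option maxRecDepth 100000

namespace Cfsg.Agent.Lib.helper10

theorem j3o_ct12 : ctab j3oFO (tsel j3mTabs 12) = true := by decide +kernel

theorem j3o_ct3 : ctab j3oFBi (tsel j3mTabs 3) = true := by decide +kernel

theorem j3o_ct2 : ctab j3oFB (tsel j3mTabs 2) = true := by decide +kernel

theorem j3o_ct1 : ctab j3oFAi (tsel j3mTabs 1) = true := by decide +kernel

theorem j3o_ct0 : ctab j3oFA (tsel j3mTabs 0) = true := by decide +kernel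

theorem j3o_cnt_c7 : cntBelow (fun i => isRep (j3oEnt (32768 * 7 + i))) 32768 = 0 := by
  decide +kernel

theorem j3o_chk_c1 : allBelow (fun i => (ochk j3oEnt j3oFt j3oRoot j3oFA j3oFB j3oFO) (16384 + i)) 16384 = true := by
  decide +kernel

theorem j3o_chk_c9 : allBelow (fun i => (ochk j3oEnt j3oFt j3oRoot j3oFA j3oFB j3oFO) (147456 + i)) 16384 = true := by
  decide +kernel

end Cfsg.Agent.Lib.helper10
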