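import Mathlib
import Cfsg.Agent.Lib.helper10.J3OData

set_option autoImplicit false
set_option maxRecDepth 100000

namespace Cfsg.Agent.Lib.helper10

theorem j3o_cnt_c1 : cntBelow (fun i => isRep (j3oEnt (32768 * 1 + i))) 32768 = 0 := by
  decide +kernel

theorem j3o_chk_c3 : allBelow (fun i => (ochk j3oEnt j3oFt j3oRoot j3oFA j3oFB j3oFO) (49152 + i)) 16384 = true := by
  decide +kernel

theorem j3o_chk_c11 : allBelow (fun i => (ochk j3oEnt j3oFt j3oRoot j3oFA j3oFB j3oFO) (180224 + i)) 16384 = true := by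
  decide +kernel

end Cfsg.Agent.Lib.helper10
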