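import Mathlib
import Cfsg.Agent.Lib.helper10.J3OChk0
import Cfsg.Agent.Lib.helper10.J3OChk1
import Cfsg.Agent.Lib.helper10.J3OChk2
import Cfsg.Agent.Lib.helper10.J3OChk3
import Cfsg.Agent.Lib.helper10.J3OChk4
import Cfsg.Agent.Lib.helper10.J3OChk5
import Cfsg.Agent.Lib.helper10.J3OChk6
import Cfsg.Agent.Lib.helper10.J3OChk7
import Cfsg.Agent.Lib.helper10.PermSimple

set_option autoImplicit false
set_option maxRecDepth 100000

namespace Cfsg.Agent.Lib.helper10

theorem j3o_chk : ∀ x, x < 262144 → (ochk j3oEnt j3oFt j3oRoot j3oFA j3oFB j3oFO) x = true := by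
  intro x hx
  by_cases h0 : x < 16384
  · exact allFrom_sound (f := ochk j3oEnt j3oFt j3oRoot j3oFA j3oFB j3oFO) j3o_chk_c0 x (by omega) (by omega)
  by_cases h1 : x < 32768
  · exact allFrom_sound (f := ochk j3oEnt j3oFt j3oRoot j3oFA j3oFB j3oFO) j3o_chk_c1 x (by omega) (by omega)
  by_cases h2 : x < 49152
  · exact allFrom_sound (f := ochk j3oEnt j3oFt j3oRoot j3oFA j3oFB j3oFO) j3o_chk_c2 x (by omega) (by omega)
  by_cases h3 : x < 65536
  · exact allFrom_sound (f := ochk j3oEnt j3oFt j3oRoot j3oFA j3oFB j3oFO) j3o_chk_c3 x (by omega) (by omega)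
  by_cases h4 : x < 81920
  · exact allFrom_sound (f := ochk j3oEnt j3oFt j3oRoot j3oFA j3oFB j3oFO) j3o_chk_c4 x (by omega) (by omega)
  by_cases h5 : x < 98304
  · exact allFrom_sound (f := ochk j3oEnt j3oFt j3oRoot j3oFA j3oFB j3oFO) j3o_chk_c5 x (by omega) (by omega)
  by_cases h6 : x < 114688
  · exact allFrom_sound (f := ochk j3oEnt j3oFt j3oRoot j3oFA j3oFB j3oFO) j3o_chk_c6 x (by omega) (by omega)
  by_cases h7 : x < 131072
  · exact allFrom_sound (f := ochk j3oEnt j3oFt j3oRoot j3oFA j3oFB j3oFO) j3o_chk_c7 x (by omega) (by omega)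
  by_cases h8 : x < 147456
  · exact allFrom_sound (f := ochk j3oEnt j3oFt j3oRoot j3oFA j3oFB j3oFO) j3o_chk_c8 x (by omega) (by omega)
  by_cases h9 : x < 163840
  · exact allFrom_sound (f := ochk j3oEnt j3oFt j3oRoot j3oFA j3oFB j3oFO) j3o_chk_c9 x (by omega) (by omega)
  by_cases h10 : x < 180224
  · exact allFrom_sound (f := ochk j3oEnt j3oFt j3oRoot j3oFA j3oFB j3oFO) j3o_chk_c10 x (by omega) (by omega)
  by_cases h11 : x < 196608
  · exact allFrom_sound (f := ochk j3oEnt j3oFt j3oRoot j3oFA j3oFB j3oFO) j3o_chk_c11 x (by omega) (by omega)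
  by_cases h12 : x < 212992
  · exact allFrom_sound (f := ochk j3oEnt j3oFt j3oRoot j3oFA j3oFB j3oFO) j3o_chk_c12 x (by omega) (by omega)
  by_cases h13 : x < 229376
  · exact allFrom_sound (f := ochk j3oEnt j3oFt j3oRoot j3oFA j3oFB j3oFO) j3o_chk_c13 x (by omega) (by omega)
  by_cases h14 : x < 245760
  · exact allFrom_sound (f := ochk j3oEnt j3oFt j3oRoot j3oFA j3oFB j3oFO) j3o_chk_c14 x (by omega) (by omega)
  exact allFrom_sound (f := ochk j3oEnt j3oFt j3oRoot j3oFA j3oFB j3oFO) j3o_chk_c15 x (by omega) (by omega)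

theorem cntBelow_card (f : ℕ → Bool) (n : ℕ) :
    cntBelow f n = ((Finset.range n).filter fun i => f i = true).card := by
  unfold cntBelow
  rw [cntBelow_aux, zero_add]

theorem cnt_split (f : ℕ → Bool) (a b : ℕ) :
    ((Finset.range (a + b)).filter (fun i => f i = true)).card
      = ((Finset.range a).filter (fun i => f i = true)).card
        + ((Finset.range b).filter (fun i => f (a + i) = true)).card := by
  rw [Finset.range_add_eq_union, Finset.filter_union, Finset.card_union_of_disjoint]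
  · congr 1
    rw [Finset.filter_map, Finset.card_map]
    rfl
  · rw [Finset.disjoint_left]
    intro x hx hx'
    rw [Finset.mem_filter, Finset.mem_range] at hx
    rw [Finset.mem_filter, Finset.mem_map] at hx'
    obtain ⟨⟨y, _, rfl⟩, _⟩ := hx'
    simp at hx

/-- A count from the counts on consecutive blocks. -/
theorem cnt_chunks (f : ℕ → Bool) (ch : ℕ) (c : ℕ → ℕ) (m : ℕ)
    (h : ∀ k, k < m → cntBelow (fun i => f (ch * k + i)) ch = c k) :
    ((Finset.range (ch * m)).filter (fun i => f i = true)).card = ∑ k ∈ Finset.range m, c k := by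
  induction m with
  | zero => simp
  | succ m ih =>
    rw [Nat.mul_succ, cnt_split, ih (fun k hk => h k (by omega)), Finset.sum_range_succ,
      ← h m (by omega), cntBelow_card]

/-- The number of flagged codes of the first orbit. -/
theorem j3o_card :
    ((Finset.range 262144).filter (fun x => isRep (j3oEnt x) = true)).card = 23256 := by
  have h := cnt_chunks (fun x => isRep (j3oEnt x)) 32768 (fun k => ([5840, 0, 8704, 8712, 0, 0, 0, 0] : List ℕ).getD k 0) 8 (by
    intro k hk
    interval_cases k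
    · exact j3o_cnt_c0
    · exact j3o_cnt_c1
    · exact j3o_cnt_c2
    · exact j3o_cnt_c3
    · exact j3o_cnt_c4
    · exact j3o_cnt_c5
    · exact j3o_cnt_c6
    · exact j3o_cnt_c7)
  have e : 32768 * 8 = 262144 := by norm_num
  rw [e] at h
  rw [h]
  decide

end Cfsg.Agent.Lib.helper10
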