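import Mathlib

/-!
Sharply multiply transitive groups of degrees 11 and 12: order and simplicity.
Everything is stated for a group `G` acting faithfully on a finite type `α`.
-/

set_option autoImplicit false

namespace Cfsg.Agent.Lib.helper10

open MulAction

/-- The order of a sharply `k`-transitive group. -/
theorem card_of_sharp {G α : Type*} [Group G] [MulAction G α] [Finite α] (k : ℕ)
    [IsMultiplyPretransitive G α k]
    (hsharp : ∀ x : Fin k ↪ α, stabilizer G x = ⊥) (hk : k ≤ Nat.card α) :
    Nat.card G = (Nat.card α).descFactorial k := by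
  classical
  have := Fintype.ofFinite α
  have hne : Nonempty (Fin k ↪ α) := by
    apply Function.Embedding.nonempty_of_card_le
    rw [Fintype.card_fin, ← Nat.card_eq_fintype_card]
    exact hk
  obtain ⟨x₀⟩ := hne
  have h1 := index_stabilizer_of_transitive G x₀
  rw [hsharp x₀, Subgroup.index_bot] at h1
  rw [h1, Nat.card_eq_fintype_card, Fintype.card_embedding_eq, Fintype.card_fin,
    Nat.card_eq_fintype_card]

/-- A nontrivial normal subgroup of a faithful 2-transitive group is transitive. -/
theorem normal_pretransitive {G α : Type*} [Group G] [MulAction G α] [FaithfulSMul G α]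
    [h2 : IsMultiplyPretransitive G α 2] (N : Subgroup G) [N.Normal] (hN : N ≠ ⊥) :
    IsPretransitive N α := by
  have : IsPreprimitive G α := isPreprimitive_of_is_two_pretransitive h2
  refine IsQuasiPreprimitive.isPretransitive_of_normal (G := G) ?_
  intro hfix
  apply hN
  rw [Subgroup.eq_bot_iff_forall]
  intro n hn
  apply FaithfulSMul.eq_of_smul_eq_smul (α := α)
  intro a
  have ha : a ∈ fixedPoints N α := by rw [hfix]; exact Set.mem_univ a
  rw [one_smul]
  exact ha ⟨n, hn⟩

/-- A subgroup `Q` of prime order `p` of a group acting faithfully on fewer than `p + 2` points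
contains every element commuting with it. -/
theorem mem_of_commute_of_prime {G α : Type*} [Group G] [MulAction G α] [FaithfulSMul G α]
    [Finite α] (Q : Subgroup G) (p : ℕ) [hp : Fact p.Prime] (hQ : Nat.card Q = p)
    (hα : Nat.card α < p + 2) (g : G) (hg : ∀ q ∈ Q, g * q = q * g) : g ∈ Q := by
  classical
  have hcyc : IsCyclic Q := isCyclic_of_prime_card hQ
  have hcomm : ∀ x ∈ Q, ∀ y ∈ Q, x * y = y * x := by
    intro x hx y hy
    have hmc : IsMulCommutative Q := IsCyclic.isMulCommutative
    have h1 : (⟨x, hx⟩ : Q) * ⟨y, hy⟩ = ⟨y, hy⟩ * ⟨x, hx⟩ := mul_comm' _ _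
    exact congrArg Subtype.val h1
  have hne : Q ≠ ⊥ := by
    intro h
    rw [h, Subgroup.card_bot] at hQ
    exact hp.out.one_lt.ne hQ
  obtain ⟨q₀, hq₀, hq₀1⟩ : ∃ q ∈ Q, q ≠ 1 := by
    by_contra hcon
    apply hne
    rw [Subgroup.eq_bot_iff_forall]
    intro x hx
    by_contra hx1
    exact hcon ⟨x, hx, hx1⟩
  obtain ⟨a₀, ha₀⟩ : ∃ a : α, q₀ • a ≠ a := by
    by_contra h
    apply hq₀1
    apply FaithfulSMul.eq_of_smul_eq_smul (α := α)
    intro a
    rw [one_smul]
    by_contra ha
    exact h ⟨a, ha⟩
  have horb : ∀ b : α, (orbit Q b).ncard = 1 ∨ (orbit Q b).ncard = p := by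
    intro b
    have h1 : (orbit Q b).ncard ∣ p := by
      rw [← index_stabilizer, ← hQ]
      exact Subgroup.index_dvd_card _
    exact (Nat.dvd_prime hp.out).mp h1
  have hfixed : ∀ b : α, (orbit Q b).ncard = 1 → ∀ q ∈ Q, q • b = b := by
    intro b hb q hq
    rw [Set.ncard_eq_one] at hb
    obtain ⟨c, hc⟩ := hb
    have h1 : b ∈ orbit Q b := mem_orbit_self b
    have h2 : (⟨q, hq⟩ : Q) • b ∈ orbit Q b := mem_orbit b _
    rw [hc, Set.mem_singleton_iff] at h1 h2
    have h3 : q • b = c := h2
    rw [h3, h1]
  have ha₀p : (orbit Q a₀).ncard = p := by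
    rcases horb a₀ with h | h
    · exact absurd (hfixed a₀ h q₀ hq₀) ha₀
    · exact h
  have hcover : ∀ b : α, b ∈ orbit Q a₀ ∨ ∀ q ∈ Q, q • b = b := by
    intro b
    by_cases hb : b ∈ orbit Q a₀
    · exact Or.inl hb
    · right
      rcases horb b with h | h
      · exact hfixed b h
      · exfalso
        have hdisj : Disjoint (orbit Q a₀) (orbit Q b) := by
          rw [Set.disjoint_left]
          intro c hc1 hc2
          apply hb
          rw [← orbit_eq_iff] at hc1 hc2
          rw [← hc1, hc2]
          exact mem_orbit_self b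
        have h3 := Set.ncard_union_eq hdisj
        have h4 := Set.ncard_le_card (orbit Q a₀ ∪ orbit Q b)
        have := hp.out.two_le
        omega
  have hnot : ∀ c : α, (∀ q ∈ Q, q • c = c) → c ∉ orbit Q a₀ := by
    intro c hc hmem
    obtain ⟨⟨q, hq⟩, rfl⟩ := hmem
    apply ha₀
    have h1 : q₀ • (q • a₀) = q • a₀ := hc q₀ hq₀
    rw [← mul_smul, hcomm q₀ hq₀ q hq, mul_smul] at h1
    exact MulAction.injective q h1
  have huniq : ∀ b b' : α, (∀ q ∈ Q, q • b = b) → (∀ q ∈ Q, q • b' = b') → b = b' := by
    intro b b' hb hb'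
    by_contra hbb
    have hdisj : Disjoint (orbit Q a₀) ({b, b'} : Set α) := by
      rw [Set.disjoint_left]
      rintro c hc (rfl | rfl)
      · exact hnot _ hb hc
      · exact hnot _ hb' hc
    have h3 := Set.ncard_union_eq hdisj
    have h4 := Set.ncard_le_card (orbit Q a₀ ∪ {b, b'})
    have h5 : ({b, b'} : Set α).ncard = 2 := Set.ncard_pair hbb
    omega
  have hga : g • a₀ ∈ orbit Q a₀ := by
    rcases hcover (g • a₀) with h | h
    · exact h
    · exfalso
      apply ha₀
      have h1 := h q₀ hq₀
      rw [← mul_smul, ← hg q₀ hq₀, mul_smul] at h1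
      exact MulAction.injective g h1
  obtain ⟨⟨q, hq⟩, hqa⟩ := hga
  have hqa' : q • a₀ = g • a₀ := hqa
  have hgq : g = q := by
    apply FaithfulSMul.eq_of_smul_eq_smul (α := α)
    intro x
    rcases hcover x with hx | hx
    · obtain ⟨⟨q', hq'⟩, rfl⟩ := hx
      show g • (q' • a₀) = q • (q' • a₀)
      rw [← mul_smul, hg q' hq', mul_smul, ← hqa', ← mul_smul, ← mul_smul, hcomm q' hq' q hq]
    · have h1 : ∀ q' ∈ Q, q' • (g • x) = g • x := by
        intro q' hq'
        rw [← mul_smul, ← hg q' hq', mul_smul, hx q' hq']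
      rw [hx q hq]
      exact huniq _ _ h1 hx
  rw [hgq]
  exact hq

theorem card_eq_card_mul_relIndex {G : Type*} [Group G] [Finite G] {H K : Subgroup G}
    (h : H ≤ K) : Nat.card K = Nat.card H * H.relIndex K := by
  have h1 := Subgroup.card_mul_index H
  have h2 := Subgroup.card_mul_index K
  have h3 := Subgroup.relIndex_mul_index h
  have h4 : K.index ≠ 0 := Subgroup.index_ne_zero_of_finite
  apply Nat.eq_of_mul_eq_mul_right (Nat.pos_of_ne_zero h4)
  rw [h2, mul_assoc, h3, h1]

/-- In a group of order 7920 or 95040, let `P` be a Sylow 11-subgroup containing every element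
that commutes with it.  Then a normal subgroup containing `P` has index 1 or 5. -/
theorem index_eq_one_or_five {G : Type*} [Group G] [Finite G]
    (hG : Nat.card G = 7920 ∨ Nat.card G = 95040) (P : Sylow 11 G)
    (hcent : ∀ g : G, (∀ q ∈ P, g * q = q * g) → g ∈ P)
    (N : Subgroup G) [N.Normal] (hPN : (P : Subgroup G) ≤ N) : N.index = 1 ∨ N.index = 5 := by
  have hp11 : Fact (Nat.Prime 11) := ⟨by norm_num⟩
  have hP : Nat.card P = 11 := by
    obtain ⟨k, hk⟩ := P.2.exists_card_eq
    have h11 : 11 ∣ Nat.card G := by rcases hG with h | h <;> rw [h] <;> norm_num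
    have h1 : 11 ∣ Nat.card P := P.dvd_card_of_dvd_card h11
    have h2 : Nat.card P ∣ Nat.card G := Subgroup.card_subgroup_dvd_card _
    rw [hk] at h1 h2 ⊢
    rcases k with _ | _ | k
    · norm_num at h1
    · norm_num
    · exfalso
      have h3 : 121 ∣ Nat.card G := dvd_trans ⟨11 ^ k, by ring⟩ h2
      rcases hG with h | h <;> rw [h] at h3 <;> norm_num at h3
  have hcyc : IsCyclic P := isCyclic_of_prime_card hP
  have hC : Subgroup.centralizer ((P : Subgroup G) : Set G) = P := by
    apply le_antisymm
    · intro g hg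
      apply hcent
      intro q hq
      exact (Subgroup.mem_centralizer_iff.mp hg q hq).symm
    · intro g hg
      rw [Subgroup.mem_centralizer_iff]
      intro q hq
      have hmc : IsMulCommutative P := IsCyclic.isMulCommutative
      exact congrArg Subtype.val (mul_comm' (⟨q, hq⟩ : P) ⟨g, hg⟩)
  have key : (Subgroup.centralizer ((P : Subgroup G) : Set G)).relIndex
      (Subgroup.normalizer ((P : Subgroup G) : Set G)) ∣ 10 := by
    have key := Subgroup.card_dvd_of_injective _
      (QuotientGroup.kerLift_injective (P : Subgroup G).normalizerMonoidHom)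
    rw [Subgroup.normalizerMonoidHom_ker, ← Subgroup.index, ← Subgroup.relIndex] at key
    rw [IsCyclic.card_mulAut, hP] at key
    have h10 : Nat.totient 11 = 10 := by decide
    rwa [h10] at key
  have hCM : Subgroup.centralizer ((P : Subgroup G) : Set G)
      ≤ Subgroup.normalizer ((P : Subgroup G) : Set G) := Subgroup.centralizer_le_normalizer _
  have hcardM := card_eq_card_mul_relIndex hCM
  have hcardC : Nat.card (Subgroup.centralizer ((P : Subgroup G) : Set G)) = 11 := by
    rw [hC]; exact hP
  have hsyl : Nat.card (Sylow 11 G) = (Subgroup.normalizer ((P : Subgroup G) : Set G)).index :=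
    Sylow.card_eq_index_normalizer P
  have hmod : Nat.card (Sylow 11 G) ≡ 1 [MOD 11] := card_sylow_modEq_one 11 G
  have hM55 : Nat.card (Subgroup.normalizer ((P : Subgroup G) : Set G)) = 55 := by
    have h2 := Subgroup.card_mul_index (Subgroup.normalizer ((P : Subgroup G) : Set G))
    rw [hcardM, hcardC, ← hsyl] at h2
    rw [hcardM, hcardC]
    generalize (Subgroup.centralizer ((P : Subgroup G) : Set G)).relIndex
      (Subgroup.normalizer ((P : Subgroup G) : Set G)) = r at key h2 ⊢
    generalize Nat.card (Sylow 11 G) = n at hmod h2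
    have hr' : r = 1 ∨ r = 2 ∨ r = 5 ∨ r = 10 := by
      have hle : r ≤ 10 := Nat.le_of_dvd (by norm_num) key
      interval_cases r <;> revert key <;> decide
    unfold Nat.ModEq at hmod
    rcases hG with hG | hG <;> rcases hr' with rfl | rfl | rfl | rfl <;> rw [hG] at h2 <;> omega
  have hfrat : Subgroup.normalizer ((P : Subgroup G) : Set G) ⊔ N = ⊤ :=
    Sylow.normalizer_sup_eq_top' P hPN
  have h1 : N.index = N.relIndex (Subgroup.normalizer ((P : Subgroup G) : Set G)) := by
    rw [← Subgroup.relIndex_top_right, ← hfrat, Subgroup.relIndex_sup_right]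
  have h2 : N.relIndex (Subgroup.normalizer ((P : Subgroup G) : Set G))
      = (N ⊓ Subgroup.normalizer ((P : Subgroup G) : Set G)).relIndex
        (Subgroup.normalizer ((P : Subgroup G) : Set G)) := (Subgroup.inf_relIndex_right ..).symm
  have h3 := card_eq_card_mul_relIndex
    (inf_le_right : N ⊓ Subgroup.normalizer ((P : Subgroup G) : Set G) ≤ _)
  have h4 : 11 ∣ Nat.card (N ⊓ Subgroup.normalizer ((P : Subgroup G) : Set G) : Subgroup G) := by
    have h5 := Subgroup.card_dvd_of_le
      (le_inf hPN Subgroup.le_normalizer :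
        (P : Subgroup G) ≤ N ⊓ Subgroup.normalizer ((P : Subgroup G) : Set G))
    rwa [hP] at h5
  obtain ⟨c', hc'⟩ := h4
  rw [h1, h2]
  rw [hM55, hc'] at h3
  generalize (N ⊓ Subgroup.normalizer ((P : Subgroup G) : Set G)).relIndex
    (Subgroup.normalizer ((P : Subgroup G) : Set G)) = idx at h3 ⊢
  have h5 : c' * idx = 5 := by
    have h6 : 11 * (c' * idx) = 11 * 5 := by rw [← mul_assoc]; omega
    exact Nat.eq_of_mul_eq_mul_left (by norm_num) h6
  have h7 : idx ∣ 5 := ⟨c', by rw [mul_comm]; exact h5.symm⟩
  exact (Nat.dvd_prime Nat.prime_five).mp h7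

theorem sylow_eleven_card {G : Type*} [Group G] [Finite G]
    (hG : Nat.card G = 7920 ∨ Nat.card G = 95040) (P : Sylow 11 G) : Nat.card P = 11 := by
  have hp11 : Fact (Nat.Prime 11) := ⟨by norm_num⟩
  obtain ⟨k, hk⟩ := P.2.exists_card_eq
  have h11 : 11 ∣ Nat.card G := by rcases hG with h | h <;> rw [h] <;> norm_num
  have h1 : 11 ∣ Nat.card P := P.dvd_card_of_dvd_card h11
  have h2 : Nat.card P ∣ Nat.card G := Subgroup.card_subgroup_dvd_card _
  rw [hk] at h1 h2 ⊢
  rcases k with _ | _ | k
  · norm_num at h1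
  · norm_num
  · exfalso
    have h3 : 121 ∣ Nat.card G := dvd_trans ⟨11 ^ k, by ring⟩ h2
    rcases hG with h | h <;> rw [h] at h3 <;> norm_num at h3

open SubMulAction in
/-- The stabilizer of a point of a faithful action acts faithfully on the other points. -/
theorem faithful_ofStabilizer {G α : Type*} [Group G] [MulAction G α] [FaithfulSMul G α] (a : α) :
    FaithfulSMul (stabilizer G a) (ofStabilizer G a) := by
  refine ⟨fun {h h'} hh => ?_⟩
  apply Subtype.ext
  apply FaithfulSMul.eq_of_smul_eq_smul (α := α)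
  intro x
  by_cases hx : x = a
  · rw [hx, mem_stabilizer_iff.mp h.2, mem_stabilizer_iff.mp h'.2]
  · exact congrArg Subtype.val (hh ⟨x, hx⟩)

open SubMulAction in
/-- Sharpness passes to the stabilizer of a point. -/
theorem sharp_ofStabilizer {G α : Type*} [Group G] [MulAction G α] (a : α) (k : ℕ)
    (hsharp : ∀ x : Fin (k + 1) ↪ α, stabilizer G x = ⊥) (x : Fin k ↪ ofStabilizer G a) :
    stabilizer (stabilizer G a) x = ⊥ := by
  rw [Subgroup.eq_bot_iff_forall]
  intro h hh
  rw [mem_stabilizer_iff] at hh
  have h1 : (h : G) ∈ stabilizer G (ofStabilizer.snoc x) := by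
    rw [mem_stabilizer_iff]
    ext i
    rw [Function.Embedding.smul_apply]
    rcases Fin.eq_castSucc_or_eq_last i with ⟨j, rfl⟩ | rfl
    · rw [ofStabilizer.snoc_castSucc]
      have h2 := congrArg (fun y : Fin k ↪ ofStabilizer G a => ((y j : ofStabilizer G a) : α)) hh
      exact h2
    · rw [ofStabilizer.snoc_last]
      exact h.2
  rw [hsharp] at h1
  exact Subtype.ext (Subgroup.mem_bot.mp h1)

open SubMulAction in
/-- A group acting faithfully and sharply 4-transitively on 11 points is simple of order 7920. -/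
theorem sharp_four_eleven {G α : Type*} [Group G] [MulAction G α] [FaithfulSMul G α] [Finite α]
    (hα : Nat.card α = 11) [h4 : IsMultiplyPretransitive G α 4]
    (hsharp : ∀ x : Fin 4 ↪ α, stabilizer G x = ⊥) : IsSimpleGroup G ∧ Nat.card G = 7920 := by
  have hp11 : Fact (Nat.Prime 11) := ⟨by norm_num⟩
  have hfin : Finite G := Finite.of_injective _ (MulAction.toPerm_injective (α := G) (β := α))
  have hcard : Nat.card G = 7920 := by
    rw [card_of_sharp 4 hsharp (by omega), hα]
    rfl
  have h2 : IsMultiplyPretransitive G α 2 :=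
    isMultiplyPretransitive_of_le (n := 4) (by norm_num) (by omega)
  have h1 : IsPretransitive G α := isPretransitive_of_is_two_pretransitive
  have hnt : Nontrivial G := by
    rw [← Finite.one_lt_card_iff_nontrivial, hcard]
    norm_num
  have hne : Nonempty α := by
    rw [← Finite.card_pos_iff, hα]
    norm_num
  obtain ⟨a⟩ := hne
  refine ⟨{ toNontrivial := hnt, eq_bot_or_eq_top_of_normal := fun N hN => ?_ }, hcard⟩
  by_cases hbot : N = ⊥
  · exact Or.inl hbot
  right
  have htr : IsPretransitive N α := normal_pretransitive N hbot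
  have h11 : 11 ∣ Nat.card N := by
    have h := index_stabilizer_of_transitive N a
    rw [hα] at h
    rw [← h]
    exact Subgroup.index_dvd_card _
  obtain ⟨x, hx⟩ := exists_prime_orderOf_dvd_card' 11 h11
  have hz : IsPGroup 11 (Subgroup.zpowers (x : G)) := by
    apply IsPGroup.of_card (n := 1)
    rw [Nat.card_zpowers, Subgroup.orderOf_coe, hx, pow_one]
  obtain ⟨P, hP⟩ := hz.exists_le_sylow
  have hPcard : Nat.card P = 11 := sylow_eleven_card (Or.inl hcard) P
  have hPeq : Subgroup.zpowers (x : G) = P :=
    Subgroup.eq_of_le_of_card_ge hP (by rw [hPcard, Nat.card_zpowers, Subgroup.orderOf_coe, hx])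
  have hPN : (P : Subgroup G) ≤ N := by
    rw [← hPeq, Subgroup.zpowers_le]
    exact x.2
  have hcent := mem_of_commute_of_prime (α := α) (P : Subgroup G) 11 hPcard (by omega)
  rcases index_eq_one_or_five (Or.inl hcard) P hcent N hPN with hidx | hidx
  · exact Subgroup.index_eq_one.mp hidx
  exfalso
  have hHcard : Nat.card (stabilizer G a) * 11 = 7920 := by
    have h := Subgroup.card_mul_index (stabilizer G a)
    rwa [index_stabilizer_of_transitive, hα, hcard] at h
  have hNcard : Nat.card N * 5 = 7920 := by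
    have h := Subgroup.card_mul_index N
    rwa [hidx, hcard] at h
  have hf : FaithfulSMul (stabilizer G a) (ofStabilizer G a) := faithful_ofStabilizer a
  have h3 : IsMultiplyPretransitive (stabilizer G a) (ofStabilizer G a) 3 :=
    ofStabilizer.isMultiplyPretransitive.mp h4
  have hβ : Nat.card (ofStabilizer G a) = 10 := by
    rw [nat_card_ofStabilizer_eq, hα]
  have h2' : IsMultiplyPretransitive (stabilizer G a) (ofStabilizer G a) 2 :=
    isMultiplyPretransitive_of_le (n := 3) (by norm_num) (by omega)
  have hN'idx : (N.subgroupOf (stabilizer G a)).index ∣ 5 := by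
    rw [← hidx]
    exact Subgroup.relIndex_dvd_index_of_normal ..
  have hN'card := Subgroup.card_mul_index (N.subgroupOf (stabilizer G a))
  have hN'ne : N.subgroupOf (stabilizer G a) ≠ ⊥ := by
    intro h
    rw [h, Subgroup.card_bot, one_mul] at hN'card
    rw [h, hN'card] at hN'idx
    have h5 := Nat.le_of_dvd (by norm_num) hN'idx
    omega
  have htr' : IsPretransitive (N.subgroupOf (stabilizer G a)) (ofStabilizer G a) :=
    normal_pretransitive _ hN'ne
  have hne' : Nonempty (ofStabilizer G a) := by
    rw [← Finite.card_pos_iff, hβ]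
    norm_num
  obtain ⟨b⟩ := hne'
  have h10 : 10 ∣ Nat.card (N.subgroupOf (stabilizer G a)) := by
    have h := index_stabilizer_of_transitive (N.subgroupOf (stabilizer G a)) b
    rw [hβ] at h
    rw [← h]
    exact Subgroup.index_dvd_card _
  have hidx1 : (N.subgroupOf (stabilizer G a)).index = 1 := by
    rcases (Nat.dvd_prime Nat.prime_five).mp hN'idx with h | h
    · exact h
    · exfalso
      rw [h] at hN'card
      obtain ⟨c, hc⟩ := h10
      omega
  have hHN : stabilizer G a ≤ N := Subgroup.subgroupOf_eq_top.mp (Subgroup.index_eq_one.mp hidx1)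
  obtain ⟨c, hc⟩ := Subgroup.card_dvd_of_le hHN
  have h720 : Nat.card (stabilizer G a) = 720 := by omega
  rw [h720] at hc
  omega

open SubMulAction in
/-- A group acting faithfully and sharply 5-transitively on 12 points is simple of order 95040. -/
theorem sharp_five_twelve {G α : Type*} [Group G] [MulAction G α] [FaithfulSMul G α] [Finite α]
    (hα : Nat.card α = 12) [h5 : IsMultiplyPretransitive G α 5]
    (hsharp : ∀ x : Fin 5 ↪ α, stabilizer G x = ⊥) : IsSimpleGroup G ∧ Nat.card G = 95040 := by
  have hfin : Finite G := Finite.of_injective _ (MulAction.toPerm_injective (α := G) (β := α))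
  have hcard : Nat.card G = 95040 := by
    rw [card_of_sharp 5 hsharp (by omega), hα]
    rfl
  have h2 : IsMultiplyPretransitive G α 2 :=
    isMultiplyPretransitive_of_le (n := 5) (by norm_num) (by omega)
  have h1 : IsPretransitive G α := isPretransitive_of_is_two_pretransitive
  have hnt : Nontrivial G := by
    rw [← Finite.one_lt_card_iff_nontrivial, hcard]
    norm_num
  have hne : Nonempty α := by
    rw [← Finite.card_pos_iff, hα]
    norm_num
  obtain ⟨a⟩ := hne
  have hf : FaithfulSMul (stabilizer G a) (ofStabilizer G a) := faithful_ofStabilizer a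
  have h4 : IsMultiplyPretransitive (stabilizer G a) (ofStabilizer G a) 4 :=
    ofStabilizer.isMultiplyPretransitive.mp h5
  have hβ : Nat.card (ofStabilizer G a) = 11 := by
    rw [nat_card_ofStabilizer_eq, hα]
  have h2' : IsMultiplyPretransitive (stabilizer G a) (ofStabilizer G a) 2 :=
    isMultiplyPretransitive_of_le (n := 4) (by norm_num) (by omega)
  have h1' : IsPretransitive (stabilizer G a) (ofStabilizer G a) :=
    isPretransitive_of_is_two_pretransitive
  obtain ⟨hHsimple, -⟩ := sharp_four_eleven hβ (sharp_ofStabilizer a 4 hsharp)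
  refine ⟨{ toNontrivial := hnt, eq_bot_or_eq_top_of_normal := fun N hN => ?_ }, hcard⟩
  by_cases hbot : N = ⊥
  · exact Or.inl hbot
  right
  have htr : IsPretransitive N α := normal_pretransitive N hbot
  rcases hHsimple.eq_bot_or_eq_top_of_normal (N.subgroupOf (stabilizer G a)) inferInstance
    with h | h
  · -- `N` would be regular of order 12 with all non-identity elements conjugate
    exfalso
    have hreg : ∀ n ∈ N, n • a = a → n = 1 := by
      intro n hn hna
      have h6 : (⟨n, hna⟩ : stabilizer G a) ∈ N.subgroupOf (stabilizer G a) := hn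
      rw [h, Subgroup.mem_bot] at h6
      exact congrArg Subtype.val h6
    have hconj : ∀ n₁ ∈ N, ∀ n₂ ∈ N, n₁ ≠ 1 → n₂ ≠ 1 → orderOf n₁ = orderOf n₂ := by
      intro n₁ hn₁ n₂ hn₂ hne₁ hne₂
      have hb₁ : n₁ • a ≠ a := fun h => hne₁ (hreg n₁ hn₁ h)
      have hb₂ : n₂ • a ≠ a := fun h => hne₂ (hreg n₂ hn₂ h)
      obtain ⟨k, hk⟩ := exists_smul_eq (stabilizer G a)
        (⟨n₁ • a, hb₁⟩ : ofStabilizer G a) ⟨n₂ • a, hb₂⟩
      have hk' : (k : G) • (n₁ • a) = n₂ • a := congrArg Subtype.val hk
      have hka : (k : G) • a = a := k.2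
      have hka' : (k : G)⁻¹ • a = a := by
        rw [inv_smul_eq_iff, hka]
      have hc : (k : G) * n₁ * (k : G)⁻¹ = n₂ := by
        have hmem : n₂⁻¹ * ((k : G) * n₁ * (k : G)⁻¹) ∈ N :=
          N.mul_mem (N.inv_mem hn₂) (hN.conj_mem n₁ hn₁ k)
        have hfix : (n₂⁻¹ * ((k : G) * n₁ * (k : G)⁻¹)) • a = a := by
          rw [mul_smul, mul_smul, mul_smul, hka', hk', inv_smul_smul]
        exact (inv_mul_eq_one.mp (hreg _ hmem hfix)).symm
      have hsc : SemiconjBy (k : G) n₁ n₂ := by
        unfold SemiconjBy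
        rw [← hc]
        group
      exact hsc.orderOf_eq
    have h12 : 12 ∣ Nat.card N := by
      have h := index_stabilizer_of_transitive N a
      rw [hα] at h
      rw [← h]
      exact Subgroup.index_dvd_card _
    have hp2 : Fact (Nat.Prime 2) := ⟨Nat.prime_two⟩
    have hp3 : Fact (Nat.Prime 3) := ⟨Nat.prime_three⟩
    obtain ⟨x, hx⟩ := exists_prime_orderOf_dvd_card' 2 (dvd_trans (by norm_num) h12)
    obtain ⟨y, hy⟩ := exists_prime_orderOf_dvd_card' 3 (dvd_trans (by norm_num) h12)
    have hx1 : (x : G) ≠ 1 := by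
      intro h
      rw [← Subgroup.orderOf_coe, h, orderOf_one] at hx
      norm_num at hx
    have hy1 : (y : G) ≠ 1 := by
      intro h
      rw [← Subgroup.orderOf_coe, h, orderOf_one] at hy
      norm_num at hy
    have h7 := hconj x x.2 y y.2 hx1 hy1
    rw [Subgroup.orderOf_coe, Subgroup.orderOf_coe, hx, hy] at h7
    norm_num at h7
  · -- the point stabilizer lies in `N`, which is transitive
    have hHN : stabilizer G a ≤ N := Subgroup.subgroupOf_eq_top.mp h
    rw [eq_top_iff]
    intro g _
    obtain ⟨n, hn⟩ := exists_smul_eq N a (g • a)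
    have hn' : (n : G) • a = g • a := hn
    have h8 : (n : G)⁻¹ * g ∈ stabilizer G a := by
      rw [mem_stabilizer_iff, mul_smul, ← hn', inv_smul_smul]
    have h9 : (n : G) * ((n : G)⁻¹ * g) ∈ N := N.mul_mem n.2 (hHN h8)
    rwa [mul_inv_cancel_left] at h9

end Cfsg.Agent.Lib.helper10
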