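import Mathlib
import Cfsg.Agent.Lib.helper10.SharpTrans

/-!
Jordan's theorem on the degrees of sharply `k`-transitive groups (`k ≥ 4`), for a group `G`
acting faithfully on a finite type `α`.
-/

set_option autoImplicit false

namespace Cfsg.Agent.Lib.helper10

open MulAction

theorem injective_vec4 {α : Type*} {a b c d : α} (hab : a ≠ b) (hac : a ≠ c) (had : a ≠ d)
    (hbc : b ≠ c) (hbd : b ≠ d) (hcd : c ≠ d) : Function.Injective ![a, b, c, d] := by
  intro i j h
  fin_cases i <;> fin_cases j <;> simp_all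

theorem forall_fin4 {P : Fin 4 → Prop} (h0 : P 0) (h1 : P 1) (h2 : P 2) (h3 : P 3) :
    ∀ i, P i := by
  intro i
  fin_cases i <;> assumption

/-- In a sharply 4-transitive group, two elements agreeing on a 4-tuple are equal. -/
theorem eq_of_smul_eq_four {G α : Type*} [Group G] [MulAction G α]
    (hsharp : ∀ x : Fin 4 ↪ α, stabilizer G x = ⊥) (g g' : G) (x : Fin 4 ↪ α)
    (h : ∀ i, g • x i = g' • x i) : g = g' := by
  have h1 : g'⁻¹ * g ∈ stabilizer G x := by
    rw [mem_stabilizer_iff]
    ext i
    rw [Function.Embedding.smul_apply, mul_smul, h i, inv_smul_smul]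
  rw [hsharp, Subgroup.mem_bot] at h1
  exact (inv_mul_eq_one.mp h1).symm

/-- The centraliser of an involution `t` of a sharply 4-transitive group is in bijection with the
pairs `(a, c)` of points moved by `t` with `c ∉ {a, t a}`. -/
theorem card_centralizer_eq {G α : Type*} [Group G] [MulAction G α]
    [h4 : IsMultiplyPretransitive G α 4] (hsharp : ∀ x : Fin 4 ↪ α, stabilizer G x = ⊥)
    (t : G) (ht : t * t = 1) (a₀ c₀ : α) (ha : t • a₀ ≠ a₀) (hc : t • c₀ ≠ c₀) (hca : c₀ ≠ a₀)
    (hcta : c₀ ≠ t • a₀) :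
    Nat.card (Subgroup.centralizer ({t} : Set G)) =
      Nat.card {p : α × α // t • p.1 ≠ p.1 ∧ t • p.2 ≠ p.2 ∧ p.2 ≠ p.1 ∧ p.2 ≠ t • p.1} := by
  have htt : ∀ a : α, t • t • a = a := fun a => by rw [← mul_smul, ht, one_smul]
  have hinj4 : ∀ a c : α, t • a ≠ a → t • c ≠ c → c ≠ a → c ≠ t • a →
      Function.Injective ![a, t • a, c, t • c] := by
    intro a c h1 h2 h3 h4'
    refine injective_vec4 (Ne.symm h1) (Ne.symm h3) ?_ (Ne.symm h4') ?_ (Ne.symm h2)
    · intro h
      apply h4'
      rw [h, htt]
    · intro h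
      exact h3 (MulAction.injective t h).symm
  have hcomm : ∀ g : G, g ∈ Subgroup.centralizer ({t} : Set G) → ∀ a : α,
      g • t • a = t • g • a := by
    intro g hg a
    rw [Subgroup.mem_centralizer_iff] at hg
    rw [← mul_smul, ← mul_smul, hg t rfl]
  let x₀ : Fin 4 ↪ α := ⟨![a₀, t • a₀, c₀, t • c₀], hinj4 a₀ c₀ ha hc hca hcta⟩
  refine Nat.card_eq_of_bijective
    (fun g => ⟨(g.1 • a₀, g.1 • c₀), ?_, ?_, ?_, ?_⟩) ⟨?_, ?_⟩
  · show t • g.1 • a₀ ≠ g.1 • a₀
    rw [← hcomm g.1 g.2]
    exact fun h => ha (MulAction.injective g.1 h)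
  · show t • g.1 • c₀ ≠ g.1 • c₀
    rw [← hcomm g.1 g.2]
    exact fun h => hc (MulAction.injective g.1 h)
  · show g.1 • c₀ ≠ g.1 • a₀
    exact fun h => hca (MulAction.injective g.1 h)
  · show g.1 • c₀ ≠ t • g.1 • a₀
    rw [← hcomm g.1 g.2]
    exact fun h => hcta (MulAction.injective g.1 h)
  · -- injectivity
    intro g g' hgg
    have h1 : g.1 • a₀ = g'.1 • a₀ := congrArg (fun p => p.1.1) hgg
    have h2 : g.1 • c₀ = g'.1 • c₀ := congrArg (fun p => p.1.2) hgg
    apply Subtype.ext
    apply eq_of_smul_eq_four hsharp g.1 g'.1 x₀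
    refine forall_fin4 h1 ?_ h2 ?_
    · show g.1 • t • a₀ = g'.1 • t • a₀
      rw [hcomm g.1 g.2, hcomm g'.1 g'.2, h1]
    · show g.1 • t • c₀ = g'.1 • t • c₀
      rw [hcomm g.1 g.2, hcomm g'.1 g'.2, h2]
  · -- surjectivity
    rintro ⟨⟨a, c⟩, h1, h2, h3, h4'⟩
    let x : Fin 4 ↪ α := ⟨![a, t • a, c, t • c], hinj4 a c h1 h2 h3 h4'⟩
    obtain ⟨g, hg⟩ := exists_smul_eq G x₀ x
    have hg0 : g • a₀ = a := congrArg (fun y : Fin 4 ↪ α => y 0) hg
    have hg1 : g • t • a₀ = t • a := congrArg (fun y : Fin 4 ↪ α => y 1) hg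
    have hg2 : g • c₀ = c := congrArg (fun y : Fin 4 ↪ α => y 2) hg
    have hg3 : g • t • c₀ = t • c := congrArg (fun y : Fin 4 ↪ α => y 3) hg
    have hgt : t * g = g * t := by
      apply eq_of_smul_eq_four hsharp _ _ x₀
      refine forall_fin4 ?_ ?_ ?_ ?_
      · show (t * g) • a₀ = (g * t) • a₀
        rw [mul_smul, mul_smul, hg0, hg1]
      · show (t * g) • t • a₀ = (g * t) • t • a₀
        rw [mul_smul, mul_smul, hg1, htt, htt, hg0]
      · show (t * g) • c₀ = (g * t) • c₀
        rw [mul_smul, mul_smul, hg2, hg3]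
      · show (t * g) • t • c₀ = (g * t) • t • c₀
        rw [mul_smul, mul_smul, hg3, htt, htt, hg2]
    have hgC : g ∈ Subgroup.centralizer ({t} : Set G) := by
      rw [Subgroup.mem_centralizer_iff]
      intro h hh
      rw [Set.mem_singleton_iff] at hh
      rw [hh]
      exact hgt
    refine ⟨⟨g, hgC⟩, ?_⟩
    apply Subtype.ext
    show (g • a₀, g • c₀) = (a, c)
    rw [hg0, hg2]

/-- Counting the pairs `(a, c)` of points moved by an involution `t` with `c ∉ {a, t a}`. -/
theorem card_pairs {G α : Type*} [Group G] [MulAction G α] [Finite α] (t : G) (ht : t * t = 1) :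
    Nat.card {p : α × α // t • p.1 ≠ p.1 ∧ t • p.2 ≠ p.2 ∧ p.2 ≠ p.1 ∧ p.2 ≠ t • p.1} =
      (fixedBy α t)ᶜ.ncard * ((fixedBy α t)ᶜ.ncard - 2) := by
  classical
  have := Fintype.ofFinite α
  have htt : ∀ a : α, t • t • a = a := fun a => by rw [← mul_smul, ht, one_smul]
  set M : Finset α := Finset.univ.filter (fun a => t • a ≠ a) with hM
  have hMset : (fixedBy α t)ᶜ = (M : Set α) := by
    ext a
    simp [hM, mem_fixedBy]
  rw [hMset, Set.ncard_coe_finset]
  let S : Finset (α × α) :=
    (M.sigma (fun a => (M.erase a).erase (t • a))).map (Equiv.sigmaEquivProd α α).toEmbedding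
  have hS : ∀ p : α × α, p ∈ S ↔
      (t • p.1 ≠ p.1 ∧ t • p.2 ≠ p.2 ∧ p.2 ≠ p.1 ∧ p.2 ≠ t • p.1) := by
    rintro ⟨a, c⟩
    simp only [S, Finset.mem_map_equiv, Equiv.sigmaEquivProd_symm_apply, Finset.mem_sigma,
      Finset.mem_erase, hM, Finset.mem_filter, Finset.mem_univ, true_and]
    tauto
  rw [Nat.card_eq_fintype_card, Fintype.card_of_subtype S hS, Finset.card_map, Finset.card_sigma]
  have hfib : ∀ a ∈ M, ((M.erase a).erase (t • a)).card = M.card - 2 := by
    intro a ha
    have ha' : t • a ≠ a := by simpa [hM] using ha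
    have h1 : t • a ∈ M.erase a := by
      rw [Finset.mem_erase]
      refine ⟨ha', ?_⟩
      rw [hM, Finset.mem_filter]
      refine ⟨Finset.mem_univ _, ?_⟩
      rw [htt]
      exact Ne.symm ha'
    rw [Finset.card_erase_of_mem h1, Finset.card_erase_of_mem ha]
    omega
  rw [Finset.sum_congr rfl hfib, Finset.sum_const, smul_eq_mul]

/-- The centraliser of `t` permutes the fixed points of `t`; its order divides
`(number of fixed points)! * |pointwise stabiliser of the fixed points|`. -/
theorem card_centralizer_dvd {G α : Type*} [Group G] [MulAction G α] [Finite α] [Finite G]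
    (t : G) :
    Nat.card (Subgroup.centralizer ({t} : Set G)) ∣
      (fixedBy α t).ncard.factorial * Nat.card (fixingSubgroup G (fixedBy α t)) := by
  classical
  let S : SubMulAction (Subgroup.centralizer ({t} : Set G)) α :=
    { carrier := fixedBy α t
      smul_mem' := by
        intro c x hx
        rw [mem_fixedBy] at hx
        have hc := Subgroup.mem_centralizer_iff.mp c.2 t rfl
        show t • (c : G) • x = (c : G) • x
        rw [← mul_smul, hc, mul_smul, hx] }
  let ρ : Subgroup.centralizer ({t} : Set G) →* Equiv.Perm S :=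
    MulAction.toPermHom (Subgroup.centralizer ({t} : Set G)) S
  have h1 := Subgroup.card_mul_index ρ.ker
  rw [Subgroup.index_ker] at h1
  have hS : Nat.card S = (fixedBy α t).ncard := Nat.card_coe_set_eq (fixedBy α t)
  have h2 : Nat.card ρ.range ∣ (fixedBy α t).ncard.factorial := by
    have h := Subgroup.card_subgroup_dvd_card ρ.range
    rwa [Nat.card_perm, hS] at h
  have h3 : Nat.card ρ.ker ∣ Nat.card (fixingSubgroup G (fixedBy α t)) := by
    have hle : ρ.ker.map (Subgroup.centralizer ({t} : Set G)).subtype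
        ≤ fixingSubgroup G (fixedBy α t) := by
      rintro _ ⟨c, hc, rfl⟩
      rw [mem_fixingSubgroup_iff]
      intro y hy
      have h := congrArg (fun σ : Equiv.Perm S => ((σ ⟨y, hy⟩ : S) : α)) (MonoidHom.mem_ker.mp hc)
      exact h
    have h := Subgroup.card_dvd_of_le hle
    rwa [Subgroup.card_map_of_injective (Subgroup.subtype_injective _)] at h
  rw [← h1, mul_comm]
  exact Nat.mul_dvd_mul h2 h3

/-- Order of the pointwise stabiliser of a set of at most four points in a sharply 4-transitive
group. -/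
theorem card_fixingSubgroup_mul {G α : Type*} [Group G] [MulAction G α] [Finite α] [Finite G]
    [h4 : IsMultiplyPretransitive G α 4] (hsharp : ∀ x : Fin 4 ↪ α, stabilizer G x = ⊥)
    (h4n : 4 ≤ Nat.card α) (s : Set α) (hs : s.ncard ≤ 4) :
    Nat.card (fixingSubgroup G s) * (Nat.card α).descFactorial s.ncard
      = (Nat.card α).descFactorial 4 := by
  have hk : IsMultiplyPretransitive G α s.ncard := isMultiplyPretransitive_of_le (n := 4) hs h4n
  have h1 := MulAction.IsMultiplyPretransitive.index_of_fixingSubgroup_eq s hk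
  have h2 := Subgroup.card_mul_index (fixingSubgroup G s)
  rw [h1, card_of_sharp 4 hsharp h4n] at h2
  rw [Nat.descFactorial_eq_factorial_mul_choose, mul_comm (s.ncard.factorial)]
  exact h2

theorem descFactorial_four (n : ℕ) :
    n.descFactorial 4 = (n - 3) * ((n - 2) * n.descFactorial 2) := by
  show n.descFactorial (2 + 1 + 1) = _
  rw [Nat.descFactorial_succ, Nat.descFactorial_succ]

theorem descFactorial_four' (n : ℕ) :
    n.descFactorial 4 = (n - 3) * n.descFactorial 3 := by
  show n.descFactorial (3 + 1) = _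
  rw [Nat.descFactorial_succ]

/-- **Jordan**: a sharply 4-transitive group of degree at least 7 has degree 7 or 11. -/
theorem sharp_four_seven_or_eleven {G α : Type*} [Group G] [MulAction G α] [FaithfulSMul G α]
    [Finite α] [h4 : IsMultiplyPretransitive G α 4]
    (hsharp : ∀ x : Fin 4 ↪ α, stabilizer G x = ⊥) (hn : 7 ≤ Nat.card α) :
    Nat.card α = 7 ∨ Nat.card α = 11 := by
  classical
  have hfin : Finite G := Finite.of_injective _ (MulAction.toPerm_injective (α := G) (β := α))
  have hp2 : Fact (Nat.Prime 2) := ⟨Nat.prime_two⟩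
  obtain ⟨k, hk⟩ : ∃ k, Nat.card α = k + 7 := ⟨Nat.card α - 7, by omega⟩
  have hnt : Nontrivial α := by
    rw [← Finite.one_lt_card_iff_nontrivial]
    omega
  obtain ⟨a, b, hab⟩ := exists_pair_ne α
  -- an involution fixing `a` and `b`
  have h2 := card_fixingSubgroup_mul hsharp (by omega) ({a, b} : Set α)
    (by rw [Set.ncard_pair hab]; norm_num)
  rw [Set.ncard_pair hab, descFactorial_four, hk] at h2
  have hpos2 : 0 < (k + 7).descFactorial 2 := Nat.descFactorial_pos.mpr (by omega)
  have hK2 : Nat.card (fixingSubgroup G ({a, b} : Set α)) = (k + 4) * (k + 5) := by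
    apply Nat.eq_of_mul_eq_mul_right hpos2
    rw [h2]
    have e1 : k + 7 - 3 = k + 4 := by omega
    have e2 : k + 7 - 2 = k + 5 := by omega
    rw [e1, e2, mul_assoc]
  have heven : 2 ∣ Nat.card (fixingSubgroup G ({a, b} : Set α)) := by
    rw [hK2]
    exact (Nat.even_mul_succ_self (k + 4)).two_dvd
  obtain ⟨t', ht'⟩ := exists_prime_orderOf_dvd_card' 2 heven
  have ht2 : orderOf (t' : G) = 2 := by
    rw [Subgroup.orderOf_coe]
    exact ht'
  have htt : (t' : G) * (t' : G) = 1 := by
    rw [← pow_two, ← ht2, pow_orderOf_eq_one]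
  have ht1 : (t' : G) ≠ 1 := by
    intro h
    rw [h, orderOf_one] at ht2
    norm_num at ht2
  have hta : (t' : G) • a = a := ((mem_fixingSubgroup_iff G).mp t'.2) a (by simp)
  have htb : (t' : G) • b = b := ((mem_fixingSubgroup_iff G).mp t'.2) b (by simp)
  generalize (t' : G) = t at ht2 htt ht1 hta htb
  -- the number of fixed points is 2 or 3
  have hf2 : 2 ≤ (fixedBy α t).ncard := by
    have hsub : ({a, b} : Set α) ⊆ fixedBy α t := by
      intro x hx
      rcases hx with rfl | rfl
      · exact hta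
      · exact htb
    have h := Set.ncard_le_ncard hsub
    rwa [Set.ncard_pair hab] at h
  have hf3 : (fixedBy α t).ncard ≤ 3 := by
    by_contra hcon
    have hft := Fintype.ofFinite (fixedBy α t)
    have hne : Nonempty (Fin 4 ↪ fixedBy α t) := by
      apply Function.Embedding.nonempty_of_card_le
      rw [Fintype.card_fin, ← Nat.card_eq_fintype_card, Nat.card_coe_set_eq]
      omega
    obtain ⟨e⟩ := hne
    apply ht1
    apply eq_of_smul_eq_four hsharp t 1 (e.trans (Function.Embedding.subtype _))
    intro i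
    rw [one_smul]
    exact (e i).2
  have hmn : (fixedBy α t)ᶜ.ncard + (fixedBy α t).ncard = Nat.card α :=
    Set.ncard_compl_add_ncard (fixedBy α t)
  -- two suitable moved points
  have hpairs := card_pairs (α := α) t htt
  obtain ⟨a₀, c₀, ha, hc, hca, hcta⟩ :
      ∃ a₀ c₀ : α, t • a₀ ≠ a₀ ∧ t • c₀ ≠ c₀ ∧ c₀ ≠ a₀ ∧ c₀ ≠ t • a₀ := by
    have hpos : 0 < Nat.card
        {p : α × α // t • p.1 ≠ p.1 ∧ t • p.2 ≠ p.2 ∧ p.2 ≠ p.1 ∧ p.2 ≠ t • p.1} := by
      rw [hpairs]
      apply Nat.mul_pos <;> omega
    obtain ⟨⟨⟨a₀, c₀⟩, h⟩⟩ := (Nat.card_pos_iff.mp hpos).1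
    exact ⟨a₀, c₀, h⟩
  have hC : Nat.card (Subgroup.centralizer ({t} : Set G))
      = (fixedBy α t)ᶜ.ncard * ((fixedBy α t)ᶜ.ncard - 2) := by
    rw [card_centralizer_eq hsharp t htt a₀ c₀ ha hc hca hcta, hpairs]
  have hdvd := card_centralizer_dvd (α := α) t
  have h2C : 2 ∣ Nat.card (Subgroup.centralizer ({t} : Set G)) := by
    have hmem : t ∈ Subgroup.centralizer ({t} : Set G) := by
      rw [Subgroup.mem_centralizer_iff]
      intro h hh
      rw [Set.mem_singleton_iff] at hh
      rw [hh]
    have h := orderOf_dvd_natCard (⟨t, hmem⟩ : Subgroup.centralizer ({t} : Set G))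
    rwa [← Subgroup.orderOf_coe, ht2] at h
  have hK := card_fixingSubgroup_mul hsharp (by omega) (fixedBy α t) (by omega)
  rw [hC] at hdvd h2C
  have hf : (fixedBy α t).ncard = 2 ∨ (fixedBy α t).ncard = 3 := by omega
  rcases hf with hf | hf
  · -- two fixed points: impossible
    exfalso
    have hm : (fixedBy α t)ᶜ.ncard = k + 5 := by omega
    rw [hf, descFactorial_four, hk] at hK
    have hKc : Nat.card (fixingSubgroup G (fixedBy α t)) = (k + 4) * (k + 5) := by
      apply Nat.eq_of_mul_eq_mul_right hpos2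
      rw [hK]
      have e1 : k + 7 - 3 = k + 4 := by omega
      have e2 : k + 7 - 2 = k + 5 := by omega
      rw [e1, e2, mul_assoc]
    rw [hf, hm, hKc] at hdvd
    have e3 : k + 5 - 2 = k + 3 := by omega
    rw [e3] at hdvd
    have h5 : (k + 5) * (k + 3) ∣ (k + 5) * (2 * (k + 4)) := by
      have e4 : Nat.factorial 2 * ((k + 4) * (k + 5)) = (k + 5) * (2 * (k + 4)) := by
        rw [Nat.factorial_two]; ring
      rwa [e4] at hdvd
    have h6 : (k + 3) ∣ 2 * (k + 4) := Nat.dvd_of_mul_dvd_mul_left (by omega) h5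
    have h7 : (k + 3) ∣ 2 := by
      have e5 : 2 * (k + 4) = 2 * (k + 3) + 2 := by ring
      rw [e5] at h6
      exact (Nat.dvd_add_right (dvd_mul_left _ _)).mp h6
    have h8 := Nat.le_of_dvd (by norm_num) h7
    omega
  · -- three fixed points
    have hm : (fixedBy α t)ᶜ.ncard = k + 4 := by omega
    rw [hf, descFactorial_four', hk] at hK
    have hpos3 : 0 < (k + 7).descFactorial 3 := Nat.descFactorial_pos.mpr (by omega)
    have hKc : Nat.card (fixingSubgroup G (fixedBy α t)) = k + 4 := by
      apply Nat.eq_of_mul_eq_mul_right hpos3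
      rw [hK]
      have e1 : k + 7 - 3 = k + 4 := by omega
      rw [e1]
    rw [hf, hm, hKc] at hdvd
    rw [hm] at h2C
    have e3 : k + 4 - 2 = k + 2 := by omega
    rw [e3] at hdvd h2C
    have h5 : (k + 4) * (k + 2) ∣ (k + 4) * 6 := by
      have e4 : Nat.factorial 3 * (k + 4) = (k + 4) * 6 := by
        rw [show Nat.factorial 3 = 6 from rfl]; ring
      rwa [e4] at hdvd
    have h6 : (k + 2) ∣ 6 := Nat.dvd_of_mul_dvd_mul_left (by omega) h5
    have h8 := Nat.le_of_dvd (by norm_num) h6
    have hk4 : k ≤ 4 := by omega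
    rw [hk]
    interval_cases k
    · left; rfl
    · exfalso; revert h2C; decide
    · exfalso; revert h6; decide
    · exfalso; revert h6; decide
    · right; rfl

/-- Sylow data for a self-centralising Sylow subgroup of prime order `p`: the normaliser has
order `p * r` with `r ∣ p - 1`, and its index is `≡ 1` modulo `p`. -/
theorem sylow_prime_data {G : Type*} [Group G] [Finite G] (p : ℕ) [hp : Fact p.Prime]
    (P : Sylow p G) (hP : Nat.card P = p)
    (hcent : ∀ g : G, (∀ q ∈ P, g * q = q * g) → g ∈ P) :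
    ∃ r k : ℕ, r ∣ p - 1 ∧ Nat.card (Subgroup.normalizer ((P : Subgroup G) : Set G)) = p * r ∧
      p * r * k = Nat.card G ∧ k ≡ 1 [MOD p] ∧
      Subgroup.centralizer ((P : Subgroup G) : Set G) = P := by
  have hcyc : IsCyclic P := isCyclic_of_prime_card hP
  have hC : Subgroup.centralizer ((P : Subgroup G) : Set G) = P := by
    apply le_antisymm
    · intro g hg
      apply hcent
      intro q hq
      exact (Subgroup.mem_centralizer_iff.mp hg q hq).symm
    · intro g hg
      rw [Subgroup.mem_centralizer_iff]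
      intro q hq
      have hmc : IsMulCommutative P := IsCyclic.isMulCommutative
      exact congrArg Subtype.val (mul_comm' (⟨q, hq⟩ : P) ⟨g, hg⟩)
  have key : (Subgroup.centralizer ((P : Subgroup G) : Set G)).relIndex
      (Subgroup.normalizer ((P : Subgroup G) : Set G)) ∣ p - 1 := by
    have key := Subgroup.card_dvd_of_injective _
      (QuotientGroup.kerLift_injective (P : Subgroup G).normalizerMonoidHom)
    rw [Subgroup.normalizerMonoidHom_ker, ← Subgroup.index, ← Subgroup.relIndex] at key
    rw [IsCyclic.card_mulAut, hP, Nat.totient_prime hp.out] at key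
    exact key
  have hCM : Subgroup.centralizer ((P : Subgroup G) : Set G)
      ≤ Subgroup.normalizer ((P : Subgroup G) : Set G) := Subgroup.centralizer_le_normalizer _
  have hcardM := card_eq_card_mul_relIndex hCM
  have hcardC : Nat.card (Subgroup.centralizer ((P : Subgroup G) : Set G)) = p := by
    rw [hC]; exact hP
  have hsyl : Nat.card (Sylow p G) = (Subgroup.normalizer ((P : Subgroup G) : Set G)).index :=
    Sylow.card_eq_index_normalizer P
  have hmod : Nat.card (Sylow p G) ≡ 1 [MOD p] := card_sylow_modEq_one p G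
  have h2 := Subgroup.card_mul_index (Subgroup.normalizer ((P : Subgroup G) : Set G))
  rw [hcardM, hcardC, ← hsyl] at h2
  rw [hcardC] at hcardM
  exact ⟨_, _, key, hcardM, h2, hmod, hC⟩

/-- There is no sharply 4-transitive group of degree 7. -/
theorem sharp_four_ne_seven {G α : Type*} [Group G] [MulAction G α] [FaithfulSMul G α]
    [Finite α] [h4 : IsMultiplyPretransitive G α 4]
    (hsharp : ∀ x : Fin 4 ↪ α, stabilizer G x = ⊥) : Nat.card α ≠ 7 := by
  intro h7
  have hfin : Finite G := Finite.of_injective _ (MulAction.toPerm_injective (α := G) (β := α))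
  have hcard : Nat.card G = 840 := by
    rw [card_of_sharp 4 hsharp (by omega), h7]
    rfl
  have hp7 : Fact (Nat.Prime 7) := ⟨by norm_num⟩
  obtain ⟨P⟩ : Nonempty (Sylow 7 G) := inferInstance
  have hP : Nat.card P = 7 := by
    obtain ⟨j, hj⟩ := P.2.exists_card_eq
    have h1 : 7 ∣ Nat.card P := P.dvd_card_of_dvd_card (by rw [hcard]; norm_num)
    have h2 : Nat.card P ∣ Nat.card G := Subgroup.card_subgroup_dvd_card _
    rw [hj] at h1 h2 ⊢
    rcases j with _ | _ | j
    · norm_num at h1
    · norm_num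
    · exfalso
      have h3 : 49 ∣ Nat.card G := dvd_trans ⟨7 ^ j, by ring⟩ h2
      rw [hcard] at h3
      norm_num at h3
  have hcent := mem_of_commute_of_prime (α := α) (P : Subgroup G) 7 hP (by omega)
  obtain ⟨r, k, hr, hN, hrk, hmod, hC⟩ := sylow_prime_data 7 P hP hcent
  have hr1 : r = 1 := by
    have hle : r ≤ 6 := Nat.le_of_dvd (by norm_num) hr
    rw [hcard] at hrk
    unfold Nat.ModEq at hmod
    interval_cases r <;> omega
  have hNP : (P : Subgroup G) = Subgroup.normalizer ((P : Subgroup G) : Set G) := by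
    apply Subgroup.eq_of_le_of_card_ge Subgroup.le_normalizer
    rw [hN, hr1, hP]
  have hNC : Subgroup.normalizer ((P : Subgroup G) : Set G)
      ≤ Subgroup.centralizer ((P : Subgroup G) : Set G) := by
    rw [hC, ← hNP]
  have hcompl := MonoidHom.ker_transferSylow_isComplement' P hNC
  have hKcard := hcompl.card_mul_card
  have hK120 : Nat.card (MonoidHom.transferSylow P hNC).ker = 120 := by
    rw [hP, hcard] at hKcard
    omega
  have hKne : (MonoidHom.transferSylow P hNC).ker ≠ ⊥ := by
    intro h
    rw [h, Subgroup.card_bot] at hK120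
    norm_num at hK120
  have h2 : IsMultiplyPretransitive G α 2 :=
    isMultiplyPretransitive_of_le (n := 4) (by norm_num) (by omega)
  have htr : IsPretransitive (MonoidHom.transferSylow P hNC).ker α :=
    normal_pretransitive _ hKne
  have hne : Nonempty α := by
    rw [← Finite.card_pos_iff, h7]
    norm_num
  obtain ⟨a⟩ := hne
  have h7' : 7 ∣ Nat.card (MonoidHom.transferSylow P hNC).ker := by
    have h := index_stabilizer_of_transitive (MonoidHom.transferSylow P hNC).ker a
    rw [h7] at h
    have h' := Subgroup.index_dvd_card (stabilizer (MonoidHom.transferSylow P hNC).ker a)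
    rwa [h] at h'
  rw [hK120] at h7'
  norm_num at h7'

/-- **Jordan**: the degree of a sharply 4-transitive group is 4, 5, 6 or 11. -/
theorem sharp_four_degree {G α : Type*} [Group G] [MulAction G α] [FaithfulSMul G α]
    [Finite α] [h4 : IsMultiplyPretransitive G α 4]
    (hsharp : ∀ x : Fin 4 ↪ α, stabilizer G x = ⊥) (hn : 4 ≤ Nat.card α) :
    Nat.card α = 4 ∨ Nat.card α = 5 ∨ Nat.card α = 6 ∨ Nat.card α = 11 := by
  by_cases h7 : 7 ≤ Nat.card α
  · rcases sharp_four_seven_or_eleven hsharp h7 with h | h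
    · exact absurd h (sharp_four_ne_seven hsharp)
    · exact Or.inr (Or.inr (Or.inr h))
  · omega

open SubMulAction in
/-- **Jordan**: the degree of a sharply 5-transitive group is 5, 6, 7 or 12. -/
theorem sharp_five_degree {G α : Type*} [Group G] [MulAction G α] [FaithfulSMul G α]
    [Finite α] [h5 : IsMultiplyPretransitive G α 5]
    (hsharp : ∀ x : Fin 5 ↪ α, stabilizer G x = ⊥) (hn : 5 ≤ Nat.card α) :
    Nat.card α = 5 ∨ Nat.card α = 6 ∨ Nat.card α = 7 ∨ Nat.card α = 12 := by
  have h2 : IsMultiplyPretransitive G α 2 :=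
    isMultiplyPretransitive_of_le (n := 5) (by norm_num) hn
  have h1 : IsPretransitive G α := isPretransitive_of_is_two_pretransitive
  have hne : Nonempty α := by
    rw [← Finite.card_pos_iff]
    omega
  obtain ⟨a⟩ := hne
  have hf : FaithfulSMul (stabilizer G a) (ofStabilizer G a) := faithful_ofStabilizer a
  have h4 : IsMultiplyPretransitive (stabilizer G a) (ofStabilizer G a) 4 :=
    ofStabilizer.isMultiplyPretransitive.mp h5
  have hβ : Nat.card (ofStabilizer G a) = Nat.card α - 1 := nat_card_ofStabilizer_eq G a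
  have h := sharp_four_degree (sharp_ofStabilizer a 4 hsharp) (by omega)
  omega

open SubMulAction in
/-- The degree of a sharply 6-transitive group is 6, 7 or 8. -/
theorem sharp_six_degree {G α : Type*} [Group G] [MulAction G α] [FaithfulSMul G α]
    [Finite α] [h6 : IsMultiplyPretransitive G α 6]
    (hsharp : ∀ x : Fin 6 ↪ α, stabilizer G x = ⊥) (hn : 6 ≤ Nat.card α) :
    Nat.card α = 6 ∨ Nat.card α = 7 ∨ Nat.card α = 8 := by
  have h2 : IsMultiplyPretransitive G α 2 :=
    isMultiplyPretransitive_of_le (n := 6) (by norm_num) hn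
  have h1 : IsPretransitive G α := isPretransitive_of_is_two_pretransitive
  have hne : Nonempty α := by
    rw [← Finite.card_pos_iff]
    omega
  obtain ⟨a⟩ := hne
  have hf : FaithfulSMul (stabilizer G a) (ofStabilizer G a) := faithful_ofStabilizer a
  have h5 : IsMultiplyPretransitive (stabilizer G a) (ofStabilizer G a) 5 :=
    ofStabilizer.isMultiplyPretransitive.mp h6
  have hβ : Nat.card (ofStabilizer G a) = Nat.card α - 1 := nat_card_ofStabilizer_eq G a
  have h := sharp_five_degree (sharp_ofStabilizer a 5 hsharp) (by omega)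
  have h13 : Nat.card α ≠ 13 := by
    intro h13
    have hfin : Finite G := Finite.of_injective _ (MulAction.toPerm_injective (α := G) (β := α))
    have hcard : Nat.card G = 1235520 := by
      rw [card_of_sharp 6 hsharp (by omega), h13]
      rfl
    have hp13 : Fact (Nat.Prime 13) := ⟨by norm_num⟩
    obtain ⟨P⟩ : Nonempty (Sylow 13 G) := inferInstance
    have hP : Nat.card P = 13 := by
      obtain ⟨j, hj⟩ := P.2.exists_card_eq
      have h1 : 13 ∣ Nat.card P := P.dvd_card_of_dvd_card (by rw [hcard]; norm_num)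
      have h2 : Nat.card P ∣ Nat.card G := Subgroup.card_subgroup_dvd_card _
      rw [hj] at h1 h2 ⊢
      rcases j with _ | _ | j
      · norm_num at h1
      · norm_num
      · exfalso
        have h3 : 169 ∣ Nat.card G := dvd_trans ⟨13 ^ j, by ring⟩ h2
        rw [hcard] at h3
        norm_num at h3
    have hcent := mem_of_commute_of_prime (α := α) (P : Subgroup G) 13 hP (by omega)
    obtain ⟨r, k, hr, hN, hrk, hmod, hC⟩ := sylow_prime_data 13 P hP hcent
    have hle : r ≤ 12 := Nat.le_of_dvd (by norm_num) hr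
    rw [hcard] at hrk
    unfold Nat.ModEq at hmod
    interval_cases r <;> omega
  omega

open SubMulAction in
/-- For `k ≥ 6` the degree of a sharply `k`-transitive group is `k`, `k + 1` or `k + 2`. -/
theorem sharp_k_degree.{u, v} (k : ℕ) (hk : 6 ≤ k) :
    ∀ (G : Type u) (α : Type v) [Group G] [MulAction G α] [FaithfulSMul G α] [Finite α]
      [IsMultiplyPretransitive G α k], (∀ x : Fin k ↪ α, stabilizer G x = ⊥) →
      k ≤ Nat.card α →
      (Nat.card α = k ∨ Nat.card α = k + 1 ∨ Nat.card α = k + 2) := by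
  induction k, hk using Nat.le_induction with
  | base =>
    intro G α _ _ _ _ _ hsharp hn
    exact sharp_six_degree hsharp hn
  | succ k hk ih =>
    intro G α _ _ _ _ hk1 hsharp hn
    have h2 : IsMultiplyPretransitive G α 2 :=
      isMultiplyPretransitive_of_le (n := k + 1) (by omega) hn
    have h1 : IsPretransitive G α := isPretransitive_of_is_two_pretransitive
    have hne : Nonempty α := by
      rw [← Finite.card_pos_iff]
      omega
    obtain ⟨a⟩ := hne
    have hf : FaithfulSMul (stabilizer G a) (ofStabilizer G a) := faithful_ofStabilizer a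
    have hk' : IsMultiplyPretransitive (stabilizer G a) (ofStabilizer G a) k :=
      ofStabilizer.isMultiplyPretransitive.mp hk1
    have hβ : Nat.card (ofStabilizer G a) = Nat.card α - 1 := nat_card_ofStabilizer_eq G a
    have h := ih (stabilizer G a) (ofStabilizer G a) (sharp_ofStabilizer a k hsharp) (by omega)
    omega

end Cfsg.Agent.Lib.helper10
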