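import Mathlib
import Cfsg.Prelude.Def_LieTypeChar
import Cfsg.Agent.Lib.helper44.LODefs
import Cfsg.Agent.Lib.helper6.LOARITH
import Cfsg.Agent.S0245
import Cfsg.Agent.S0246

/-! S2363 piece PSP (helper10 racer copy): the order bound for `PSp_2m(q)`, `m ≥ 2`, from the landed
order formulas S0245 (order of `Sp`) and S0246 (order of its centre) and the landed `lo_good`. -/

set_option autoImplicit false

namespace Cfsg.Agent.Lib.helper44.LO

open Cfsg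

theorem h10_lo_sum_two (m : ℕ) : ∑ i ∈ Finset.range m, 2 * (i + 1) = m ^ 2 + m := by
  induction m with
  | zero => simp
  | succ k ih =>
    rw [Finset.sum_range_succ, ih]
    ring

/-- PSP (racer copy) -/
theorem h10_lo_psp {F : Type} [Field F] [Fintype F] (p : ℕ) (hp : p.Prime) [CharP F p] (m : ℕ)
    (hm : 2 ≤ m) :
    LOGood p (Nat.card (Cfsg.PSp m F)) := by
  classical
  obtain ⟨f, -, hf⟩ := FiniteField.card F p
  have hf1 : 1 ≤ (f : ℕ) := f.pos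
  have hq2 : 2 ≤ p ^ (f : ℕ) := by
    calc 2 ≤ p := hp.two_le
      _ = p ^ 1 := (pow_one p).symm
      _ ≤ p ^ (f : ℕ) := Nat.pow_le_pow_right hp.pos hf1
  have hpq : p ∣ p ^ (f : ℕ) := dvd_pow_self p (by omega)
  have hp1 : ¬ p ∣ 1 := fun h => hp.ne_one (Nat.dvd_one.mp h)
  have hSp := Cfsg.Agent.S0245.result (F := F) hf m
  have hZ := Cfsg.Agent.S0246.result (F := F) hf m (by omega)
  have hquot := Subgroup.card_eq_card_quotient_mul_card_subgroup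
    (Subgroup.center (Matrix.symplecticGroup (Fin m) F))
  have hc : Nat.gcd 2 (p ^ (f : ℕ) - 1) * Nat.card (Cfsg.PSp m F) =
      (p ^ (f : ℕ)) ^ (m ^ 2) * ∏ i ∈ Finset.range m, ((p ^ (f : ℕ)) ^ (2 * (i + 1)) - 1) := by
    rw [← hSp, hquot, hZ, mul_comm]
  have hpm : ∀ k : ℕ, 1 ≤ k → ¬ p ∣ (p ^ (f : ℕ)) ^ k - 1 := by
    intro k hk h
    have hpow : p ∣ (p ^ (f : ℕ)) ^ k := dvd_pow hpq (by omega)
    have hpos : 1 ≤ (p ^ (f : ℕ)) ^ k := Nat.one_le_pow _ _ (by omega)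
    have e1 : (p ^ (f : ℕ)) ^ k - 1 + 1 = (p ^ (f : ℕ)) ^ k := by omega
    rw [← e1] at hpow
    exact hp1 ((Nat.dvd_add_right h).mp hpow)
  have hgcd : 1 ≤ Nat.gcd 2 (p ^ (f : ℕ) - 1) := Nat.gcd_pos_of_pos_left _ (by omega)
  refine lo_good hp (f : ℕ) hf1 (Nat.gcd 2 (p ^ (f : ℕ) - 1)) _ (m ^ 2)
    (∏ i ∈ Finset.range m, ((p ^ (f : ℕ)) ^ (2 * (i + 1)) - 1)) (m ^ 2 + m) hc ?_ ?_ ?_ ?_ ?_
  · intro h
    have h1 : p ∣ p ^ (f : ℕ) - 1 := h.trans (Nat.gcd_dvd_right _ _)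
    have h2 := hpm 1 le_rfl
    rw [pow_one] at h2
    exact h2 h1
  · intro h
    obtain ⟨i, -, hi⟩ := (Prime.dvd_finsetProd_iff hp.prime _).mp h
    exact hpm (2 * (i + 1)) (by omega) hi
  · have h1 : ∏ i ∈ Finset.range m, ((p ^ (f : ℕ)) ^ (2 * (i + 1)) - 1) <
        ∏ i ∈ Finset.range m, (p ^ (f : ℕ)) ^ (2 * (i + 1)) := by
      apply Finset.prod_lt_prod_of_nonempty
      · intro i _
        have h2 : 1 < (p ^ (f : ℕ)) ^ (2 * (i + 1)) := Nat.one_lt_pow (by omega) (by omega)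
        omega
      · intro i _
        have h2 : 0 < (p ^ (f : ℕ)) ^ (2 * (i + 1)) := pow_pos (by omega) _
        omega
      · exact Finset.nonempty_range_iff.mpr (by omega)
    rw [Finset.prod_pow_eq_pow_sum, h10_lo_sum_two] at h1
    calc ∏ i ∈ Finset.range m, ((p ^ (f : ℕ)) ^ (2 * (i + 1)) - 1)
        < (p ^ (f : ℕ)) ^ (m ^ 2 + m) := h1
      _ = 1 * (p ^ (f : ℕ)) ^ (m ^ 2 + m) := (one_mul _).symm
      _ ≤ Nat.gcd 2 (p ^ (f : ℕ) - 1) * (p ^ (f : ℕ)) ^ (m ^ 2 + m) :=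
          Nat.mul_le_mul_right _ hgcd
  · nlinarith
  · nlinarith

end Cfsg.Agent.Lib.helper44.LO
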