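import Mathlib
import Cfsg.Prelude.Def_LieTypeChar
import Cfsg.Agent.Lib.helper44.LODefs
import Cfsg.Agent.S0280

/-! S2363 piece PSU (helper10 racer copy), core: the order bound for `PSU_n(q)`, `n ≥ 3`, from the
landed order formula S0280, with the arithmetic core `lo_good` as a hypothesis. -/

set_option autoImplicit false

namespace Cfsg.Agent.Lib.helper44.LO

open Cfsg

/-- the pair inequality `(q^a - 1)(q^(a+1) + 1) < q^(2a+1)` -/
theorem h10_lo_pair (q a : ℕ) (hq : 1 ≤ q) :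
    (q ^ a - 1) * (q ^ (a + 1) + 1) < q ^ (2 * a + 1) := by
  have hx : 1 ≤ q ^ a := Nat.one_le_pow _ _ hq
  obtain ⟨y, hy⟩ : ∃ y, q ^ a = y + 1 := ⟨q ^ a - 1, by omega⟩
  have e1 : q ^ (a + 1) = (y + 1) * q := by rw [pow_succ, hy]
  have e2 : q ^ (2 * a + 1) = (y + 1) * (y + 1) * q := by
    rw [pow_succ, two_mul, pow_add, hy]
  rw [e1, e2, hy, Nat.add_sub_cancel]
  nlinarith [Nat.mul_le_mul_left y hq]

/-- the alternating product over an even range -/
theorem h10_lo_even (q : ℕ) (hq : 1 ≤ q) (k : ℕ) :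
    ∏ i ∈ Finset.range (2 * k), (if Even (i + 1) then q ^ (i + 1 + 1) + 1 else q ^ (i + 1 + 1) - 1)
      ≤ q ^ ∑ i ∈ Finset.range (2 * k), (i + 2) := by
  induction k with
  | zero => simp
  | succ k ih =>
    have h1 : ¬ Even (2 * k + 1) := Nat.not_even_iff_odd.mpr ⟨k, rfl⟩
    have h2 : Even (2 * k + 1 + 1) := ⟨k + 1, by omega⟩
    have e0 : 2 * (k + 1) = 2 * k + 1 + 1 := by omega
    rw [e0, Finset.prod_range_succ, Finset.prod_range_succ, Finset.sum_range_succ,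
      Finset.sum_range_succ, if_neg h1, if_pos h2]
    have hp := h10_lo_pair q (2 * k + 1 + 1) hq
    have e1 : q ^ (∑ x ∈ Finset.range (2 * k), (x + 2) + (2 * k + 2) + (2 * k + 1 + 2)) =
        q ^ (∑ x ∈ Finset.range (2 * k), (x + 2)) * q ^ (2 * (2 * k + 1 + 1) + 1) := by
      rw [← pow_add]
      congr 1
      omega
    rw [e1, mul_assoc]
    exact Nat.mul_le_mul ih hp.le

/-- the alternating product without its first factor is below the power of `q` -/
theorem h10_lo_R (q : ℕ) (hq : 1 ≤ q) (n : ℕ) (hn : 1 ≤ n) :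
    ∏ i ∈ Finset.range n, (if Even (i + 1) then q ^ (i + 1 + 1) + 1 else q ^ (i + 1 + 1) - 1)
      < q ^ ∑ i ∈ Finset.range n, (i + 2) := by
  rcases Nat.even_or_odd' n with ⟨k, rfl | rfl⟩
  · obtain ⟨k', rfl⟩ : ∃ k', k = k' + 1 := ⟨k - 1, by omega⟩
    have ih := h10_lo_even q hq k'
    have h1 : ¬ Even (2 * k' + 1) := Nat.not_even_iff_odd.mpr ⟨k', rfl⟩
    have h2 : Even (2 * k' + 1 + 1) := ⟨k' + 1, by omega⟩
    have e0 : 2 * (k' + 1) = 2 * k' + 1 + 1 := by omega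
    rw [e0, Finset.prod_range_succ, Finset.prod_range_succ, Finset.sum_range_succ,
      Finset.sum_range_succ, if_neg h1, if_pos h2]
    have hp := h10_lo_pair q (2 * k' + 1 + 1) hq
    have e1 : q ^ (∑ x ∈ Finset.range (2 * k'), (x + 2) + (2 * k' + 2) + (2 * k' + 1 + 2)) =
        q ^ (∑ x ∈ Finset.range (2 * k'), (x + 2)) * q ^ (2 * (2 * k' + 1 + 1) + 1) := by
      rw [← pow_add]
      congr 1
      omega
    rw [e1, mul_assoc]
    have hpos : 0 < q ^ ∑ i ∈ Finset.range (2 * k'), (i + 2) := pow_pos (by omega) _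
    calc (∏ i ∈ Finset.range (2 * k'),
            (if Even (i + 1) then q ^ (i + 1 + 1) + 1 else q ^ (i + 1 + 1) - 1)) *
          ((q ^ (2 * k' + 1 + 1) - 1) * (q ^ (2 * k' + 1 + 1 + 1) + 1))
        ≤ q ^ (∑ i ∈ Finset.range (2 * k'), (i + 2)) *
          ((q ^ (2 * k' + 1 + 1) - 1) * (q ^ (2 * k' + 1 + 1 + 1) + 1)) :=
          Nat.mul_le_mul_right _ ih
      _ < q ^ (∑ i ∈ Finset.range (2 * k'), (i + 2)) * q ^ (2 * (2 * k' + 1 + 1) + 1) :=
          (Nat.mul_lt_mul_left hpos).mpr hp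
  · have ih := h10_lo_even q hq k
    have h1 : ¬ Even (2 * k + 1) := Nat.not_even_iff_odd.mpr ⟨k, rfl⟩
    rw [Finset.prod_range_succ, Finset.sum_range_succ, if_neg h1]
    have hpos : 0 < q ^ ∑ i ∈ Finset.range (2 * k), (i + 2) := pow_pos (by omega) _
    have hpos2 : 0 < q ^ (2 * k + 1 + 1) := pow_pos (by omega) _
    have e1 : q ^ (∑ x ∈ Finset.range (2 * k), (x + 2) + (2 * k + 2)) =
        q ^ (∑ x ∈ Finset.range (2 * k), (x + 2)) * q ^ (2 * k + 1 + 1) := by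
      rw [← pow_add]
    rw [e1]
    calc (∏ i ∈ Finset.range (2 * k),
            (if Even (i + 1) then q ^ (i + 1 + 1) + 1 else q ^ (i + 1 + 1) - 1)) *
          (q ^ (2 * k + 1 + 1) - 1)
        ≤ q ^ (∑ i ∈ Finset.range (2 * k), (i + 2)) * (q ^ (2 * k + 1 + 1) - 1) :=
          Nat.mul_le_mul_right _ ih
      _ < q ^ (∑ i ∈ Finset.range (2 * k), (i + 2)) * q ^ (2 * k + 1 + 1) :=
          (Nat.mul_lt_mul_left hpos).mpr (Nat.sub_lt hpos2 Nat.one_pos)

/-- PSU core: `lo_good` as a hypothesis -/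
theorem h10_lo_psu_core {F : Type} [Field F] [Fintype F] (p : ℕ) (hp : p.Prime) [CharP F p]
    (n q : ℕ) (hF : Fintype.card F = q ^ 2) (hn : 3 ≤ n)
    (hgood : ∀ (f : ℕ), 1 ≤ f → ∀ (c n N M e : ℕ), c * n = (p ^ f) ^ N * M → ¬ p ∣ c → ¬ p ∣ M →
      M < c * (p ^ f) ^ e → e ≤ 2 * N → 3 * e ≤ 5 * N → LOGood p n) :
    LOGood p (Nat.card (Cfsg.PSU n F q)) := by
  classical
  obtain ⟨f', -, hf'⟩ := FiniteField.card F p
  have hqd : q ∣ p ^ (f' : ℕ) := by
    rw [← hf', hF]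
    exact dvd_pow_self q two_ne_zero
  obtain ⟨j, -, hj⟩ := (Nat.dvd_prime_pow hp).mp hqd
  have hj1 : 1 ≤ j := by
    by_contra hcon
    have hj0 : j = 0 := by omega
    rw [hj0, pow_zero] at hj
    rw [hj, one_pow] at hF
    have h1 := Fintype.one_lt_card (α := F)
    omega
  have hq1 : 1 ≤ q := by
    rw [hj]
    exact Nat.one_le_pow _ _ hp.pos
  have hpq : p ∣ q := by
    rw [hj]
    exact dvd_pow_self p (by omega)
  have hp1 : ¬ p ∣ 1 := fun h => hp.ne_one (Nat.dvd_one.mp h)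
  have hpq1 : ¬ p ∣ q + 1 := fun h => hp1 ((Nat.dvd_add_right hpq).mp h)
  have hS := Cfsg.Agent.S0280.result (F := F) hF n (by omega)
  obtain ⟨n', rfl⟩ : ∃ n', n = n' + 1 := ⟨n - 1, by omega⟩
  have hn' : 2 ≤ n' := by omega
  have hg0 : (if Even 0 then q ^ (0 + 1) + 1 else q ^ (0 + 1) - 1) = q + 1 := by simp
  rw [← Finset.sum_range_id, Finset.prod_range_succ', Finset.sum_range_succ, hg0] at hS
  have hsum : ∑ i ∈ Finset.range n', (i + 2) = ∑ i ∈ Finset.range n', i + 2 * n' := by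
    rw [Finset.sum_add_distrib, Finset.sum_const, Finset.card_range, smul_eq_mul, mul_comm]
  have hσ : n' ≤ (∑ i ∈ Finset.range n', i) * 2 := by
    rw [Finset.sum_range_id_mul_two]
    calc n' = n' * 1 := (mul_one _).symm
      _ ≤ n' * (n' - 1) := Nat.mul_le_mul_left n' (by omega)
  have hR := h10_lo_R q hq1 n' (by omega)
  have hgcd : 1 ≤ Nat.gcd (n' + 1) (q + 1) := Nat.gcd_pos_of_pos_right _ (by omega)
  refine hgood j hj1 (Nat.gcd (n' + 1) (q + 1) * (q + 1)) _ (∑ i ∈ Finset.range n', i + n')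
    ((∏ i ∈ Finset.range n', (if Even (i + 1) then q ^ (i + 1 + 1) + 1 else q ^ (i + 1 + 1) - 1)) *
      (q + 1)) (∑ i ∈ Finset.range n', (i + 2)) ?_ ?_ ?_ ?_ ?_ ?_
  · rw [← hj, mul_assoc]
    exact hS
  · intro h
    rcases (Nat.Prime.dvd_mul hp).mp h with h1 | h1
    · exact hpq1 (h1.trans (Nat.gcd_dvd_right _ _))
    · exact hpq1 h1
  · intro h
    rcases (Nat.Prime.dvd_mul hp).mp h with h1 | h1
    · obtain ⟨i, -, hi⟩ := (Prime.dvd_finsetProd_iff hp.prime _).mp h1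
      have hpow : p ∣ q ^ (i + 1 + 1) := dvd_pow hpq (by omega)
      by_cases he : Even (i + 1)
      · rw [if_pos he] at hi
        exact hp1 ((Nat.dvd_add_right hpow).mp hi)
      · rw [if_neg he] at hi
        have hpos : 1 ≤ q ^ (i + 1 + 1) := Nat.one_le_pow _ _ hq1
        have e1 : q ^ (i + 1 + 1) - 1 + 1 = q ^ (i + 1 + 1) := by omega
        rw [← e1] at hpow
        exact hp1 ((Nat.dvd_add_right hi).mp hpow)
    · exact hpq1 h1
  · rw [← hj]
    calc (∏ i ∈ Finset.range n',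
            (if Even (i + 1) then q ^ (i + 1 + 1) + 1 else q ^ (i + 1 + 1) - 1)) * (q + 1)
        < q ^ (∑ i ∈ Finset.range n', (i + 2)) * (q + 1) :=
          (Nat.mul_lt_mul_right (by omega : 0 < q + 1)).mpr hR
      _ = 1 * (q + 1) * q ^ (∑ i ∈ Finset.range n', (i + 2)) := by ring
      _ ≤ Nat.gcd (n' + 1) (q + 1) * (q + 1) * q ^ (∑ i ∈ Finset.range n', (i + 2)) :=
          Nat.mul_le_mul_right _ (Nat.mul_le_mul_right _ hgcd)
  · rw [hsum]
    omega
  · rw [hsum]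
    omega

end Cfsg.Agent.Lib.helper44.LO
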