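import Mathlib
import Cfsg.Prelude.Def_LieTypeChar
import Cfsg.Agent.Lib.helper44.LODefs
import Cfsg.Agent.Lib.helper10.LOPSUcore
import Cfsg.Agent.Lib.helper6.LOARITH

/-! S2363 piece PSU (helper10 racer copy, spare). -/

set_option autoImplicit false

namespace Cfsg.Agent.Lib.helper44.LO

open Cfsg

/-- PSU (racer copy) -/
theorem h10_lo_psu {F : Type} [Field F] [Fintype F] (p : ℕ) (hp : p.Prime) [CharP F p] (n q : ℕ)
    (hF : Fintype.card F = q ^ 2) (hn : 3 ≤ n) : LOGood p (Nat.card (Cfsg.PSU n F q)) :=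
  h10_lo_psu_core p hp n q hF hn
    (fun f hf c n N M e hc hcp hMp hM h1 h2 => lo_good hp f hf c n N M e hc hcp hMp hM h1 h2)

end Cfsg.Agent.Lib.helper44.LO
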