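/-
A simplicity criterion: a finite group whose Sylow `p`-subgroup has order `p` and normalizer
of order `p * q` (`q` prime), whose order is not `p * q`, and all of whose nontrivial normal
subgroups have order divisible by `p`, is simple (Frattini argument and Burnside's transfer
theorem).
-/
import Mathlib

set_option autoImplicit false

namespace Cfsg.Agent.Lib.helper10

open Subgroup

section SylowSimple

variable {K : Type*} [Group K] [Finite K]

theorem card_mul_relIndex_of_le {H L : Subgroup K} (h : H ≤ L) :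
    Nat.card H * H.relIndex L = Nat.card L := by
  have h1 := Subgroup.card_mul_index H
  have h2 := Subgroup.card_mul_index L
  have h3 := Subgroup.relIndex_mul_index h
  have h4 : L.index ≠ 0 := Subgroup.index_ne_zero_of_finite
  have h5 : Nat.card H * H.relIndex L * L.index = Nat.card L * L.index := by
    rw [mul_assoc, h3, h1, h2]
  exact Nat.eq_of_mul_eq_mul_right (Nat.pos_of_ne_zero h4) h5

/-- The normal complement of a Sylow subgroup of prime order in a normal subgroup `N` is
normal in the whole group. -/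
theorem map_ker_normal {p : ℕ} [Fact p.Prime] {N : Subgroup K} [hNn : N.Normal]
    {Q : Type*} [Group Q] [Finite Q] (τ : ↥N →* Q) (hQ : Nat.card Q = p)
    (hp : ¬ p ∣ Nat.card τ.ker) : (τ.ker.map N.subtype).Normal := by
  constructor
  intro m hm k
  obtain ⟨n₀, hn₀, rfl⟩ := Subgroup.mem_map.mp hm
  have hmem : k * (n₀ : K) * k⁻¹ ∈ N := hNn.conj_mem _ n₀.2 k
  refine Subgroup.mem_map.mpr ⟨⟨k * (n₀ : K) * k⁻¹, hmem⟩, ?_, rfl⟩
  rw [MonoidHom.mem_ker]
  have h1 : orderOf (τ ⟨k * (n₀ : K) * k⁻¹, hmem⟩) ∣ orderOf (⟨k * (n₀ : K) * k⁻¹, hmem⟩ : ↥N) :=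
    orderOf_map_dvd τ _
  have h2 : orderOf (⟨k * (n₀ : K) * k⁻¹, hmem⟩ : ↥N) = orderOf n₀ := by
    rw [← Subgroup.orderOf_coe, ← Subgroup.orderOf_coe]
    exact orderOf_injective (MulAut.conj k).toMonoidHom (MulAut.conj k).injective (n₀ : K)
  have h3 : orderOf n₀ ∣ Nat.card τ.ker := Subgroup.orderOf_dvd_natCard _ hn₀
  have h4 : orderOf (τ ⟨k * (n₀ : K) * k⁻¹, hmem⟩) ∣ p := hQ ▸ orderOf_dvd_natCard _
  have h5 : Nat.Coprime (Nat.card τ.ker) p :=
    (Nat.coprime_comm.mp ((Nat.Prime.coprime_iff_not_dvd Fact.out).mpr hp))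
  have h6 : orderOf (τ ⟨k * (n₀ : K) * k⁻¹, hmem⟩) = 1 :=
    Nat.eq_one_of_dvd_coprimes h5 (h1.trans (h2 ▸ h3)) h4
  exact orderOf_eq_one_iff.mp h6

/-- Simplicity from a Sylow subgroup of prime order with a small normalizer. -/
theorem simple_of_sylow (p q : ℕ) [hp : Fact p.Prime] (hq : q.Prime) (P : Sylow p K)
    (hP : Nat.card P = p) (hN : Nat.card (normalizer (P : Set K)) = p * q)
    (hne : Nat.card K ≠ p * q)
    (hnorm : ∀ N : Subgroup K, N.Normal → N ≠ ⊥ → p ∣ Nat.card N) : IsSimpleGroup K := by
  have hpp : p.Prime := hp.out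
  have hfact : (Nat.card K).factorization p = 1 := by
    have h1 := P.card_eq_multiplicity
    rw [hP] at h1
    have h2 : p ^ 1 = p ^ (Nat.card K).factorization p := by rw [pow_one]; exact h1
    exact (Nat.pow_right_injective hpp.two_le h2).symm
  have hKpos : Nat.card K ≠ 0 := Nat.card_pos.ne'
  have hnt : Nontrivial K := by
    by_contra hcon
    rw [not_nontrivial_iff_subsingleton] at hcon
    have h1 : Nat.card K = 1 := Nat.card_eq_one_iff_unique.mpr ⟨hcon, ⟨1⟩⟩
    rw [h1] at hfact
    simp at hfact
  refine IsSimpleGroup.mk ?_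
  intro N hNn
  by_contra hcon
  rw [not_or] at hcon
  obtain ⟨hNbot, hNtop⟩ := hcon
  have hpN : p ∣ Nat.card N := hnorm N hNn hNbot
  -- a Sylow `p`-subgroup of `N` has order `p`
  obtain ⟨P₀⟩ : Nonempty (Sylow p N) := Sylow.nonempty
  have hNpos : Nat.card N ≠ 0 := Nat.card_pos.ne'
  have hfactN : (Nat.card N).factorization p = 1 := by
    have h1 : (Nat.card N).factorization p ≤ (Nat.card K).factorization p :=
      (Nat.factorization_le_iff_dvd hNpos hKpos).mpr (Subgroup.card_subgroup_dvd_card N) p
    have h2 : 1 ≤ (Nat.card N).factorization p :=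
      (hpp.dvd_iff_one_le_factorization hNpos).mp hpN
    omega
  have hP₀ : Nat.card P₀ = p := by
    rw [P₀.card_eq_multiplicity, hfactN, pow_one]
  have hQcard : Nat.card ((P₀ : Subgroup N).map N.subtype) = p := by
    rw [Subgroup.card_map_of_injective N.subtype_injective]
    exact hP₀
  -- its normalizer in `K` has order `p * q`
  have hNQ : Nat.card (normalizer (((P₀ : Subgroup N).map N.subtype : Subgroup K) : Set K))
      = p * q := by
    have hQ' : Nat.card ((P₀ : Subgroup N).map N.subtype)
        = p ^ (Nat.card K).factorization p := by rw [hQcard, hfact, pow_one]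
    have h1 : Nat.card (Sylow p K) = (normalizer
        ((((Sylow.ofCard _ hQ' : Sylow p K) : Subgroup K)) : Set K)).index :=
      (Sylow.ofCard _ hQ').card_eq_index_normalizer
    rw [Sylow.coe_ofCard] at h1
    have h2 := P.card_eq_index_normalizer
    have h3 := Subgroup.card_mul_index
      (normalizer (((P₀ : Subgroup N).map N.subtype : Subgroup K) : Set K))
    have h4 := Subgroup.card_mul_index (normalizer (P : Set K))
    rw [← h1, h2] at h3
    rw [hN] at h4
    have h5 : (normalizer (P : Set K)).index ≠ 0 := Subgroup.index_ne_zero_of_finite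
    exact Nat.eq_of_mul_eq_mul_right (Nat.pos_of_ne_zero h5) (h3.trans h4.symm)
  -- Frattini argument
  have hfr := Sylow.normalizer_sup_eq_top P₀
  have hidx : N.index = N.relIndex
      (normalizer (((P₀ : Subgroup N).map N.subtype : Subgroup K) : Set K)) := by
    rw [← Subgroup.relIndex_top_right, ← hfr, Subgroup.relIndex_sup_right]
  have hQle : (P₀ : Subgroup N).map N.subtype ≤
      N ⊓ normalizer (((P₀ : Subgroup N).map N.subtype : Subgroup K) : Set K) := by
    refine le_inf ?_ Subgroup.le_normalizer
    rintro _ ⟨n, -, rfl⟩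
    exact n.2
  have hmul := card_mul_relIndex_of_le
    (inf_le_right : N ⊓ normalizer (((P₀ : Subgroup N).map N.subtype : Subgroup K) : Set K)
      ≤ normalizer (((P₀ : Subgroup N).map N.subtype : Subgroup K) : Set K))
  rw [Subgroup.inf_relIndex_right, ← hidx, hNQ] at hmul
  have hdvd : p ∣ Nat.card (N ⊓ normalizer
      (((P₀ : Subgroup N).map N.subtype : Subgroup K) : Set K) : Subgroup K) := by
    have := Subgroup.card_dvd_of_le hQle
    rw [hQcard] at this
    exact this
  obtain ⟨c, hc⟩ := hdvd
  rw [hc, mul_assoc] at hmul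
  have hcq : c * N.index = q := Nat.eq_of_mul_eq_mul_left hpp.pos hmul
  have hidx2 : N.index = 1 ∨ N.index = q :=
    (Nat.dvd_prime hq).mp (Dvd.intro_left c hcq)
  rcases hidx2 with h1 | h1
  · exact hNtop (Subgroup.index_eq_one.mp h1)
  · -- `N` has index `q`, and `P₀` is self-normalizing in `N`
    have hc1 : c = 1 := by
      rw [h1] at hcq
      exact Nat.eq_of_mul_eq_mul_right hq.pos (by rw [hcq, one_mul])
    rw [hc1, mul_one] at hc
    have hnorm₀ : normalizer ((P₀ : Subgroup N) : Set N) = (P₀ : Subgroup N) := by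
      have h2 : (normalizer (((P₀ : Subgroup N).map N.subtype : Subgroup K) : Set K)).subgroupOf N
          = normalizer ((((P₀ : Subgroup N).map N.subtype).subgroupOf N : Subgroup N) : Set N) :=
        Subgroup.subgroupOf_normalizer_eq (hQle.trans inf_le_left)
      have h3 : ((P₀ : Subgroup N).map N.subtype).subgroupOf N = (P₀ : Subgroup N) :=
        Subgroup.comap_map_eq_self_of_injective N.subtype_injective _
      rw [h3] at h2
      have h4 : Nat.card (normalizer ((P₀ : Subgroup N) : Set N)) = p := by
        rw [← h2, ← Subgroup.inf_subgroupOf_right,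
          Nat.card_congr (Subgroup.subgroupOfEquivOfLe inf_le_right).toEquiv, inf_comm, hc]
      exact (Subgroup.eq_of_le_of_card_ge Subgroup.le_normalizer (by rw [h4, hP₀])).symm
    have hcyc : IsCyclic (P₀ : Subgroup N) := isCyclic_of_prime_card hP₀
    have hPc : normalizer ((P₀ : Subgroup N) : Set N) ≤ centralizer ((P₀ : Subgroup N) : Set N) := by
      rw [hnorm₀]
      intro x hx
      rw [Subgroup.mem_centralizer_iff]
      intro y hy
      have hcm' : IsMulCommutative (↥(P₀ : Subgroup N)) := IsCyclic.isMulCommutative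
      have h5 := hcm'.is_comm.comm (⟨y, hy⟩ : (P₀ : Subgroup N)) ⟨x, hx⟩
      exact congrArg Subtype.val h5
    have hcompl := MonoidHom.ker_transferSylow_isComplement' P₀ hPc
    have hnd := MonoidHom.not_dvd_card_ker_transferSylow P₀ hPc
    have hcm := hcompl.card_mul_card
    rw [hP₀] at hcm
    have hMn : ((MonoidHom.transferSylow P₀ hPc).ker.map N.subtype).Normal :=
      map_ker_normal (MonoidHom.transferSylow P₀ hPc) hP₀ hnd
    have hMcard : Nat.card ((MonoidHom.transferSylow P₀ hPc).ker.map N.subtype)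
        = Nat.card (MonoidHom.transferSylow P₀ hPc).ker :=
      Subgroup.card_map_of_injective N.subtype_injective
    have hMne : (MonoidHom.transferSylow P₀ hPc).ker.map N.subtype ≠ ⊥ := by
      intro hbot
      have h6 : Nat.card (MonoidHom.transferSylow P₀ hPc).ker = 1 := by
        rw [← hMcard, hbot, Subgroup.card_bot]
      rw [h6, one_mul] at hcm
      have h7 := Subgroup.card_mul_index N
      rw [h1, ← hcm] at h7
      exact hne h7.symm
    have h8 := hnorm _ hMn hMne
    rw [hMcard] at h8
    exact hnd h8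

end SylowSimple

end Cfsg.Agent.Lib.helper10
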