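/-
Permutation groups containing an element of prime order `p` without fixed points on `2 * p`
points: the orbits of the element, and the centralizer of the element.
-/
import Mathlib
import Cfsg.Agent.Lib.helper10.SylowSimple

set_option autoImplicit false
set_option linter.unusedSectionVars false

namespace Cfsg.Agent.Lib.helper10

open Finset

section PermP

variable {α : Type*} [Fintype α] [DecidableEq α]

/-- The first `p` points of the orbit of `c` under the powers of `g`. -/
def orbP (p : ℕ) (g : Equiv.Perm α) (c : α) : Finset α :=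
  (Finset.range p).image (fun i => (g ^ i) c)

theorem mem_orbP {p : ℕ} {g : Equiv.Perm α} {c y : α} :
    y ∈ orbP p g c ↔ ∃ i < p, (g ^ i) c = y := by
  simp [orbP]

theorem card_orbP {p : ℕ} {g : Equiv.Perm α}
    (hfix : ∀ k, 0 < k → k < p → ∀ c, (g ^ k) c ≠ c) (c : α) : (orbP p g c).card = p := by
  rw [orbP, Finset.card_image_of_injOn, Finset.card_range]
  intro i hi j hj e
  simp only [Finset.coe_range, Set.mem_Iio] at hi hj
  have e' : (g ^ i) c = (g ^ j) c := e
  by_contra hne
  rcases Nat.lt_or_gt_of_ne hne with h | h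
  · apply hfix (j - i) (by omega) (by omega) ((g ^ i) c)
    rw [← Equiv.Perm.mul_apply, ← pow_add, Nat.sub_add_cancel h.le]
    exact e'.symm
  · apply hfix (i - j) (by omega) (by omega) ((g ^ j) c)
    rw [← Equiv.Perm.mul_apply, ← pow_add, Nat.sub_add_cancel h.le]
    exact e'

theorem pow_mem_orbP {p : ℕ} {g : Equiv.Perm α} (hp : 0 < p) (hg : g ^ p = 1) (n : ℕ) (c : α) :
    (g ^ n) c ∈ orbP p g c := by
  rw [mem_orbP]
  exact ⟨n % p, Nat.mod_lt _ hp, by rw [← pow_eq_pow_mod n hg]⟩

theorem mem_orbP_of_not_disjoint {p : ℕ} {g : Equiv.Perm α} (hp : 0 < p) (hg : g ^ p = 1)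
    {c c' : α} (h : ¬ Disjoint (orbP p g c) (orbP p g c')) : c' ∈ orbP p g c := by
  rw [Finset.not_disjoint_iff] at h
  obtain ⟨y, hy, hy'⟩ := h
  obtain ⟨i, hi, rfl⟩ := mem_orbP.mp hy
  obtain ⟨j, hj, e⟩ := mem_orbP.mp hy'
  have h1 : (g ^ (p - j + i)) c = c' := by
    rw [pow_add, Equiv.Perm.mul_apply, ← e, ← Equiv.Perm.mul_apply, ← pow_add,
      Nat.sub_add_cancel hj.le, hg, Equiv.Perm.one_apply]
  rw [← h1]
  exact pow_mem_orbP hp hg _ c

/-- A power of an element of prime order `p` of a permutation group whose point stabilizers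
have order prime to `p` has no fixed point. -/
theorem pow_apply_ne (p : ℕ) (hp : p.Prime) (K : Subgroup (Equiv.Perm α))
    (hst : ∀ a : α, ¬ p ∣ Nat.card (MulAction.stabilizer K a)) {g : Equiv.Perm α} (hgK : g ∈ K)
    (hg : orderOf g = p) (k : ℕ) (hk : ¬ p ∣ k) (c : α) : (g ^ k) c ≠ c := by
  intro h
  have h1 : orderOf (g ^ k) = p := by
    have hcop : (orderOf g).Coprime k := by
      rw [hg]
      exact (Nat.Prime.coprime_iff_not_dvd hp).mpr hk
    rw [hcop.orderOf_pow, hg]
  have h2 : (⟨g ^ k, K.pow_mem hgK k⟩ : K) ∈ MulAction.stabilizer K c := by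
    rw [MulAction.mem_stabilizer_iff]
    exact h
  have h3 := Subgroup.orderOf_dvd_natCard _ h2
  rw [← Subgroup.orderOf_coe] at h3
  have h4 : orderOf (g ^ k) ∣ Nat.card (MulAction.stabilizer K c) := h3
  rw [h1] at h4
  exact hst c h4

/-- On `2 * p` points, a permutation commuting with a fixed-point-free permutation `g` of prime
order `p` and fixing a point has order dividing `p`. -/
theorem pow_eq_one_of_commute (p : ℕ) (hp : 0 < p) (hα : Fintype.card α = 2 * p)
    {g d : Equiv.Perm α} (hg : g ^ p = 1) (hfix : ∀ k, 0 < k → k < p → ∀ c, (g ^ k) c ≠ c)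
    (hc : Commute d g) {a : α} (ha : d a = a) : d ^ p = 1 := by
  have hcomm : ∀ (i : ℕ) (c : α), d ((g ^ i) c) = (g ^ i) (d c) := by
    intro i c
    have := (hc.pow_right i).eq
    rw [← Equiv.Perm.mul_apply, ← Equiv.Perm.mul_apply, this]
  -- `d` fixes the orbit of `a` pointwise
  have h1 : ∀ b ∈ orbP p g a, d b = b := by
    intro b hb
    obtain ⟨i, -, rfl⟩ := mem_orbP.mp hb
    rw [hcomm, ha]
  have hpow1 : ∀ b ∈ orbP p g a, ∀ n : ℕ, (d ^ n) b = b := by
    intro b hb n
    induction n with
    | zero => rfl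
    | succ n ih => rw [pow_succ, Equiv.Perm.mul_apply, h1 b hb, ih]
  -- off the orbit, `d` acts as a power of `g`
  have h2 : ∀ b, b ∉ orbP p g a → ∃ j, d b = (g ^ j) b := by
    intro b hb
    have hdb : d b ∉ orbP p g a := by
      intro h
      have := h1 _ h
      exact hb ((d.injective this) ▸ h)
    by_contra hcon
    have hdb' : d b ∉ orbP p g b := by
      intro h
      obtain ⟨j, -, e⟩ := mem_orbP.mp h
      exact hcon ⟨j, e.symm⟩
    have d1 : Disjoint (orbP p g a) (orbP p g b) := by
      by_contra h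
      exact hb (mem_orbP_of_not_disjoint hp hg h)
    have d2 : Disjoint (orbP p g a) (orbP p g (d b)) := by
      by_contra h
      exact hdb (mem_orbP_of_not_disjoint hp hg h)
    have d3 : Disjoint (orbP p g b) (orbP p g (d b)) := by
      by_contra h
      exact hdb' (mem_orbP_of_not_disjoint hp hg h)
    have hcard : (orbP p g a ∪ orbP p g b ∪ orbP p g (d b)).card = 3 * p := by
      rw [Finset.card_union_of_disjoint (Finset.disjoint_union_left.mpr ⟨d2, d3⟩),
        Finset.card_union_of_disjoint d1, card_orbP hfix, card_orbP hfix, card_orbP hfix]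
      ring
    have hle := Finset.card_le_univ (orbP p g a ∪ orbP p g b ∪ orbP p g (d b))
    rw [hcard, hα] at hle
    omega
  ext b
  rw [Equiv.Perm.one_apply]
  by_cases hb : b ∈ orbP p g a
  · exact hpow1 b hb p
  · obtain ⟨j, hj⟩ := h2 b hb
    have hpow2 : ∀ n : ℕ, (d ^ n) b = (g ^ (j * n)) b := by
      intro n
      induction n with
      | zero => rfl
      | succ n ih =>
        have hcn : ∀ c : α, (d ^ n) ((g ^ j) c) = (g ^ j) ((d ^ n) c) := by
          intro c
          have := ((hc.pow_right j).pow_left n).eq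
          rw [← Equiv.Perm.mul_apply, ← Equiv.Perm.mul_apply, this]
        rw [pow_succ, Equiv.Perm.mul_apply, hj, hcn, ih, ← Equiv.Perm.mul_apply, ← pow_add]
        congr 2
        ring
    rw [hpow2 p, mul_comm, pow_mul, hg, one_pow, Equiv.Perm.one_apply]

/-- In a permutation group of order `443520` on `22` points with point stabilizers of order
`20160`, the normalizer of a Sylow `11`-subgroup has order `55`. -/
theorem card_normalizer_sylow11 (K : Subgroup (Equiv.Perm α)) (hα : Fintype.card α = 22)
    (hK : Nat.card K = 443520) (hst : ∀ a : α, Nat.card (MulAction.stabilizer K a) = 20160)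
    (P : Sylow 11 K) :
    Nat.card (Subgroup.normalizer ((P : Subgroup K) : Set K)) = 55 ∧ Nat.card P = 11 := by
  classical
  have : Fact (Nat.Prime 11) := ⟨by norm_num⟩
  have hP : Nat.card P = 11 := by
    obtain ⟨n, hn⟩ := P.2.exists_card_eq
    have h1 := Subgroup.card_mul_index (P : Subgroup K)
    have h2 := P.not_dvd_index
    rw [hK, hn] at h1
    rcases n with _ | _ | n
    · exfalso
      rw [pow_zero, one_mul] at h1
      rw [h1] at h2
      exact h2 (by norm_num)
    · rw [hn]
      norm_num
    · exfalso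
      have h3 : (121 : ℕ) ∣ 443520 := ⟨11 ^ n * (P : Subgroup K).index, by rw [← h1]; ring⟩
      omega
  have hcyc : IsCyclic (P : Subgroup K) := isCyclic_of_prime_card hP
  obtain ⟨g, hg⟩ := IsCyclic.exists_generator (α := (P : Subgroup K))
  have hog : orderOf g = 11 := by rw [orderOf_eq_card_of_forall_mem_zpowers hg, hP]
  have hog' : orderOf (((g : K) : Equiv.Perm α)) = 11 := by
    rw [Subgroup.orderOf_coe, Subgroup.orderOf_coe, hog]
  have hg'K : ((g : K) : Equiv.Perm α) ∈ K := (g : K).2
  have hst' : ∀ a : α, ¬ 11 ∣ Nat.card (MulAction.stabilizer K a) := fun a => by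
    rw [hst a]
    norm_num
  have hfix : ∀ k, 0 < k → k < 11 → ∀ c, (((g : K) : Equiv.Perm α) ^ k) c ≠ c :=
    fun k hk0 hk c => pow_apply_ne 11 (by norm_num) K hst' hg'K hog' k (by omega) c
  have hg11 : ((g : K) : Equiv.Perm α) ^ 11 = 1 := by
    have := pow_orderOf_eq_one (((g : K) : Equiv.Perm α))
    rwa [hog'] at this
  obtain ⟨a₀⟩ : Nonempty α := Fintype.card_pos_iff.mp (by rw [hα]; norm_num)
  have hCtriv : ∀ c : K, c ∈ Subgroup.centralizer ((P : Subgroup K) : Set K) →
      (c : Equiv.Perm α) a₀ = a₀ → c = 1 := by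
    intro c hc hca
    have hcomm : Commute (c : Equiv.Perm α) ((g : K) : Equiv.Perm α) := by
      have h1 := Subgroup.mem_centralizer_iff.mp hc (g : K) g.2
      have h2 := congrArg Subtype.val h1
      exact h2.symm
    have h11 := pow_eq_one_of_commute 11 (by norm_num) (by rw [hα]) hg11 hfix hcomm hca
    have h3 : orderOf (c : Equiv.Perm α) ∣ 11 := orderOf_dvd_of_pow_eq_one h11
    have h4 : c ∈ MulAction.stabilizer K a₀ := MulAction.mem_stabilizer_iff.mpr hca
    have h5 := Subgroup.orderOf_dvd_natCard _ h4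
    rw [hst a₀, ← Subgroup.orderOf_coe] at h5
    have h7 : orderOf (c : Equiv.Perm α) ∣ Nat.gcd 11 20160 := Nat.dvd_gcd h3 h5
    have h8 : Nat.gcd 11 20160 = 1 := by norm_num
    rw [h8] at h7
    exact Subtype.ext (orderOf_eq_one_iff.mp (Nat.dvd_one.mp h7))
  have hCle : Nat.card (Subgroup.centralizer ((P : Subgroup K) : Set K)) ≤ 22 := by
    have hinj : Function.Injective
        (fun c : Subgroup.centralizer ((P : Subgroup K) : Set K) =>
          ((c : K) : Equiv.Perm α) a₀) := by
      intro c c' e
      have e' : ((c : K) : Equiv.Perm α) a₀ = ((c' : K) : Equiv.Perm α) a₀ := e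
      have h1 : (c⁻¹ * c' : Subgroup.centralizer ((P : Subgroup K) : Set K)) = 1 := by
        apply Subtype.ext
        apply hCtriv _ (c⁻¹ * c').2
        show ((c : K) : Equiv.Perm α)⁻¹ (((c' : K) : Equiv.Perm α) a₀) = a₀
        rw [← e', Equiv.Perm.inv_def, Equiv.symm_apply_apply]
      exact inv_mul_eq_one.mp h1
    have := Nat.card_le_card_of_injective _ hinj
    rwa [Nat.card_eq_fintype_card (α := α), hα] at this
  have hPC : (P : Subgroup K) ≤ Subgroup.centralizer ((P : Subgroup K) : Set K) := by
    have : IsMulCommutative (P : Subgroup K) := IsCyclic.isMulCommutative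
    exact Subgroup.le_centralizer _
  have h11C : 11 ∣ Nat.card (Subgroup.centralizer ((P : Subgroup K) : Set K)) := by
    have := Subgroup.card_dvd_of_le hPC
    rwa [hP] at this
  have key := Subgroup.card_dvd_of_injective _
    (QuotientGroup.kerLift_injective (P : Subgroup K).normalizerMonoidHom)
  rw [Subgroup.normalizerMonoidHom_ker, ← Subgroup.index, ← Subgroup.relIndex] at key
  have htot : Nat.totient 11 = 10 := Nat.totient_prime (by norm_num)
  rw [IsCyclic.card_mulAut, hP, htot] at key
  have hmul := card_mul_relIndex_of_le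
    (Subgroup.centralizer_le_normalizer ((P : Subgroup K) : Set K))
  have hs1 := card_sylow_modEq_one 11 K
  have hs2 := P.card_eq_index_normalizer
  have hs3 := Subgroup.card_mul_index (Subgroup.normalizer ((P : Subgroup K) : Set K))
  rw [hK] at hs3
  rw [hs2] at hs1
  unfold Nat.ModEq at hs1
  have hCpos : 0 < Nat.card (Subgroup.centralizer ((P : Subgroup K) : Set K)) := Nat.card_pos
  have hr10 := Nat.le_of_dvd (by norm_num) key
  obtain ⟨m, hm⟩ := key
  obtain ⟨k, hk⟩ := h11C
  refine ⟨?_, hP⟩
  generalize Nat.card (Subgroup.centralizer ((P : Subgroup K) : Set K)) = nC at *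
  generalize (Subgroup.centralizer ((P : Subgroup K) : Set K)).relIndex
    (Subgroup.normalizer ((P : Subgroup K) : Set K)) = r at *
  generalize (Subgroup.normalizer ((P : Subgroup K) : Set K)).index = idx at *
  generalize Nat.card (Subgroup.normalizer ((P : Subgroup K) : Set K)) = n at *
  have hk12 : k = 1 ∨ k = 2 := by omega
  subst hk
  interval_cases r <;> rcases hk12 with h | h <;> subst h <;> subst hmul <;> omega

end PermP

end Cfsg.Agent.Lib.helper10
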