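/-
The even automorphisms of a Steiner system S(3, 6, 22) form a simple group of order 443520
(the Mathieu group M22), of index 2 in the full automorphism group and 2-transitive on the
points.
-/
import Mathlib
import Cfsg.Prelude.Def_Sporadic_a
import Cfsg.Agent.Lib.helper10.Steiner3622
import Cfsg.Agent.Lib.helper10.S3622Aut
import Cfsg.Agent.Lib.helper10.BaerSign
import Cfsg.Agent.Lib.helper10.SylowSimple
import Cfsg.Agent.Lib.helper10.PermP

set_option autoImplicit false
set_option linter.unusedSectionVars false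

namespace Cfsg.Agent.Lib.helper10

open Finset
open scoped Pointwise

section M22

variable {α : Type*} [Fintype α] [DecidableEq α] {B : Set (Finset α)}

/-- The even automorphisms of a set system. -/
def evenAut (B : Set (Finset α)) : Subgroup (Equiv.Perm α) :=
  alternatingGroup α ⊓ Cfsg.setSystemAut B

theorem mem_evenAut {g : Equiv.Perm α} :
    g ∈ evenAut B ↔ Equiv.Perm.sign g = 1 ∧ g ∈ Cfsg.setSystemAut B := by
  rw [evenAut, Subgroup.mem_inf, Equiv.Perm.mem_alternatingGroup]

variable (hB : Cfsg.IsSteinerSystem 3 6 B) (hα : Fintype.card α = 22)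

include hB hα

/-- An odd automorphism fixing two given points. -/
theorem exists_odd_fixing {c d : α} (hcd : c ≠ d) :
    ∃ h : Equiv.Perm α, h ∈ Cfsg.setSystemAut B ∧ h c = c ∧ h d = d ∧
      Equiv.Perm.sign h = -1 := by
  obtain ⟨z, hz⟩ : ∃ z, z ∉ ({c, d} : Finset α) := by
    by_contra hcon
    push Not at hcon
    have h1 : (Finset.univ : Finset α) ⊆ {c, d} := fun y _ => hcon y
    have h2 := Finset.card_le_card h1
    rw [Finset.card_univ, hα, Finset.card_pair hcd] at h2
    omega
  rw [Finset.mem_insert, Finset.mem_singleton, not_or] at hz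
  obtain ⟨b, hb, hdb, hzb, hcb⟩ := exists_block_two hB hα hcd (Ne.symm hz.1) (Ne.symm hz.2)
  obtain ⟨u, hu⟩ : ∃ u ∈ b, u ≠ d ∧ u ≠ z := by
    have hne' : (b \ {d, z}).Nonempty := by
      apply Finset.card_pos.mp
      have := Finset.le_card_sdiff ({d, z} : Finset α) b
      rw [Finset.card_pair (Ne.symm hz.2), hB.1 b hb] at this
      omega
    obtain ⟨u, hu⟩ := hne'
    rw [Finset.mem_sdiff, Finset.mem_insert, Finset.mem_singleton, not_or] at hu
    exact ⟨u, hu.1, hu.2.1, hu.2.2⟩
  obtain ⟨h, h1, h2, h3, h4⟩ := exists_odd_aut hB hα hb hcb hzb hu.1 (Ne.symm hu.2.2)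
  exact ⟨h, h1, h2, h3 d hdb (Ne.symm hz.2) (Ne.symm hu.2.1), h4⟩

theorem exists_odd : ∃ h : Equiv.Perm α, h ∈ Cfsg.setSystemAut B ∧ Equiv.Perm.sign h = -1 := by
  obtain ⟨c, d, hcd⟩ : ∃ c d : α, c ≠ d := by
    have : Nontrivial α := Fintype.one_lt_card_iff_nontrivial.mp (by rw [hα]; norm_num)
    exact exists_pair_ne α
  obtain ⟨h, h1, -, -, h4⟩ := exists_odd_fixing hB hα hcd
  exact ⟨h, h1, h4⟩

/-- The even automorphisms of an S(3, 6, 22) are 2-transitive on the points. -/
theorem evenAut_two_trans : MulAction.IsMultiplyPretransitive (evenAut B) α 2 := by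
  have h3 := s3622_three_trans hB hα
  have h2 : MulAction.IsMultiplyPretransitive (Cfsg.setSystemAut B) α 2 :=
    MulAction.isMultiplyPretransitive_of_le (n := 3) (by norm_num)
      (by rw [Nat.card_eq_fintype_card, hα]; norm_num)
  rw [MulAction.is_two_pretransitive_iff] at h2 ⊢
  intro a b c d hab hcd
  obtain ⟨g, hg1, hg2⟩ := h2 hab hcd
  have hg1' : (g : Equiv.Perm α) a = c := hg1
  have hg2' : (g : Equiv.Perm α) b = d := hg2
  rcases Int.units_eq_one_or (Equiv.Perm.sign (g : Equiv.Perm α)) with hs | hs
  · exact ⟨⟨g, mem_evenAut.mpr ⟨hs, g.2⟩⟩, hg1', hg2'⟩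
  · obtain ⟨h, h1, h2, h3, h4⟩ := exists_odd_fixing hB hα hcd
    refine ⟨⟨h * g, mem_evenAut.mpr ⟨?_, Subgroup.mul_mem _ h1 g.2⟩⟩, ?_, ?_⟩
    · rw [map_mul, hs, h4]
      rfl
    · show h ((g : Equiv.Perm α) a) = c
      rw [hg1', h2]
    · show h ((g : Equiv.Perm α) b) = d
      rw [hg2', h3]

theorem alt_relIndex_aut : (alternatingGroup α).relIndex (Cfsg.setSystemAut B) = 2 := by
  have : Nontrivial α := Fintype.one_lt_card_iff_nontrivial.mp (by rw [hα]; norm_num)
  have h1 : (alternatingGroup α).relIndex (Cfsg.setSystemAut B) ∣ 2 := by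
    have := Subgroup.relIndex_dvd_index_of_normal (alternatingGroup α) (Cfsg.setSystemAut B)
    rwa [alternatingGroup.index_eq_two] at this
  rcases (Nat.dvd_prime Nat.prime_two).mp h1 with h | h
  · exfalso
    rw [Subgroup.relIndex_eq_one] at h
    obtain ⟨g, hg, hs⟩ := exists_odd hB hα
    have h2 := Equiv.Perm.mem_alternatingGroup.mp (h hg)
    rw [hs] at h2
    exact absurd h2 (by decide)
  · exact h

theorem evenAut_relIndex : (evenAut B).relIndex (Cfsg.setSystemAut B) = 2 := by
  rw [evenAut, Subgroup.inf_relIndex_right]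
  exact alt_relIndex_aut hB hα

theorem evenAut_le : evenAut B ≤ Cfsg.setSystemAut B := inf_le_right

/-- The group of even automorphisms of an S(3, 6, 22) has order 443520. -/
theorem card_evenAut : Nat.card (evenAut B) = 443520 := by
  have h1 := card_mul_relIndex_of_le (evenAut_le hB hα)
  rw [evenAut_relIndex hB hα, s3622_card_aut hB hα] at h1
  omega

theorem card_stabilizer_evenAut (a : α) :
    Nat.card (MulAction.stabilizer (evenAut B) a) = 20160 := by
  have := evenAut_two_trans hB hα
  have : MulAction.IsPretransitive (evenAut B) α :=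
    MulAction.isPretransitive_of_is_two_pretransitive
  have h1 := Subgroup.card_mul_index (MulAction.stabilizer (evenAut B) a)
  rw [MulAction.index_stabilizer_of_transitive, Nat.card_eq_fintype_card (α := α), hα,
    card_evenAut hB hα] at h1
  omega

/-- A nontrivial normal subgroup of the group of even automorphisms is transitive, so its order
is divisible by 11. -/
theorem evenAut_normal_dvd (N : Subgroup (evenAut B)) (hN : N.Normal) (hne : N ≠ ⊥) :
    11 ∣ Nat.card N := by
  have h2 := evenAut_two_trans hB hα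
  have : MulAction.IsPreprimitive (evenAut B) α :=
    MulAction.isPreprimitive_of_is_two_pretransitive h2
  have hfp : MulAction.fixedPoints N α ≠ Set.univ := by
    intro h
    apply hne
    rw [Subgroup.eq_bot_iff_forall]
    intro n hn
    apply Subtype.ext
    apply Equiv.ext
    intro a
    have ha : a ∈ MulAction.fixedPoints N α := by
      rw [h]
      exact Set.mem_univ a
    exact ha ⟨n, hn⟩
  have : MulAction.IsPretransitive N α :=
    MulAction.IsQuasiPreprimitive.isPretransitive_of_normal hfp
  obtain ⟨a⟩ : Nonempty α := Fintype.card_pos_iff.mp (by rw [hα]; norm_num)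
  have h1 := Subgroup.card_mul_index (MulAction.stabilizer N a)
  rw [MulAction.index_stabilizer_of_transitive, Nat.card_eq_fintype_card (α := α), hα] at h1
  omega

/-- The group of even automorphisms of an S(3, 6, 22) is simple. -/
theorem evenAut_simple : IsSimpleGroup (evenAut B) := by
  have : Fact (Nat.Prime 11) := ⟨by norm_num⟩
  obtain ⟨P⟩ : Nonempty (Sylow 11 (evenAut B)) := Sylow.nonempty
  obtain ⟨hN, hP⟩ := card_normalizer_sylow11 (evenAut B) hα (card_evenAut hB hα)
    (card_stabilizer_evenAut hB hα) P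
  exact simple_of_sylow 11 5 (by norm_num) P hP hN (by rw [card_evenAut hB hα]; norm_num)
    (evenAut_normal_dvd hB hα)

/-- The subgroup of even automorphisms, as a subgroup of the automorphism group, is simple of
order 443520 and has index 2. -/
theorem evenAut_subgroupOf :
    ((evenAut B).subgroupOf (Cfsg.setSystemAut B)).index = 2 ∧
      IsSimpleGroup ((evenAut B).subgroupOf (Cfsg.setSystemAut B)) ∧
      Nat.card ((evenAut B).subgroupOf (Cfsg.setSystemAut B)) = 443520 := by
  have hs := evenAut_simple hB hα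
  refine ⟨evenAut_relIndex hB hα, ?_, ?_⟩
  · exact (Subgroup.subgroupOfEquivOfLe (evenAut_le hB hα)).isSimpleGroup
  · rw [Nat.card_congr (Subgroup.subgroupOfEquivOfLe (evenAut_le hB hα)).toEquiv]
    exact card_evenAut hB hα

end M22

end Cfsg.Agent.Lib.helper10
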