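/-
Permutation groups with a Sylow subgroup of prime order: the normalizer of the Sylow subgroup
modulo its centralizer, semiregular centralizers, normal subgroups of 2-transitive groups, and
the normalizer of a Sylow 23-subgroup in a permutation group of order 10200960 on 23 points.
-/
import Mathlib
import Cfsg.Agent.Lib.helper10.SylowSimple
import Cfsg.Agent.Lib.helper10.PermP

set_option autoImplicit false
set_option linter.unusedSectionVars false

namespace Cfsg.Agent.Lib.helper10

open Finset

section General

variable {K : Type*} [Group K] [Finite K]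

/-- For a Sylow subgroup `P` of prime order `p`: the centralizer of `P` has order divisible by
`p` and index dividing `p - 1` in the normalizer. -/
theorem card_normalizer_eq_mul (p : ℕ) [Fact p.Prime] (P : Sylow p K) (hP : Nat.card P = p) :
    ∃ r, r ∣ (p - 1) ∧
      Nat.card (Subgroup.centralizer ((P : Subgroup K) : Set K)) * r
        = Nat.card (Subgroup.normalizer ((P : Subgroup K) : Set K)) ∧
      p ∣ Nat.card (Subgroup.centralizer ((P : Subgroup K) : Set K)) := by
  have hcyc : IsCyclic (P : Subgroup K) := isCyclic_of_prime_card hP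
  have hPC : (P : Subgroup K) ≤ Subgroup.centralizer ((P : Subgroup K) : Set K) := by
    have : IsMulCommutative (P : Subgroup K) := IsCyclic.isMulCommutative
    exact Subgroup.le_centralizer _
  have hpC : p ∣ Nat.card (Subgroup.centralizer ((P : Subgroup K) : Set K)) := by
    have := Subgroup.card_dvd_of_le hPC
    rwa [hP] at this
  have key := Subgroup.card_dvd_of_injective _
    (QuotientGroup.kerLift_injective (P : Subgroup K).normalizerMonoidHom)
  rw [Subgroup.normalizerMonoidHom_ker, ← Subgroup.index, ← Subgroup.relIndex] at key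
  rw [IsCyclic.card_mulAut, hP, Nat.totient_prime Fact.out] at key
  exact ⟨_, key, card_mul_relIndex_of_le
    (Subgroup.centralizer_le_normalizer ((P : Subgroup K) : Set K)), hpC⟩

/-- The order of a Sylow `p`-subgroup of a group of order `p * m` with `p ∤ m`. -/
theorem card_sylow_of_card (p : ℕ) [Fact p.Prime] (P : Sylow p K) (m : ℕ)
    (hK : Nat.card K = p * m) (hm : ¬ p ∣ m) : Nat.card P = p := by
  have hpp : p.Prime := Fact.out
  obtain ⟨n, hn⟩ := P.2.exists_card_eq
  have h1 := Subgroup.card_mul_index (P : Subgroup K)
  have h2 := P.not_dvd_index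
  rw [hK, hn] at h1
  rcases n with _ | _ | n
  · exfalso
    rw [pow_zero, one_mul] at h1
    rw [h1] at h2
    exact h2 (Dvd.intro _ rfl)
  · rw [hn, zero_add, pow_one]
  · exfalso
    have h3 : p * (p ^ (n + 1) * (P : Subgroup K).index) = p * m := by
      rw [← h1]
      ring
    have h4 := Nat.eq_of_mul_eq_mul_left hpp.pos h3
    exact hm ⟨p ^ n * (P : Subgroup K).index, by rw [← h4]; ring⟩

end General

section Perm

variable {α : Type*} [Fintype α] [DecidableEq α]

/-- A subgroup of a permutation group all of whose elements fixing a given point are trivial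
has at most as many elements as there are points. -/
theorem card_le_of_free {K : Subgroup (Equiv.Perm α)} (C : Subgroup K) (a₀ : α)
    (h : ∀ c : K, c ∈ C → (c : Equiv.Perm α) a₀ = a₀ → c = 1) :
    Nat.card C ≤ Fintype.card α := by
  have hinj : Function.Injective (fun c : C => ((c : K) : Equiv.Perm α) a₀) := by
    intro c c' e
    have e' : ((c : K) : Equiv.Perm α) a₀ = ((c' : K) : Equiv.Perm α) a₀ := e
    have h1 : (c⁻¹ * c' : C) = 1 := by
      apply Subtype.ext
      apply h _ (c⁻¹ * c').2
      show ((c : K) : Equiv.Perm α)⁻¹ (((c' : K) : Equiv.Perm α) a₀) = a₀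
      rw [← e', Equiv.Perm.inv_def, Equiv.symm_apply_apply]
    exact inv_mul_eq_one.mp h1
  have := Nat.card_le_card_of_injective _ hinj
  rwa [Nat.card_eq_fintype_card (α := α)] at this

/-- A nontrivial normal subgroup of a 2-transitive permutation group is transitive, so its
order is divisible by the number of points. -/
theorem card_dvd_of_normal_two_trans (K : Subgroup (Equiv.Perm α))
    (h2 : MulAction.IsMultiplyPretransitive K α 2) (N : Subgroup K) (hN : N.Normal)
    (hne : N ≠ ⊥) : Fintype.card α ∣ Nat.card N := by
  have : MulAction.IsPreprimitive K α := MulAction.isPreprimitive_of_is_two_pretransitive h2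
  have hfp : MulAction.fixedPoints N α ≠ Set.univ := by
    intro h
    apply hne
    rw [Subgroup.eq_bot_iff_forall]
    intro n hn
    apply Subtype.ext
    apply Equiv.ext
    intro a
    have ha : a ∈ MulAction.fixedPoints N α := by
      rw [h]
      exact Set.mem_univ a
    exact ha ⟨n, hn⟩
  have : MulAction.IsPretransitive N α :=
    MulAction.IsQuasiPreprimitive.isPretransitive_of_normal hfp
  obtain ⟨a, -⟩ := (Set.ne_univ_iff_exists_notMem _).mp hfp
  have h1 := Subgroup.card_mul_index (MulAction.stabilizer N a)
  rw [MulAction.index_stabilizer_of_transitive, Nat.card_eq_fintype_card (α := α)] at h1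
  exact Dvd.intro_left _ h1

/-- The order of a point stabilizer in a transitive permutation group. -/
theorem card_stabilizer_mul (K : Subgroup (Equiv.Perm α)) [MulAction.IsPretransitive K α]
    (a : α) : Nat.card (MulAction.stabilizer K a) * Fintype.card α = Nat.card K := by
  have h1 := Subgroup.card_mul_index (MulAction.stabilizer K a)
  rw [MulAction.index_stabilizer_of_transitive, Nat.card_eq_fintype_card (α := α)] at h1
  exact h1

/-- In a permutation group of order `10200960` on `23` points with point stabilizers of order
`443520`, the normalizer of a Sylow `23`-subgroup has order `253`. -/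
theorem card_normalizer_sylow23 (K : Subgroup (Equiv.Perm α)) (hα : Fintype.card α = 23)
    (hK : Nat.card K = 10200960) (hst : ∀ a : α, Nat.card (MulAction.stabilizer K a) = 443520)
    (P : Sylow 23 K) :
    Nat.card (Subgroup.normalizer ((P : Subgroup K) : Set K)) = 253 ∧ Nat.card P = 23 := by
  classical
  have : Fact (Nat.Prime 23) := ⟨by norm_num⟩
  have hP : Nat.card P = 23 := card_sylow_of_card 23 P 443520 (by rw [hK]) (by norm_num)
  have hcyc : IsCyclic (P : Subgroup K) := isCyclic_of_prime_card hP
  obtain ⟨g, hg⟩ := IsCyclic.exists_generator (α := (P : Subgroup K))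
  have hog : orderOf g = 23 := by rw [orderOf_eq_card_of_forall_mem_zpowers hg, hP]
  have hog' : orderOf (((g : K) : Equiv.Perm α)) = 23 := by
    rw [Subgroup.orderOf_coe, Subgroup.orderOf_coe, hog]
  have hg'K : ((g : K) : Equiv.Perm α) ∈ K := (g : K).2
  have hst' : ∀ a : α, ¬ 23 ∣ Nat.card (MulAction.stabilizer K a) := fun a => by
    rw [hst a]
    norm_num
  have hfix : ∀ k, 0 < k → k < 23 → ∀ c, (((g : K) : Equiv.Perm α) ^ k) c ≠ c :=
    fun k hk0 hk c => pow_apply_ne 23 (by norm_num) K hst' hg'K hog' k (by omega) c
  obtain ⟨a₀⟩ : Nonempty α := Fintype.card_pos_iff.mp (by rw [hα]; norm_num)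
  have huniv : orbP 23 ((g : K) : Equiv.Perm α) a₀ = Finset.univ :=
    Finset.eq_univ_of_card _ (by rw [card_orbP hfix, hα])
  have hCtriv : ∀ c : K, c ∈ Subgroup.centralizer ((P : Subgroup K) : Set K) →
      (c : Equiv.Perm α) a₀ = a₀ → c = 1 := by
    intro c hc hca
    have hcomm : Commute (c : Equiv.Perm α) ((g : K) : Equiv.Perm α) := by
      have h1 := Subgroup.mem_centralizer_iff.mp hc (g : K) g.2
      have h2 := congrArg Subtype.val h1
      exact h2.symm
    apply Subtype.ext
    apply Equiv.ext
    intro y
    have hy : y ∈ orbP 23 ((g : K) : Equiv.Perm α) a₀ := by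
      rw [huniv]
      exact Finset.mem_univ y
    obtain ⟨i, -, rfl⟩ := mem_orbP.mp hy
    have h3 := (hcomm.pow_right i).eq
    show (c : Equiv.Perm α) ((((g : K) : Equiv.Perm α) ^ i) a₀) = (((g : K) : Equiv.Perm α) ^ i) a₀
    rw [← Equiv.Perm.mul_apply, h3, Equiv.Perm.mul_apply, hca]
  have hCle := card_le_of_free (Subgroup.centralizer ((P : Subgroup K) : Set K)) a₀ hCtriv
  rw [hα] at hCle
  obtain ⟨r, hr, hmul, h23C⟩ := card_normalizer_eq_mul 23 P hP
  have hs1 := card_sylow_modEq_one 23 K
  have hs2 := P.card_eq_index_normalizer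
  have hs3 := Subgroup.card_mul_index (Subgroup.normalizer ((P : Subgroup K) : Set K))
  rw [hK] at hs3
  rw [hs2] at hs1
  unfold Nat.ModEq at hs1
  have hCpos : 0 < Nat.card (Subgroup.centralizer ((P : Subgroup K) : Set K)) := Nat.card_pos
  have hr22 := Nat.le_of_dvd (by norm_num) hr
  obtain ⟨m, hm⟩ := hr
  obtain ⟨k, hk⟩ := h23C
  refine ⟨?_, hP⟩
  generalize Nat.card (Subgroup.centralizer ((P : Subgroup K) : Set K)) = nC at *
  generalize (Subgroup.normalizer ((P : Subgroup K) : Set K)).index = idx at *
  generalize Nat.card (Subgroup.normalizer ((P : Subgroup K) : Set K)) = n at *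
  have hk1 : k = 1 := by omega
  subst hk1
  subst hk
  interval_cases r <;> subst hmul <;> omega

end Perm

end Cfsg.Agent.Lib.helper10
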