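/-
The automorphism group of a Steiner system S(4, 7, 23): the two classes of heptads of the
derived system at a point, isomorphisms with four prescribed values, 4-transitivity, and the
order 10200960.
-/
import Mathlib
import Cfsg.Prelude.Def_Sporadic_a
import Cfsg.Agent.Lib.helper10.Steiner3622
import Cfsg.Agent.Lib.helper10.S3622Unique
import Cfsg.Agent.Lib.helper10.Steiner4723
import Cfsg.Agent.Lib.helper10.Heptad
import Cfsg.Agent.Lib.helper10.SteinerExt
import Cfsg.Agent.Lib.helper10.S4723Unique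
import Cfsg.Agent.Lib.helper10.S3622Frame
import Cfsg.Agent.Lib.helper10.S3622Aut
import Cfsg.Agent.Lib.helper10.BaerHept

set_option autoImplicit false
set_option linter.unusedSectionVars false

namespace Cfsg.Agent.Lib.helper10

open Finset
open scoped Pointwise

section Classes

variable {α : Type*} [Fintype α] [DecidableEq α] {β : Type*} [Fintype β] [DecidableEq β]
  {B : Set (Finset α)} {B' : Set (Finset β)}

/-- Two heptads of the derived system of an S(4, 7, 23) are both residual blocks or both not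
residual blocks exactly when they meet in an odd number of points. -/
theorem res_class (hB : Cfsg.IsSteinerSystem 4 7 B) (hα : Fintype.card α = 23) {x : α}
    {Y Z : Finset {y : α // y ≠ x}} (hY : Y ∈ hept (der B x)) (hZ : Z ∈ hept (der B x)) :
    (Y ∈ res B x ↔ Z ∈ res B x) ↔
      ((Y ∩ Z).card = 1 ∨ (Y ∩ Z).card = 3 ∨ (Y ∩ Z).card = 7) := by
  have hD : Cfsg.IsSteinerSystem 3 6 (der B x) := der_steiner hB x
  have hP : Fintype.card {y : α // y ≠ x} = 22 := by rw [card_ptCompl, hα]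
  have key : ∀ {Z W : Finset {y : α // y ≠ x}}, Z ∈ res B x → W ∈ hept (der B x) →
      (W ∈ res B x ↔ ((W ∩ Z).card = 1 ∨ (W ∩ Z).card = 3 ∨ (W ∩ Z).card = 7)) := by
    intro Z W hZr hW
    have e := blk_res_eq_oddHept hB hα hZr
    rw [← mem_blk, e, mem_oddHept]
    exact ⟨fun h => h.2, fun h => ⟨hW, h⟩⟩
  by_cases hZr : Z ∈ res B x
  · rw [← key hZr hY]
    exact ⟨fun h => h.mpr hZr, fun h => ⟨fun _ => hZr, fun _ => h⟩⟩
  · have h1 : ∀ W ∈ oddHept (der B x) Z, W ∈ blk (hept (der B x)) \ blk (res B x) := by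
      intro W hW
      rw [mem_oddHept] at hW
      rw [Finset.mem_sdiff, mem_blk, mem_blk]
      refine ⟨hW.1, fun hWr => hZr ?_⟩
      rw [key hWr hZ, Finset.inter_comm]
      exact hW.2
    have hsub : blk (res B x) ⊆ blk (hept (der B x)) := by
      intro W hW
      rw [mem_blk] at hW ⊢
      exact res_mem_hept hB hα hW
    have h2 : oddHept (der B x) Z = blk (hept (der B x)) \ blk (res B x) := by
      refine Finset.eq_of_subset_of_card_le h1 ?_
      rw [Finset.card_sdiff_of_subset hsub, hept_card hD hP, s4723_card_blk_res hB hα,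
        card_oddHept hD hP hZ]
    constructor
    · intro h
      have hYr : Y ∉ res B x := fun hYr => hZr (h.mp hYr)
      have h3 : Y ∈ oddHept (der B x) Z := by
        rw [h2, Finset.mem_sdiff, mem_blk, mem_blk]
        exact ⟨hY, hYr⟩
      exact (mem_oddHept.mp h3).2
    · intro h
      have h3 := h1 Y (mem_oddHept.mpr ⟨hY, h⟩)
      rw [Finset.mem_sdiff, mem_blk, mem_blk] at h3
      exact ⟨fun hYr => absurd hYr h3.2, fun hZr' => absurd hZr' hZr⟩

variable (hB : Cfsg.IsSteinerSystem 4 7 B) (hα : Fintype.card α = 23)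
  (hB' : Cfsg.IsSteinerSystem 4 7 B') (hβ : Fintype.card β = 23)

include hB hα hB' hβ in
theorem iso_res_rel {x : α} {x' : β} (f : {y : α // y ≠ x} ≃ {y : β // y ≠ x'})
    (hf : ∀ l ∈ der B x, l.image f ∈ der B' x') {Y Z : Finset {y : α // y ≠ x}}
    (hY : Y ∈ hept (der B x)) (hZ : Z ∈ hept (der B x)) :
    (Y ∈ res B x ↔ Z ∈ res B x) ↔ (Y.image f ∈ res B' x' ↔ Z.image f ∈ res B' x') := by
  have hD : Cfsg.IsSteinerSystem 3 6 (der B x) := der_steiner hB x
  have hD' : Cfsg.IsSteinerSystem 3 6 (der B' x') := der_steiner hB' x'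
  have hP : Fintype.card {y : α // y ≠ x} = 22 := by rw [card_ptCompl, hα]
  have hP' : Fintype.card {y : β // y ≠ x'} = 22 := by rw [card_ptCompl, hβ]
  rw [res_class hB hα hY hZ, res_class hB' hβ (image_mem_hept hD hP hD' hP' f hf hY)
    (image_mem_hept hD hP hD' hP' f hf hZ), ← Finset.image_inter _ _ f.injective,
    Finset.card_image_of_injective _ f.injective]

include hB hα hB' hβ in
/-- An isomorphism of the derived systems either preserves or swaps the residual classes. -/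
theorem iso_res_cases {x : α} {x' : β} (f : {y : α // y ≠ x} ≃ {y : β // y ≠ x'})
    (hf : ∀ l ∈ der B x, l.image f ∈ der B' x') :
    (∀ Y ∈ hept (der B x), (Y ∈ res B x ↔ Y.image f ∈ res B' x')) ∨
      (∀ Y ∈ hept (der B x), (Y ∈ res B x ↔ Y.image f ∉ res B' x')) := by
  obtain ⟨Y₀, hY₀⟩ := exists_mem_res_4723 hB hα x
  have hY₀h := res_mem_hept hB hα hY₀
  by_cases h0 : Y₀.image f ∈ res B' x'
  · left
    intro Y hY
    have := iso_res_rel hB hα hB' hβ f hf hY hY₀h
    tauto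
  · right
    intro Y hY
    have := iso_res_rel hB hα hB' hβ f hf hY hY₀h
    tauto

include hB hα in
/-- An automorphism of the derived system fixing three given points and swapping the two
classes of heptads. -/
theorem exists_swap_fixing {x : α} {p q r : {y : α // y ≠ x}} (hpq : p ≠ q) (hpr : p ≠ r)
    (hqr : q ≠ r) :
    ∃ h : {y : α // y ≠ x} ≃ {y : α // y ≠ x}, (∀ l ∈ der B x, l.image h ∈ der B x) ∧
      h p = p ∧ h q = q ∧ h r = r ∧
      ∀ Y ∈ hept (der B x), (Y ∈ res B x ↔ Y.image h ∉ res B x) := by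
  have hD : Cfsg.IsSteinerSystem 3 6 (der B x) := der_steiner hB x
  have hP : Fintype.card {y : α // y ≠ x} = 22 := by rw [card_ptCompl, hα]
  obtain ⟨b, hb, hqb, hrb, hpb⟩ := exists_block_two hD hP hpq hpr hqr
  have hc : 1 < (b \ {q, r}).card := by
    have := Finset.le_card_sdiff ({q, r} : Finset {y : α // y ≠ x}) b
    rw [Finset.card_pair hqr, hD.1 b hb] at this
    omega
  obtain ⟨u₁, hu₁, u₂, hu₂, hne⟩ := Finset.one_lt_card.mp hc
  rw [Finset.mem_sdiff, Finset.mem_insert, Finset.mem_singleton, not_or] at hu₁ hu₂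
  obtain ⟨h, h1, h2, h3, W, hW, hW4⟩ := exists_baer_aut hD hP hb hpb hu₁.1 hu₂.1 hne
  refine ⟨h, h1, h2, h3 q hqb (Ne.symm hu₁.2.1) (Ne.symm hu₂.2.1),
    h3 r hrb (Ne.symm hu₁.2.2) (Ne.symm hu₂.2.2), ?_⟩
  rcases iso_res_cases hB hα hB hα h h1 with hc | hc
  · exfalso
    have hWh := image_mem_hept hD hP hD hP h h1 hW
    have h5 := (res_class hB hα hW hWh).mp (hc W hW)
    omega
  · exact hc

include hB hα hB' hβ in
/-- Isomorphisms between Steiner systems S(4, 7, 23) with four prescribed values. -/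
theorem s4723_iso_four {x a b c : α} {x' a' b' c' : β} (hxa : x ≠ a) (hxb : x ≠ b)
    (hxc : x ≠ c) (hab : a ≠ b) (hac : a ≠ c) (hbc : b ≠ c) (hxa' : x' ≠ a') (hxb' : x' ≠ b')
    (hxc' : x' ≠ c') (hab' : a' ≠ b') (hac' : a' ≠ c') (hbc' : b' ≠ c') :
    ∃ g : α ≃ β, (∀ d ∈ B, d.image g ∈ B') ∧ g x = x' ∧ g a = a' ∧ g b = b' ∧ g c = c' := by
  have hD : Cfsg.IsSteinerSystem 3 6 (der B x) := der_steiner hB x
  have hD' : Cfsg.IsSteinerSystem 3 6 (der B' x') := der_steiner hB' x'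
  have hP : Fintype.card {y : α // y ≠ x} = 22 := by rw [card_ptCompl, hα]
  have hP' : Fintype.card {y : β // y ≠ x'} = 22 := by rw [card_ptCompl, hβ]
  have hpab : (⟨a, hxa.symm⟩ : {y : α // y ≠ x}) ≠ ⟨b, hxb.symm⟩ :=
    fun h => hab (congrArg Subtype.val h)
  have hpac : (⟨a, hxa.symm⟩ : {y : α // y ≠ x}) ≠ ⟨c, hxc.symm⟩ :=
    fun h => hac (congrArg Subtype.val h)
  have hpbc : (⟨b, hxb.symm⟩ : {y : α // y ≠ x}) ≠ ⟨c, hxc.symm⟩ :=
    fun h => hbc (congrArg Subtype.val h)
  have hpab' : (⟨a', hxa'.symm⟩ : {y : β // y ≠ x'}) ≠ ⟨b', hxb'.symm⟩ :=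
    fun h => hab' (congrArg Subtype.val h)
  have hpac' : (⟨a', hxa'.symm⟩ : {y : β // y ≠ x'}) ≠ ⟨c', hxc'.symm⟩ :=
    fun h => hac' (congrArg Subtype.val h)
  have hpbc' : (⟨b', hxb'.symm⟩ : {y : β // y ≠ x'}) ≠ ⟨c', hxc'.symm⟩ :=
    fun h => hbc' (congrArg Subtype.val h)
  obtain ⟨l, hl, hbl, hcl, hal⟩ := exists_block_two hD hP hpab hpac hpbc
  obtain ⟨l', hl', hbl', hcl', hal'⟩ := exists_block_two hD' hP' hpab' hpac' hpbc'
  obtain ⟨σ, hσl, hσb, hσc⟩ := exists_equiv_two (hP.trans hP'.symm)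
    ((hD.1 l hl).trans (hD'.1 l' hl').symm) hbl hcl hbl' hcl' hpbc hpbc'
  obtain ⟨f₀, ⟨hf1, hf2, hf3⟩, -⟩ := s3622_iso_frame hD hP hD' hP' hl hal hl' hal' σ hσl
  have hfb : f₀ ⟨b, hxb.symm⟩ = ⟨b', hxb'.symm⟩ := (hf3 _ hbl).trans hσb
  have hfc : f₀ ⟨c, hxc.symm⟩ = ⟨c', hxc'.symm⟩ := (hf3 _ hcl).trans hσc
  rcases iso_res_cases hB hα hB' hβ f₀ hf1 with hc | hc
  · refine ⟨extPt x x' f₀, extPt_maps x x' f₀ hf1
      (fun Y hY => (hc Y (res_mem_hept hB hα hY)).mp hY), extPt_self _ _ _, ?_, ?_, ?_⟩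
    · have := extPt_coe x x' f₀ ⟨a, hxa.symm⟩
      rw [hf2] at this
      exact this
    · have := extPt_coe x x' f₀ ⟨b, hxb.symm⟩
      rw [hfb] at this
      exact this
    · have := extPt_coe x x' f₀ ⟨c, hxc.symm⟩
      rw [hfc] at this
      exact this
  · obtain ⟨h, h1, h2, h3, h4, h5⟩ := exists_swap_fixing hB' hβ hpab' hpac' hpbc'
    have himg2 : ∀ A : Finset {y : α // y ≠ x}, A.image (f₀.trans h) = (A.image f₀).image h := by
      intro A
      rw [Finset.image_image]
      rfl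
    refine ⟨extPt x x' (f₀.trans h), extPt_maps x x' (f₀.trans h) ?_ ?_, extPt_self _ _ _,
      ?_, ?_, ?_⟩
    · intro l hl
      rw [himg2]
      exact h1 _ (hf1 l hl)
    · intro Y hY
      rw [himg2]
      have hYh := res_mem_hept hB hα hY
      have h6 := (hc Y hYh).mp hY
      have h7 := h5 _ (image_mem_hept hD hP hD' hP' f₀ hf1 hYh)
      by_contra h8
      exact h6 (h7.mpr h8)
    · have := extPt_coe x x' (f₀.trans h) ⟨a, hxa.symm⟩
      rw [Equiv.trans_apply, hf2, h2] at this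
      exact this
    · have := extPt_coe x x' (f₀.trans h) ⟨b, hxb.symm⟩
      rw [Equiv.trans_apply, hfb, h3] at this
      exact this
    · have := extPt_coe x x' (f₀.trans h) ⟨c, hxc.symm⟩
      rw [Equiv.trans_apply, hfc, h4] at this
      exact this

include hB hα hB' hβ in
/-- Isomorphisms between Steiner systems S(4, 7, 23) are transitive on flags. -/
theorem s4723_iso_flag {x : α} {x' : β} {Y : Finset α} {Y' : Finset β} (hY : Y ∈ B)
    (hx : x ∉ Y) (hY' : Y' ∈ B') (hx' : x' ∉ Y') :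
    ∃ g : α ≃ β, (∀ d ∈ B, d.image g ∈ B') ∧ g x = x' ∧ Y.image g = Y' := by
  have hD : Cfsg.IsSteinerSystem 3 6 (der B x) := der_steiner hB x
  have hD' : Cfsg.IsSteinerSystem 3 6 (der B' x') := der_steiner hB' x'
  have hP : Fintype.card {y : α // y ≠ x} = 22 := by rw [card_ptCompl, hα]
  have hP' : Fintype.card {y : β // y ≠ x'} = 22 := by rw [card_ptCompl, hβ]
  have hY₀ := subtype_mem_res hY hx
  have hY₀' := subtype_mem_res hY' hx'
  obtain ⟨f, hf, hfY⟩ := hept_transitive hD hP hD' hP' (res_mem_hept hB hα hY₀)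
    (res_mem_hept hB' hβ hY₀')
  have hres : ∀ Z ∈ res B x, Z.image f ∈ res B' x' := by
    rcases iso_res_cases hB hα hB' hβ f hf with hc | hc
    · exact fun Z hZ => (hc Z (res_mem_hept hB hα hZ)).mp hZ
    · exfalso
      have := (hc _ (res_mem_hept hB hα hY₀)).mp hY₀
      rw [hfY] at this
      exact this hY₀'
  refine ⟨extPt x x' f, extPt_maps x x' f hf hres, extPt_self _ _ _, ?_⟩
  conv_lhs => rw [← map_subtype_of_notMem hx]
  rw [image_extPt_map, hfY, map_subtype_of_notMem hx']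

include hB hα in
/-- The automorphism group of an S(4, 7, 23) is 4-transitive on the points. -/
theorem s4723_four_trans : MulAction.IsMultiplyPretransitive (Cfsg.setSystemAut B) α 4 := by
  rw [MulAction.isMultiplyPretransitive_iff]
  intro f f'
  obtain ⟨g, hg, h0, h1, h2, h3⟩ := s4723_iso_four hB hα hB hα
    (f.injective.ne (by decide) : f 0 ≠ f 1) (f.injective.ne (by decide) : f 0 ≠ f 2)
    (f.injective.ne (by decide) : f 0 ≠ f 3) (f.injective.ne (by decide) : f 1 ≠ f 2)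
    (f.injective.ne (by decide) : f 1 ≠ f 3) (f.injective.ne (by decide) : f 2 ≠ f 3)
    (f'.injective.ne (by decide) : f' 0 ≠ f' 1) (f'.injective.ne (by decide) : f' 0 ≠ f' 2)
    (f'.injective.ne (by decide) : f' 0 ≠ f' 3) (f'.injective.ne (by decide) : f' 1 ≠ f' 2)
    (f'.injective.ne (by decide) : f' 1 ≠ f' 3) (f'.injective.ne (by decide) : f' 2 ≠ f' 3)
  refine ⟨⟨g, mem_aut_iff.mpr hg⟩, ?_⟩
  ext i
  fin_cases i
  · exact h0
  · exact h1
  · exact h2
  · exact h3

end Classes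

section Order

variable {α : Type*} [Fintype α] [DecidableEq α] {B : Set (Finset α)}

/-- The stabilizer of a heptad in the automorphism group of an S(3, 6, 22) has order 2520. -/
theorem card_stab_hept (hD : Cfsg.IsSteinerSystem 3 6 B) (hα : Fintype.card α = 22)
    {Y₀ : Finset α} (hY₀ : Y₀ ∈ hept B) :
    Nat.card (MulAction.stabilizer (Cfsg.setSystemAut B) Y₀) = 2520 := by
  have horb : MulAction.orbit (Cfsg.setSystemAut B) Y₀ = hept B := by
    ext Y
    constructor
    · rintro ⟨g, rfl⟩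
      exact image_mem_hept hD hα hD hα (g : Equiv.Perm α) (mem_aut_iff.mp g.2) hY₀
    · intro hY
      obtain ⟨f, hf, hfY⟩ := hept_transitive hD hα hD hα hY₀ hY
      exact ⟨⟨f, mem_aut_iff.mpr hf⟩, hfY⟩
  have h1 := Subgroup.card_mul_index (MulAction.stabilizer (Cfsg.setSystemAut B) Y₀)
  rw [MulAction.index_stabilizer, horb, ncard_eq_card_blk, hept_card hD hα,
    s3622_card_aut hD hα] at h1
  omega

/-- The number of flags (block, point off the block) of an S(4, 7, 23). -/
theorem card_flags_4723 (hB : Cfsg.IsSteinerSystem 4 7 B) (hα : Fintype.card α = 23) :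
    {p : Finset α × α | p.1 ∈ B ∧ p.2 ∉ p.1}.ncard = 4048 := by
  classical
  have h1 : {p : Finset α × α | p.1 ∈ B ∧ p.2 ∉ p.1}
      = ↑(((blk B) ×ˢ (Finset.univ : Finset α)).filter (fun p => p.2 ∉ p.1)) := by
    ext p
    rw [Finset.mem_coe, Finset.mem_filter, Finset.mem_product, mem_blk]
    constructor
    · rintro ⟨h1, h2⟩
      exact ⟨⟨h1, Finset.mem_univ _⟩, h2⟩
    · rintro ⟨⟨h1, -⟩, h2⟩
      exact ⟨h1, h2⟩
  rw [h1, Set.ncard_coe_finset, Finset.card_filter, Finset.sum_product]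
  have h2 : ∀ b ∈ blk B, ∑ x : α, (if x ∉ b then 1 else 0) = 16 := by
    intro b hb
    rw [← Finset.card_filter]
    have h3 : (Finset.univ.filter fun x => x ∉ b) = bᶜ := by
      ext y
      simp
    rw [h3, Finset.card_compl, hα, hB.1 b (mem_blk.mp hb)]
  rw [Finset.sum_congr rfl h2, Finset.sum_const, s4723_card_blk hB hα, smul_eq_mul]

/-- The automorphism group of an S(4, 7, 23) has order 10200960. -/
theorem s4723_card_aut (hB : Cfsg.IsSteinerSystem 4 7 B) (hα : Fintype.card α = 23) :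
    Nat.card (Cfsg.setSystemAut B) = 10200960 := by
  classical
  obtain ⟨x₀⟩ : Nonempty α := Fintype.card_pos_iff.mp (by rw [hα]; norm_num)
  have hD : Cfsg.IsSteinerSystem 3 6 (der B x₀) := der_steiner hB x₀
  have hP : Fintype.card {y : α // y ≠ x₀} = 22 := by rw [card_ptCompl, hα]
  obtain ⟨Y₀, hY₀⟩ := exists_mem_res_4723 hB hα x₀
  have hY₀B : Y₀.map (ptEmb x₀) ∈ B := hY₀
  have hx₀ : x₀ ∉ Y₀.map (ptEmb x₀) := notMem_map_ptEmb x₀ Y₀
  have horb : MulAction.orbit (Cfsg.setSystemAut B) ((Y₀.map (ptEmb x₀), x₀) : Finset α × α)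
      = {p : Finset α × α | p.1 ∈ B ∧ p.2 ∉ p.1} := by
    ext p
    constructor
    · rintro ⟨g, rfl⟩
      refine ⟨mem_aut_iff.mp g.2 _ hY₀B, fun h => ?_⟩
      obtain ⟨a, ha, e⟩ := Finset.mem_image.mp h
      have e' : (g : Equiv.Perm α) a = (g : Equiv.Perm α) x₀ := e
      have e'' : a = x₀ := (g : Equiv.Perm α).injective e'
      exact hx₀ (e'' ▸ ha)
    · rintro ⟨hp1, hp2⟩
      obtain ⟨g, hg, hgx, hgY⟩ := s4723_iso_flag hB hα hB hα hY₀B hx₀ hp1 hp2
      exact ⟨⟨g, mem_aut_iff.mpr hg⟩, Prod.ext hgY hgx⟩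
  -- the stabilizer of the flag is the stabilizer of a heptad in the derived system
  have hk1 : ∀ k : MulAction.stabilizer (Cfsg.setSystemAut (der B x₀)) Y₀,
      extPt x₀ x₀ ((k : Cfsg.setSystemAut (der B x₀)) : Equiv.Perm {y : α // y ≠ x₀})
        ∈ Cfsg.setSystemAut B := by
    intro k
    have hf := mem_aut_iff.mp (k : Cfsg.setSystemAut (der B x₀)).2
    have hkY : Y₀.image ((k : Cfsg.setSystemAut (der B x₀)) : Equiv.Perm {y : α // y ≠ x₀})
        = Y₀ := MulAction.mem_stabilizer_iff.mp k.2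
    refine mem_aut_iff.mpr (extPt_maps x₀ x₀ _ hf ?_)
    rcases iso_res_cases hB hα hB hα _ hf with hc | hc
    · exact fun Z hZ => (hc Z (res_mem_hept hB hα hZ)).mp hZ
    · exfalso
      have := (hc _ (res_mem_hept hB hα hY₀)).mp hY₀
      rw [hkY] at this
      exact this hY₀
  have hk2 : ∀ k : MulAction.stabilizer (Cfsg.setSystemAut (der B x₀)) Y₀,
      (⟨_, hk1 k⟩ : Cfsg.setSystemAut B) ∈ MulAction.stabilizer (Cfsg.setSystemAut B)
        ((Y₀.map (ptEmb x₀), x₀) : Finset α × α) := by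
    intro k
    have hkY : Y₀.image ((k : Cfsg.setSystemAut (der B x₀)) : Equiv.Perm {y : α // y ≠ x₀})
        = Y₀ := MulAction.mem_stabilizer_iff.mp k.2
    rw [MulAction.mem_stabilizer_iff]
    refine Prod.ext ?_ (extPt_self x₀ x₀ _)
    show (Y₀.map (ptEmb x₀)).image (extPt x₀ x₀ _) = Y₀.map (ptEmb x₀)
    rw [image_extPt_map, hkY]
  have hcard : Nat.card (MulAction.stabilizer (Cfsg.setSystemAut B)
      ((Y₀.map (ptEmb x₀), x₀) : Finset α × α)) = 2520 := by
    rw [← card_stab_hept hD hP (res_mem_hept hB hα hY₀)]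
    symm
    refine Nat.card_eq_of_bijective
      (fun k : MulAction.stabilizer (Cfsg.setSystemAut (der B x₀)) Y₀ =>
        (⟨⟨_, hk1 k⟩, hk2 k⟩ : MulAction.stabilizer (Cfsg.setSystemAut B)
          ((Y₀.map (ptEmb x₀), x₀) : Finset α × α))) ⟨?_, ?_⟩
    · intro k k' e
      have e1 : extPt x₀ x₀ ((k : Cfsg.setSystemAut (der B x₀)) : Equiv.Perm {y : α // y ≠ x₀})
          = extPt x₀ x₀ ((k' : Cfsg.setSystemAut (der B x₀)) : Equiv.Perm {y : α // y ≠ x₀}) :=
        congrArg (fun s : MulAction.stabilizer (Cfsg.setSystemAut B)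
          ((Y₀.map (ptEmb x₀), x₀) : Finset α × α) =>
            ((s : Cfsg.setSystemAut B) : Equiv.Perm α)) e
      apply Subtype.ext
      apply Subtype.ext
      apply Equiv.ext
      intro a
      apply Subtype.ext
      rw [← extPt_coe x₀ x₀, ← extPt_coe x₀ x₀, e1]
    · intro s
      have hs := MulAction.mem_stabilizer_iff.mp s.2
      have hsx : ((s : Cfsg.setSystemAut B) : Equiv.Perm α) x₀ = x₀ := congrArg Prod.snd hs
      have hsY : (Y₀.map (ptEmb x₀)).image ((s : Cfsg.setSystemAut B) : Equiv.Perm α)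
          = Y₀.map (ptEmb x₀) := congrArg Prod.fst hs
      have hsB := mem_aut_iff.mp (s : Cfsg.setSystemAut B).2
      have hfD := restrictPt_der _ hsx hsB
      have hfY : Y₀.image (restrictPt ((s : Cfsg.setSystemAut B) : Equiv.Perm α) hsx) = Y₀ := by
        have h1 := hsY
        conv_lhs at h1 => rw [← extPt_restrictPt ((s : Cfsg.setSystemAut B) : Equiv.Perm α) hsx]
        rw [image_extPt_map] at h1
        exact Finset.map_injective (ptEmb x₀) h1
      refine ⟨⟨⟨restrictPt ((s : Cfsg.setSystemAut B) : Equiv.Perm α) hsx,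
        mem_aut_iff.mpr hfD⟩, MulAction.mem_stabilizer_iff.mpr hfY⟩, ?_⟩
      apply Subtype.ext
      apply Subtype.ext
      exact extPt_restrictPt _ hsx
  have h1 := Subgroup.card_mul_index (MulAction.stabilizer (Cfsg.setSystemAut B)
    ((Y₀.map (ptEmb x₀), x₀) : Finset α × α))
  rw [MulAction.index_stabilizer, horb, card_flags_4723 hB hα, hcard] at h1
  omega

end Order

end Cfsg.Agent.Lib.helper10
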