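/-
The automorphism group of a Steiner system S(4, 7, 23) is simple (the Mathieu group M23).
-/
import Mathlib
import Cfsg.Prelude.Def_Sporadic_a
import Cfsg.Agent.Lib.helper10.S4723Aut
import Cfsg.Agent.Lib.helper10.SylowSimple
import Cfsg.Agent.Lib.helper10.PermP2

set_option autoImplicit false
set_option linter.unusedSectionVars false

namespace Cfsg.Agent.Lib.helper10

open Finset
open scoped Pointwise

section M23

variable {α : Type*} [Fintype α] [DecidableEq α] {B : Set (Finset α)}

variable (hB : Cfsg.IsSteinerSystem 4 7 B) (hα : Fintype.card α = 23)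

include hB hα

theorem s4723_two_trans : MulAction.IsMultiplyPretransitive (Cfsg.setSystemAut B) α 2 := by
  have h4 := s4723_four_trans hB hα
  exact MulAction.isMultiplyPretransitive_of_le (n := 4) (by norm_num)
    (by rw [Nat.card_eq_fintype_card, hα]; norm_num)

theorem s4723_card_stabilizer (a : α) :
    Nat.card (MulAction.stabilizer (Cfsg.setSystemAut B) a) = 443520 := by
  have := s4723_two_trans hB hα
  have : MulAction.IsPretransitive (Cfsg.setSystemAut B) α :=
    MulAction.isPretransitive_of_is_two_pretransitive
  have h1 := card_stabilizer_mul (Cfsg.setSystemAut B) a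
  rw [hα, s4723_card_aut hB hα] at h1
  omega

/-- The automorphism group of an S(4, 7, 23) is simple. -/
theorem s4723_aut_simple : IsSimpleGroup (Cfsg.setSystemAut B) := by
  have : Fact (Nat.Prime 23) := ⟨by norm_num⟩
  obtain ⟨P⟩ : Nonempty (Sylow 23 (Cfsg.setSystemAut B)) := Sylow.nonempty
  obtain ⟨hN, hP⟩ := card_normalizer_sylow23 (Cfsg.setSystemAut B) hα (s4723_card_aut hB hα)
    (s4723_card_stabilizer hB hα) P
  refine simple_of_sylow 23 11 (by norm_num) P hP hN (by rw [s4723_card_aut hB hα]; norm_num)
    (fun N hN hne => ?_)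
  have := card_dvd_of_normal_two_trans (Cfsg.setSystemAut B) (s4723_two_trans hB hα) N hN hne
  rwa [hα] at this

end M23

end Cfsg.Agent.Lib.helper10
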