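/-
Transport of statements about isometry groups (in the matrix form of `Cfsg.isometryGroup`) along
a linear equivalence of the underlying spaces carrying one form to the other, and transport of
classes of 3-transpositions along group isomorphisms.
-/
import Mathlib
import Cfsg.Prelude.Def_Classical
import Cfsg.Prelude.Def_SporadicB
import Cfsg.Agent.Lib.helper17.Isom

set_option autoImplicit false
set_option linter.unusedSectionVars false

namespace Cfsg.Agent.Lib.helper10

open Cfsg Matrix
open Cfsg.Agent.Lib.helper17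

section Transport

/-- Classes of 3-transpositions are carried over by group isomorphisms. -/
theorem isThreeTranspositionClass_of_mulEquiv {G G' : Type*} [Group G] [Group G'] (e : G ≃* G')
    (D : Set G) (D' : Set G') (hD : ∀ g, e g ∈ D' ↔ g ∈ D) (H : IsThreeTranspositionClass D) :
    IsThreeTranspositionClass D' := by
  obtain ⟨⟨H1, H2⟩, ⟨d₀, hd₀, H3⟩, H4⟩ := H
  have hex : ∀ x' ∈ D', ∃ x ∈ D, e x = x' := by
    intro x' hx'
    refine ⟨e.symm x', ?_, e.apply_symm_apply x'⟩
    rw [← hD, e.apply_symm_apply]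
    exact hx'
  refine ⟨⟨?_, ?_⟩, ⟨e d₀, (hD d₀).mpr hd₀, ?_⟩, ?_⟩
  · intro d' hd'
    obtain ⟨d, hd, rfl⟩ := hex d' hd'
    rw [MulEquiv.orderOf_eq]
    exact H1 d hd
  · intro d' hd' f' hf'
    obtain ⟨d, hd, rfl⟩ := hex d' hd'
    obtain ⟨f, hf, rfl⟩ := hex f' hf'
    rcases H2 d hd f hf with h | h
    · left
      rw [← map_mul, ← map_pow, h, map_one]
    · right
      rw [← map_mul, ← map_pow, h, map_one]
  · ext x'
    constructor
    · intro hx'
      obtain ⟨x, hx, rfl⟩ := hex x' hx'
      rw [H3] at hx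
      have hx2 : IsConj d₀ x := hx
      show IsConj (e d₀) (e x)
      rw [isConj_iff] at hx2 ⊢
      obtain ⟨c, hc⟩ := hx2
      exact ⟨e c, by rw [← hc, map_mul, map_mul, map_inv]⟩
    · intro hx'
      have hx2 : IsConj (e d₀) x' := hx'
      rw [isConj_iff] at hx2
      obtain ⟨c, hc⟩ := hx2
      have h1 : x' = e (e.symm c * d₀ * (e.symm c)⁻¹) := by
        rw [map_mul, map_mul, map_inv, e.apply_symm_apply, hc]
      rw [h1, hD, H3]
      show IsConj d₀ _
      rw [isConj_iff]
      exact ⟨e.symm c, rfl⟩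
  · have h1 : D' = e.toMonoidHom '' D := by
      ext x'
      constructor
      · intro hx'
        obtain ⟨x, hx, rfl⟩ := hex x' hx'
        exact ⟨x, hx, rfl⟩
      · rintro ⟨x, hx, rfl⟩
        exact (hD x).mpr hx
    rw [h1, ← MonoidHom.map_closure, H4]
    exact Subgroup.map_top_of_surjective _ e.surjective

variable {ι ι' : Type} [Fintype ι] [DecidableEq ι] [Fintype ι'] [DecidableEq ι']
variable {F : Type*} [Field F]

/-- Conjugation by a pair of mutually inverse rectangular matrices. -/
def matConjEquiv (P : Matrix ι' ι F) (P' : Matrix ι ι' F) (h1 : P' * P = 1) (h2 : P * P' = 1) :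
    Matrix ι ι F ≃* Matrix ι' ι' F where
  toFun A := P * A * P'
  invFun B := P' * B * P
  left_inv A := by
    show P' * (P * A * P') * P = A
    rw [← Matrix.mul_assoc, ← Matrix.mul_assoc, h1, Matrix.one_mul, Matrix.mul_assoc, h1,
      Matrix.mul_one]
  right_inv B := by
    show P * (P' * B * P) * P' = B
    rw [← Matrix.mul_assoc, ← Matrix.mul_assoc, h2, Matrix.one_mul, Matrix.mul_assoc, h2,
      Matrix.mul_one]
  map_mul' A B := by
    show P * (A * B) * P' = P * A * P' * (P * B * P')
    simp only [Matrix.mul_assoc]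
    rw [← Matrix.mul_assoc P' P, h1, Matrix.one_mul]

theorem matConjEquiv_apply (P : Matrix ι' ι F) (P' : Matrix ι ι' F) (h1 : P' * P = 1)
    (h2 : P * P' = 1) (A : Matrix ι ι F) : matConjEquiv P P' h1 h2 A = P * A * P' := rfl

/-- The induced isomorphism of general linear groups. -/
def glConjEquiv (P : Matrix ι' ι F) (P' : Matrix ι ι' F) (h1 : P' * P = 1) (h2 : P * P' = 1) :
    Matrix.GeneralLinearGroup ι F ≃* Matrix.GeneralLinearGroup ι' F :=
  Units.mapEquiv (matConjEquiv P P' h1 h2)

theorem glConjEquiv_coe (P : Matrix ι' ι F) (P' : Matrix ι ι' F) (h1 : P' * P = 1)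
    (h2 : P * P' = 1) (g : Matrix.GeneralLinearGroup ι F) :
    ((glConjEquiv P P' h1 h2 g : Matrix.GeneralLinearGroup ι' F) : Matrix ι' ι' F)
      = P * (g : Matrix ι ι F) * P' := rfl

theorem glConjEquiv_mem (Q : (ι → F) → F) (Q' : (ι' → F) → F) (P : Matrix ι' ι F)
    (P' : Matrix ι ι' F) (h1 : P' * P = 1) (h2 : P * P' = 1) (hQ : ∀ v, Q' (P *ᵥ v) = Q v)
    (g : Matrix.GeneralLinearGroup ι F) :
    glConjEquiv P P' h1 h2 g ∈ isometryGroup F Q' ↔ g ∈ isometryGroup F Q := by
  rw [mem_isometryGroup_iff, mem_isometryGroup_iff]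
  constructor
  · intro h u
    have h3 := h (P *ᵥ u)
    rw [glConjEquiv_coe, Matrix.mulVec_mulVec, Matrix.mul_assoc, Matrix.mul_assoc, h1,
      Matrix.mul_one, ← Matrix.mulVec_mulVec, hQ, hQ] at h3
    exact h3
  · intro h u'
    have h3 : u' = P *ᵥ (P' *ᵥ u') := by rw [Matrix.mulVec_mulVec, h2, Matrix.one_mulVec]
    rw [glConjEquiv_coe, ← Matrix.mulVec_mulVec, ← Matrix.mulVec_mulVec, hQ, h]
    conv_rhs => rw [h3]
    rw [hQ]

/-- An isomorphism of groups restricts to an isomorphism of corresponding subgroups. -/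
def subgroupEquivOfMem {G G' : Type*} [Group G] [Group G'] (e : G ≃* G') (H : Subgroup G)
    (H' : Subgroup G') (h : ∀ g, e g ∈ H' ↔ g ∈ H) : H ≃* H' where
  toFun g := ⟨e (g : G), (h g).mpr g.2⟩
  invFun g' := ⟨e.symm (g' : G'), (h _).mp (by rw [e.apply_symm_apply]; exact g'.2)⟩
  left_inv g := Subtype.ext (e.symm_apply_apply (g : G))
  right_inv g' := Subtype.ext (e.apply_symm_apply (g' : G'))
  map_mul' g g₂ := Subtype.ext (map_mul e (g : G) (g₂ : G))

theorem rank_conj_eq (P : Matrix ι' ι F) (P' : Matrix ι ι' F) (h1 : P' * P = 1)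
    (B : Matrix ι ι F) : (P * B * P').rank = B.rank := by
  apply le_antisymm
  · exact (Matrix.rank_mul_le_left _ _).trans (Matrix.rank_mul_le_right _ _)
  · have h3 : B = P' * (P * B * P') * P := by
      rw [← Matrix.mul_assoc, ← Matrix.mul_assoc, h1, Matrix.one_mul, Matrix.mul_assoc, h1,
        Matrix.mul_one]
    conv_lhs => rw [h3]
    exact (Matrix.rank_mul_le_left _ _).trans (Matrix.rank_mul_le_right _ _)

/-- Transport of the statement "the isometries `g` with `rank (g - 1) = 1` form a class of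
3-transpositions" along mutually inverse matrices carrying one form to the other. -/
theorem three_transp_transport_matrix (Q : (ι → F) → F) (Q' : (ι' → F) → F) (P : Matrix ι' ι F)
    (P' : Matrix ι ι' F) (h1 : P' * P = 1) (h2 : P * P' = 1) (hQ : ∀ v, Q' (P *ᵥ v) = Q v)
    (H : IsThreeTranspositionClass {g : isometryGroup F Q |
      (((g : Matrix.GeneralLinearGroup ι F) : Matrix ι ι F) - 1).rank = 1}) :
    IsThreeTranspositionClass {g : isometryGroup F Q' |
      (((g : Matrix.GeneralLinearGroup ι' F) : Matrix ι' ι' F) - 1).rank = 1} := by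
  refine isThreeTranspositionClass_of_mulEquiv
    (subgroupEquivOfMem (glConjEquiv P P' h1 h2) (isometryGroup F Q) (isometryGroup F Q')
      (glConjEquiv_mem Q Q' P P' h1 h2 hQ)) _ _ ?_ H
  intro g
  show ((P * ((g : Matrix.GeneralLinearGroup ι F) : Matrix ι ι F) * P') - 1).rank = 1 ↔
    (((g : Matrix.GeneralLinearGroup ι F) : Matrix ι ι F) - 1).rank = 1
  have h3 : P * ((g : Matrix.GeneralLinearGroup ι F) : Matrix ι ι F) * P' - 1
      = P * (((g : Matrix.GeneralLinearGroup ι F) : Matrix ι ι F) - 1) * P' := by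
    rw [Matrix.mul_sub, Matrix.sub_mul, Matrix.mul_one, h2]
  rw [h3, rank_conj_eq P P' h1]

/-- The same, along a linear equivalence. -/
theorem three_transp_transport (Q : (ι → F) → F) (Q' : (ι' → F) → F)
    (φ : (ι → F) ≃ₗ[F] (ι' → F)) (hQ : ∀ v, Q' (φ v) = Q v)
    (H : IsThreeTranspositionClass {g : isometryGroup F Q |
      (((g : Matrix.GeneralLinearGroup ι F) : Matrix ι ι F) - 1).rank = 1}) :
    IsThreeTranspositionClass {g : isometryGroup F Q' |
      (((g : Matrix.GeneralLinearGroup ι' F) : Matrix ι' ι' F) - 1).rank = 1} := by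
  refine three_transp_transport_matrix Q Q' (LinearMap.toMatrix' φ.toLinearMap)
    (LinearMap.toMatrix' φ.symm.toLinearMap) ?_ ?_ ?_ H
  · rw [← LinearMap.toMatrix'_comp]
    have : φ.symm.toLinearMap ∘ₗ φ.toLinearMap = LinearMap.id := by
      ext v : 1
      simp
    rw [this, LinearMap.toMatrix'_id]
  · rw [← LinearMap.toMatrix'_comp]
    have : φ.toLinearMap ∘ₗ φ.symm.toLinearMap = LinearMap.id := by
      ext v : 1
      simp
    rw [this, LinearMap.toMatrix'_id]
  · intro v
    rw [← Matrix.toLin'_apply, Matrix.toLin'_toMatrix']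
    exact hQ v

end Transport

end Cfsg.Agent.Lib.helper10
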