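/-
Symplectic transvections over the field with two elements: the elements `g` of
`Matrix.symplecticGroup (Fin m) (ZMod 2)` with `rank (g - 1) = 1` are exactly the transvections
`tv2 m w` (`w ≠ 0`); relations between them (involutions, commuting / braid relation, conjugation).
Builds on `Cfsg.Agent.Lib.helper17.Symp4`.
-/
import Mathlib
import Cfsg.Prelude.Def_ClassicalGeometry
import Cfsg.Agent.Lib.helper17.Symp4

set_option autoImplicit false

namespace Cfsg.Agent.Lib.helper10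

open Cfsg Matrix
open Cfsg.Agent.Lib.helper17

section SpTwo

variable (m : ℕ)

/-- The transvection `x ↦ x + f(x, w) w` as an element of the symplectic group over `ZMod 2`. -/
def tv2 (w : Fin m ⊕ Fin m → ZMod 2) : Matrix.symplecticGroup (Fin m) (ZMod 2) :=
  ⟨sympTransvection m w 1, sympTransvection_mem m w 1⟩

theorem tv2_mulVec (w x : Fin m ⊕ Fin m → ZMod 2) :
    (tv2 m w : Matrix (Fin m ⊕ Fin m) (Fin m ⊕ Fin m) (ZMod 2)) *ᵥ x
      = x + sympForm m (ZMod 2) x w • w := by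
  show sympTransvection m w 1 *ᵥ x = _
  rw [sympTransvection_mulVec, one_mul]

theorem sp_ext {F : Type*} [CommRing F] {g h : Matrix.symplecticGroup (Fin m) F}
    (H : ∀ x, (g : Matrix (Fin m ⊕ Fin m) (Fin m ⊕ Fin m) F) *ᵥ x
      = (h : Matrix (Fin m ⊕ Fin m) (Fin m ⊕ Fin m) F) *ᵥ x) : g = h :=
  Subtype.ext (Matrix.ext_iff_mulVec.mpr H)

theorem sp_mul_mulVec {F : Type*} [CommRing F] (g h : Matrix.symplecticGroup (Fin m) F)
    (x : Fin m ⊕ Fin m → F) :
    ((g * h : Matrix.symplecticGroup (Fin m) F) : Matrix (Fin m ⊕ Fin m) (Fin m ⊕ Fin m) F) *ᵥ x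
      = (g : Matrix (Fin m ⊕ Fin m) (Fin m ⊕ Fin m) F) *ᵥ
        ((h : Matrix (Fin m ⊕ Fin m) (Fin m ⊕ Fin m) F) *ᵥ x) := by
  rw [Submonoid.coe_mul, ← Matrix.mulVec_mulVec]

theorem sp_one_mulVec {F : Type*} [CommRing F] (x : Fin m ⊕ Fin m → F) :
    ((1 : Matrix.symplecticGroup (Fin m) F) : Matrix (Fin m ⊕ Fin m) (Fin m ⊕ Fin m) F) *ᵥ x
      = x := by
  rw [Submonoid.coe_one, Matrix.one_mulVec]

theorem zmod2_cases (c : ZMod 2) : c = 0 ∨ c = 1 := by revert c; decide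

theorem zmod2_add_self (c : ZMod 2) : c + c = 0 := by revert c; decide

theorem zmod2_neg (c : ZMod 2) : -c = c := by revert c; decide

theorem sympForm_swap2 (u v : Fin m ⊕ Fin m → ZMod 2) :
    sympForm m (ZMod 2) v u = sympForm m (ZMod 2) u v := by
  rw [sympForm_swap, zmod2_neg]

theorem smul_add_self2 (a : ZMod 2) (w : Fin m ⊕ Fin m → ZMod 2) : a • w + a • w = 0 := by
  rw [← add_smul, zmod2_add_self, zero_smul]

theorem tv2_mul_self (w : Fin m ⊕ Fin m → ZMod 2) : tv2 m w * tv2 m w = 1 := by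
  apply sp_ext
  intro x
  rw [sp_mul_mulVec, sp_one_mulVec, tv2_mulVec, tv2_mulVec, sympForm_add_left, sympForm_smul_left,
    sympForm_self, mul_zero, add_zero, add_assoc, smul_add_self2, add_zero]

theorem tv2_inv (w : Fin m ⊕ Fin m → ZMod 2) : (tv2 m w)⁻¹ = tv2 m w :=
  inv_eq_of_mul_eq_one_left (tv2_mul_self m w)

/-- Conjugating a transvection by a symplectic matrix. -/
theorem tv2_conj (g : Matrix.symplecticGroup (Fin m) (ZMod 2)) (w : Fin m ⊕ Fin m → ZMod 2) :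
    g * tv2 m w * g⁻¹
      = tv2 m ((g : Matrix (Fin m ⊕ Fin m) (Fin m ⊕ Fin m) (ZMod 2)) *ᵥ w) := by
  rw [mul_inv_eq_iff_eq_mul]
  apply sp_ext
  intro x
  rw [sp_mul_mulVec, sp_mul_mulVec, tv2_mulVec, tv2_mulVec, Matrix.mulVec_add, Matrix.mulVec_smul,
    sympForm_mulVec_of_mem m g.2]

theorem tv2_comm (u w : Fin m ⊕ Fin m → ZMod 2) (h : sympForm m (ZMod 2) u w = 0) :
    tv2 m u * tv2 m w = tv2 m w * tv2 m u := by
  have h' : sympForm m (ZMod 2) w u = 0 := by rw [sympForm_swap2, h]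
  apply sp_ext
  intro x
  simp only [sp_mul_mulVec, tv2_mulVec, sympForm_add_left, sympForm_smul_left, h, h',
    mul_zero, add_zero]
  abel

theorem tv2_cube (u w : Fin m ⊕ Fin m → ZMod 2) (h : sympForm m (ZMod 2) u w = 1) :
    (tv2 m u * tv2 m w) ^ 3 = 1 := by
  have h1 : tv2 m u * tv2 m w * tv2 m u = tv2 m (w + u) := by
    have := tv2_conj m (tv2 m u) w
    rw [tv2_inv, tv2_mulVec, sympForm_swap2, h, one_smul] at this
    exact this
  have h2 : tv2 m w * tv2 m u * tv2 m w = tv2 m (w + u) := by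
    have := tv2_conj m (tv2 m w) u
    rw [tv2_inv, tv2_mulVec, h, one_smul, add_comm] at this
    exact this
  calc (tv2 m u * tv2 m w) ^ 3
      = (tv2 m u * tv2 m w * tv2 m u) * (tv2 m w * tv2 m u * tv2 m w) := by
        rw [pow_succ, pow_succ, pow_one]; simp only [mul_assoc]
    _ = 1 := by rw [h1, h2, tv2_mul_self]

theorem tv2_sub_one_mulVec (w x : Fin m ⊕ Fin m → ZMod 2) :
    ((tv2 m w : Matrix (Fin m ⊕ Fin m) (Fin m ⊕ Fin m) (ZMod 2)) - 1) *ᵥ x
      = sympForm m (ZMod 2) x w • w := by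
  rw [Matrix.sub_mulVec, tv2_mulVec, Matrix.one_mulVec, add_sub_cancel_left]

/-- A transvection with nonzero direction differs from the identity by a rank one matrix. -/
theorem tv2_rank (w : Fin m ⊕ Fin m → ZMod 2) (hw : w ≠ 0) :
    ((tv2 m w : Matrix (Fin m ⊕ Fin m) (Fin m ⊕ Fin m) (ZMod 2)) - 1).rank = 1 := by
  have hr : LinearMap.range
      ((tv2 m w : Matrix (Fin m ⊕ Fin m) (Fin m ⊕ Fin m) (ZMod 2)) - 1).mulVecLin
      = Submodule.span (ZMod 2) {w} := by
    apply le_antisymm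
    · rintro _ ⟨x, rfl⟩
      rw [Matrix.mulVecLin_apply, tv2_sub_one_mulVec]
      exact Submodule.smul_mem _ _ (Submodule.mem_span_singleton_self w)
    · rw [Submodule.span_singleton_le_iff_mem]
      obtain ⟨y, hy⟩ := exists_sympForm_ne_zero m w hw
      refine ⟨y, ?_⟩
      rw [Matrix.mulVecLin_apply, tv2_sub_one_mulVec, sympForm_swap2,
        (zmod2_cases _).resolve_left hy, one_smul]
  rw [Matrix.rank, hr, finrank_span_singleton hw]

/-- A symplectic matrix over `ZMod 2` differing from the identity by a rank one matrix is a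
transvection. -/
theorem exists_tv2_of_rank {g : Matrix.symplecticGroup (Fin m) (ZMod 2)}
    (h : ((g : Matrix (Fin m ⊕ Fin m) (Fin m ⊕ Fin m) (ZMod 2)) - 1).rank = 1) :
    ∃ w, w ≠ 0 ∧ g = tv2 m w := by
  rw [Matrix.rank] at h
  obtain ⟨v, hv0, hv⟩ := finrank_eq_one_iff'.mp h
  obtain ⟨u, y₀, hy₀⟩ := v
  have hu0 : u ≠ 0 := by
    rintro rfl
    exact hv0 rfl
  have hgx : ∀ x, ∃ c : ZMod 2,
      (g : Matrix (Fin m ⊕ Fin m) (Fin m ⊕ Fin m) (ZMod 2)) *ᵥ x = x + c • u := by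
    intro x
    obtain ⟨c, hc⟩ := hv ⟨_, LinearMap.mem_range_self _ x⟩
    refine ⟨c, ?_⟩
    have hc' : c • u = ((g : Matrix (Fin m ⊕ Fin m) (Fin m ⊕ Fin m) (ZMod 2)) - 1) *ᵥ x :=
      congrArg Subtype.val hc
    rw [hc', Matrix.sub_mulVec, Matrix.one_mulVec]
    abel
  have hgy₀ : (g : Matrix (Fin m ⊕ Fin m) (Fin m ⊕ Fin m) (ZMod 2)) *ᵥ y₀ = y₀ + u := by
    rw [Matrix.mulVecLin_apply, Matrix.sub_mulVec, Matrix.one_mulVec] at hy₀
    rw [← hy₀]
    abel
  have key : ∀ x c, (g : Matrix (Fin m ⊕ Fin m) (Fin m ⊕ Fin m) (ZMod 2)) *ᵥ x = x + c • u →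
      sympForm m (ZMod 2) x u = c * sympForm m (ZMod 2) y₀ u := by
    intro x c hx
    have h1 := sympForm_mulVec_of_mem m g.2 x y₀
    rw [hx, hgy₀, sympForm_add_left, sympForm_add_right, sympForm_add_right, sympForm_smul_left,
      sympForm_smul_left, sympForm_self, mul_zero, add_zero, sympForm_swap2 m y₀ u] at h1
    have h2 : sympForm m (ZMod 2) x u + c * sympForm m (ZMod 2) y₀ u = 0 := by
      have h3 : sympForm m (ZMod 2) x y₀ + (sympForm m (ZMod 2) x u
          + c * sympForm m (ZMod 2) y₀ u) = sympForm m (ZMod 2) x y₀ + 0 := by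
        rw [add_zero, ← add_assoc]; exact h1
      exact add_left_cancel h3
    calc sympForm m (ZMod 2) x u
        = sympForm m (ZMod 2) x u + c * sympForm m (ZMod 2) y₀ u
          + c * sympForm m (ZMod 2) y₀ u := by
          rw [add_assoc, zmod2_add_self, add_zero]
      _ = c * sympForm m (ZMod 2) y₀ u := by rw [h2, zero_add]
  obtain ⟨x₁, hx₁⟩ := exists_sympForm_ne_zero m u hu0
  have hy1 : sympForm m (ZMod 2) y₀ u = 1 := by
    obtain ⟨c, hc⟩ := hgx x₁
    have h1 := key x₁ c hc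
    rw [sympForm_swap2] at hx₁
    rcases zmod2_cases (sympForm m (ZMod 2) y₀ u) with h0 | h0
    · rw [h0, mul_zero] at h1
      exact absurd h1 hx₁
    · exact h0
  refine ⟨u, hu0, sp_ext m fun x => ?_⟩
  obtain ⟨c, hc⟩ := hgx x
  rw [tv2_mulVec, hc, key x c hc, hy1, mul_one]

end SpTwo

end Cfsg.Agent.Lib.helper10
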