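/-
Orthogonal transvections over the field with two elements, for a quadratic form `Q` on
`ι → ZMod 2` with non-degenerate polar form: the isometries `g` with `rank (g - 1) = 1` are
exactly the transvections `otv Q v` (`Q v = 1`); relations between them; and the reduction of
"the rank one isometries form a generating conjugacy class of 3-transpositions" to
transitivity on non-singular vectors plus generation.
-/
import Mathlib
import Cfsg.Prelude.Def_ClassicalGeometry
import Cfsg.Prelude.Def_SporadicB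
import Cfsg.Agent.Lib.helper17.Isom
import Cfsg.Agent.Lib.helper91.Reflections
import Cfsg.Agent.Lib.helper10.SpTwoTransv

set_option autoImplicit false
set_option linter.unusedSectionVars false

namespace Cfsg.Agent.Lib.helper10

open Cfsg Matrix
open Cfsg.Agent.Lib.helper17

section OrthTwo

variable {ι : Type} [Fintype ι] [DecidableEq ι]

/-- The matrix of an element of an isometry group. -/
abbrev imat {Q : (ι → ZMod 2) → ZMod 2} (g : isometryGroup (ZMod 2) Q) : Matrix ι ι (ZMod 2) :=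
  ((g : Matrix.GeneralLinearGroup ι (ZMod 2)) : Matrix ι ι (ZMod 2))

theorem imat_mul {Q : (ι → ZMod 2) → ZMod 2} (g h : isometryGroup (ZMod 2) Q) :
    imat (g * h) = imat g * imat h := rfl

theorem imat_one {Q : (ι → ZMod 2) → ZMod 2} : imat (1 : isometryGroup (ZMod 2) Q) = 1 := rfl

theorem imat_mul_mulVec {Q : (ι → ZMod 2) → ZMod 2} (g h : isometryGroup (ZMod 2) Q)
    (x : ι → ZMod 2) : imat (g * h) *ᵥ x = imat g *ᵥ (imat h *ᵥ x) := by
  rw [imat_mul, ← Matrix.mulVec_mulVec]

theorem iso_ext {Q : (ι → ZMod 2) → ZMod 2} {g h : isometryGroup (ZMod 2) Q}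
    (H : ∀ x, imat g *ᵥ x = imat h *ᵥ x) : g = h :=
  Subtype.ext (Units.ext (Matrix.ext_iff_mulVec.mpr H))

theorem iso_apply {Q : (ι → ZMod 2) → ZMod 2} (g : isometryGroup (ZMod 2) Q) (x : ι → ZMod 2) :
    Q (imat g *ᵥ x) = Q x :=
  (mem_isometryGroup_iff Q _).mp g.2 x

theorem smul_add_self_two {M : Type*} [AddCommGroup M] [Module (ZMod 2) M] (a : ZMod 2) (w : M) :
    a • w + a • w = 0 := by
  rw [← add_smul, zmod2_add_self, zero_smul]

variable (Q : QuadraticForm (ZMod 2) (ι → ZMod 2))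

theorem iso_polar (g : isometryGroup (ZMod 2) ⇑Q) (x y : ι → ZMod 2) :
    QuadraticMap.polar ⇑Q (imat g *ᵥ x) (imat g *ᵥ y) = QuadraticMap.polar ⇑Q x y :=
  Cfsg.Agent.Lib.helper91.polar_isometry Q _ (iso_apply g) x y

theorem polar_self2 (x : ι → ZMod 2) : QuadraticMap.polar ⇑Q x x = 0 := by
  rw [QuadraticMap.polar_self]
  have : (2 : ZMod 2) = 0 := rfl
  simp [this]

theorem Q_add2 (x y : ι → ZMod 2) : Q (x + y) = Q x + Q y + QuadraticMap.polar ⇑Q x y := by
  unfold QuadraticMap.polar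
  ring

/-- The orthogonal transvection along `v` (the identity if `Q v = 0`). -/
noncomputable def otv (v : ι → ZMod 2) : isometryGroup (ZMod 2) ⇑Q :=
  if h : Q v ≠ 0 then reflectionIsom Q v h else 1

theorem otv_mulVec (v : ι → ZMod 2) (hv : Q v = 1) (x : ι → ZMod 2) :
    imat (otv Q v) *ᵥ x = x + QuadraticMap.polar ⇑Q v x • v := by
  have h : Q v ≠ 0 := by rw [hv]; exact one_ne_zero
  rw [otv, dif_pos h]
  show reflectionMatrix ⇑Q v *ᵥ x = _
  rw [reflectionMatrix_mulVec, hv, inv_one, one_mul, zmod2_neg]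

theorem otv_mul_self (v : ι → ZMod 2) (hv : Q v = 1) : otv Q v * otv Q v = 1 := by
  apply iso_ext
  intro x
  rw [imat_mul_mulVec, imat_one, Matrix.one_mulVec, otv_mulVec Q v hv, otv_mulVec Q v hv,
    QuadraticMap.polar_add_right, QuadraticMap.polar_smul_right, polar_self2, smul_zero, add_zero,
    add_assoc, smul_add_self_two, add_zero]

theorem otv_inv (v : ι → ZMod 2) (hv : Q v = 1) : (otv Q v)⁻¹ = otv Q v :=
  inv_eq_of_mul_eq_one_left (otv_mul_self Q v hv)

/-- Conjugating a transvection by an isometry. -/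
theorem otv_conj (g : isometryGroup (ZMod 2) ⇑Q) (v : ι → ZMod 2) (hv : Q v = 1) :
    g * otv Q v * g⁻¹ = otv Q (imat g *ᵥ v) := by
  have hgv : Q (imat g *ᵥ v) = 1 := (iso_apply g v).trans hv
  rw [mul_inv_eq_iff_eq_mul]
  apply iso_ext
  intro x
  rw [imat_mul_mulVec, imat_mul_mulVec, otv_mulVec Q v hv, otv_mulVec Q _ hgv, Matrix.mulVec_add,
    Matrix.mulVec_smul, iso_polar]

theorem otv_comm (u w : ι → ZMod 2) (hu : Q u = 1) (hw : Q w = 1)
    (h : QuadraticMap.polar ⇑Q u w = 0) : otv Q u * otv Q w = otv Q w * otv Q u := by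
  have h' : QuadraticMap.polar ⇑Q w u = 0 := by rw [QuadraticMap.polar_comm, h]
  apply iso_ext
  intro x
  simp only [imat_mul_mulVec, otv_mulVec Q u hu, otv_mulVec Q w hw, QuadraticMap.polar_add_right,
    QuadraticMap.polar_smul_right, h, h', smul_zero, add_zero]
  abel

theorem otv_cube (u w : ι → ZMod 2) (hu : Q u = 1) (hw : Q w = 1)
    (h : QuadraticMap.polar ⇑Q u w = 1) : (otv Q u * otv Q w) ^ 3 = 1 := by
  have h' : QuadraticMap.polar ⇑Q w u = 1 := by rw [QuadraticMap.polar_comm, h]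
  have hwu : Q (w + u) = 1 := by
    rw [Q_add2, hu, hw, h']
    decide
  have h1 : otv Q u * otv Q w * otv Q u = otv Q (w + u) := by
    have := otv_conj Q (otv Q u) w hw
    rw [otv_inv Q u hu, otv_mulVec Q u hu, h, one_smul] at this
    exact this
  have h2 : otv Q w * otv Q u * otv Q w = otv Q (w + u) := by
    have := otv_conj Q (otv Q w) u hu
    rw [otv_inv Q w hw, otv_mulVec Q w hw, h', one_smul, add_comm] at this
    exact this
  calc (otv Q u * otv Q w) ^ 3
      = (otv Q u * otv Q w * otv Q u) * (otv Q w * otv Q u * otv Q w) := by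
        rw [pow_succ, pow_succ, pow_one]; simp only [mul_assoc]
    _ = 1 := by rw [h1, h2, otv_mul_self Q _ hwu]

theorem otv_sub_one_mulVec (v : ι → ZMod 2) (hv : Q v = 1) (x : ι → ZMod 2) :
    (imat (otv Q v) - 1) *ᵥ x = QuadraticMap.polar ⇑Q v x • v := by
  rw [Matrix.sub_mulVec, otv_mulVec Q v hv, Matrix.one_mulVec, add_sub_cancel_left]

/-- Non-degeneracy of the polar form, in the elementary form used here. -/
def PolarNondeg : Prop := ∀ x : ι → ZMod 2, x ≠ 0 → ∃ y, QuadraticMap.polar ⇑Q x y ≠ 0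

variable {Q}

theorem ne_zero_of_Q_eq_one {v : ι → ZMod 2} (hv : Q v = 1) : v ≠ 0 := by
  rintro rfl
  rw [map_zero] at hv
  exact zero_ne_one hv

/-- A transvection differs from the identity by a rank one matrix. -/
theorem otv_rank (hnd : PolarNondeg Q) (v : ι → ZMod 2) (hv : Q v = 1) :
    (imat (otv Q v) - 1).rank = 1 := by
  have hv0 : v ≠ 0 := ne_zero_of_Q_eq_one hv
  have hr : LinearMap.range (imat (otv Q v) - 1).mulVecLin = Submodule.span (ZMod 2) {v} := by
    apply le_antisymm
    · rintro _ ⟨x, rfl⟩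
      rw [Matrix.mulVecLin_apply, otv_sub_one_mulVec Q v hv]
      exact Submodule.smul_mem _ _ (Submodule.mem_span_singleton_self v)
    · rw [Submodule.span_singleton_le_iff_mem]
      obtain ⟨y, hy⟩ := hnd v hv0
      refine ⟨y, ?_⟩
      rw [Matrix.mulVecLin_apply, otv_sub_one_mulVec Q v hv, (zmod2_cases _).resolve_left hy,
        one_smul]
  rw [Matrix.rank, hr, finrank_span_singleton hv0]

/-- An isometry differing from the identity by a rank one matrix is a transvection. -/
theorem exists_otv_of_rank (hnd : PolarNondeg Q) {g : isometryGroup (ZMod 2) ⇑Q}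
    (h : (imat g - 1).rank = 1) : ∃ v, Q v = 1 ∧ g = otv Q v := by
  rw [Matrix.rank] at h
  obtain ⟨v, hv0, hv⟩ := finrank_eq_one_iff'.mp h
  obtain ⟨u, y₀, hy₀⟩ := v
  have hu0 : u ≠ 0 := by
    rintro rfl
    exact hv0 rfl
  have hgx : ∀ x, ∃ c : ZMod 2, imat g *ᵥ x = x + c • u := by
    intro x
    obtain ⟨c, hc⟩ := hv ⟨_, LinearMap.mem_range_self _ x⟩
    refine ⟨c, ?_⟩
    have hc' : c • u = (imat g - 1) *ᵥ x := congrArg Subtype.val hc
    rw [hc', Matrix.sub_mulVec, Matrix.one_mulVec]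
    abel
  have hgy₀ : imat g *ᵥ y₀ = y₀ + u := by
    rw [Matrix.mulVecLin_apply, Matrix.sub_mulVec, Matrix.one_mulVec] at hy₀
    rw [← hy₀]
    abel
  -- the basic relation from `Q (g x) = Q x`
  have key : ∀ x c, imat g *ᵥ x = x + c • u →
      c * (c * Q u + QuadraticMap.polar ⇑Q x u) = 0 := by
    intro x c hx
    have h1 := iso_apply g x
    rw [hx, Q_add2, QuadraticMap.map_smul, QuadraticMap.polar_smul_right, smul_eq_mul,
      smul_eq_mul] at h1
    have h2 : Q x + (c * c * Q u + c * QuadraticMap.polar ⇑Q x u) = Q x + 0 := by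
      rw [add_zero, ← add_assoc]; exact h1
    have h3 := add_left_cancel h2
    rw [← h3]; ring
  have hy₀u : QuadraticMap.polar ⇑Q y₀ u = Q u := by
    have h1 := key y₀ 1 (by rw [hgy₀, one_smul])
    rw [one_mul, one_mul] at h1
    calc QuadraticMap.polar ⇑Q y₀ u = Q u + (Q u + QuadraticMap.polar ⇑Q y₀ u) := by
          rw [← add_assoc, zmod2_add_self, zero_add]
      _ = Q u := by rw [h1, add_zero]
  -- the coefficient of `x` is `polar x u + (1 + Q u) * coefficient`…: first for coefficient one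
  have hone : ∀ x, imat g *ᵥ x = x + u → QuadraticMap.polar ⇑Q x u = Q u := by
    intro x hx
    have h1 := key x 1 (by rw [hx, one_smul])
    rw [one_mul, one_mul] at h1
    calc QuadraticMap.polar ⇑Q x u = Q u + (Q u + QuadraticMap.polar ⇑Q x u) := by
          rw [← add_assoc, zmod2_add_self, zero_add]
      _ = Q u := by rw [h1, add_zero]
  have hzero : ∀ x, imat g *ᵥ x = x → QuadraticMap.polar ⇑Q x u = 0 := by
    intro x hx
    have h1 : imat g *ᵥ (x + y₀) = (x + y₀) + u := by
      rw [Matrix.mulVec_add, hx, hgy₀, add_assoc]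
    have h2 := hone (x + y₀) h1
    rw [QuadraticMap.polar_add_left, hy₀u] at h2
    exact add_right_cancel (h2.trans (zero_add _).symm)
  have hcases : ∀ x, (imat g *ᵥ x = x) ∨ (imat g *ᵥ x = x + u) := by
    intro x
    obtain ⟨c, hc⟩ := hgx x
    rcases zmod2_cases c with rfl | rfl
    · left; rw [hc, zero_smul, add_zero]
    · right; rw [hc, one_smul]
  have hQu : Q u = 1 := by
    rcases zmod2_cases (Q u) with h0 | h1
    · exfalso
      obtain ⟨y, hy⟩ := hnd u hu0
      apply hy
      rw [QuadraticMap.polar_comm]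
      rcases hcases y with hc | hc
      · exact hzero y hc
      · rw [hone y hc, h0]
    · exact h1
  refine ⟨u, hQu, iso_ext fun x => ?_⟩
  rw [otv_mulVec Q u hQu, QuadraticMap.polar_comm]
  rcases hcases x with hc | hc
  · rw [hc, hzero x hc, zero_smul, add_zero]
  · rw [hc, hone x hc, hQu, one_smul]

theorem otv_swap (Q : QuadraticForm (ZMod 2) (ι → ZMod 2)) (a b : ι → ZMod 2) (ha : Q a = 1)
    (hb : Q b = 1) (hab : QuadraticMap.polar ⇑Q a b = 1) :
    Q (a + b) = 1 ∧ imat (otv Q (a + b)) *ᵥ b = a := by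
  have h1 : Q (a + b) = 1 := by
    rw [Q_add2, ha, hb, hab]
    decide
  refine ⟨h1, ?_⟩
  rw [otv_mulVec Q _ h1, QuadraticMap.polar_add_left, hab, polar_self2, add_zero, one_smul,
    add_comm a b, ← add_assoc]
  have : b + b = 0 := by
    have := smul_add_self_two (1 : ZMod 2) b
    rwa [one_smul] at this
  rw [this, zero_add]

/-- The subgroup generated by the orthogonal transvections. -/
def otvSubgroup (Q : QuadraticForm (ZMod 2) (ι → ZMod 2)) :
    Subgroup (isometryGroup (ZMod 2) ⇑Q) :=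
  Subgroup.closure {t | ∃ v, Q v = 1 ∧ t = otv Q v}

theorem otv_mem_otvSubgroup (Q : QuadraticForm (ZMod 2) (ι → ZMod 2)) (v : ι → ZMod 2)
    (hv : Q v = 1) : otv Q v ∈ otvSubgroup Q :=
  Subgroup.subset_closure ⟨v, hv, rfl⟩

/-- Reduction: if the isometry group is transitive on non-singular vectors and generated by
transvections, then the isometries `g` with `rank (g - 1) = 1` form a generating conjugacy class
of 3-transpositions. -/
theorem three_transp_of_orth (hnd : PolarNondeg Q) (u₀ : ι → ZMod 2) (hu₀ : Q u₀ = 1)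
    (htrans : ∀ v, Q v = 1 → ∃ g : isometryGroup (ZMod 2) ⇑Q, imat g *ᵥ u₀ = v)
    (hgen : otvSubgroup Q = ⊤) :
    IsThreeTranspositionClass {g : isometryGroup (ZMod 2) ⇑Q | (imat g - 1).rank = 1} := by
  have hmem : ∀ v, Q v = 1 →
      otv Q v ∈ {g : isometryGroup (ZMod 2) ⇑Q | (imat g - 1).rank = 1} :=
    fun v hv => otv_rank hnd v hv
  have hex : ∀ g ∈ {g : isometryGroup (ZMod 2) ⇑Q | (imat g - 1).rank = 1},
      ∃ v, Q v = 1 ∧ g = otv Q v := fun g hg => exists_otv_of_rank hnd hg
  have hne1 : ∀ v, Q v = 1 → otv Q v ≠ 1 := by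
    intro v hv h1
    have := otv_rank hnd v hv
    rw [h1, imat_one, sub_self, Matrix.rank_zero] at this
    exact zero_ne_one this
  refine ⟨⟨?_, ?_⟩, ?_, ?_⟩
  · intro d hd
    obtain ⟨v, hv, rfl⟩ := hex d hd
    exact orderOf_eq_prime (by rw [pow_two, otv_mul_self Q v hv]) (hne1 v hv)
  · intro d hd e he
    obtain ⟨u, hu, rfl⟩ := hex d hd
    obtain ⟨w, hw, rfl⟩ := hex e he
    rcases zmod2_cases (QuadraticMap.polar ⇑Q u w) with h | h
    · left
      rw [pow_two, mul_assoc, ← mul_assoc (otv Q w), ← otv_comm Q u w hu hw h, mul_assoc,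
        otv_mul_self Q w hw, mul_one, otv_mul_self Q u hu]
    · right
      exact otv_cube Q u w hu hw h
  · refine ⟨otv Q u₀, hmem u₀ hu₀, ?_⟩
    ext g
    show _ ↔ IsConj _ g
    rw [isConj_iff]
    constructor
    · intro hg
      obtain ⟨v, hv, rfl⟩ := hex g hg
      obtain ⟨A, hA⟩ := htrans v hv
      exact ⟨A, by rw [otv_conj Q A u₀ hu₀, hA]⟩
    · rintro ⟨c, rfl⟩
      rw [otv_conj Q c u₀ hu₀]
      exact hmem _ ((iso_apply c u₀).trans hu₀)
  · rw [eq_top_iff, ← hgen, otvSubgroup, Subgroup.closure_le]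
    rintro A ⟨v, hv, rfl⟩
    exact Subgroup.subset_closure (hmem v hv)

end OrthTwo

end Cfsg.Agent.Lib.helper10
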