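/-
The quadratic forms `Σ x_i y_i + (z₁² + z₁ z₂ + c z₂²)` over `ZMod 2` (`c = 1`: minus type;
`c = 0`: plus type, written in a non-standard basis): the orthogonal transvections generate the
isometry group and form one conjugacy class of 3-transpositions (`k ≥ 2`).
Method: stabiliser of the non-singular vector `u = z₁`-basis vector maps onto `Sp(2k, 2)` with
kernel `{1, t_u}`; the symplectic group is generated by transvections (helper17).
-/
import Mathlib
import Cfsg.Prelude.Def_ClassicalGeometry
import Cfsg.Prelude.Def_SporadicB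
import Cfsg.Agent.Lib.helper17.Symp4
import Cfsg.Agent.Lib.helper49.Forms
import Cfsg.Agent.Lib.helper10.OrthTwo

set_option autoImplicit false
set_option linter.unusedSectionVars false

namespace Cfsg.Agent.Lib.helper10

open Cfsg Matrix
open Cfsg.Agent.Lib.helper17

section Std

/-- Vectors of the `2k + 2`-dimensional space. -/
abbrev OV (k : ℕ) : Type := (Fin k ⊕ Fin k) ⊕ Fin 2 → ZMod 2

/-- Vectors of the hyperbolic part. -/
abbrev OH (k : ℕ) : Type := Fin k ⊕ Fin k → ZMod 2

/-- The quadratic form `Σ x_i y_i + (z₁² + z₁ z₂ + c z₂²)`. -/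
abbrev oq (k : ℕ) (c : ZMod 2) : QuadraticForm (ZMod 2) (OV k) :=
  Cfsg.Agent.Lib.helper49.minusForm k (ZMod 2) 1 c

/-- Hyperbolic part of a vector. -/
def hp {k : ℕ} (v : OV k) : OH k := fun j => v (Sum.inl j)

/-- The vector with given hyperbolic part and last two coordinates. -/
def omk {k : ℕ} (h : OH k) (a b : ZMod 2) : OV k := Sum.elim h ![a, b]

variable {k : ℕ}

@[simp] theorem hp_omk (h : OH k) (a b : ZMod 2) : hp (omk h a b) = h := rfl

@[simp] theorem omk_inr_zero (h : OH k) (a b : ZMod 2) : omk h a b (Sum.inr 0) = a := rfl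

@[simp] theorem omk_inr_one (h : OH k) (a b : ZMod 2) : omk h a b (Sum.inr 1) = b := rfl

theorem omk_eta (v : OV k) : omk (hp v) (v (Sum.inr 0)) (v (Sum.inr 1)) = v := by
  funext j
  rcases j with j | j
  · rfl
  · fin_cases j <;> rfl

theorem hp_add (v v' : OV k) : hp (v + v') = hp v + hp v' := rfl

theorem hp_smul (a : ZMod 2) (v : OV k) : hp (a • v) = a • hp v := rfl

theorem omk_add (h h' : OH k) (a a' b b' : ZMod 2) :
    omk h a b + omk h' a' b' = omk (h + h') (a + a') (b + b') := by
  funext j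
  rcases j with j | j
  · rfl
  · fin_cases j <;> rfl

theorem omk_smul (t : ZMod 2) (h : OH k) (a b : ZMod 2) :
    t • omk h a b = omk (t • h) (t * a) (t * b) := by
  funext j
  rcases j with j | j
  · rfl
  · fin_cases j <;> rfl

theorem zmod2_sq (a : ZMod 2) : a ^ 2 = a := by revert a; decide

theorem zmod2_mul_self (a : ZMod 2) : a * a = a := by revert a; decide

/-- The value of the form. -/
theorem oq_apply (c : ZMod 2) (v : OV k) :
    oq k c v = quadFormPlus k (ZMod 2) (hp v)
      + (v (Sum.inr 0) + v (Sum.inr 0) * v (Sum.inr 1) + c * v (Sum.inr 1)) := by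
  show quadFormMinus k (ZMod 2) 1 c v = _
  unfold quadFormMinus quadFormPlus hp
  rw [zmod2_sq, zmod2_sq, one_mul]

theorem oq_omk (c : ZMod 2) (h : OH k) (a b : ZMod 2) :
    oq k c (omk h a b) = quadFormPlus k (ZMod 2) h + (a + a * b + c * b) := by
  rw [oq_apply, hp_omk, omk_inr_zero, omk_inr_one]

/-- The polar form of the hyperbolic quadratic form is the standard symplectic form. -/
theorem polar_quadFormPlus_two (h h' : OH k) :
    QuadraticMap.polar (quadFormPlus k (ZMod 2)) h h' = sympForm k (ZMod 2) h h' := by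
  unfold QuadraticMap.polar quadFormPlus sympForm
  simp only [dotProduct, Fintype.sum_sum_type, J_mulVec_inl, J_mulVec_inr, Pi.add_apply]
  rw [← Finset.sum_sub_distrib, ← Finset.sum_sub_distrib, ← Finset.sum_add_distrib]
  refine Finset.sum_congr rfl fun i _ => ?_
  have h2 : ∀ a : ZMod 2, -a = a := zmod2_neg
  rw [h2]
  ring

theorem quadFormPlus_add_two (h h' : OH k) :
    quadFormPlus k (ZMod 2) (h + h') = quadFormPlus k (ZMod 2) h + quadFormPlus k (ZMod 2) h'
      + sympForm k (ZMod 2) h h' := by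
  rw [← polar_quadFormPlus_two]
  unfold QuadraticMap.polar
  ring

theorem quadFormPlus_single_two (j : Fin k ⊕ Fin k) :
    quadFormPlus k (ZMod 2) (Pi.single j 1) = 0 :=
  Cfsg.Agent.Lib.helper49.plusForm_single k j

theorem quadFormPlus_zero_two : quadFormPlus k (ZMod 2) (0 : OH k) = 0 := by
  unfold quadFormPlus
  simp

/-- The polar form. -/
theorem oq_polar (c : ZMod 2) (v v' : OV k) :
    QuadraticMap.polar ⇑(oq k c) v v' = sympForm k (ZMod 2) (hp v) (hp v')
      + (v (Sum.inr 0) * v' (Sum.inr 1) + v' (Sum.inr 0) * v (Sum.inr 1)) := by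
  rw [← polar_quadFormPlus_two]
  unfold QuadraticMap.polar
  rw [oq_apply, oq_apply, oq_apply, hp_add]
  simp only [Pi.add_apply]
  have h2 : ∀ a b : ZMod 2, a - b = a + b := by decide
  simp only [h2]
  have h3 : ∀ a b c' d e : ZMod 2, (a + b + (a + b) * (c' + d) + e * (c' + d)) + (a + a * c' + e * c')
      + (b + b * d + e * d) = a * d + b * c' := by decide
  have h4 := h3 (v (Sum.inr 0)) (v' (Sum.inr 0)) (v (Sum.inr 1)) (v' (Sum.inr 1)) c
  linear_combination h4

theorem oq_polar_omk (c : ZMod 2) (h h' : OH k) (a b a' b' : ZMod 2) :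
    QuadraticMap.polar ⇑(oq k c) (omk h a b) (omk h' a' b') = sympForm k (ZMod 2) h h'
      + (a * b' + a' * b) := by
  rw [oq_polar, hp_omk, hp_omk, omk_inr_zero, omk_inr_one, omk_inr_zero, omk_inr_one]

theorem oq_nondeg (c : ZMod 2) : PolarNondeg (oq k c) := by
  intro v hv
  by_cases hh : hp v = 0
  · by_cases h0 : v (Sum.inr 0) = 0
    · have h1 : v (Sum.inr 1) ≠ 0 := by
        intro h1
        apply hv
        rw [← omk_eta v, hh, h0, h1]
        funext j
        rcases j with j | j
        · rfl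
        · fin_cases j <;> rfl
      refine ⟨omk 0 1 0, ?_⟩
      rw [← omk_eta v, oq_polar_omk, hh, sympForm_zero_left, h0]
      simpa using h1
    · refine ⟨omk 0 0 1, ?_⟩
      rw [← omk_eta v, oq_polar_omk, hh, sympForm_zero_left]
      simpa using h0
  · obtain ⟨w, hw⟩ := exists_sympForm_ne_zero k (hp v) hh
    refine ⟨omk w 0 0, ?_⟩
    rw [← omk_eta v, oq_polar_omk]
    simpa using hw

/-- The distinguished non-singular vector. -/
def ustd (k : ℕ) : OV k := omk 0 1 0

theorem oq_ustd (c : ZMod 2) : oq k c (ustd k) = 1 := by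
  rw [ustd, oq_omk, quadFormPlus_zero_two]
  simp

theorem oq_polar_ustd (c : ZMod 2) (v : OV k) :
    QuadraticMap.polar ⇑(oq k c) (ustd k) v = v (Sum.inr 1) := by
  rw [← omk_eta v, ustd, oq_polar_omk, sympForm_zero_left]
  simp

/-- In the hyperbolic part (`k ≥ 2`) there are vectors with prescribed form value and
prescribed pairing with a given non-zero vector. -/
theorem exists_qf_symp (hk : 2 ≤ k) (h : OH k) (hh : h ≠ 0) (d e : ZMod 2) :
    ∃ x : OH k, quadFormPlus k (ZMod 2) x = d ∧ sympForm k (ZMod 2) x h = e := by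
  obtain ⟨j, hj⟩ : ∃ j, h j ≠ 0 := by
    by_contra hcon
    push Not at hcon
    exact hh (funext hcon)
  have hj1 : h j = 1 := (zmod2_cases _).resolve_left hj
  -- a singular basis vector `s` pairing to one with `h`, and its index `i`
  obtain ⟨s, i, hs, hsh, hsq⟩ : ∃ (s : OH k) (i : Fin k),
      (s = Pi.single (Sum.inl i) 1 ∨ s = Pi.single (Sum.inr i) 1) ∧
      sympForm k (ZMod 2) s h = 1 ∧ quadFormPlus k (ZMod 2) s = 0 := by
    rcases j with i | i
    · refine ⟨Pi.single (Sum.inr i) 1, i, Or.inr rfl, ?_, quadFormPlus_single_two _⟩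
      rw [sympForm_single_inr_left, hj1]
    · refine ⟨Pi.single (Sum.inl i) 1, i, Or.inl rfl, ?_, quadFormPlus_single_two _⟩
      rw [sympForm_single_inl_left, hj1, zmod2_neg]
  rcases zmod2_cases d with rfl | rfl
  · -- `d = 0`
    rcases zmod2_cases e with rfl | rfl
    · exact ⟨0, quadFormPlus_zero_two, sympForm_zero_left k h⟩
    · exact ⟨s, hsq, hsh⟩
  · -- `d = 1`
    have : Nontrivial (Fin k) := Fin.nontrivial_iff_two_le.mpr hk
    obtain ⟨i', hi'⟩ := exists_ne i
    set d₁ : OH k := Pi.single (Sum.inl i') 1 + Pi.single (Sum.inr i') 1 with hd₁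
    have hd₁q : quadFormPlus k (ZMod 2) d₁ = 1 := by
      rw [hd₁, quadFormPlus_add_two, quadFormPlus_single_two, quadFormPlus_single_two,
        sympForm_single_inl_left]
      simp
    have hd₁s : sympForm k (ZMod 2) d₁ s = 0 := by
      rw [hd₁, sympForm_add_left, sympForm_single_inl_left, sympForm_single_inr_left]
      rcases hs with rfl | rfl
      · simp [hi'.symm]
      · simp [hi'.symm]
    rcases zmod2_cases (e + sympForm k (ZMod 2) d₁ h) with hl | hl
    · refine ⟨d₁, hd₁q, ?_⟩
      have : e + sympForm k (ZMod 2) d₁ h + sympForm k (ZMod 2) d₁ h = sympForm k (ZMod 2) d₁ h := by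
        rw [hl, zero_add]
      rw [add_assoc, zmod2_add_self, add_zero] at this
      exact this.symm
    · refine ⟨d₁ + s, ?_, ?_⟩
      · rw [quadFormPlus_add_two, hd₁q, hsq, hd₁s]
        simp
      · rw [sympForm_add_left, hsh]
        have : e + sympForm k (ZMod 2) d₁ h + sympForm k (ZMod 2) d₁ h
            = 1 + sympForm k (ZMod 2) d₁ h := by rw [hl]
        rw [add_assoc, zmod2_add_self, add_zero] at this
        rw [this, add_comm]

/-- The transvection subgroup is transitive on non-singular vectors. -/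
theorem oq_transitive (hk : 2 ≤ k) (c : ZMod 2) (v : OV k) (hv : oq k c v = 1) :
    ∃ g ∈ otvSubgroup (oq k c), imat g *ᵥ v = ustd k := by
  have hu := oq_ustd (k := k) c
  by_cases hb : v (Sum.inr 1) = 1
  · -- `u` and `v` are not orthogonal
    have hp1 : QuadraticMap.polar ⇑(oq k c) (ustd k) v = 1 := by rw [oq_polar_ustd, hb]
    obtain ⟨h1, h2⟩ := otv_swap (oq k c) (ustd k) v hu hv hp1
    exact ⟨_, otv_mem_otvSubgroup _ _ h1, h2⟩
  · have hb0 : v (Sum.inr 1) = 0 := (zmod2_cases _).resolve_right hb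
    by_cases hvu : v = ustd k
    · exact ⟨1, Subgroup.one_mem _, by rw [imat_one, Matrix.one_mulVec, hvu]⟩
    · have hQv : quadFormPlus k (ZMod 2) (hp v) + v (Sum.inr 0) = 1 := by
        have := hv
        rw [oq_apply, hb0] at this
        simpa using this
      have hh : hp v ≠ 0 := by
        intro hh
        apply hvu
        rw [hh, quadFormPlus_zero_two, zero_add] at hQv
        rw [← omk_eta v, hh, hQv, hb0, ustd]
      obtain ⟨x, hxq, hxs⟩ := exists_qf_symp hk (hp v) hh (1 + c) (quadFormPlus k (ZMod 2) (hp v))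
      set z : OV k := omk x 0 1 with hz
      have hzq : oq k c z = 1 := by
        rw [hz, oq_omk, hxq]
        have : ∀ c : ZMod 2, 1 + c + (0 + 0 * 1 + c * 1) = 1 := by decide
        exact this c
      have huz : QuadraticMap.polar ⇑(oq k c) (ustd k) z = 1 := by
        rw [oq_polar_ustd, hz, omk_inr_one]
      have hzv : QuadraticMap.polar ⇑(oq k c) z v = 1 := by
        rw [oq_polar, hz, hp_omk, omk_inr_zero, omk_inr_one, hxs, hb0]
        simpa using hQv
      obtain ⟨h1, h2⟩ := otv_swap (oq k c) z v hzq hv hzv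
      obtain ⟨h3, h4⟩ := otv_swap (oq k c) (ustd k) z hu hzq huz
      refine ⟨otv (oq k c) (ustd k + z) * otv (oq k c) (z + v),
        Subgroup.mul_mem _ (otv_mem_otvSubgroup _ _ h3) (otv_mem_otvSubgroup _ _ h1), ?_⟩
      rw [imat_mul_mulVec, h2, h4]

end Std

end Cfsg.Agent.Lib.helper10
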