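/-
The stabiliser of the non-singular vector `ustd k` in the isometry group of the forms `oq k c`
over `ZMod 2`: it maps onto `Sp(2k, 2)` with kernel `{1, t_u}`, the transvections mapping onto
the symplectic transvections.  Consequences: the orthogonal transvections generate the isometry
group and form one conjugacy class of 3-transpositions (`k ≥ 2`).
-/
import Mathlib
import Cfsg.Prelude.Def_ClassicalGeometry
import Cfsg.Prelude.Def_SporadicB
import Cfsg.Agent.Lib.helper17.Symp4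
import Cfsg.Agent.Lib.helper49.Forms
import Cfsg.Agent.Lib.helper10.OrthTwo
import Cfsg.Agent.Lib.helper10.OrthTwoStd

set_option autoImplicit false
set_option linter.unusedSectionVars false

namespace Cfsg.Agent.Lib.helper10

open Cfsg Matrix
open Cfsg.Agent.Lib.helper17

section Stab

variable {k : ℕ}

/-- A matrix preserving the standard symplectic form is symplectic. -/
theorem mem_symplecticGroup_of_sympForm {F : Type*} [CommRing F]
    (A : Matrix (Fin k ⊕ Fin k) (Fin k ⊕ Fin k) F)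
    (h : ∀ x y, sympForm k F (A *ᵥ x) (A *ᵥ y) = sympForm k F x y) :
    A ∈ Matrix.symplecticGroup (Fin k) F := by
  rw [SymplecticGroup.mem_iff']
  ext i j
  have h1 := h (Pi.single i 1) (Pi.single j 1)
  unfold sympForm at h1
  rw [Matrix.mulVec_mulVec, Matrix.dotProduct_mulVec, Matrix.vecMul_mulVec] at h1
  simp only [Matrix.mulVec_single_one, dotProduct_single, single_dotProduct, one_mul, mul_one,
    Matrix.single_one_vecMul, Matrix.col_apply, Matrix.row_apply] at h1
  rw [Matrix.mul_assoc]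
  exact h1

variable {c : ZMod 2}

/-- The matrix induced on the hyperbolic part. -/
def hmat (g : isometryGroup (ZMod 2) ⇑(oq k c)) :
    Matrix (Fin k ⊕ Fin k) (Fin k ⊕ Fin k) (ZMod 2) := (imat g).toBlocks₁₁

theorem hmat_mulVec (g : isometryGroup (ZMod 2) ⇑(oq k c)) (h : OH k) :
    hmat g *ᵥ h = hp (imat g *ᵥ omk h 0 0) := by
  funext j
  simp only [hmat, hp, Matrix.mulVec, dotProduct, Fintype.sum_sum_type, Matrix.toBlocks₁₁,
    Matrix.of_apply, omk, Sum.elim_inl, Sum.elim_inr, Fin.sum_univ_two]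
  simp

theorem hmat_one : hmat (1 : isometryGroup (ZMod 2) ⇑(oq k c)) = 1 := by
  apply Matrix.ext_iff_mulVec.mpr
  intro h
  rw [hmat_mulVec, imat_one, Matrix.one_mulVec, Matrix.one_mulVec, hp_omk]

/-- The stabiliser condition for the distinguished non-singular vector. -/
def FixU (g : isometryGroup (ZMod 2) ⇑(oq k c)) : Prop := imat g *ᵥ ustd k = ustd k

theorem fixU_one : FixU (1 : isometryGroup (ZMod 2) ⇑(oq k c)) := by
  rw [FixU, imat_one, Matrix.one_mulVec]

theorem fixU_mul {g g' : isometryGroup (ZMod 2) ⇑(oq k c)} (hg : FixU g) (hg' : FixU g') :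
    FixU (g * g') := by
  rw [FixU, imat_mul_mulVec, hg', hg]

theorem fixU_inv {g : isometryGroup (ZMod 2) ⇑(oq k c)} (hg : FixU g) : FixU g⁻¹ := by
  have h1 : imat (g⁻¹ * g) *ᵥ ustd k = ustd k := by
    rw [inv_mul_cancel, imat_one, Matrix.one_mulVec]
  rw [imat_mul_mulVec, hg] at h1
  exact h1

theorem fixU_inr_one {g : isometryGroup (ZMod 2) ⇑(oq k c)} (hg : FixU g) (v : OV k) :
    (imat g *ᵥ v) (Sum.inr 1) = v (Sum.inr 1) := by
  have := iso_polar (oq k c) g (ustd k) v
  rw [hg, oq_polar_ustd, oq_polar_ustd] at this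
  exact this

theorem hp_ustd : hp (ustd k) = 0 := rfl

theorem omk_split (v : OV k) (hv : v (Sum.inr 1) = 0) :
    v = omk (hp v) 0 0 + v (Sum.inr 0) • ustd k := by
  conv_lhs => rw [← omk_eta v, hv]
  rw [ustd, omk_smul, omk_add]
  simp

theorem hp_mulVec_of_fixU {g : isometryGroup (ZMod 2) ⇑(oq k c)} (hg : FixU g) (v : OV k)
    (hv : v (Sum.inr 1) = 0) : hp (imat g *ᵥ v) = hmat g *ᵥ hp v := by
  conv_lhs => rw [omk_split v hv]
  rw [Matrix.mulVec_add, Matrix.mulVec_smul, hg, hp_add, hp_smul, hp_ustd, smul_zero, add_zero,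
    hmat_mulVec]

theorem hmat_mul {g g' : isometryGroup (ZMod 2) ⇑(oq k c)} (hg : FixU g) (hg' : FixU g') :
    hmat (g * g') = hmat g * hmat g' := by
  apply Matrix.ext_iff_mulVec.mpr
  intro h
  rw [hmat_mulVec, imat_mul_mulVec, hp_mulVec_of_fixU hg _ (by rw [fixU_inr_one hg']; rfl),
    ← hmat_mulVec, Matrix.mulVec_mulVec]

theorem hmat_symp {g : isometryGroup (ZMod 2) ⇑(oq k c)} (hg : FixU g) :
    hmat g ∈ Matrix.symplecticGroup (Fin k) (ZMod 2) := by
  apply mem_symplecticGroup_of_sympForm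
  intro x y
  have h1 := iso_polar (oq k c) g (omk x 0 0) (omk y 0 0)
  rw [oq_polar, oq_polar, fixU_inr_one hg, fixU_inr_one hg, ← hmat_mulVec, ← hmat_mulVec] at h1
  simpa using h1

/-- The transvection lifting a symplectic transvection. -/
theorem hmat_otv (c : ZMod 2) (w : OH k) :
    oq k c (omk w (1 + quadFormPlus k (ZMod 2) w) 0) = 1 ∧
    FixU (otv (oq k c) (omk w (1 + quadFormPlus k (ZMod 2) w) 0)) ∧
    hmat (otv (oq k c) (omk w (1 + quadFormPlus k (ZMod 2) w) 0)) = sympTransvection k w 1 := by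
  have hq : oq k c (omk w (1 + quadFormPlus k (ZMod 2) w) 0) = 1 := by
    rw [oq_omk]
    have : ∀ a c : ZMod 2, a + (1 + a + (1 + a) * 0 + c * 0) = 1 := by decide
    exact this _ _
  refine ⟨hq, ?_, ?_⟩
  · rw [FixU, otv_mulVec _ _ hq, ustd, oq_polar_omk, sympForm_zero_right]
    simp
  · apply Matrix.ext_iff_mulVec.mpr
    intro h
    rw [hmat_mulVec, otv_mulVec _ _ hq, oq_polar_omk, hp_add, hp_smul, hp_omk, hp_omk,
      sympTransvection_mulVec, one_mul, sympForm_swap2]
    simp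

/-- The kernel of the map to the symplectic group. -/
theorem eq_one_or_otv_of_hmat {g : isometryGroup (ZMod 2) ⇑(oq k c)} (hg : FixU g)
    (h1 : hmat g = 1) : g = 1 ∨ g = otv (oq k c) (ustd k) := by
  -- vectors orthogonal to `u` are fixed
  have hfix : ∀ v : OV k, v (Sum.inr 1) = 0 → imat g *ᵥ v = v := by
    intro v hv
    have h2 : hp (imat g *ᵥ v) = hp v := by
      rw [hp_mulVec_of_fixU hg v hv, h1, Matrix.one_mulVec]
    have h3 : (imat g *ᵥ v) (Sum.inr 1) = 0 := by rw [fixU_inr_one hg, hv]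
    have h4 := iso_apply g v
    rw [oq_apply, oq_apply, h2, h3, hv] at h4
    have h5 : (imat g *ᵥ v) (Sum.inr 0) = v (Sum.inr 0) := by
      have h6 := add_left_cancel h4
      simpa using h6
    rw [← omk_eta (imat g *ᵥ v), h2, h3, h5, ← hv, omk_eta]
  set z : OV k := omk 0 0 1 with hz
  have hz1 : (imat g *ᵥ z) (Sum.inr 1) = 1 := by rw [fixU_inr_one hg, hz, omk_inr_one]
  have hzh : hp (imat g *ᵥ z) = 0 := by
    by_contra hne
    obtain ⟨w, hw⟩ := exists_sympForm_ne_zero k _ hne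
    apply hw
    have h2 := iso_polar (oq k c) g z (omk w 0 0)
    rw [hfix (omk w 0 0) rfl, oq_polar, hz, oq_polar_omk, hp_omk, sympForm_zero_left] at h2
    simpa using h2
  obtain ⟨a, hgz⟩ : ∃ a : ZMod 2, imat g *ᵥ z = z + a • ustd k := by
    refine ⟨(imat g *ᵥ z) (Sum.inr 0), ?_⟩
    conv_lhs => rw [← omk_eta (imat g *ᵥ z), hzh, hz1]
    rw [hz, ustd, omk_smul, omk_add]
    simp
  have hx : ∀ x : OV k, x = omk (hp x) (x (Sum.inr 0)) 0 + x (Sum.inr 1) • z := by
    intro x
    conv_lhs => rw [← omk_eta x]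
    rw [hz, omk_smul, omk_add]
    simp
  have hgx : ∀ x : OV k, imat g *ᵥ x = x + (x (Sum.inr 1) * a) • ustd k := by
    intro x
    conv_lhs => rw [hx x]
    rw [Matrix.mulVec_add, Matrix.mulVec_smul, hfix _ rfl, hgz, smul_add, ← add_assoc, ← hx x,
      smul_smul]
  rcases zmod2_cases a with h0 | h0
  · left
    apply iso_ext
    intro x
    rw [hgx x, h0, mul_zero, zero_smul, add_zero, imat_one, Matrix.one_mulVec]
  · right
    apply iso_ext
    intro x
    rw [hgx x, h0, mul_one, otv_mulVec _ _ (oq_ustd c), oq_polar_ustd]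

/-- The stabiliser of `ustd k` is generated by transvections. -/
theorem fixU_mem_otvSubgroup {g : isometryGroup (ZMod 2) ⇑(oq k c)} (hg : FixU g) :
    g ∈ otvSubgroup (oq k c) := by
  have key : ∀ A : Matrix.symplecticGroup (Fin k) (ZMod 2),
      ∃ t : isometryGroup (ZMod 2) ⇑(oq k c), FixU t ∧ t ∈ otvSubgroup (oq k c) ∧
        hmat t = (A : Matrix (Fin k ⊕ Fin k) (Fin k ⊕ Fin k) (ZMod 2)) := by
    intro A
    have hA : A ∈ transvSubgroup k (ZMod 2) := by
      rw [transvSubgroup_eq_top]; exact Subgroup.mem_top A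
    unfold transvSubgroup at hA
    induction hA using Subgroup.closure_induction with
    | mem A hA =>
      obtain ⟨w, d, hwd⟩ := hA
      rcases zmod2_cases d with rfl | rfl
      · refine ⟨1, fixU_one, Subgroup.one_mem _, ?_⟩
        rw [hmat_one, hwd, sympTransvection, zero_smul, add_zero]
      · obtain ⟨hq, hf, hm⟩ := hmat_otv c w
        exact ⟨_, hf, otv_mem_otvSubgroup _ _ hq, by rw [hm, hwd]⟩
    | one => exact ⟨1, fixU_one, Subgroup.one_mem _, hmat_one⟩
    | mul A B _ _ ihA ihB =>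
      obtain ⟨t, ht1, ht2, ht3⟩ := ihA
      obtain ⟨s, hs1, hs2, hs3⟩ := ihB
      exact ⟨t * s, fixU_mul ht1 hs1, Subgroup.mul_mem _ ht2 hs2, by
        rw [hmat_mul ht1 hs1, ht3, hs3]; rfl⟩
    | inv A _ ihA =>
      obtain ⟨t, ht1, ht2, ht3⟩ := ihA
      refine ⟨t⁻¹, fixU_inv ht1, Subgroup.inv_mem _ ht2, ?_⟩
      have h1 : hmat t⁻¹ * hmat t = 1 := by
        rw [← hmat_mul (fixU_inv ht1) ht1, inv_mul_cancel, hmat_one]
      have h2 : (A : Matrix (Fin k ⊕ Fin k) (Fin k ⊕ Fin k) (ZMod 2))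
          * ((A⁻¹ : Matrix.symplecticGroup (Fin k) (ZMod 2)) :
            Matrix (Fin k ⊕ Fin k) (Fin k ⊕ Fin k) (ZMod 2)) = 1 := by
        have : A * A⁻¹ = 1 := mul_inv_cancel A
        exact congrArg Subtype.val this
      calc hmat t⁻¹ = hmat t⁻¹ * (hmat t * ((A⁻¹ : Matrix.symplecticGroup (Fin k) (ZMod 2)) :
            Matrix (Fin k ⊕ Fin k) (Fin k ⊕ Fin k) (ZMod 2))) := by rw [ht3, h2, mul_one]
        _ = _ := by rw [← mul_assoc, h1, one_mul]
  obtain ⟨t, ht1, ht2, ht3⟩ := key ⟨hmat g, hmat_symp hg⟩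
  have ht3' : hmat t = hmat g := ht3
  have h1 : hmat (t⁻¹ * g) = 1 := by
    rw [hmat_mul (fixU_inv ht1) hg, ← ht3', ← hmat_mul (fixU_inv ht1) ht1, inv_mul_cancel, hmat_one]
  have h2 : t⁻¹ * g ∈ otvSubgroup (oq k c) := by
    rcases eq_one_or_otv_of_hmat (fixU_mul (fixU_inv ht1) hg) h1 with h | h
    · rw [h]; exact Subgroup.one_mem _
    · rw [h]; exact otv_mem_otvSubgroup _ _ (oq_ustd c)
  have h3 : g = t * (t⁻¹ * g) := by rw [mul_inv_cancel_left]
  rw [h3]
  exact Subgroup.mul_mem _ ht2 h2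

/-- The orthogonal transvections generate the isometry group. -/
theorem oq_otvSubgroup_eq_top (hk : 2 ≤ k) (c : ZMod 2) : otvSubgroup (oq k c) = ⊤ := by
  rw [eq_top_iff]
  intro g _
  have hq : oq k c (imat g *ᵥ ustd k) = 1 := (iso_apply g _).trans (oq_ustd c)
  obtain ⟨t, ht, htu⟩ := oq_transitive hk c _ hq
  have h1 : FixU (t * g) := by rw [FixU, imat_mul_mulVec, htu]
  have h2 := fixU_mem_otvSubgroup h1
  have h3 : g = t⁻¹ * (t * g) := by rw [inv_mul_cancel_left]
  rw [h3]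
  exact Subgroup.mul_mem _ (Subgroup.inv_mem _ ht) h2

/-- The rank one isometries of `oq k c` form a generating conjugacy class of 3-transpositions. -/
theorem orth_two_std (hk : 2 ≤ k) (c : ZMod 2) :
    IsThreeTranspositionClass
      {g : isometryGroup (ZMod 2) ⇑(oq k c) | (imat g - 1).rank = 1} := by
  apply three_transp_of_orth (oq_nondeg c) (ustd k) (oq_ustd c) _ (oq_otvSubgroup_eq_top hk c)
  intro v hv
  obtain ⟨t, _, htv⟩ := oq_transitive hk c v hv
  refine ⟨t⁻¹, ?_⟩
  rw [← htv, ← imat_mul_mulVec, inv_mul_cancel, imat_one, Matrix.one_mulVec]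

end Stab

end Cfsg.Agent.Lib.helper10
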