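/-
The plus-type quadratic form `Σ x_i y_i` in dimension `2(k+1)` over `ZMod 2` is carried to the
form `oq k 0` by a change of coordinates; hence its orthogonal transvections form a generating
conjugacy class of 3-transpositions (`k + 1 ≥ 3`).
-/
import Mathlib
import Cfsg.Prelude.Def_ClassicalGeometry
import Cfsg.Prelude.Def_SporadicB
import Cfsg.Agent.Lib.helper10.OrthTwoStab
import Cfsg.Agent.Lib.helper10.OrthTransport

set_option autoImplicit false
set_option linter.unusedSectionVars false

namespace Cfsg.Agent.Lib.helper10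

open Cfsg Matrix
open Cfsg.Agent.Lib.helper17

section Plus

/-- Change of coordinates from the standard hyperbolic space of dimension `2(k+1)` to the space
of `oq k 0`. -/
def plusEquiv (k : ℕ) : (Fin (k + 1) ⊕ Fin (k + 1) → ZMod 2) ≃ₗ[ZMod 2] OV k where
  toFun w := Sum.elim (Sum.elim (fun i => w (Sum.inl i.succ)) (fun i => w (Sum.inr i.succ)))
    ![w (Sum.inl 0), w (Sum.inl 0) + w (Sum.inr 0)]
  map_add' w w' := by
    funext j
    rcases j with (j | j) | j
    · rfl
    · rfl
    · fin_cases j
      · rfl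
      · simp only [Pi.add_apply, Sum.elim_inr]
        show w (Sum.inl 0) + w' (Sum.inl 0) + (w (Sum.inr 0) + w' (Sum.inr 0))
          = w (Sum.inl 0) + w (Sum.inr 0) + (w' (Sum.inl 0) + w' (Sum.inr 0))
        ring
  map_smul' a w := by
    funext j
    rcases j with (j | j) | j
    · rfl
    · rfl
    · fin_cases j
      · rfl
      · simp only [Pi.smul_apply, Sum.elim_inr, RingHom.id_apply]
        show a • w (Sum.inl 0) + a • w (Sum.inr 0) = a • (w (Sum.inl 0) + w (Sum.inr 0))
        rw [smul_add]
  invFun v := Sum.elim (Fin.cons (v (Sum.inr 0)) (fun i => v (Sum.inl (Sum.inl i))))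
    (Fin.cons (v (Sum.inr 0) + v (Sum.inr 1)) (fun i => v (Sum.inl (Sum.inr i))))
  left_inv w := by
    funext j
    rcases j with j | j
    · refine Fin.cases ?_ (fun i => ?_) j
      · rfl
      · rfl
    · refine Fin.cases ?_ (fun i => ?_) j
      · show w (Sum.inl 0) + (w (Sum.inl 0) + w (Sum.inr 0)) = w (Sum.inr 0)
        rw [← add_assoc, zmod2_add_self, zero_add]
      · rfl
  right_inv v := by
    funext j
    rcases j with (j | j) | j
    · rfl
    · rfl
    · fin_cases j
      · rfl
      · show v (Sum.inr 0) + (v (Sum.inr 0) + v (Sum.inr 1)) = v (Sum.inr 1)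
        rw [← add_assoc, zmod2_add_self, zero_add]

theorem oq_plusEquiv (k : ℕ) (w : Fin (k + 1) ⊕ Fin (k + 1) → ZMod 2) :
    oq k 0 (plusEquiv k w) = quadFormPlus (k + 1) (ZMod 2) w := by
  rw [oq_apply]
  unfold quadFormPlus
  rw [Fin.sum_univ_succ]
  have h1 : ∑ i : Fin k, hp (plusEquiv k w) (Sum.inl i) * hp (plusEquiv k w) (Sum.inr i)
      = ∑ i : Fin k, w (Sum.inl i.succ) * w (Sum.inr i.succ) := rfl
  have h2 : plusEquiv k w (Sum.inr 0) = w (Sum.inl 0) := rfl
  have h3 : plusEquiv k w (Sum.inr 1) = w (Sum.inl 0) + w (Sum.inr 0) := rfl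
  rw [h1, h2, h3, add_comm]
  congr 1
  have : ∀ a b : ZMod 2, a + a * (a + b) + 0 * (a + b) = a * b := by decide
  exact this _ _

/-- The rank one isometries of the plus-type form in dimension `2m ≥ 6` over the field with two
elements form a generating conjugacy class of 3-transpositions. -/
theorem orth_two_plus (m : ℕ) (hm : 3 ≤ m) :
    IsThreeTranspositionClass
      {g : isometryGroup (ZMod 2) (quadFormPlus m (ZMod 2)) | (imat g - 1).rank = 1} := by
  obtain ⟨k, rfl⟩ : ∃ k, m = k + 1 := ⟨m - 1, by omega⟩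
  have hk : 2 ≤ k := by omega
  refine three_transp_transport (⇑(oq k 0)) (quadFormPlus (k + 1) (ZMod 2)) (plusEquiv k).symm ?_
    (orth_two_std hk 0)
  intro v
  rw [← oq_plusEquiv, LinearEquiv.apply_symm_apply]

end Plus

end Cfsg.Agent.Lib.helper10
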