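import Mathlib
import Cfsg.Agent.S0012
import Cfsg.Agent.Lib.helper1.BurnsideBasis

/-! S5238 REST, end of block G (helper10 racer copy of helper91's `pearl_end`), Frattini route:
for `K ≤ P 2` one proves `|K ⊓ P i| ≤ p^(p-1) * |Φ(K) ⊓ P (i+p-1)|` by downward induction, so
`|K : Φ(K)| ≤ p^(p-1)` and the Burnside basis theorem gives at most `p - 1` generators. -/

set_option autoImplicit false

namespace Cfsg.Agent.Lib.helper91.PearlEnd

theorem h10_relIndex_mul_card {G : Type*} [Group G] {A B : Subgroup G} (h : A ≤ B) :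
    A.relIndex B * Nat.card A = Nat.card B := by
  rw [Subgroup.relIndex, ← Nat.card_congr (Subgroup.subgroupOfEquivOfLe h).toEquiv,
    Subgroup.index_mul_card]

/-- a proper subgroup of a subgroup of a finite `p`-group has index at least `p` in it -/
theorem h10_p_mul_card_le {G : Type*} [Group G] [Finite G] (p : ℕ) [Fact p.Prime]
    (hG : IsPGroup p G) {A B : Subgroup G} (hAB : A ≤ B) (x : G) (hxB : x ∈ B) (hxA : x ∉ A) :
    p * Nat.card A ≤ Nat.card B := by
  have hp : p.Prime := Fact.out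
  obtain ⟨b, hb⟩ := IsPGroup.iff_card.mp (hG.to_subgroup B)
  have hdvd : Nat.card A ∣ Nat.card B := Subgroup.card_dvd_of_le hAB
  rw [hb] at hdvd
  obtain ⟨a, hab, ha⟩ := (Nat.dvd_prime_pow hp).mp hdvd
  have hne : a ≠ b := by
    intro h
    have h1 : A = B := Subgroup.eq_of_le_of_card_ge hAB (by rw [ha, hb, h])
    exact hxA (h1 ▸ hxB)
  have hlt : a + 1 ≤ b := by omega
  rw [ha, hb, ← pow_succ']
  exact Nat.pow_le_pow_right hp.pos hlt

theorem h10_jump_bound {G : Type*} [Group G] [Finite G] (p : ℕ) [Fact p.Prime] (n : ℕ)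
    (hG : Nat.card G = p ^ n) (P : ℕ → Subgroup G)
    (hanti : ∀ i, P (i + 1) ≤ P i)
    (hcard : ∀ i, 2 ≤ i → i ≤ n → Nat.card (P i) = p ^ (n - i))
    (hpow : ∀ i, 2 ≤ i → i + p ≤ n → ∀ m ∈ P i, m ∉ P (i + 1) →
      m ^ p ∈ P (i + p - 1) ∧ m ^ p ∉ P (i + p))
    (K Φ : Subgroup G) (hΦ : ∀ k ∈ K, k ^ p ∈ Φ) :
    ∀ d i, 2 ≤ i → n + 1 ≤ i + p + d →
      Nat.card (K ⊓ P i : Subgroup G) ≤
        p ^ (p - 1) * Nat.card (Φ ⊓ P (i + p - 1) : Subgroup G) := by
  have hp : p.Prime := Fact.out
  have h2le : 2 ≤ p := hp.two_le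
  have hPG : IsPGroup p G := IsPGroup.of_card hG
  have hanti' : ∀ i j, i ≤ j → P j ≤ P i := by
    intro i j hij
    induction j, hij using Nat.le_induction with
    | base => exact le_rfl
    | succ j hj ih => exact (hanti j).trans ih
  have hbase : ∀ i, 2 ≤ i → n < i + p →
      Nat.card (K ⊓ P i : Subgroup G) ≤
        p ^ (p - 1) * Nat.card (Φ ⊓ P (i + p - 1) : Subgroup G) := by
    intro i hi hlt
    have h1 : Nat.card (K ⊓ P i : Subgroup G) ≤ Nat.card (P i) :=
      Subgroup.card_le_of_le inf_le_right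
    have h2 : Nat.card (P i) ≤ p ^ (p - 1) := by
      by_cases hin : i ≤ n
      · rw [hcard i hi hin]
        exact Nat.pow_le_pow_right hp.pos (by omega)
      · by_cases hn2 : 2 ≤ n
        · have h3 : Nat.card (P i) ≤ Nat.card (P n) :=
            Subgroup.card_le_of_le (hanti' n i (by omega))
          rw [hcard n hn2 le_rfl, Nat.sub_self, pow_zero] at h3
          exact h3.trans (Nat.one_le_pow _ _ hp.pos)
        · have h3 : Nat.card (P i) ≤ Nat.card G := Subgroup.card_le_card_group (P i)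
          rw [hG] at h3
          exact h3.trans (Nat.pow_le_pow_right hp.pos (by have := hp.two_le; omega))
    have h4 : 1 ≤ Nat.card (Φ ⊓ P (i + p - 1) : Subgroup G) := Nat.card_pos
    calc Nat.card (K ⊓ P i : Subgroup G) ≤ p ^ (p - 1) := h1.trans h2
      _ = p ^ (p - 1) * 1 := (mul_one _).symm
      _ ≤ _ := Nat.mul_le_mul_left _ h4
  intro d
  induction d with
  | zero =>
    intro i hi h
    exact hbase i hi (by omega)
  | succ d ih =>
    intro i hi h
    by_cases hlt : n < i + p
    · exact hbase i hi hlt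
    · have hle : i + p ≤ n := by omega
      have ih1 := ih (i + 1) (by omega) (by omega)
      have e1 : i + 1 + p - 1 = i + p := by omega
      rw [e1] at ih1
      have hPP : P (i + p) ≤ P (i + p - 1) := by
        have h0 := hanti (i + p - 1)
        have e2 : i + p - 1 + 1 = i + p := by have := hp.two_le; omega
        rw [e2] at h0
        exact h0
      by_cases hc : (K ⊓ P i : Subgroup G) ≤ P (i + 1)
      · have h1 : (K ⊓ P i : Subgroup G) ≤ K ⊓ P (i + 1) := le_inf inf_le_left hc
        have h2 : (Φ ⊓ P (i + p) : Subgroup G) ≤ Φ ⊓ P (i + p - 1) := inf_le_inf_left _ hPP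
        calc Nat.card (K ⊓ P i : Subgroup G) ≤ Nat.card (K ⊓ P (i + 1) : Subgroup G) :=
              Subgroup.card_le_of_le h1
          _ ≤ p ^ (p - 1) * Nat.card (Φ ⊓ P (i + p) : Subgroup G) := ih1
          _ ≤ _ := Nat.mul_le_mul_left _ (Subgroup.card_le_of_le h2)
      · obtain ⟨m, hm, hmn⟩ := SetLike.not_le_iff_exists.mp hc
        have hmK : m ∈ K := (Subgroup.mem_inf.mp hm).1
        have hmP : m ∈ P i := (Subgroup.mem_inf.mp hm).2
        obtain ⟨hq1, hq2⟩ := hpow i hi hle m hmP hmn
        have hAB : (Φ ⊓ P (i + p) : Subgroup G) ≤ Φ ⊓ P (i + p - 1) := inf_le_inf_left _ hPP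
        have h3 : p * Nat.card (Φ ⊓ P (i + p) : Subgroup G) ≤
            Nat.card (Φ ⊓ P (i + p - 1) : Subgroup G) :=
          h10_p_mul_card_le p hPG hAB (m ^ p) (Subgroup.mem_inf.mpr ⟨hΦ m hmK, hq1⟩)
            (fun h => hq2 (Subgroup.mem_inf.mp h).2)
        have h4 : Nat.card (K ⊓ P i : Subgroup G) ≤
            p * Nat.card (K ⊓ P (i + 1) : Subgroup G) := by
          have e3 : (K ⊓ P (i + 1) : Subgroup G) = P (i + 1) ⊓ (K ⊓ P i) := by
            rw [inf_comm (P (i + 1)), inf_assoc, inf_eq_right.mpr (hanti i)]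
          have h5 : (P (i + 1) ⊓ (K ⊓ P i)).relIndex (K ⊓ P i) *
              Nat.card (P (i + 1) ⊓ (K ⊓ P i) : Subgroup G) = Nat.card (K ⊓ P i : Subgroup G) :=
            h10_relIndex_mul_card inf_le_right
          rw [Subgroup.inf_relIndex_right] at h5
          have h6 : (P (i + 1)).relIndex (P i) * Nat.card (P (i + 1)) = Nat.card (P i) :=
            h10_relIndex_mul_card (hanti i)
          rw [hcard i hi (by omega), hcard (i + 1) (by omega) (by omega)] at h6
          have h7 : (P (i + 1)).relIndex (P i) = p := by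
            have e4 : n - i = (n - (i + 1)) + 1 := by omega
            rw [e4, pow_succ] at h6
            have hpos : 0 < p ^ (n - (i + 1)) := pow_pos hp.pos _
            exact Nat.eq_of_mul_eq_mul_right hpos (by rw [h6, mul_comm])
          have h8 : (P (i + 1)).relIndex (K ⊓ P i) ≤ (P (i + 1)).relIndex (P i) :=
            Subgroup.relIndex_le_of_le_right inf_le_right (by rw [h7]; exact hp.ne_zero)
          rw [h7] at h8
          rw [← h5, e3]
          exact Nat.mul_le_mul_right _ h8
        calc Nat.card (K ⊓ P i : Subgroup G) ≤ p * Nat.card (K ⊓ P (i + 1) : Subgroup G) := h4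
          _ ≤ p * (p ^ (p - 1) * Nat.card (Φ ⊓ P (i + p) : Subgroup G)) :=
              Nat.mul_le_mul_left _ ih1
          _ = p ^ (p - 1) * (p * Nat.card (Φ ⊓ P (i + p) : Subgroup G)) := by ring
          _ ≤ _ := Nat.mul_le_mul_left _ h3

theorem h10_gen_le_P2 {G : Type*} [Group G] [Finite G] (p : ℕ) [Fact p.Prime] (n : ℕ)
    (hG : Nat.card G = p ^ n) (P : ℕ → Subgroup G)
    (hanti : ∀ i, P (i + 1) ≤ P i)
    (hcard : ∀ i, 2 ≤ i → i ≤ n → Nat.card (P i) = p ^ (n - i))
    (hpow : ∀ i, 2 ≤ i → i + p ≤ n → ∀ m ∈ P i, m ∉ P (i + 1) →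
      m ^ p ∈ P (i + p - 1) ∧ m ^ p ∉ P (i + p))
    (K : Subgroup G) (hK : K ≤ P 2) :
    ∃ T : Finset G, T.card ≤ p - 1 ∧ Subgroup.closure (T : Set G) = K := by
  classical
  have hp : p.Prime := Fact.out
  have hPG : IsPGroup p G := IsPGroup.of_card hG
  have hPK : IsPGroup p K := hPG.to_subgroup K
  obtain ⟨-, hpw⟩ := Cfsg.Agent.S0012.result p hPK
  have hΦ : ∀ k ∈ K, k ^ p ∈ (frattini K).map K.subtype := by
    intro k hk
    exact ⟨⟨k, hk⟩ ^ p, hpw ⟨k, hk⟩, rfl⟩
  have hb := h10_jump_bound p n hG P hanti hcard hpow K ((frattini K).map K.subtype) hΦ n 2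
    le_rfl (by omega)
  have e1 : (K ⊓ P 2 : Subgroup G) = K := inf_eq_left.mpr hK
  rw [e1] at hb
  have hΦc : Nat.card ((frattini K).map K.subtype ⊓ P (2 + p - 1) : Subgroup G) ≤
      Nat.card (frattini K) := by
    have h1 : Nat.card ((frattini K).map K.subtype ⊓ P (2 + p - 1) : Subgroup G) ≤
        Nat.card ((frattini K).map K.subtype) := Subgroup.card_le_of_le inf_le_left
    have h2 : Nat.card ((frattini K).map K.subtype) = Nat.card (frattini K) :=
      Subgroup.card_map_of_injective K.subtype_injective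
    omega
  have hidx : (frattini K).index * Nat.card (frattini K) = Nat.card K :=
    Subgroup.index_mul_card _
  obtain ⟨k, hk⟩ := hPK.index (frattini K)
  have hkle : k ≤ p - 1 := by
    have hc : 0 < Nat.card (frattini K) := Nat.card_pos
    have h0 : p ^ k * Nat.card (frattini K) ≤ p ^ (p - 1) * Nat.card (frattini K) := by
      rw [← hk, hidx]
      exact hb.trans (Nat.mul_le_mul_left _ hΦc)
    have h3 : p ^ k ≤ p ^ (p - 1) := Nat.le_of_mul_le_mul_right h0 hc
    exact (Nat.pow_le_pow_iff_right hp.one_lt).mp h3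
  haveI : Fintype K := Fintype.ofFinite K
  obtain ⟨T, -, hTc, hT⟩ := (Cfsg.Agent.Lib.helper1.burnside_basis p k hPK hk).1 Finset.univ (by
    rw [Finset.coe_univ, Subgroup.closure_univ])
  refine ⟨T.image (Subtype.val), ?_, ?_⟩
  · exact (Finset.card_image_le).trans (by omega)
  · rw [Finset.coe_image]
    have e2 : (Subtype.val '' (T : Set K)) = K.subtype '' (T : Set K) := rfl
    rw [e2, ← MonoidHom.map_closure, hT, ← MonoidHom.range_eq_map, Subgroup.range_subtype]

/-- helper91's `pearl_end` (racer copy, verbatim statement) -/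
theorem h10_pearl_end {G : Type*} [Group G] [Finite G] (p : ℕ) [Fact p.Prime] (hp2 : p ≠ 2) (n : ℕ) (hG : Nat.card G = p ^ n) (P : ℕ → Subgroup G) (hnorm : ∀ i, (P i).Normal) (hanti : ∀ i, P (i + 1) ≤ P i) (hcard : ∀ i, 2 ≤ i → i ≤ n → Nat.card (P i) = p ^ (n - i)) (hfr : ∀ H : Subgroup G, H ⊔ P 2 = ⊤ → H = ⊤) (hgen : ∃ a b : G, Subgroup.closure {a, b} = ⊤) (hpow : ∀ i, 2 ≤ i → i + p ≤ n → ∀ m ∈ P i, m ∉ P (i + 1) → m ^ p ∈ P (i + p - 1) ∧ m ^ p ∉ P (i + p)) (H : Subgroup G) : ∃ T : Finset G, T.card ≤ p ∧ Subgroup.closure (T : Set G) = H := by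
  classical
  have hp : p.Prime := Fact.out
  have hPG : IsPGroup p G := IsPGroup.of_card hG
  by_cases hH : H = ⊤
  · obtain ⟨a, b, hab⟩ := hgen
    refine ⟨{a, b}, (Finset.card_le_two).trans hp.two_le, ?_⟩
    rw [hH, ← hab]
    congr 1
    simp
  · have hn2' : (P 2).Normal := hnorm 2
    obtain ⟨T₀, hT₀c, hT₀⟩ := h10_gen_le_P2 p n hG P hanti hcard hpow (H ⊓ P 2) inf_le_right
    have hr1 : (H ⊓ P 2).relIndex H * Nat.card (H ⊓ P 2 : Subgroup G) = Nat.card H :=
      h10_relIndex_mul_card inf_le_left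
    have hr2 : (H ⊓ P 2).relIndex H = (P 2).relIndex H := Subgroup.inf_relIndex_left H (P 2)
    have hr3 : (P 2).relIndex H ∣ (P 2).index := Subgroup.relIndex_dvd_index_of_normal (P 2) H
    have hr4 : (P 2).index * Nat.card (P 2) = Nat.card G := Subgroup.index_mul_card _
    have hrle : (P 2).relIndex H ≤ p := by
      have hidvd : (P 2).index ∣ p ^ n := by
        rw [← hG]
        exact Subgroup.index_dvd_card _
      obtain ⟨j, hj, hrj⟩ := (Nat.dvd_prime_pow hp).mp (hr3.trans hidvd)
      by_cases hj1 : j ≤ 1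
      · rw [hrj]
        calc p ^ j ≤ p ^ 1 := Nat.pow_le_pow_right hp.pos hj1
          _ = p := pow_one p
      · exfalso
        by_cases hn2 : 2 ≤ n
        · have hi2 : (P 2).index = p ^ 2 := by
            rw [hG, hcard 2 le_rfl hn2] at hr4
            have hpos : 0 < p ^ (n - 2) := pow_pos hp.pos _
            have h0 : (P 2).index * p ^ (n - 2) = p ^ 2 * p ^ (n - 2) := by
              rw [hr4, ← pow_add]
              congr 1
              omega
            exact Nat.eq_of_mul_eq_mul_right hpos h0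
          have hj2 : j = 2 := by
            have h0 : p ^ j ∣ p ^ 2 := by
              rw [← hrj, ← hi2]
              exact hr3
            have h1 := (Nat.pow_dvd_pow_iff_le_right hp.one_lt).mp h0
            omega
          have h5 : (P 2).relIndex (H ⊔ P 2) * Nat.card (P 2) =
              Nat.card (H ⊔ P 2 : Subgroup G) := h10_relIndex_mul_card le_sup_right
          rw [Subgroup.relIndex_sup_right, hrj, hj2, ← hi2, hr4] at h5
          exact hH (hfr H (Subgroup.eq_top_of_card_eq _ h5.symm))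
        · have h0 : p ^ j ∣ p ^ n := by
            rw [← hrj]
            exact hr3.trans hidvd
          have h1 := (Nat.pow_dvd_pow_iff_le_right hp.one_lt).mp h0
          omega
    have hHK : Nat.card H ≤ p * Nat.card (H ⊓ P 2 : Subgroup G) := by
      rw [← hr1, hr2]
      exact Nat.mul_le_mul_right _ hrle
    by_cases hKH : H ≤ H ⊓ P 2
    · have e0 : H ⊓ P 2 = H := le_antisymm inf_le_left hKH
      exact ⟨T₀, hT₀c.trans (Nat.sub_le _ _), by rw [hT₀, e0]⟩
    · obtain ⟨h, hhH, hhK⟩ := SetLike.not_le_iff_exists.mp hKH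
      refine ⟨insert h T₀, ?_, ?_⟩
      · have h0 := Finset.card_insert_le h T₀
        have h1 := hp.two_le
        omega
      · have hKL : H ⊓ P 2 ≤ Subgroup.closure ((insert h T₀ : Finset G) : Set G) := by
          rw [← hT₀]
          apply Subgroup.closure_mono
          intro x hx
          exact Finset.mem_coe.mpr (Finset.mem_insert_of_mem (Finset.mem_coe.mp hx))
        have hhL : h ∈ Subgroup.closure ((insert h T₀ : Finset G) : Set G) :=
          Subgroup.subset_closure (Finset.mem_coe.mpr (Finset.mem_insert_self h T₀))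
        have hLH : Subgroup.closure ((insert h T₀ : Finset G) : Set G) ≤ H := by
          rw [Subgroup.closure_le]
          intro x hx
          rcases Finset.mem_insert.mp (Finset.mem_coe.mp hx) with rfl | hx'
          · exact hhH
          · have h0 : x ∈ H ⊓ P 2 := by
              rw [← hT₀]
              exact Subgroup.subset_closure (Finset.mem_coe.mpr hx')
            exact (Subgroup.mem_inf.mp h0).1
        have h6 : p * Nat.card (H ⊓ P 2 : Subgroup G) ≤
            Nat.card (Subgroup.closure ((insert h T₀ : Finset G) : Set G)) :=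
          h10_p_mul_card_le p hPG hKL h hhL hhK
        exact Subgroup.eq_of_le_of_card_ge hLH (hHK.trans h6)

end Cfsg.Agent.Lib.helper91.PearlEnd
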