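import Mathlib
import Cfsg.Agent.S0012
import Cfsg.Agent.Lib.helper1.BurnsideBasis
import Cfsg.Agent.Lib.helper68.HallPet
import Cfsg.Agent.Lib.helper79.PearlX
import Cfsg.Agent.Lib.helper10.PearlEnd

/-! S5239 piece UNIF (helper79's split s5239), helper10 racer copy: a subgroup containing a uniform
element is generated by two elements. -/

set_option autoImplicit false

namespace Cfsg.Agent.Lib.helper79.P3

open Cfsg.Agent.Lib.helper68 Cfsg.Agent.Lib.helper91.PearlEnd

/-- the top group is generated by two elements; a proper subgroup meets `gam G 2` in index at most `p` -/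
theorem h10_idx_bound {G : Type*} [Group G] [Finite G] (p : ℕ) [Fact p.Prime] (n : ℕ)
    (hG : Nat.card G = p ^ n) (hn : 2 ≤ n) (hc2 : Nat.card (gam G 2) = p ^ (n - 2))
    (H : Subgroup G) :
    (H = ⊤ → ∃ T : Finset G, T.card ≤ 2 ∧ Subgroup.closure (T : Set G) = H) ∧
      (H ≠ ⊤ → Nat.card H ≤ p * Nat.card (H ⊓ gam G 2 : Subgroup G)) := by
  classical
  have hp : p.Prime := Fact.out
  have hPG : IsPGroup p G := IsPGroup.of_card hG
  obtain ⟨hcomm, -⟩ := Cfsg.Agent.S0012.result p hPG
  have hgam2 : gam G 2 ≤ frattini G := by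
    have e0 : gam G 2 = commutator G := by
      rw [commutator_def]
      rfl
    rw [e0]
    exact hcomm
  have hi2 : (gam G 2).index = p ^ 2 := by
    have hr4 : (gam G 2).index * Nat.card (gam G 2) = Nat.card G := Subgroup.index_mul_card _
    rw [hG, hc2] at hr4
    have hpos : 0 < p ^ (n - 2) := pow_pos hp.pos _
    have h0 : (gam G 2).index * p ^ (n - 2) = p ^ 2 * p ^ (n - 2) := by
      rw [hr4, ← pow_add]
      congr 1
      omega
    exact Nat.eq_of_mul_eq_mul_right hpos h0
  constructor
  · intro hH
    have hfi : (frattini G).index ∣ p ^ 2 := by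
      rw [← hi2]
      exact Subgroup.index_dvd_of_le hgam2
    obtain ⟨k, hk2, hk⟩ := (Nat.dvd_prime_pow hp).mp hfi
    haveI : Fintype G := Fintype.ofFinite G
    obtain ⟨T, -, hTc, hT⟩ := (Cfsg.Agent.Lib.helper1.burnside_basis p k hPG hk).1 Finset.univ (by
      rw [Finset.coe_univ, Subgroup.closure_univ])
    exact ⟨T, by omega, by rw [hT, hH]⟩
  · intro hH
    have hfr : H ⊔ gam G 2 ≠ ⊤ := by
      intro h
      apply hH
      apply frattini_nongenerating
      exact top_le_iff.mp (h ▸ sup_le_sup_left hgam2 H)
    have hr1 : (H ⊓ gam G 2).relIndex H * Nat.card (H ⊓ gam G 2 : Subgroup G) = Nat.card H :=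
      h10_relIndex_mul_card inf_le_left
    have hr2 : (H ⊓ gam G 2).relIndex H = (gam G 2).relIndex H :=
      Subgroup.inf_relIndex_left H (gam G 2)
    have hr3 : (gam G 2).relIndex H ∣ (gam G 2).index :=
      Subgroup.relIndex_dvd_index_of_normal (gam G 2) H
    have hr4 : (gam G 2).index * Nat.card (gam G 2) = Nat.card G := Subgroup.index_mul_card _
    have hrle : (gam G 2).relIndex H ≤ p := by
      rw [hi2] at hr3
      obtain ⟨j, hj, hrj⟩ := (Nat.dvd_prime_pow hp).mp hr3
      by_cases hj1 : j ≤ 1
      · rw [hrj]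
        calc p ^ j ≤ p ^ 1 := Nat.pow_le_pow_right hp.pos hj1
          _ = p := pow_one p
      · exfalso
        have hj2 : j = 2 := by omega
        have h5 : (gam G 2).relIndex (H ⊔ gam G 2) * Nat.card (gam G 2) =
            Nat.card (H ⊔ gam G 2 : Subgroup G) := h10_relIndex_mul_card le_sup_right
        rw [Subgroup.relIndex_sup_right, hrj, hj2, ← hi2, hr4] at h5
        exact hfr (Subgroup.eq_top_of_card_eq _ h5.symm)
    rw [← hr1, hr2]
    exact Nat.mul_le_mul_right _ hrle

/-- UNIF (racer copy, verbatim statement of `p3_gen_uniform`) -/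
theorem h10_p3_gen_uniform {G : Type*} [Group G] [Finite G] (n : ℕ) (hn : 3 ≤ n) (hG : Nat.card G = 3 ^ n) (h : G)
    (hC : Nat.card (Subgroup.centralizer ({h} : Set G)) = 3 ^ 2) (H : Subgroup G) (hh : h ∈ H) :
    ∃ T : Finset G, T.card ≤ 2 ∧ Subgroup.closure (T : Set G) = H := by
  classical
  haveI : Fact (Nat.Prime 3) := ⟨by norm_num⟩
  have hPG : IsPGroup 3 G := IsPGroup.of_card hG
  have hcard : ∀ i, 2 ≤ i → i ≤ n → Nat.card (gam G i) = 3 ^ (n - i) :=
    fun i hi hin => Cfsg.Agent.Lib.helper79.h79_px_card 3 n hG h hC hn i hi hin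
  have hh2 : h ∉ gam G 2 := Cfsg.Agent.Lib.helper79.h79_px_not_mem 3 n hG h hC hn
  have hbot : gam G n = ⊥ := by
    have h1 := hcard n (by omega) le_rfl
    rw [Nat.sub_self, pow_zero] at h1
    exact Subgroup.card_eq_one.mp h1
  obtain ⟨htop, hprop⟩ := h10_idx_bound 3 n hG (by omega) (hcard 2 le_rfl (by omega)) H
  by_cases hH : H = ⊤
  · exact htop hH
  · have hHK : Nat.card H ≤ 3 * Nat.card (H ⊓ gam G 2 : Subgroup G) := hprop hH
    by_cases hK : (H ⊓ gam G 2 : Subgroup G) = ⊥
    · refine ⟨{h}, by simp, ?_⟩
      have hL : Subgroup.closure ((({h} : Finset G)) : Set G) ≤ H := by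
        rw [Subgroup.closure_le]
        intro y hy
        rw [Finset.coe_singleton, Set.mem_singleton_iff] at hy
        rw [hy]
        exact hh
      have hhL : h ∈ Subgroup.closure ((({h} : Finset G)) : Set G) :=
        Subgroup.subset_closure (by simp)
      have h6 : 3 * Nat.card (H ⊓ gam G 2 : Subgroup G) ≤
          Nat.card (Subgroup.closure ((({h} : Finset G)) : Set G)) :=
        h10_p_mul_card_le 3 hPG (by rw [hK]; exact bot_le) h hhL
          (fun hcon => hh2 (Subgroup.mem_inf.mp hcon).2)
      exact Subgroup.eq_of_le_of_card_ge hL (hHK.trans h6)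
    · have hex : ∃ j, 2 ≤ j ∧ ¬ (H ⊓ gam G 2 : Subgroup G) ≤ gam G (j + 1) := by
        refine ⟨n, by omega, ?_⟩
        intro hcon
        apply hK
        have h0 : gam G (n + 1) ≤ gam G n := gam_antitone (Nat.le_succ n)
        rw [hbot] at h0
        exact le_bot_iff.mp (hcon.trans h0)
      obtain ⟨hi2, hi1⟩ := Nat.find_spec hex
      have hi0 : (H ⊓ gam G 2 : Subgroup G) ≤ gam G (Nat.find hex) := by
        by_cases hi3 : Nat.find hex = 2
        · rw [hi3]
          exact inf_le_right
        · have h0 := Nat.find_min hex (m := Nat.find hex - 1) (by omega)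
          have h1 : (H ⊓ gam G 2 : Subgroup G) ≤ gam G (Nat.find hex - 1 + 1) := by
            by_contra hcon
            exact h0 ⟨by omega, hcon⟩
          have e0 : Nat.find hex - 1 + 1 = Nat.find hex := by omega
          rw [e0] at h1
          exact h1
      have hin : Nat.find hex + 1 ≤ n := by
        by_contra hcon
        apply hK
        have h0 : gam G (Nat.find hex) ≤ gam G n := gam_antitone (by omega)
        rw [hbot] at h0
        exact le_bot_iff.mp (hi0.trans h0)
      obtain ⟨u, huK, hu1⟩ := SetLike.not_le_iff_exists.mp hi1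
      have huH : u ∈ H := (Subgroup.mem_inf.mp huK).1
      have hui : u ∈ gam G (Nat.find hex) := hi0 huK
      have hhL : h ∈ Subgroup.closure ((({h, u} : Finset G)) : Set G) :=
        Subgroup.subset_closure (by simp)
      have huL : u ∈ Subgroup.closure ((({h, u} : Finset G)) : Set G) :=
        Subgroup.subset_closure (by simp)
      have hLH : Subgroup.closure ((({h, u} : Finset G)) : Set G) ≤ H := by
        rw [Subgroup.closure_le]
        intro y hy
        rw [Finset.coe_insert, Finset.coe_singleton, Set.mem_insert_iff,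
          Set.mem_singleton_iff] at hy
        rcases hy with hy | hy
        · rw [hy]
          exact hh
        · rw [hy]
          exact huH
      have hR : ∀ j, Nat.find hex ≤ j → j + 1 ≤ n →
          ∃ v ∈ Subgroup.closure ((({h, u} : Finset G)) : Set G),
            v ∈ gam G j ∧ v ∉ gam G (j + 1) := by
        intro j hij
        induction j, hij using Nat.le_induction with
        | base =>
          intro _
          exact ⟨u, huL, hui, hu1⟩
        | succ j hij ih =>
          intro hjn
          obtain ⟨v, hvL, hvj, hvj1⟩ := ih (by omega)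
          obtain ⟨h1, h2⟩ := Cfsg.Agent.Lib.helper79.h79_px_unis 3 n hG h hC hn j (by omega)
            (by omega) v hvj hvj1
          refine ⟨com v h, ?_, h1, h2⟩
          unfold com
          exact Subgroup.mul_mem _ (Subgroup.mul_mem _ (Subgroup.mul_mem _
            (Subgroup.inv_mem _ hvL) (Subgroup.inv_mem _ hhL)) hvL) hhL
      have hQ : ∀ d j, Nat.find hex ≤ j → j + d = n →
          gam G j ≤ Subgroup.closure ((({h, u} : Finset G)) : Set G) := by
        intro d
        induction d with
        | zero =>
          intro j _ hjn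
          have e0 : j = n := by omega
          rw [e0, hbot]
          exact bot_le
        | succ d ih =>
          intro j hij hjn
          have ih1 := ih (j + 1) (by omega) (by omega)
          obtain ⟨v, hvL, hvj, hvj1⟩ := hR j hij (by omega)
          have hA : gam G (j + 1) ≤
              Subgroup.closure ((({h, u} : Finset G)) : Set G) ⊓ gam G j :=
            le_inf ih1 (gam_antitone (Nat.le_succ j))
          have h3 : 3 * Nat.card (gam G (j + 1)) ≤
              Nat.card (Subgroup.closure ((({h, u} : Finset G)) : Set G) ⊓ gam G j : Subgroup G) :=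
            h10_p_mul_card_le 3 hPG hA v (Subgroup.mem_inf.mpr ⟨hvL, hvj⟩) hvj1
          have h4 : Nat.card (gam G j) = 3 * Nat.card (gam G (j + 1)) := by
            rw [hcard j (by omega) (by omega), hcard (j + 1) (by omega) (by omega)]
            have e1 : n - j = (n - (j + 1)) + 1 := by omega
            rw [e1, pow_succ, mul_comm]
          have h5 : (Subgroup.closure ((({h, u} : Finset G)) : Set G) ⊓ gam G j : Subgroup G) =
              gam G j :=
            Subgroup.eq_of_le_of_card_ge inf_le_right (by rw [h4]; exact h3)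
          rw [← h5]
          exact inf_le_left
      have hPi : gam G (Nat.find hex) ≤ Subgroup.closure ((({h, u} : Finset G)) : Set G) :=
        hQ (n - Nat.find hex) (Nat.find hex) le_rfl (by omega)
      have hKL : (H ⊓ gam G 2 : Subgroup G) ≤ Subgroup.closure ((({h, u} : Finset G)) : Set G) :=
        hi0.trans hPi
      have h6 : 3 * Nat.card (H ⊓ gam G 2 : Subgroup G) ≤
          Nat.card (Subgroup.closure ((({h, u} : Finset G)) : Set G)) :=
        h10_p_mul_card_le 3 hPG hKL h hhL (fun hcon => hh2 (Subgroup.mem_inf.mp hcon).2)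
      exact ⟨{h, u}, Finset.card_le_two, Subgroup.eq_of_le_of_card_ge hLH (hHK.trans h6)⟩

end Cfsg.Agent.Lib.helper79.P3
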