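import Mathlib
import Cfsg.Agent.Lib.helper65.PearlBasic

/-! S5238L piece A2 (helper10 racer copy): iterated differences of a sequence vanishing below `p`. -/

set_option autoImplicit false

namespace Cfsg.Agent.Lib.helper65.PearlPow

open Cfsg.Agent.Lib.helper68

variable {H : Type*} [Group H]

/-- A2 (racer copy) -/
theorem h10_dl_iter_vanish (s : ℕ → H) (p : ℕ) (hs : ∀ i < p, s i = 1) : dl^[p] s 0 = s p := by
  induction p generalizing s with
  | zero => rfl
  | succ p ih =>
    rw [Function.iterate_succ_apply]
    have h1 : ∀ i < p, dl s i = 1 := by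
      intro i hi
      unfold dl
      rw [hs i (by omega), hs (i + 1) (by omega), inv_one, one_mul]
    rw [ih (dl s) h1]
    unfold dl
    rw [hs p (by omega), inv_one, one_mul]

end Cfsg.Agent.Lib.helper65.PearlPow
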