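import Mathlib

/-! S5238 block F, leaf FC, pieces C1 and C3 (helper45's split s5238c), helper10 racer copies. -/

namespace Cfsg.Agent.Lib.helper45.PearlC

/-- C1 STRICT -/
theorem h10_strict {G : Type*} [Group G] [Finite G] (p : ℕ) [Fact p.Prime] (n : ℕ)
    (hG : Nat.card G = p ^ n) (A B : Subgroup G) (hAB : A < B) :
    p * Nat.card ↥A ≤ Nat.card ↥B := by
  have hp : p.Prime := Fact.out
  have hPG : IsPGroup p G := IsPGroup.of_card hG
  obtain ⟨b, hb⟩ := IsPGroup.iff_card.mp (hPG.to_subgroup B)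
  have hdvd : Nat.card A ∣ Nat.card B := Subgroup.card_dvd_of_le hAB.le
  rw [hb] at hdvd
  obtain ⟨a, hab, ha⟩ := (Nat.dvd_prime_pow hp).mp hdvd
  have hne : a ≠ b := by
    intro h
    have h1 : A = B := Subgroup.eq_of_le_of_card_ge hAB.le (by rw [ha, hb, h])
    exact hAB.ne h1
  have hlt : a + 1 ≤ b := by omega
  rw [ha, hb, ← pow_succ']
  exact Nat.pow_le_pow_right hp.pos hlt

/-- C3 GENERATION -/
theorem h10_cg_centralizer {G : Type*} [Group G] [Finite G] (p : ℕ)
    (hstrict : ∀ A B : Subgroup G, A < B → p * Nat.card ↥A ≤ Nat.card ↥B)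
    (E D : Subgroup G) (hDE : D ≤ E) (hidx : Nat.card ↥E ≤ p * Nat.card ↥D)
    (e : G) (he : e ∈ E) (heD : e ∉ D) (g : G)
    (hgD : ∀ d ∈ D, d * g = g * d) (hge : e * g = g * e) :
    g ∈ Subgroup.centralizer (E : Set G) := by
  classical
  have hL : D ⊔ Subgroup.zpowers e ≤ E := sup_le hDE ((Subgroup.zpowers_le).mpr he)
  have heL : e ∈ D ⊔ Subgroup.zpowers e :=
    (le_sup_right : Subgroup.zpowers e ≤ D ⊔ Subgroup.zpowers e) (Subgroup.mem_zpowers e)
  have hDL : D < D ⊔ Subgroup.zpowers e := by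
    refine lt_of_le_of_ne le_sup_left ?_
    intro h
    apply heD
    rw [h]
    exact heL
  have h1 := hstrict D (D ⊔ Subgroup.zpowers e) hDL
  have hEq : D ⊔ Subgroup.zpowers e = E := Subgroup.eq_of_le_of_card_ge hL (hidx.trans h1)
  have hcen : D ⊔ Subgroup.zpowers e ≤ Subgroup.centralizer ({g} : Set G) := by
    apply sup_le
    · intro d hd
      rw [Subgroup.mem_centralizer_iff]
      intro u hu
      rw [Set.mem_singleton_iff] at hu
      rw [hu]
      exact (hgD d hd).symm
    · rw [Subgroup.zpowers_le, Subgroup.mem_centralizer_iff]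
      intro u hu
      rw [Set.mem_singleton_iff] at hu
      rw [hu]
      exact hge.symm
  rw [Subgroup.mem_centralizer_iff]
  intro u hu
  have hu' : u ∈ D ⊔ Subgroup.zpowers e := by
    rw [hEq]
    exact hu
  have h2 : u ∈ Subgroup.centralizer ({g} : Set G) := hcen hu'
  exact ((Subgroup.mem_centralizer_iff.mp h2) g rfl).symm

end Cfsg.Agent.Lib.helper45.PearlC
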