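import Mathlib

/-! S5238 block F, leaf FC, piece C6 (helper45's split s5238c). -/

namespace Cfsg.Agent.Lib.helper45.PearlC

/-- C6 CLASS BOUND -/
theorem h10_class_bound {G : Type*} [Group G] [Finite G] (p : ℕ)
    (hZ : Nat.card ↥(Subgroup.center G) = p) (w : G)
    (hw : ∀ g : G, w * g * w⁻¹ * g⁻¹ ∈ Subgroup.center G) :
    Nat.card G ≤ p * Nat.card ↥(Subgroup.centralizer ({w} : Set G)) := by
  classical
  have hwell : ∀ a b : G, QuotientGroup.leftRel (Subgroup.centralizer ({w} : Set G)) a b →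
      (⟨w * a * w⁻¹ * a⁻¹, hw a⟩ : Subgroup.center G) = ⟨w * b * w⁻¹ * b⁻¹, hw b⟩ := by
    intro a b hab
    rw [QuotientGroup.leftRel_apply] at hab
    have hc : w * (a⁻¹ * b) = (a⁻¹ * b) * w := Subgroup.mem_centralizer_iff.mp hab w rfl
    apply Subtype.ext
    show w * a * w⁻¹ * a⁻¹ = w * b * w⁻¹ * b⁻¹
    have h3 : a⁻¹ * b * w⁻¹ = w⁻¹ * (a⁻¹ * b) := by
      calc a⁻¹ * b * w⁻¹ = w⁻¹ * (w * (a⁻¹ * b)) * w⁻¹ := by group
        _ = w⁻¹ * (a⁻¹ * b * w) * w⁻¹ := by rw [hc]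
        _ = w⁻¹ * (a⁻¹ * b) := by group
    have h2 : b * w⁻¹ * b⁻¹ = a * w⁻¹ * a⁻¹ := by
      calc b * w⁻¹ * b⁻¹ = a * (a⁻¹ * b * w⁻¹) * b⁻¹ := by group
        _ = a * (w⁻¹ * (a⁻¹ * b)) * b⁻¹ := by rw [h3]
        _ = a * w⁻¹ * a⁻¹ := by group
    calc w * a * w⁻¹ * a⁻¹ = w * (a * w⁻¹ * a⁻¹) := by group
      _ = w * (b * w⁻¹ * b⁻¹) := by rw [h2]
      _ = w * b * w⁻¹ * b⁻¹ := by group
  have hinj : Function.Injective
      (fun q : G ⧸ Subgroup.centralizer ({w} : Set G) =>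
        Quotient.liftOn' q (fun g => (⟨w * g * w⁻¹ * g⁻¹, hw g⟩ : Subgroup.center G)) hwell) := by
    intro q1 q2
    induction q1, q2 using Quotient.inductionOn₂' with
    | _ a b =>
      intro h
      have h' : w * a * w⁻¹ * a⁻¹ = w * b * w⁻¹ * b⁻¹ := congrArg Subtype.val h
      apply Quotient.sound'
      rw [QuotientGroup.leftRel_apply, Subgroup.mem_centralizer_iff]
      intro u hu
      rw [Set.mem_singleton_iff] at hu
      subst hu
      have h2 : a * u⁻¹ * a⁻¹ = b * u⁻¹ * b⁻¹ := by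
        calc a * u⁻¹ * a⁻¹ = u⁻¹ * (u * a * u⁻¹ * a⁻¹) := by group
          _ = u⁻¹ * (u * b * u⁻¹ * b⁻¹) := by rw [h']
          _ = b * u⁻¹ * b⁻¹ := by group
      have h3 : a⁻¹ * b * u⁻¹ = u⁻¹ * (a⁻¹ * b) := by
        calc a⁻¹ * b * u⁻¹ = a⁻¹ * (b * u⁻¹ * b⁻¹) * b := by group
          _ = a⁻¹ * (a * u⁻¹ * a⁻¹) * b := by rw [h2]
          _ = u⁻¹ * (a⁻¹ * b) := by group
      calc u * (a⁻¹ * b) = u * (a⁻¹ * b * u⁻¹) * u := by group
        _ = u * (u⁻¹ * (a⁻¹ * b)) * u := by rw [h3]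
        _ = a⁻¹ * b * u := by group
  have h1 : Nat.card (G ⧸ Subgroup.centralizer ({w} : Set G)) ≤ Nat.card (Subgroup.center G) :=
    Nat.card_le_card_of_injective _ hinj
  have h2 := Subgroup.card_eq_card_quotient_mul_card_subgroup (Subgroup.centralizer ({w} : Set G))
  rw [h2]
  rw [hZ] at h1
  exact Nat.mul_le_mul_right _ h1

end Cfsg.Agent.Lib.helper45.PearlC
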