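import Mathlib

/-! S5238 block F, leaf FC, piece C7 (helper45's split s5238c). -/

namespace Cfsg.Agent.Lib.helper45.PearlC

/-- C7 COMMUTATORS CENTRAL -/
theorem h10_comm_central {G : Type*} [Group G] [Finite G] (p : ℕ) [Fact p.Prime]
    (E : Subgroup G) (hE : Nat.card ↥E = p ^ 3)
    (hC : Subgroup.centralizer (E : Set G) ≤ E)
    (hCp : Nat.card ↥(Subgroup.centralizer (E : Set G)) = p) (a b : G) (ha : a ∈ E)
    (hb : b ∈ E) : a * b * a⁻¹ * b⁻¹ ∈ Subgroup.centralizer (E : Set G) := by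
  classical
  have hp : p.Prime := Fact.out
  have hNnormal : ((Subgroup.centralizer (E : Set G)).subgroupOf E).Normal := by
    constructor
    intro n hn g
    have hn' : (n : G) ∈ Subgroup.centralizer (E : Set G) := Subgroup.mem_subgroupOf.mp hn
    have hcomm : (g : G) * (n : G) = (n : G) * (g : G) :=
      (Subgroup.mem_centralizer_iff.mp hn') g g.2
    have e0 : g * n * g⁻¹ = n := by
      apply Subtype.ext
      show (g : G) * (n : G) * (g : G)⁻¹ = (n : G)
      rw [hcomm, mul_assoc, mul_inv_cancel, mul_one]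
    rw [e0]
    exact hn
  have hNcard : Nat.card ((Subgroup.centralizer (E : Set G)).subgroupOf E) = p := by
    rw [← hCp]
    exact Nat.card_congr (Subgroup.subgroupOfEquivOfLe hC).toEquiv
  have hq : Nat.card (E ⧸ (Subgroup.centralizer (E : Set G)).subgroupOf E) = p ^ 2 := by
    have h1 := Subgroup.card_eq_card_quotient_mul_card_subgroup
      ((Subgroup.centralizer (E : Set G)).subgroupOf E)
    rw [hNcard, hE] at h1
    have h2 : Nat.card (E ⧸ (Subgroup.centralizer (E : Set G)).subgroupOf E) * p = p ^ 2 * p := by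
      rw [← h1]
      ring
    exact Nat.eq_of_mul_eq_mul_right hp.pos h2
  have hcomm := IsPGroup.commutative_of_card_eq_prime_sq hq
  have hmem : ((⟨a, ha⟩ : E) * ⟨b, hb⟩ * (⟨a, ha⟩ : E)⁻¹ * (⟨b, hb⟩ : E)⁻¹) ∈
      (Subgroup.centralizer (E : Set G)).subgroupOf E := by
    rw [← QuotientGroup.eq_one_iff]
    rw [QuotientGroup.mk_mul, QuotientGroup.mk_mul, QuotientGroup.mk_mul, QuotientGroup.mk_inv,
      QuotientGroup.mk_inv]
    rw [hcomm (QuotientGroup.mk (⟨a, ha⟩ : E)) (QuotientGroup.mk (⟨b, hb⟩ : E))]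
    group
  exact Subgroup.mem_subgroupOf.mp hmem

end Cfsg.Agent.Lib.helper45.PearlC
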