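import Mathlib
import Cfsg.Agent.S0012
import Cfsg.Agent.Lib.helper1.BurnsideBasis
import Cfsg.Agent.Lib.helper68.HallPet
import Cfsg.Agent.Lib.helper10.PearlEnd

/-! S5238 REST, block G sub-block J (helper10 racer copy of helper52's export `pearl_jump`), proved
in one piece by the Frattini route of `helper10.PearlEnd` (jump bound + Burnside basis). -/

set_option autoImplicit false

namespace Cfsg.Agent.Lib.helper52.PearlJ

open Cfsg.Agent.Lib.helper68 Cfsg.Agent.Lib.helper91.PearlEnd

/-- helper52's `pearl_jump` (racer copy, verbatim statement) -/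
theorem h10_pearl_jump {G : Type*} [Group G] [Finite G] (p : ℕ) [Fact p.Prime] (n : ℕ)
    (hG : Nat.card G = p ^ n) (hn : 2 ≤ n)
    (hchain : ∀ i, 2 ≤ i → i ≤ n → Nat.card (gam G i) = p ^ (n - i))
    (hpow : ∀ i, 2 ≤ i → i + p ≤ n → ∀ m ∈ gam G i, m ∉ gam G (i + 1) →
      m ^ p ∈ gam G (i + p - 1) ∧ m ^ p ∉ gam G (i + p))
    (H : Subgroup G) : ∃ T : Finset G, T.card ≤ p ∧ Subgroup.closure (T : Set G) = H := by
  classical
  have hp : p.Prime := Fact.out
  have hPG : IsPGroup p G := IsPGroup.of_card hG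
  obtain ⟨hcomm, -⟩ := Cfsg.Agent.S0012.result p hPG
  have hgam2 : gam G 2 ≤ frattini G := by
    have e0 : gam G 2 = commutator G := by
      rw [commutator_def]
      rfl
    rw [e0]
    exact hcomm
  have hanti : ∀ i, gam G (i + 1) ≤ gam G i := fun i => gam_antitone (Nat.le_succ i)
  have hi2 : (gam G 2).index = p ^ 2 := by
    have hr4 : (gam G 2).index * Nat.card (gam G 2) = Nat.card G := Subgroup.index_mul_card _
    rw [hG, hchain 2 le_rfl hn] at hr4
    have hpos : 0 < p ^ (n - 2) := pow_pos hp.pos _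
    have h0 : (gam G 2).index * p ^ (n - 2) = p ^ 2 * p ^ (n - 2) := by
      rw [hr4, ← pow_add]
      congr 1
      omega
    exact Nat.eq_of_mul_eq_mul_right hpos h0
  by_cases hH : H = ⊤
  · have hfi : (frattini G).index ∣ p ^ 2 := by
      rw [← hi2]
      exact Subgroup.index_dvd_of_le hgam2
    obtain ⟨k, hk2, hk⟩ := (Nat.dvd_prime_pow hp).mp hfi
    haveI : Fintype G := Fintype.ofFinite G
    obtain ⟨T, -, hTc, hT⟩ := (Cfsg.Agent.Lib.helper1.burnside_basis p k hPG hk).1 Finset.univ (by
      rw [Finset.coe_univ, Subgroup.closure_univ])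
    exact ⟨T, by have := hp.two_le; omega, by rw [hT, hH]⟩
  · have hfr : H ⊔ gam G 2 ≠ ⊤ := by
      intro h
      apply hH
      apply frattini_nongenerating
      exact top_le_iff.mp (h ▸ sup_le_sup_left hgam2 H)
    obtain ⟨T₀, hT₀c, hT₀⟩ :=
      h10_gen_le_P2 p n hG (gam G) hanti hchain hpow (H ⊓ gam G 2) inf_le_right
    have hr1 : (H ⊓ gam G 2).relIndex H * Nat.card (H ⊓ gam G 2 : Subgroup G) = Nat.card H :=
      h10_relIndex_mul_card inf_le_left
    have hr2 : (H ⊓ gam G 2).relIndex H = (gam G 2).relIndex H :=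
      Subgroup.inf_relIndex_left H (gam G 2)
    have hr3 : (gam G 2).relIndex H ∣ (gam G 2).index :=
      Subgroup.relIndex_dvd_index_of_normal (gam G 2) H
    have hr4 : (gam G 2).index * Nat.card (gam G 2) = Nat.card G := Subgroup.index_mul_card _
    have hrle : (gam G 2).relIndex H ≤ p := by
      rw [hi2] at hr3
      obtain ⟨j, hj, hrj⟩ := (Nat.dvd_prime_pow hp).mp hr3
      by_cases hj1 : j ≤ 1
      · rw [hrj]
        calc p ^ j ≤ p ^ 1 := Nat.pow_le_pow_right hp.pos hj1
          _ = p := pow_one p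
      · exfalso
        have hj2 : j = 2 := by omega
        have h5 : (gam G 2).relIndex (H ⊔ gam G 2) * Nat.card (gam G 2) =
            Nat.card (H ⊔ gam G 2 : Subgroup G) := h10_relIndex_mul_card le_sup_right
        rw [Subgroup.relIndex_sup_right, hrj, hj2, ← hi2, hr4] at h5
        exact hfr (Subgroup.eq_top_of_card_eq _ h5.symm)
    have hHK : Nat.card H ≤ p * Nat.card (H ⊓ gam G 2 : Subgroup G) := by
      rw [← hr1, hr2]
      exact Nat.mul_le_mul_right _ hrle
    by_cases hKH : H ≤ H ⊓ gam G 2
    · have e0 : H ⊓ gam G 2 = H := le_antisymm inf_le_left hKH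
      exact ⟨T₀, hT₀c.trans (Nat.sub_le _ _), by rw [hT₀, e0]⟩
    · obtain ⟨h, hhH, hhK⟩ := SetLike.not_le_iff_exists.mp hKH
      refine ⟨insert h T₀, ?_, ?_⟩
      · have h0 := Finset.card_insert_le h T₀
        have h1 := hp.two_le
        omega
      · have hKL : H ⊓ gam G 2 ≤ Subgroup.closure ((insert h T₀ : Finset G) : Set G) := by
          rw [← hT₀]
          apply Subgroup.closure_mono
          intro x hx
          exact Finset.mem_coe.mpr (Finset.mem_insert_of_mem (Finset.mem_coe.mp hx))
        have hhL : h ∈ Subgroup.closure ((insert h T₀ : Finset G) : Set G) :=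
          Subgroup.subset_closure (Finset.mem_coe.mpr (Finset.mem_insert_self h T₀))
        have hLH : Subgroup.closure ((insert h T₀ : Finset G) : Set G) ≤ H := by
          rw [Subgroup.closure_le]
          intro x hx
          rcases Finset.mem_insert.mp (Finset.mem_coe.mp hx) with rfl | hx'
          · exact hhH
          · have h0 : x ∈ H ⊓ gam G 2 := by
              rw [← hT₀]
              exact Subgroup.subset_closure (Finset.mem_coe.mpr hx')
            exact (Subgroup.mem_inf.mp h0).1
        have h6 : p * Nat.card (H ⊓ gam G 2 : Subgroup G) ≤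
            Nat.card (Subgroup.closure ((insert h T₀ : Finset G) : Set G)) :=
          h10_p_mul_card_le p hPG hKL h hhL hhK
        exact Subgroup.eq_of_le_of_card_ge hLH (hHK.trans h6)

end Cfsg.Agent.Lib.helper52.PearlJ
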