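import Mathlib
import Cfsg.Agent.Lib.helper68.HallPet
import Cfsg.Agent.Lib.helper65.PearlPow

/-! S5238 block G piece K6 (F4 base), core form: the used pieces (`pg_card` at `n`, `pg_com_surj`,
`pg_uniserial`, `pg_F3`) are hypotheses. -/

set_option autoImplicit false

namespace Cfsg.Agent.Lib.helper65.PearlG

open Cfsg.Agent.Lib.helper68 Cfsg.Agent.Lib.helper65.PearlPow

variable {G : Type*} [Group G] [Finite G]

/-- K6 core: F4 base from the other pieces as hypotheses. -/
theorem h10_pg_F4_base_core (p : ℕ) [Fact p.Prime] (n : ℕ) (x : G) (hx : x ^ p = 1)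
    (hn : p + 2 ≤ n) (hbot : gam G n = ⊥)
    (hsurj : ∀ m ∈ gam G (n - p - 1 + 1), ∃ g ∈ gam G (n - p - 1), m = com x g)
    (huni : ∀ i, 2 ≤ i → i + 2 ≤ n → ∀ m ∈ gam G i, m ∉ gam G (i + 1) →
      com m x ∉ gam G (i + 2))
    (hF3 : ∀ y ∈ gam G (n - p + 1), y ^ p ∈ gam G (n - p + 1 + p - 1))
    (m : G) (hm : m ∈ gam G (n - p)) (hm' : m ∉ gam G (n - p + 1)) : m ^ p ≠ 1 := by
  have hp : p.Prime := Fact.out
  have h2le : 2 ≤ p := hp.two_le
  intro hmp
  have e1 : n - p - 1 + 1 = n - p := by omega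
  obtain ⟨g, hg, hmg⟩ := hsurj m (by rw [e1]; exact hm)
  have hnil : gam G (n - p - 1 + 1 + p) = ⊥ := by
    have e2 : n - p - 1 + 1 + p = n := by omega
    rw [e2]
    exact hbot
  have hexp : ∀ y ∈ gam G (n - p - 1 + 2), y ^ p = 1 := by
    intro y hy
    have e3 : n - p - 1 + 2 = n - p + 1 := by omega
    rw [e3] at hy
    have h1 := hF3 y hy
    have e4 : n - p + 1 + p - 1 = n := by omega
    rw [e4, hbot, Subgroup.mem_bot] at h1
    exact h1
  have hpp := pearl_pow p hp (n - p - 1) (by omega) x g hx hg hnil hexp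
  rw [← hmg, hmp, one_mul] at hpp
  have hx1 : x ∈ gam G 1 := by
    unfold gam
    exact Subgroup.mem_top x
  have key : ∀ k, k ≤ p - 1 →
      yk x m k ∈ gam G (n - p + k) ∧ yk x m k ∉ gam G (n - p + k + 1) := by
    intro k
    induction k with
    | zero =>
      intro _
      exact ⟨hm, hm'⟩
    | succ k ih =>
      intro hk
      obtain ⟨h1, h2⟩ := ih (by omega)
      have e5 : yk x m (k + 1) = com (yk x m k) x := rfl
      rw [e5]
      constructor
      · have h3 := com_mem h1 hx1
        have e6 : n - p + k + 1 = n - p + (k + 1) := by omega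
        rw [e6] at h3
        exact h3
      · have h4 := huni (n - p + k) (by omega) (by omega) (yk x m k) h1 h2
        have e7 : n - p + k + 2 = n - p + (k + 1) + 1 := by omega
        rw [e7] at h4
        exact h4
  obtain ⟨-, h5⟩ := key (p - 1) le_rfl
  have e8 : n - p + (p - 1) + 1 = n := by omega
  rw [e8, hbot, Subgroup.mem_bot] at h5
  exact h5 hpp

end Cfsg.Agent.Lib.helper65.PearlG
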