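/-
Two-level packed tables for letter systems: the table of a letter system is cut into blocks of
`bs` entries, selected by a function, so that the kernel only handles small numerals.
-/
import Mathlib
import Cfsg.Agent.Lib.helper10.PermChain

set_option autoImplicit false

namespace Cfsg.Agent.Lib.helper10

/-- Evaluation of letter `c` at `x` from a table of `g` rows of `n` entries of `w` bits, cut into
blocks of `bs` entries given by `sel`. -/
def tact2 (w bs : ℕ) (sel : ℕ → ℕ) (g n c x : ℕ) : ℕ :=
  nforce (Nat.add (Nat.mul (Nat.mod c g) n) x) fun i =>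
    nforce (Nat.div i bs) fun k => plook w (sel k) (Nat.mod i bs)

theorem tact2_mod (w bs : ℕ) (sel : ℕ → ℕ) (g n c x : ℕ) :
    tact2 w bs sel g n c x = tact2 w bs sel g n (c % g) x := by
  have h : Nat.mod (c % g) g = Nat.mod c g := Nat.mod_mod c g
  unfold tact2
  rw [h]

end Cfsg.Agent.Lib.helper10
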