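import Mathlib
import Cfsg.Agent.Lib.helper10.PermSimple
import Cfsg.Agent.Lib.helper10.RuData

set_option autoImplicit false
set_option maxRecDepth 100000

namespace Cfsg.Agent.Lib.helper10

theorem ru_nest1_c0 : allBelow (fun i => (chkNest ruL0.S ruL1) (0 + i)) 4060 = true := by decide +kernel

theorem ru_vert0_c8 : allBelow (fun i => (chkVertex ruL0 [ruL1, ruL2, ruL3, ruL4, ruL5, ruL6, ruL7, ruL8, ruL9, ruL10, ruL11, ruL12, ruL13, ruL14, ruL15, ruL16, ruL17, ruL18, ruL19, ruL20, ruL21, ruL22, ruL23, ruL24, ruL25, ruL26]) (1200 + i)) 150 = true := by decide +kernel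

theorem ru_vert0_c14 : allBelow (fun i => (chkVertex ruL0 [ruL1, ruL2, ruL3, ruL4, ruL5, ruL6, ruL7, ruL8, ruL9, ruL10, ruL11, ruL12, ruL13, ruL14, ruL15, ruL16, ruL17, ruL18, ruL19, ruL20, ruL21, ruL22, ruL23, ruL24, ruL25, ruL26]) (2100 + i)) 150 = true := by decide +kernel

theorem ru_vert0_c20 : allBelow (fun i => (chkVertex ruL0 [ruL1, ruL2, ruL3, ruL4, ruL5, ruL6, ruL7, ruL8, ruL9, ruL10, ruL11, ruL12, ruL13, ruL14, ruL15, ruL16, ruL17, ruL18, ruL19, ruL20, ruL21, ruL22, ruL23, ruL24, ruL25, ruL26]) (3000 + i)) 150 = true := by decide +kernel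

theorem ru_vert0_c26 : allBelow (fun i => (chkVertex ruL0 [ruL1, ruL2, ruL3, ruL4, ruL5, ruL6, ruL7, ruL8, ruL9, ruL10, ruL11, ruL12, ruL13, ruL14, ruL15, ruL16, ruL17, ruL18, ruL19, ruL20, ruL21, ruL22, ruL23, ruL24, ruL25, ruL26]) (3900 + i)) 150 = true := by decide +kernel

theorem ru_nest2_c0 : allBelow (fun i => (chkNest ruL1.S ruL2) (0 + i)) 4060 = true := by decide +kernel

theorem ru_vert1_c4 : allBelow (fun i => (chkVertex ruL1 [ruL2, ruL3, ruL4, ruL5, ruL6, ruL7, ruL8, ruL9, ruL10, ruL11, ruL12, ruL13, ruL14, ruL15, ruL16, ruL17, ruL18, ruL19, ruL20, ruL21, ruL22, ruL23, ruL24, ruL25, ruL26]) (1200 + i)) 300 = true := by decide +kernel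

theorem ru_vert1_c9 : allBelow (fun i => (chkVertex ruL1 [ruL2, ruL3, ruL4, ruL5, ruL6, ruL7, ruL8, ruL9, ruL10, ruL11, ruL12, ruL13, ruL14, ruL15, ruL16, ruL17, ruL18, ruL19, ruL20, ruL21, ruL22, ruL23, ruL24, ruL25, ruL26]) (2700 + i)) 300 = true := by decide +kernel

theorem ru_mat_c0 : allBelow (fun i => (fun i => chkMat (ruL0.S.act 0) ruCode (ruCols 0) 28 i && chkMat (ruL0.S.act 2) ruCode (ruCols 1) 28 i) (0 + i)) 1015 = true := by decide +kernel

theorem ru_mat_c2 : allBelow (fun i => (fun i => chkMat (ruL0.S.act 0) ruCode (ruCols 0) 28 i && chkMat (ruL0.S.act 2) ruCode (ruCols 1) 28 i) (2030 + i)) 1015 = true := by decide +kernel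

theorem ru_vert3_c0 : allBelow (fun i => (chkVertex ruL3 [ruL4, ruL5, ruL6, ruL7, ruL8, ruL9, ruL10, ruL11, ruL12, ruL13, ruL14, ruL15, ruL16, ruL17, ruL18, ruL19, ruL20, ruL21, ruL22, ruL23, ruL24, ruL25, ruL26]) (0 + i)) 4060 = true := by decide +kernel

theorem ru_vert11_c0 : allBelow (fun i => (chkVertex ruL11 [ruL12, ruL13, ruL14, ruL15, ruL16, ruL17, ruL18, ruL19, ruL20, ruL21, ruL22, ruL23, ruL24, ruL25, ruL26]) (0 + i)) 4060 = true := by decide +kernel

theorem ru_nest24_c0 : allBelow (fun i => (chkNest ruL23.S ruL24) (0 + i)) 4060 = true := by decide +kernel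

theorem ru_nest20_c0 : allBelow (fun i => (chkNest ruL19.S ruL20) (0 + i)) 4060 = true := by decide +kernel

theorem ru_nest16_c0 : allBelow (fun i => (chkNest ruL15.S ruL16) (0 + i)) 4060 = true := by decide +kernel

theorem ru_nest12_c0 : allBelow (fun i => (chkNest ruL11.S ruL12) (0 + i)) 4060 = true := by decide +kernel

theorem ru_nest8_c0 : allBelow (fun i => (chkNest ruL7.S ruL8) (0 + i)) 4060 = true := by decide +kernel

theorem ru_nest4_c0 : allBelow (fun i => (chkNest ruL3.S ruL4) (0 + i)) 4060 = true := by decide +kernel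

theorem ru_head18 : chkHead [0, 1, 8, 3, 7, 9, 11, 17, 22, 24, 25, 26, 31, 42, 45, 46, 48, 52] ruL18 = true := by decide +kernel

theorem ru_head21 : chkHead [0, 1, 8, 3, 7, 9, 11, 17, 22, 24, 25, 26, 31, 42, 45, 46, 48, 52, 57, 58, 67] ruL21 = true := by decide +kernel

theorem ru_head24 : chkHead [0, 1, 8, 3, 7, 9, 11, 17, 22, 24, 25, 26, 31, 42, 45, 46, 48, 52, 57, 58, 67, 72, 79, 125] ruL24 = true := by decide +kernel

theorem ru_arith : chkArith (fun j => ([1, 1755, 2304] : List ℕ).getD j 0) 4060 3 = true := by decide +kernel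

end Cfsg.Agent.Lib.helper10
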