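import Mathlib
import Cfsg.Agent.Lib.helper10.PermSimple
import Cfsg.Agent.Lib.helper10.RuData

set_option autoImplicit false
set_option maxRecDepth 100000

namespace Cfsg.Agent.Lib.helper10

theorem ru_wit : allBelow (fun j => chkWit 4060 ruCode ruBase 2 ruCmb ruWk ruWi j) 4060 = true := by decide +kernel

theorem ru_vert0_c7 : allBelow (fun i => (chkVertex ruL0 [ruL1, ruL2, ruL3, ruL4, ruL5, ruL6, ruL7, ruL8, ruL9, ruL10, ruL11, ruL12, ruL13, ruL14, ruL15, ruL16, ruL17, ruL18, ruL19, ruL20, ruL21, ruL22, ruL23, ruL24, ruL25, ruL26]) (1050 + i)) 150 = true := by decide +kernel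

theorem ru_vert0_c13 : allBelow (fun i => (chkVertex ruL0 [ruL1, ruL2, ruL3, ruL4, ruL5, ruL6, ruL7, ruL8, ruL9, ruL10, ruL11, ruL12, ruL13, ruL14, ruL15, ruL16, ruL17, ruL18, ruL19, ruL20, ruL21, ruL22, ruL23, ruL24, ruL25, ruL26]) (1950 + i)) 150 = true := by decide +kernel

theorem ru_vert0_c19 : allBelow (fun i => (chkVertex ruL0 [ruL1, ruL2, ruL3, ruL4, ruL5, ruL6, ruL7, ruL8, ruL9, ruL10, ruL11, ruL12, ruL13, ruL14, ruL15, ruL16, ruL17, ruL18, ruL19, ruL20, ruL21, ruL22, ruL23, ruL24, ruL25, ruL26]) (2850 + i)) 150 = true := by decide +kernel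

theorem ru_vert0_c25 : allBelow (fun i => (chkVertex ruL0 [ruL1, ruL2, ruL3, ruL4, ruL5, ruL6, ruL7, ruL8, ruL9, ruL10, ruL11, ruL12, ruL13, ruL14, ruL15, ruL16, ruL17, ruL18, ruL19, ruL20, ruL21, ruL22, ruL23, ruL24, ruL25, ruL26]) (3750 + i)) 150 = true := by decide +kernel

theorem ru_vert2_c3 : allBelow (fun i => (chkVertex ruL2 [ruL3, ruL4, ruL5, ruL6, ruL7, ruL8, ruL9, ruL10, ruL11, ruL12, ruL13, ruL14, ruL15, ruL16, ruL17, ruL18, ruL19, ruL20, ruL21, ruL22, ruL23, ruL24, ruL25, ruL26]) (3045 + i)) 1015 = true := by decide +kernel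

theorem ru_vert1_c3 : allBelow (fun i => (chkVertex ruL1 [ruL2, ruL3, ruL4, ruL5, ruL6, ruL7, ruL8, ruL9, ruL10, ruL11, ruL12, ruL13, ruL14, ruL15, ruL16, ruL17, ruL18, ruL19, ruL20, ruL21, ruL22, ruL23, ruL24, ruL25, ruL26]) (900 + i)) 300 = true := by decide +kernel

theorem ru_vert1_c8 : allBelow (fun i => (chkVertex ruL1 [ruL2, ruL3, ruL4, ruL5, ruL6, ruL7, ruL8, ruL9, ruL10, ruL11, ruL12, ruL13, ruL14, ruL15, ruL16, ruL17, ruL18, ruL19, ruL20, ruL21, ruL22, ruL23, ruL24, ruL25, ruL26]) (2400 + i)) 300 = true := by decide +kernel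

theorem ru_nest3_c0 : allBelow (fun i => (chkNest ruL2.S ruL3) (0 + i)) 4060 = true := by decide +kernel

theorem ru_mat_c3 : allBelow (fun i => (fun i => chkMat (ruL0.S.act 0) ruCode (ruCols 0) 28 i && chkMat (ruL0.S.act 2) ruCode (ruCols 1) 28 i) (3045 + i)) 1015 = true := by decide +kernel

theorem ru_vert4_c0 : allBelow (fun i => (chkVertex ruL4 [ruL5, ruL6, ruL7, ruL8, ruL9, ruL10, ruL11, ruL12, ruL13, ruL14, ruL15, ruL16, ruL17, ruL18, ruL19, ruL20, ruL21, ruL22, ruL23, ruL24, ruL25, ruL26]) (0 + i)) 4060 = true := by decide +kernel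

theorem ru_vert7_c0 : allBelow (fun i => (chkVertex ruL7 [ruL8, ruL9, ruL10, ruL11, ruL12, ruL13, ruL14, ruL15, ruL16, ruL17, ruL18, ruL19, ruL20, ruL21, ruL22, ruL23, ruL24, ruL25, ruL26]) (0 + i)) 4060 = true := by decide +kernel

theorem ru_vert13_c0 : allBelow (fun i => (chkVertex ruL13 [ruL14, ruL15, ruL16, ruL17, ruL18, ruL19, ruL20, ruL21, ruL22, ruL23, ruL24, ruL25, ruL26]) (0 + i)) 4060 = true := by decide +kernel

theorem ru_nest23_c0 : allBelow (fun i => (chkNest ruL22.S ruL23) (0 + i)) 4060 = true := by decide +kernel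

theorem ru_nest19_c0 : allBelow (fun i => (chkNest ruL18.S ruL19) (0 + i)) 4060 = true := by decide +kernel

theorem ru_vert19_c0 : allBelow (fun i => (chkVertex ruL19 [ruL20, ruL21, ruL22, ruL23, ruL24, ruL25, ruL26]) (0 + i)) 4060 = true := by decide +kernel

theorem ru_vert21_c0 : allBelow (fun i => (chkVertex ruL21 [ruL22, ruL23, ruL24, ruL25, ruL26]) (0 + i)) 4060 = true := by decide +kernel

theorem ru_vert23_c0 : allBelow (fun i => (chkVertex ruL23 [ruL24, ruL25, ruL26]) (0 + i)) 4060 = true := by decide +kernel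

theorem ru_vert26_c0 : allBelow (fun i => (chkVertex ruL26 []) (0 + i)) 4060 = true := by decide +kernel

end Cfsg.Agent.Lib.helper10
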