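import Mathlib
import Cfsg.Agent.Lib.helper10.PermSimple
import Cfsg.Agent.Lib.helper10.RuData

set_option autoImplicit false
set_option maxRecDepth 100000

namespace Cfsg.Agent.Lib.helper10

theorem ru_ap_c0 : allBelow (fun i => (fun x => pact ruL0.S.act (List.replicate 29 0) x == x) (0 + i)) 4060 = true := by decide +kernel

theorem ru_vert0_c6 : allBelow (fun i => (chkVertex ruL0 [ruL1, ruL2, ruL3, ruL4, ruL5, ruL6, ruL7, ruL8, ruL9, ruL10, ruL11, ruL12, ruL13, ruL14, ruL15, ruL16, ruL17, ruL18, ruL19, ruL20, ruL21, ruL22, ruL23, ruL24, ruL25, ruL26]) (900 + i)) 150 = true := by decide +kernel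

theorem ru_vert0_c12 : allBelow (fun i => (chkVertex ruL0 [ruL1, ruL2, ruL3, ruL4, ruL5, ruL6, ruL7, ruL8, ruL9, ruL10, ruL11, ruL12, ruL13, ruL14, ruL15, ruL16, ruL17, ruL18, ruL19, ruL20, ruL21, ruL22, ruL23, ruL24, ruL25, ruL26]) (1800 + i)) 150 = true := by decide +kernel

theorem ru_vert0_c18 : allBelow (fun i => (chkVertex ruL0 [ruL1, ruL2, ruL3, ruL4, ruL5, ruL6, ruL7, ruL8, ruL9, ruL10, ruL11, ruL12, ruL13, ruL14, ruL15, ruL16, ruL17, ruL18, ruL19, ruL20, ruL21, ruL22, ruL23, ruL24, ruL25, ruL26]) (2700 + i)) 150 = true := by decide +kernel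

theorem ru_vert0_c24 : allBelow (fun i => (chkVertex ruL0 [ruL1, ruL2, ruL3, ruL4, ruL5, ruL6, ruL7, ruL8, ruL9, ruL10, ruL11, ruL12, ruL13, ruL14, ruL15, ruL16, ruL17, ruL18, ruL19, ruL20, ruL21, ruL22, ruL23, ruL24, ruL25, ruL26]) (3600 + i)) 150 = true := by decide +kernel

theorem ru_vert2_c2 : allBelow (fun i => (chkVertex ruL2 [ruL3, ruL4, ruL5, ruL6, ruL7, ruL8, ruL9, ruL10, ruL11, ruL12, ruL13, ruL14, ruL15, ruL16, ruL17, ruL18, ruL19, ruL20, ruL21, ruL22, ruL23, ruL24, ruL25, ruL26]) (2030 + i)) 1015 = true := by decide +kernel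

theorem ru_vert1_c1 : allBelow (fun i => (chkVertex ruL1 [ruL2, ruL3, ruL4, ruL5, ruL6, ruL7, ruL8, ruL9, ruL10, ruL11, ruL12, ruL13, ruL14, ruL15, ruL16, ruL17, ruL18, ruL19, ruL20, ruL21, ruL22, ruL23, ruL24, ruL25, ruL26]) (300 + i)) 300 = true := by decide +kernel

theorem ru_vert1_c6 : allBelow (fun i => (chkVertex ruL1 [ruL2, ruL3, ruL4, ruL5, ruL6, ruL7, ruL8, ruL9, ruL10, ruL11, ruL12, ruL13, ruL14, ruL15, ruL16, ruL17, ruL18, ruL19, ruL20, ruL21, ruL22, ruL23, ruL24, ruL25, ruL26]) (1800 + i)) 300 = true := by decide +kernel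

theorem ru_vert1_c12 : allBelow (fun i => (chkVertex ruL1 [ruL2, ruL3, ruL4, ruL5, ruL6, ruL7, ruL8, ruL9, ruL10, ruL11, ruL12, ruL13, ruL14, ruL15, ruL16, ruL17, ruL18, ruL19, ruL20, ruL21, ruL22, ruL23, ruL24, ruL25, ruL26]) (3600 + i)) 300 = true := by decide +kernel

theorem ru_cmb_c0 : allBelow (fun i => (fun i => chkCmb ruCode ruBase 2 ruCmb i) (0 + i)) 1015 = true := by decide +kernel

theorem ru_cmb_c3 : allBelow (fun i => (fun i => chkCmb ruCode ruBase 2 ruCmb i) (3045 + i)) 1015 = true := by decide +kernel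

theorem ru_vert5_c0 : allBelow (fun i => (chkVertex ruL5 [ruL6, ruL7, ruL8, ruL9, ruL10, ruL11, ruL12, ruL13, ruL14, ruL15, ruL16, ruL17, ruL18, ruL19, ruL20, ruL21, ruL22, ruL23, ruL24, ruL25, ruL26]) (0 + i)) 4060 = true := by decide +kernel

theorem ru_vert10_c0 : allBelow (fun i => (chkVertex ruL10 [ruL11, ruL12, ruL13, ruL14, ruL15, ruL16, ruL17, ruL18, ruL19, ruL20, ruL21, ruL22, ruL23, ruL24, ruL25, ruL26]) (0 + i)) 4060 = true := by decide +kernel

theorem ru_nest25_c0 : allBelow (fun i => (chkNest ruL24.S ruL25) (0 + i)) 4060 = true := by decide +kernel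

theorem ru_nest21_c0 : allBelow (fun i => (chkNest ruL20.S ruL21) (0 + i)) 4060 = true := by decide +kernel

theorem ru_vert18_c0 : allBelow (fun i => (chkVertex ruL18 [ruL19, ruL20, ruL21, ruL22, ruL23, ruL24, ruL25, ruL26]) (0 + i)) 4060 = true := by decide +kernel

theorem ru_vert20_c0 : allBelow (fun i => (chkVertex ruL20 [ruL21, ruL22, ruL23, ruL24, ruL25, ruL26]) (0 + i)) 4060 = true := by decide +kernel

theorem ru_vert22_c0 : allBelow (fun i => (chkVertex ruL22 [ruL23, ruL24, ruL25, ruL26]) (0 + i)) 4060 = true := by decide +kernel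

theorem ru_vert24_c0 : allBelow (fun i => (chkVertex ruL24 [ruL25, ruL26]) (0 + i)) 4060 = true := by decide +kernel

theorem ru_head0 : chkHead [] ruL0 = true := by decide +kernel

theorem ru_head1 : chkHead [0] ruL1 = true := by decide +kernel

theorem ru_head2 : chkHead [0, 1] ruL2 = true := by decide +kernel

theorem ru_head3 : chkHead [0, 1, 8] ruL3 = true := by decide +kernel

theorem ru_head4 : chkHead [0, 1, 8, 3] ruL4 = true := by decide +kernel

theorem ru_head5 : chkHead [0, 1, 8, 3, 7] ruL5 = true := by decide +kernel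

theorem ru_head6 : chkHead [0, 1, 8, 3, 7, 9] ruL6 = true := by decide +kernel

theorem ru_head7 : chkHead [0, 1, 8, 3, 7, 9, 11] ruL7 = true := by decide +kernel

theorem ru_head8 : chkHead [0, 1, 8, 3, 7, 9, 11, 17] ruL8 = true := by decide +kernel

theorem ru_head9 : chkHead [0, 1, 8, 3, 7, 9, 11, 17, 22] ruL9 = true := by decide +kernel

theorem ru_head10 : chkHead [0, 1, 8, 3, 7, 9, 11, 17, 22, 24] ruL10 = true := by decide +kernel

theorem ru_head11 : chkHead [0, 1, 8, 3, 7, 9, 11, 17, 22, 24, 25] ruL11 = true := by decide +kernel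

theorem ru_head12 : chkHead [0, 1, 8, 3, 7, 9, 11, 17, 22, 24, 25, 26] ruL12 = true := by decide +kernel

theorem ru_head13 : chkHead [0, 1, 8, 3, 7, 9, 11, 17, 22, 24, 25, 26, 31] ruL13 = true := by decide +kernel

theorem ru_head14 : chkHead [0, 1, 8, 3, 7, 9, 11, 17, 22, 24, 25, 26, 31, 42] ruL14 = true := by decide +kernel

theorem ru_head15 : chkHead [0, 1, 8, 3, 7, 9, 11, 17, 22, 24, 25, 26, 31, 42, 45] ruL15 = true := by decide +kernel

theorem ru_head16 : chkHead [0, 1, 8, 3, 7, 9, 11, 17, 22, 24, 25, 26, 31, 42, 45, 46] ruL16 = true := by decide +kernel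

theorem ru_head17 : chkHead [0, 1, 8, 3, 7, 9, 11, 17, 22, 24, 25, 26, 31, 42, 45, 46, 48] ruL17 = true := by decide +kernel

theorem ru_head20 : chkHead [0, 1, 8, 3, 7, 9, 11, 17, 22, 24, 25, 26, 31, 42, 45, 46, 48, 52, 57, 58] ruL20 = true := by decide +kernel

theorem ru_head23 : chkHead [0, 1, 8, 3, 7, 9, 11, 17, 22, 24, 25, 26, 31, 42, 45, 46, 48, 52, 57, 58, 67, 72, 79] ruL23 = true := by decide +kernel

theorem ru_head26 : chkHead [0, 1, 8, 3, 7, 9, 11, 17, 22, 24, 25, 26, 31, 42, 45, 46, 48, 52, 57, 58, 67, 72, 79, 125, 285, 734] ruL26 = true := by decide +kernel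

end Cfsg.Agent.Lib.helper10
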