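import Mathlib
import Cfsg.Agent.Lib.helper10.PermSimple
import Cfsg.Agent.Lib.helper10.RuData

set_option autoImplicit false
set_option maxRecDepth 100000

namespace Cfsg.Agent.Lib.helper10

theorem ru_vert0_c0 : allBelow (fun i => (chkVertex ruL0 [ruL1, ruL2, ruL3, ruL4, ruL5, ruL6, ruL7, ruL8, ruL9, ruL10, ruL11, ruL12, ruL13, ruL14, ruL15, ruL16, ruL17, ruL18, ruL19, ruL20, ruL21, ruL22, ruL23, ruL24, ruL25, ruL26]) (0 + i)) 150 = true := by decide +kernel

theorem ru_vert0_c3 : allBelow (fun i => (chkVertex ruL0 [ruL1, ruL2, ruL3, ruL4, ruL5, ruL6, ruL7, ruL8, ruL9, ruL10, ruL11, ruL12, ruL13, ruL14, ruL15, ruL16, ruL17, ruL18, ruL19, ruL20, ruL21, ruL22, ruL23, ruL24, ruL25, ruL26]) (450 + i)) 150 = true := by decide +kernel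

theorem ru_vert0_c9 : allBelow (fun i => (chkVertex ruL0 [ruL1, ruL2, ruL3, ruL4, ruL5, ruL6, ruL7, ruL8, ruL9, ruL10, ruL11, ruL12, ruL13, ruL14, ruL15, ruL16, ruL17, ruL18, ruL19, ruL20, ruL21, ruL22, ruL23, ruL24, ruL25, ruL26]) (1350 + i)) 150 = true := by decide +kernel

theorem ru_vert0_c15 : allBelow (fun i => (chkVertex ruL0 [ruL1, ruL2, ruL3, ruL4, ruL5, ruL6, ruL7, ruL8, ruL9, ruL10, ruL11, ruL12, ruL13, ruL14, ruL15, ruL16, ruL17, ruL18, ruL19, ruL20, ruL21, ruL22, ruL23, ruL24, ruL25, ruL26]) (2250 + i)) 150 = true := by decide +kernel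

theorem ru_vert0_c21 : allBelow (fun i => (chkVertex ruL0 [ruL1, ruL2, ruL3, ruL4, ruL5, ruL6, ruL7, ruL8, ruL9, ruL10, ruL11, ruL12, ruL13, ruL14, ruL15, ruL16, ruL17, ruL18, ruL19, ruL20, ruL21, ruL22, ruL23, ruL24, ruL25, ruL26]) (3150 + i)) 150 = true := by decide +kernel

theorem ru_vert0_c27 : allBelow (fun i => (chkVertex ruL0 [ruL1, ruL2, ruL3, ruL4, ruL5, ruL6, ruL7, ruL8, ruL9, ruL10, ruL11, ruL12, ruL13, ruL14, ruL15, ruL16, ruL17, ruL18, ruL19, ruL20, ruL21, ruL22, ruL23, ruL24, ruL25, ruL26]) (4050 + i)) 10 = true := by decide +kernel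

theorem ru_vert1_c2 : allBelow (fun i => (chkVertex ruL1 [ruL2, ruL3, ruL4, ruL5, ruL6, ruL7, ruL8, ruL9, ruL10, ruL11, ruL12, ruL13, ruL14, ruL15, ruL16, ruL17, ruL18, ruL19, ruL20, ruL21, ruL22, ruL23, ruL24, ruL25, ruL26]) (600 + i)) 300 = true := by decide +kernel

theorem ru_vert1_c7 : allBelow (fun i => (chkVertex ruL1 [ruL2, ruL3, ruL4, ruL5, ruL6, ruL7, ruL8, ruL9, ruL10, ruL11, ruL12, ruL13, ruL14, ruL15, ruL16, ruL17, ruL18, ruL19, ruL20, ruL21, ruL22, ruL23, ruL24, ruL25, ruL26]) (2100 + i)) 300 = true := by decide +kernel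

theorem ru_vert1_c13 : allBelow (fun i => (chkVertex ruL1 [ruL2, ruL3, ruL4, ruL5, ruL6, ruL7, ruL8, ruL9, ruL10, ruL11, ruL12, ruL13, ruL14, ruL15, ruL16, ruL17, ruL18, ruL19, ruL20, ruL21, ruL22, ruL23, ruL24, ruL25, ruL26]) (3900 + i)) 160 = true := by decide +kernel

theorem ru_cmb_c1 : allBelow (fun i => (fun i => chkCmb ruCode ruBase 2 ruCmb i) (1015 + i)) 1015 = true := by decide +kernel

theorem ru_bp_c0 : allBelow (fun i => (fun x => pact ruL0.S.act (List.replicate 7 2) x == x) (0 + i)) 4060 = true := by decide +kernel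

theorem ru_vert6_c0 : allBelow (fun i => (chkVertex ruL6 [ruL7, ruL8, ruL9, ruL10, ruL11, ruL12, ruL13, ruL14, ruL15, ruL16, ruL17, ruL18, ruL19, ruL20, ruL21, ruL22, ruL23, ruL24, ruL25, ruL26]) (0 + i)) 4060 = true := by decide +kernel

theorem ru_vert12_c0 : allBelow (fun i => (chkVertex ruL12 [ruL13, ruL14, ruL15, ruL16, ruL17, ruL18, ruL19, ruL20, ruL21, ruL22, ruL23, ruL24, ruL25, ruL26]) (0 + i)) 4060 = true := by decide +kernel

theorem ru_vert15_c0 : allBelow (fun i => (chkVertex ruL15 [ruL16, ruL17, ruL18, ruL19, ruL20, ruL21, ruL22, ruL23, ruL24, ruL25, ruL26]) (0 + i)) 4060 = true := by decide +kernel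

theorem ru_vert17_c0 : allBelow (fun i => (chkVertex ruL17 [ruL18, ruL19, ruL20, ruL21, ruL22, ruL23, ruL24, ruL25, ruL26]) (0 + i)) 4060 = true := by decide +kernel

theorem ru_nest15_c0 : allBelow (fun i => (chkNest ruL14.S ruL15) (0 + i)) 4060 = true := by decide +kernel

theorem ru_nest11_c0 : allBelow (fun i => (chkNest ruL10.S ruL11) (0 + i)) 4060 = true := by decide +kernel

theorem ru_nest7_c0 : allBelow (fun i => (chkNest ruL6.S ruL7) (0 + i)) 4060 = true := by decide +kernel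

theorem ru_vert25_c0 : allBelow (fun i => (chkVertex ruL25 [ruL26]) (0 + i)) 4060 = true := by decide +kernel

theorem ru_head19 : chkHead [0, 1, 8, 3, 7, 9, 11, 17, 22, 24, 25, 26, 31, 42, 45, 46, 48, 52, 57] ruL19 = true := by decide +kernel

theorem ru_head22 : chkHead [0, 1, 8, 3, 7, 9, 11, 17, 22, 24, 25, 26, 31, 42, 45, 46, 48, 52, 57, 58, 67, 72] ruL22 = true := by decide +kernel

theorem ru_head25 : chkHead [0, 1, 8, 3, 7, 9, 11, 17, 22, 24, 25, 26, 31, 42, 45, 46, 48, 52, 57, 58, 67, 72, 79, 125, 285] ruL25 = true := by decide +kernel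

end Cfsg.Agent.Lib.helper10
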