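import Mathlib
import Cfsg.Agent.Lib.helper10.PermSimple
import Cfsg.Agent.Lib.helper10.RuData

set_option autoImplicit false
set_option maxRecDepth 100000

namespace Cfsg.Agent.Lib.helper10

theorem ru_vert0_c1 : allBelow (fun i => (chkVertex ruL0 [ruL1, ruL2, ruL3, ruL4, ruL5, ruL6, ruL7, ruL8, ruL9, ruL10, ruL11, ruL12, ruL13, ruL14, ruL15, ruL16, ruL17, ruL18, ruL19, ruL20, ruL21, ruL22, ruL23, ruL24, ruL25, ruL26]) (150 + i)) 150 = true := by decide +kernel

theorem ru_vert0_c4 : allBelow (fun i => (chkVertex ruL0 [ruL1, ruL2, ruL3, ruL4, ruL5, ruL6, ruL7, ruL8, ruL9, ruL10, ruL11, ruL12, ruL13, ruL14, ruL15, ruL16, ruL17, ruL18, ruL19, ruL20, ruL21, ruL22, ruL23, ruL24, ruL25, ruL26]) (600 + i)) 150 = true := by decide +kernel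

theorem ru_vert0_c10 : allBelow (fun i => (chkVertex ruL0 [ruL1, ruL2, ruL3, ruL4, ruL5, ruL6, ruL7, ruL8, ruL9, ruL10, ruL11, ruL12, ruL13, ruL14, ruL15, ruL16, ruL17, ruL18, ruL19, ruL20, ruL21, ruL22, ruL23, ruL24, ruL25, ruL26]) (1500 + i)) 150 = true := by decide +kernel

theorem ru_vert0_c16 : allBelow (fun i => (chkVertex ruL0 [ruL1, ruL2, ruL3, ruL4, ruL5, ruL6, ruL7, ruL8, ruL9, ruL10, ruL11, ruL12, ruL13, ruL14, ruL15, ruL16, ruL17, ruL18, ruL19, ruL20, ruL21, ruL22, ruL23, ruL24, ruL25, ruL26]) (2400 + i)) 150 = true := by decide +kernel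

theorem ru_vert0_c22 : allBelow (fun i => (chkVertex ruL0 [ruL1, ruL2, ruL3, ruL4, ruL5, ruL6, ruL7, ruL8, ruL9, ruL10, ruL11, ruL12, ruL13, ruL14, ruL15, ruL16, ruL17, ruL18, ruL19, ruL20, ruL21, ruL22, ruL23, ruL24, ruL25, ruL26]) (3300 + i)) 150 = true := by decide +kernel

theorem ru_vert2_c0 : allBelow (fun i => (chkVertex ruL2 [ruL3, ruL4, ruL5, ruL6, ruL7, ruL8, ruL9, ruL10, ruL11, ruL12, ruL13, ruL14, ruL15, ruL16, ruL17, ruL18, ruL19, ruL20, ruL21, ruL22, ruL23, ruL24, ruL25, ruL26]) (0 + i)) 1015 = true := by decide +kernel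

theorem ru_card : ([ruL0, ruL1, ruL2, ruL3, ruL4, ruL5, ruL6, ruL7, ruL8, ruL9, ruL10, ruL11, ruL12, ruL13, ruL14, ruL15, ruL16, ruL17, ruL18, ruL19, ruL20, ruL21, ruL22, ruL23, ruL24, ruL25, ruL26].map orbCard).prod = 4060 * 35942400 := by decide +kernel

theorem ru_vert1_c10 : allBelow (fun i => (chkVertex ruL1 [ruL2, ruL3, ruL4, ruL5, ruL6, ruL7, ruL8, ruL9, ruL10, ruL11, ruL12, ruL13, ruL14, ruL15, ruL16, ruL17, ruL18, ruL19, ruL20, ruL21, ruL22, ruL23, ruL24, ruL25, ruL26]) (3000 + i)) 300 = true := by decide +kernel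

theorem ru_mat_c1 : allBelow (fun i => (fun i => chkMat (ruL0.S.act 0) ruCode (ruCols 0) 28 i && chkMat (ruL0.S.act 2) ruCode (ruCols 1) 28 i) (1015 + i)) 1015 = true := by decide +kernel

theorem ru_cmb_c2 : allBelow (fun i => (fun i => chkCmb ruCode ruBase 2 ruCmb i) (2030 + i)) 1015 = true := by decide +kernel

theorem ru_sizes : allBelow (fun j => cntBelow (fun v => plook 2 ructab v == j) 4060 == ([1, 1755, 2304] : List ℕ).getD j 0) 3 = true := by decide +kernel

theorem ru_vert8_c0 : allBelow (fun i => (chkVertex ruL8 [ruL9, ruL10, ruL11, ruL12, ruL13, ruL14, ruL15, ruL16, ruL17, ruL18, ruL19, ruL20, ruL21, ruL22, ruL23, ruL24, ruL25, ruL26]) (0 + i)) 4060 = true := by decide +kernel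

theorem ru_nest26_c0 : allBelow (fun i => (chkNest ruL25.S ruL26) (0 + i)) 4060 = true := by decide +kernel

theorem ru_nest22_c0 : allBelow (fun i => (chkNest ruL21.S ruL22) (0 + i)) 4060 = true := by decide +kernel

theorem ru_nest18_c0 : allBelow (fun i => (chkNest ruL17.S ruL18) (0 + i)) 4060 = true := by decide +kernel

theorem ru_nest14_c0 : allBelow (fun i => (chkNest ruL13.S ruL14) (0 + i)) 4060 = true := by decide +kernel

theorem ru_nest10_c0 : allBelow (fun i => (chkNest ruL9.S ruL10) (0 + i)) 4060 = true := by decide +kernel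

theorem ru_nest6_c0 : allBelow (fun i => (chkNest ruL5.S ruL6) (0 + i)) 4060 = true := by decide +kernel

theorem ru_full_c0 : allBelow (fun i => (fun v => plook 21 rutbl0 v != 0) (0 + i)) 4060 = true := by decide +kernel

end Cfsg.Agent.Lib.helper10
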