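import Mathlib
import Cfsg.Agent.Lib.helper10.PermSimple
import Cfsg.Agent.Lib.helper10.RuData

set_option autoImplicit false
set_option maxRecDepth 100000

namespace Cfsg.Agent.Lib.helper10

theorem ru_vert0_c2 : allBelow (fun i => (chkVertex ruL0 [ruL1, ruL2, ruL3, ruL4, ruL5, ruL6, ruL7, ruL8, ruL9, ruL10, ruL11, ruL12, ruL13, ruL14, ruL15, ruL16, ruL17, ruL18, ruL19, ruL20, ruL21, ruL22, ruL23, ruL24, ruL25, ruL26]) (300 + i)) 150 = true := by decide +kernel

theorem ru_vert0_c5 : allBelow (fun i => (chkVertex ruL0 [ruL1, ruL2, ruL3, ruL4, ruL5, ruL6, ruL7, ruL8, ruL9, ruL10, ruL11, ruL12, ruL13, ruL14, ruL15, ruL16, ruL17, ruL18, ruL19, ruL20, ruL21, ruL22, ruL23, ruL24, ruL25, ruL26]) (750 + i)) 150 = true := by decide +kernel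

theorem ru_vert0_c11 : allBelow (fun i => (chkVertex ruL0 [ruL1, ruL2, ruL3, ruL4, ruL5, ruL6, ruL7, ruL8, ruL9, ruL10, ruL11, ruL12, ruL13, ruL14, ruL15, ruL16, ruL17, ruL18, ruL19, ruL20, ruL21, ruL22, ruL23, ruL24, ruL25, ruL26]) (1650 + i)) 150 = true := by decide +kernel

theorem ru_vert0_c17 : allBelow (fun i => (chkVertex ruL0 [ruL1, ruL2, ruL3, ruL4, ruL5, ruL6, ruL7, ruL8, ruL9, ruL10, ruL11, ruL12, ruL13, ruL14, ruL15, ruL16, ruL17, ruL18, ruL19, ruL20, ruL21, ruL22, ruL23, ruL24, ruL25, ruL26]) (2550 + i)) 150 = true := by decide +kernel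

theorem ru_vert0_c23 : allBelow (fun i => (chkVertex ruL0 [ruL1, ruL2, ruL3, ruL4, ruL5, ruL6, ruL7, ruL8, ruL9, ruL10, ruL11, ruL12, ruL13, ruL14, ruL15, ruL16, ruL17, ruL18, ruL19, ruL20, ruL21, ruL22, ruL23, ruL24, ruL25, ruL26]) (3450 + i)) 150 = true := by decide +kernel

theorem ru_vert2_c1 : allBelow (fun i => (chkVertex ruL2 [ruL3, ruL4, ruL5, ruL6, ruL7, ruL8, ruL9, ruL10, ruL11, ruL12, ruL13, ruL14, ruL15, ruL16, ruL17, ruL18, ruL19, ruL20, ruL21, ruL22, ruL23, ruL24, ruL25, ruL26]) (1015 + i)) 1015 = true := by decide +kernel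

theorem ru_vert1_c0 : allBelow (fun i => (chkVertex ruL1 [ruL2, ruL3, ruL4, ruL5, ruL6, ruL7, ruL8, ruL9, ruL10, ruL11, ruL12, ruL13, ruL14, ruL15, ruL16, ruL17, ruL18, ruL19, ruL20, ruL21, ruL22, ruL23, ruL24, ruL25, ruL26]) (0 + i)) 300 = true := by decide +kernel

theorem ru_vert1_c5 : allBelow (fun i => (chkVertex ruL1 [ruL2, ruL3, ruL4, ruL5, ruL6, ruL7, ruL8, ruL9, ruL10, ruL11, ruL12, ruL13, ruL14, ruL15, ruL16, ruL17, ruL18, ruL19, ruL20, ruL21, ruL22, ruL23, ruL24, ruL25, ruL26]) (1500 + i)) 300 = true := by decide +kernel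

theorem ru_vert1_c11 : allBelow (fun i => (chkVertex ruL1 [ruL2, ruL3, ruL4, ruL5, ruL6, ruL7, ruL8, ruL9, ruL10, ruL11, ruL12, ruL13, ruL14, ruL15, ruL16, ruL17, ruL18, ruL19, ruL20, ruL21, ruL22, ruL23, ruL24, ruL25, ruL26]) (3300 + i)) 300 = true := by decide +kernel

theorem ru_orb_c0 : allBelow (fun i => (chkOrbV ruL1.S.act [0, 1, 2] 2 ructab 2 19 ruotab) (0 + i)) 4060 = true := by decide +kernel

theorem ru_nest0_c0 : allBelow (fun i => (chkNest ruL0.S ruL0) (0 + i)) 4060 = true := by decide +kernel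

theorem ru_mono : allBelow (fun i => Nat.blt (ruCode i) (ruCode (i + 1))) 4059 = true := by decide +kernel

theorem ru_vert9_c0 : allBelow (fun i => (chkVertex ruL9 [ruL10, ruL11, ruL12, ruL13, ruL14, ruL15, ruL16, ruL17, ruL18, ruL19, ruL20, ruL21, ruL22, ruL23, ruL24, ruL25, ruL26]) (0 + i)) 4060 = true := by decide +kernel

theorem ru_vert14_c0 : allBelow (fun i => (chkVertex ruL14 [ruL15, ruL16, ruL17, ruL18, ruL19, ruL20, ruL21, ruL22, ruL23, ruL24, ruL25, ruL26]) (0 + i)) 4060 = true := by decide +kernel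

theorem ru_vert16_c0 : allBelow (fun i => (chkVertex ruL16 [ruL17, ruL18, ruL19, ruL20, ruL21, ruL22, ruL23, ruL24, ruL25, ruL26]) (0 + i)) 4060 = true := by decide +kernel

theorem ru_nest17_c0 : allBelow (fun i => (chkNest ruL16.S ruL17) (0 + i)) 4060 = true := by decide +kernel

theorem ru_nest13_c0 : allBelow (fun i => (chkNest ruL12.S ruL13) (0 + i)) 4060 = true := by decide +kernel

theorem ru_nest9_c0 : allBelow (fun i => (chkNest ruL8.S ruL9) (0 + i)) 4060 = true := by decide +kernel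

theorem ru_nest5_c0 : allBelow (fun i => (chkNest ruL4.S ruL5) (0 + i)) 4060 = true := by decide +kernel

theorem ru_cls : allBelow (fun v => decide (plook 2 ructab v < 3) && (decide (plook 2 ructab v = 0) == decide (v = 0))) 4060 = true := by decide +kernel

end Cfsg.Agent.Lib.helper10
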