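import Mathlib
import Cfsg.Agent.Lib.helper10.PermCert2
import Cfsg.Agent.Lib.helper10.XorRigid
import Cfsg.Agent.Lib.helper10.RuChk0
import Cfsg.Agent.Lib.helper10.RuChk1
import Cfsg.Agent.Lib.helper10.RuChk2
import Cfsg.Agent.Lib.helper10.RuChk3
import Cfsg.Agent.Lib.helper10.RuChk4
import Cfsg.Agent.Lib.helper10.RuChk5

set_option autoImplicit false
set_option maxRecDepth 100000

namespace Cfsg.Agent.Lib.helper10

theorem ru_nest0 : ∀ x, 0 ≤ x → x < 4060 → (chkNest ruL0.S ruL0) x = true := by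
  intro x hlo hx
  exact allFrom_sound (f := chkNest ruL0.S ruL0) ru_nest0_c0 x (by omega) (by omega)

theorem ru_nest0' : ∀ x, x < 4060 → chkNest ruL0.S ruL0 x = true := fun x hx => ru_nest0 x (Nat.zero_le _) hx

theorem ru_vert0 : ∀ x, 0 ≤ x → x < 4060 → (chkVertex ruL0 [ruL1, ruL2, ruL3, ruL4, ruL5, ruL6, ruL7, ruL8, ruL9, ruL10, ruL11, ruL12, ruL13, ruL14, ruL15, ruL16, ruL17, ruL18, ruL19, ruL20, ruL21, ruL22, ruL23, ruL24, ruL25, ruL26]) x = true := by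
  intro x hlo hx
  by_cases h0 : x < 150
  · exact allFrom_sound (f := chkVertex ruL0 [ruL1, ruL2, ruL3, ruL4, ruL5, ruL6, ruL7, ruL8, ruL9, ruL10, ruL11, ruL12, ruL13, ruL14, ruL15, ruL16, ruL17, ruL18, ruL19, ruL20, ruL21, ruL22, ruL23, ruL24, ruL25, ruL26]) ru_vert0_c0 x (by omega) (by omega)
  by_cases h1 : x < 300
  · exact allFrom_sound (f := chkVertex ruL0 [ruL1, ruL2, ruL3, ruL4, ruL5, ruL6, ruL7, ruL8, ruL9, ruL10, ruL11, ruL12, ruL13, ruL14, ruL15, ruL16, ruL17, ruL18, ruL19, ruL20, ruL21, ruL22, ruL23, ruL24, ruL25, ruL26]) ru_vert0_c1 x (by omega) (by omega)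
  by_cases h2 : x < 450
  · exact allFrom_sound (f := chkVertex ruL0 [ruL1, ruL2, ruL3, ruL4, ruL5, ruL6, ruL7, ruL8, ruL9, ruL10, ruL11, ruL12, ruL13, ruL14, ruL15, ruL16, ruL17, ruL18, ruL19, ruL20, ruL21, ruL22, ruL23, ruL24, ruL25, ruL26]) ru_vert0_c2 x (by omega) (by omega)
  by_cases h3 : x < 600
  · exact allFrom_sound (f := chkVertex ruL0 [ruL1, ruL2, ruL3, ruL4, ruL5, ruL6, ruL7, ruL8, ruL9, ruL10, ruL11, ruL12, ruL13, ruL14, ruL15, ruL16, ruL17, ruL18, ruL19, ruL20, ruL21, ruL22, ruL23, ruL24, ruL25, ruL26]) ru_vert0_c3 x (by omega) (by omega)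
  by_cases h4 : x < 750
  · exact allFrom_sound (f := chkVertex ruL0 [ruL1, ruL2, ruL3, ruL4, ruL5, ruL6, ruL7, ruL8, ruL9, ruL10, ruL11, ruL12, ruL13, ruL14, ruL15, ruL16, ruL17, ruL18, ruL19, ruL20, ruL21, ruL22, ruL23, ruL24, ruL25, ruL26]) ru_vert0_c4 x (by omega) (by omega)
  by_cases h5 : x < 900
  · exact allFrom_sound (f := chkVertex ruL0 [ruL1, ruL2, ruL3, ruL4, ruL5, ruL6, ruL7, ruL8, ruL9, ruL10, ruL11, ruL12, ruL13, ruL14, ruL15, ruL16, ruL17, ruL18, ruL19, ruL20, ruL21, ruL22, ruL23, ruL24, ruL25, ruL26]) ru_vert0_c5 x (by omega) (by omega)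
  by_cases h6 : x < 1050
  · exact allFrom_sound (f := chkVertex ruL0 [ruL1, ruL2, ruL3, ruL4, ruL5, ruL6, ruL7, ruL8, ruL9, ruL10, ruL11, ruL12, ruL13, ruL14, ruL15, ruL16, ruL17, ruL18, ruL19, ruL20, ruL21, ruL22, ruL23, ruL24, ruL25, ruL26]) ru_vert0_c6 x (by omega) (by omega)
  by_cases h7 : x < 1200
  · exact allFrom_sound (f := chkVertex ruL0 [ruL1, ruL2, ruL3, ruL4, ruL5, ruL6, ruL7, ruL8, ruL9, ruL10, ruL11, ruL12, ruL13, ruL14, ruL15, ruL16, ruL17, ruL18, ruL19, ruL20, ruL21, ruL22, ruL23, ruL24, ruL25, ruL26]) ru_vert0_c7 x (by omega) (by omega)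
  by_cases h8 : x < 1350
  · exact allFrom_sound (f := chkVertex ruL0 [ruL1, ruL2, ruL3, ruL4, ruL5, ruL6, ruL7, ruL8, ruL9, ruL10, ruL11, ruL12, ruL13, ruL14, ruL15, ruL16, ruL17, ruL18, ruL19, ruL20, ruL21, ruL22, ruL23, ruL24, ruL25, ruL26]) ru_vert0_c8 x (by omega) (by omega)
  by_cases h9 : x < 1500
  · exact allFrom_sound (f := chkVertex ruL0 [ruL1, ruL2, ruL3, ruL4, ruL5, ruL6, ruL7, ruL8, ruL9, ruL10, ruL11, ruL12, ruL13, ruL14, ruL15, ruL16, ruL17, ruL18, ruL19, ruL20, ruL21, ruL22, ruL23, ruL24, ruL25, ruL26]) ru_vert0_c9 x (by omega) (by omega)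
  by_cases h10 : x < 1650
  · exact allFrom_sound (f := chkVertex ruL0 [ruL1, ruL2, ruL3, ruL4, ruL5, ruL6, ruL7, ruL8, ruL9, ruL10, ruL11, ruL12, ruL13, ruL14, ruL15, ruL16, ruL17, ruL18, ruL19, ruL20, ruL21, ruL22, ruL23, ruL24, ruL25, ruL26]) ru_vert0_c10 x (by omega) (by omega)
  by_cases h11 : x < 1800
  · exact allFrom_sound (f := chkVertex ruL0 [ruL1, ruL2, ruL3, ruL4, ruL5, ruL6, ruL7, ruL8, ruL9, ruL10, ruL11, ruL12, ruL13, ruL14, ruL15, ruL16, ruL17, ruL18, ruL19, ruL20, ruL21, ruL22, ruL23, ruL24, ruL25, ruL26]) ru_vert0_c11 x (by omega) (by omega)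
  by_cases h12 : x < 1950
  · exact allFrom_sound (f := chkVertex ruL0 [ruL1, ruL2, ruL3, ruL4, ruL5, ruL6, ruL7, ruL8, ruL9, ruL10, ruL11, ruL12, ruL13, ruL14, ruL15, ruL16, ruL17, ruL18, ruL19, ruL20, ruL21, ruL22, ruL23, ruL24, ruL25, ruL26]) ru_vert0_c12 x (by omega) (by omega)
  by_cases h13 : x < 2100
  · exact allFrom_sound (f := chkVertex ruL0 [ruL1, ruL2, ruL3, ruL4, ruL5, ruL6, ruL7, ruL8, ruL9, ruL10, ruL11, ruL12, ruL13, ruL14, ruL15, ruL16, ruL17, ruL18, ruL19, ruL20, ruL21, ruL22, ruL23, ruL24, ruL25, ruL26]) ru_vert0_c13 x (by omega) (by omega)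
  by_cases h14 : x < 2250
  · exact allFrom_sound (f := chkVertex ruL0 [ruL1, ruL2, ruL3, ruL4, ruL5, ruL6, ruL7, ruL8, ruL9, ruL10, ruL11, ruL12, ruL13, ruL14, ruL15, ruL16, ruL17, ruL18, ruL19, ruL20, ruL21, ruL22, ruL23, ruL24, ruL25, ruL26]) ru_vert0_c14 x (by omega) (by omega)
  by_cases h15 : x < 2400
  · exact allFrom_sound (f := chkVertex ruL0 [ruL1, ruL2, ruL3, ruL4, ruL5, ruL6, ruL7, ruL8, ruL9, ruL10, ruL11, ruL12, ruL13, ruL14, ruL15, ruL16, ruL17, ruL18, ruL19, ruL20, ruL21, ruL22, ruL23, ruL24, ruL25, ruL26]) ru_vert0_c15 x (by omega) (by omega)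
  by_cases h16 : x < 2550
  · exact allFrom_sound (f := chkVertex ruL0 [ruL1, ruL2, ruL3, ruL4, ruL5, ruL6, ruL7, ruL8, ruL9, ruL10, ruL11, ruL12, ruL13, ruL14, ruL15, ruL16, ruL17, ruL18, ruL19, ruL20, ruL21, ruL22, ruL23, ruL24, ruL25, ruL26]) ru_vert0_c16 x (by omega) (by omega)
  by_cases h17 : x < 2700
  · exact allFrom_sound (f := chkVertex ruL0 [ruL1, ruL2, ruL3, ruL4, ruL5, ruL6, ruL7, ruL8, ruL9, ruL10, ruL11, ruL12, ruL13, ruL14, ruL15, ruL16, ruL17, ruL18, ruL19, ruL20, ruL21, ruL22, ruL23, ruL24, ruL25, ruL26]) ru_vert0_c17 x (by omega) (by omega)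
  by_cases h18 : x < 2850
  · exact allFrom_sound (f := chkVertex ruL0 [ruL1, ruL2, ruL3, ruL4, ruL5, ruL6, ruL7, ruL8, ruL9, ruL10, ruL11, ruL12, ruL13, ruL14, ruL15, ruL16, ruL17, ruL18, ruL19, ruL20, ruL21, ruL22, ruL23, ruL24, ruL25, ruL26]) ru_vert0_c18 x (by omega) (by omega)
  by_cases h19 : x < 3000
  · exact allFrom_sound (f := chkVertex ruL0 [ruL1, ruL2, ruL3, ruL4, ruL5, ruL6, ruL7, ruL8, ruL9, ruL10, ruL11, ruL12, ruL13, ruL14, ruL15, ruL16, ruL17, ruL18, ruL19, ruL20, ruL21, ruL22, ruL23, ruL24, ruL25, ruL26]) ru_vert0_c19 x (by omega) (by omega)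
  by_cases h20 : x < 3150
  · exact allFrom_sound (f := chkVertex ruL0 [ruL1, ruL2, ruL3, ruL4, ruL5, ruL6, ruL7, ruL8, ruL9, ruL10, ruL11, ruL12, ruL13, ruL14, ruL15, ruL16, ruL17, ruL18, ruL19, ruL20, ruL21, ruL22, ruL23, ruL24, ruL25, ruL26]) ru_vert0_c20 x (by omega) (by omega)
  by_cases h21 : x < 3300
  · exact allFrom_sound (f := chkVertex ruL0 [ruL1, ruL2, ruL3, ruL4, ruL5, ruL6, ruL7, ruL8, ruL9, ruL10, ruL11, ruL12, ruL13, ruL14, ruL15, ruL16, ruL17, ruL18, ruL19, ruL20, ruL21, ruL22, ruL23, ruL24, ruL25, ruL26]) ru_vert0_c21 x (by omega) (by omega)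
  by_cases h22 : x < 3450
  · exact allFrom_sound (f := chkVertex ruL0 [ruL1, ruL2, ruL3, ruL4, ruL5, ruL6, ruL7, ruL8, ruL9, ruL10, ruL11, ruL12, ruL13, ruL14, ruL15, ruL16, ruL17, ruL18, ruL19, ruL20, ruL21, ruL22, ruL23, ruL24, ruL25, ruL26]) ru_vert0_c22 x (by omega) (by omega)
  by_cases h23 : x < 3600
  · exact allFrom_sound (f := chkVertex ruL0 [ruL1, ruL2, ruL3, ruL4, ruL5, ruL6, ruL7, ruL8, ruL9, ruL10, ruL11, ruL12, ruL13, ruL14, ruL15, ruL16, ruL17, ruL18, ruL19, ruL20, ruL21, ruL22, ruL23, ruL24, ruL25, ruL26]) ru_vert0_c23 x (by omega) (by omega)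
  by_cases h24 : x < 3750
  · exact allFrom_sound (f := chkVertex ruL0 [ruL1, ruL2, ruL3, ruL4, ruL5, ruL6, ruL7, ruL8, ruL9, ruL10, ruL11, ruL12, ruL13, ruL14, ruL15, ruL16, ruL17, ruL18, ruL19, ruL20, ruL21, ruL22, ruL23, ruL24, ruL25, ruL26]) ru_vert0_c24 x (by omega) (by omega)
  by_cases h25 : x < 3900
  · exact allFrom_sound (f := chkVertex ruL0 [ruL1, ruL2, ruL3, ruL4, ruL5, ruL6, ruL7, ruL8, ruL9, ruL10, ruL11, ruL12, ruL13, ruL14, ruL15, ruL16, ruL17, ruL18, ruL19, ruL20, ruL21, ruL22, ruL23, ruL24, ruL25, ruL26]) ru_vert0_c25 x (by omega) (by omega)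
  by_cases h26 : x < 4050
  · exact allFrom_sound (f := chkVertex ruL0 [ruL1, ruL2, ruL3, ruL4, ruL5, ruL6, ruL7, ruL8, ruL9, ruL10, ruL11, ruL12, ruL13, ruL14, ruL15, ruL16, ruL17, ruL18, ruL19, ruL20, ruL21, ruL22, ruL23, ruL24, ruL25, ruL26]) ru_vert0_c26 x (by omega) (by omega)
  exact allFrom_sound (f := chkVertex ruL0 [ruL1, ruL2, ruL3, ruL4, ruL5, ruL6, ruL7, ruL8, ruL9, ruL10, ruL11, ruL12, ruL13, ruL14, ruL15, ruL16, ruL17, ruL18, ruL19, ruL20, ruL21, ruL22, ruL23, ruL24, ruL25, ruL26]) ru_vert0_c27 x (by omega) (by omega)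

theorem ru_vert0' : ∀ v, v < 4060 → chkVertex ruL0 [ruL1, ruL2, ruL3, ruL4, ruL5, ruL6, ruL7, ruL8, ruL9, ruL10, ruL11, ruL12, ruL13, ruL14, ruL15, ruL16, ruL17, ruL18, ruL19, ruL20, ruL21, ruL22, ruL23, ruL24, ruL25, ruL26] v = true := fun x hx => ru_vert0 x (Nat.zero_le _) hx

theorem ru_nest1 : ∀ x, 0 ≤ x → x < 4060 → (chkNest ruL0.S ruL1) x = true := by
  intro x hlo hx
  exact allFrom_sound (f := chkNest ruL0.S ruL1) ru_nest1_c0 x (by omega) (by omega)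

theorem ru_nest1' : ∀ x, x < 4060 → chkNest ruL0.S ruL1 x = true := fun x hx => ru_nest1 x (Nat.zero_le _) hx

theorem ru_vert1 : ∀ x, 0 ≤ x → x < 4060 → (chkVertex ruL1 [ruL2, ruL3, ruL4, ruL5, ruL6, ruL7, ruL8, ruL9, ruL10, ruL11, ruL12, ruL13, ruL14, ruL15, ruL16, ruL17, ruL18, ruL19, ruL20, ruL21, ruL22, ruL23, ruL24, ruL25, ruL26]) x = true := by
  intro x hlo hx
  by_cases h0 : x < 300
  · exact allFrom_sound (f := chkVertex ruL1 [ruL2, ruL3, ruL4, ruL5, ruL6, ruL7, ruL8, ruL9, ruL10, ruL11, ruL12, ruL13, ruL14, ruL15, ruL16, ruL17, ruL18, ruL19, ruL20, ruL21, ruL22, ruL23, ruL24, ruL25, ruL26]) ru_vert1_c0 x (by omega) (by omega)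
  by_cases h1 : x < 600
  · exact allFrom_sound (f := chkVertex ruL1 [ruL2, ruL3, ruL4, ruL5, ruL6, ruL7, ruL8, ruL9, ruL10, ruL11, ruL12, ruL13, ruL14, ruL15, ruL16, ruL17, ruL18, ruL19, ruL20, ruL21, ruL22, ruL23, ruL24, ruL25, ruL26]) ru_vert1_c1 x (by omega) (by omega)
  by_cases h2 : x < 900
  · exact allFrom_sound (f := chkVertex ruL1 [ruL2, ruL3, ruL4, ruL5, ruL6, ruL7, ruL8, ruL9, ruL10, ruL11, ruL12, ruL13, ruL14, ruL15, ruL16, ruL17, ruL18, ruL19, ruL20, ruL21, ruL22, ruL23, ruL24, ruL25, ruL26]) ru_vert1_c2 x (by omega) (by omega)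
  by_cases h3 : x < 1200
  · exact allFrom_sound (f := chkVertex ruL1 [ruL2, ruL3, ruL4, ruL5, ruL6, ruL7, ruL8, ruL9, ruL10, ruL11, ruL12, ruL13, ruL14, ruL15, ruL16, ruL17, ruL18, ruL19, ruL20, ruL21, ruL22, ruL23, ruL24, ruL25, ruL26]) ru_vert1_c3 x (by omega) (by omega)
  by_cases h4 : x < 1500
  · exact allFrom_sound (f := chkVertex ruL1 [ruL2, ruL3, ruL4, ruL5, ruL6, ruL7, ruL8, ruL9, ruL10, ruL11, ruL12, ruL13, ruL14, ruL15, ruL16, ruL17, ruL18, ruL19, ruL20, ruL21, ruL22, ruL23, ruL24, ruL25, ruL26]) ru_vert1_c4 x (by omega) (by omega)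
  by_cases h5 : x < 1800
  · exact allFrom_sound (f := chkVertex ruL1 [ruL2, ruL3, ruL4, ruL5, ruL6, ruL7, ruL8, ruL9, ruL10, ruL11, ruL12, ruL13, ruL14, ruL15, ruL16, ruL17, ruL18, ruL19, ruL20, ruL21, ruL22, ruL23, ruL24, ruL25, ruL26]) ru_vert1_c5 x (by omega) (by omega)
  by_cases h6 : x < 2100
  · exact allFrom_sound (f := chkVertex ruL1 [ruL2, ruL3, ruL4, ruL5, ruL6, ruL7, ruL8, ruL9, ruL10, ruL11, ruL12, ruL13, ruL14, ruL15, ruL16, ruL17, ruL18, ruL19, ruL20, ruL21, ruL22, ruL23, ruL24, ruL25, ruL26]) ru_vert1_c6 x (by omega) (by omega)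
  by_cases h7 : x < 2400
  · exact allFrom_sound (f := chkVertex ruL1 [ruL2, ruL3, ruL4, ruL5, ruL6, ruL7, ruL8, ruL9, ruL10, ruL11, ruL12, ruL13, ruL14, ruL15, ruL16, ruL17, ruL18, ruL19, ruL20, ruL21, ruL22, ruL23, ruL24, ruL25, ruL26]) ru_vert1_c7 x (by omega) (by omega)
  by_cases h8 : x < 2700
  · exact allFrom_sound (f := chkVertex ruL1 [ruL2, ruL3, ruL4, ruL5, ruL6, ruL7, ruL8, ruL9, ruL10, ruL11, ruL12, ruL13, ruL14, ruL15, ruL16, ruL17, ruL18, ruL19, ruL20, ruL21, ruL22, ruL23, ruL24, ruL25, ruL26]) ru_vert1_c8 x (by omega) (by omega)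
  by_cases h9 : x < 3000
  · exact allFrom_sound (f := chkVertex ruL1 [ruL2, ruL3, ruL4, ruL5, ruL6, ruL7, ruL8, ruL9, ruL10, ruL11, ruL12, ruL13, ruL14, ruL15, ruL16, ruL17, ruL18, ruL19, ruL20, ruL21, ruL22, ruL23, ruL24, ruL25, ruL26]) ru_vert1_c9 x (by omega) (by omega)
  by_cases h10 : x < 3300
  · exact allFrom_sound (f := chkVertex ruL1 [ruL2, ruL3, ruL4, ruL5, ruL6, ruL7, ruL8, ruL9, ruL10, ruL11, ruL12, ruL13, ruL14, ruL15, ruL16, ruL17, ruL18, ruL19, ruL20, ruL21, ruL22, ruL23, ruL24, ruL25, ruL26]) ru_vert1_c10 x (by omega) (by omega)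
  by_cases h11 : x < 3600
  · exact allFrom_sound (f := chkVertex ruL1 [ruL2, ruL3, ruL4, ruL5, ruL6, ruL7, ruL8, ruL9, ruL10, ruL11, ruL12, ruL13, ruL14, ruL15, ruL16, ruL17, ruL18, ruL19, ruL20, ruL21, ruL22, ruL23, ruL24, ruL25, ruL26]) ru_vert1_c11 x (by omega) (by omega)
  by_cases h12 : x < 3900
  · exact allFrom_sound (f := chkVertex ruL1 [ruL2, ruL3, ruL4, ruL5, ruL6, ruL7, ruL8, ruL9, ruL10, ruL11, ruL12, ruL13, ruL14, ruL15, ruL16, ruL17, ruL18, ruL19, ruL20, ruL21, ruL22, ruL23, ruL24, ruL25, ruL26]) ru_vert1_c12 x (by omega) (by omega)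
  exact allFrom_sound (f := chkVertex ruL1 [ruL2, ruL3, ruL4, ruL5, ruL6, ruL7, ruL8, ruL9, ruL10, ruL11, ruL12, ruL13, ruL14, ruL15, ruL16, ruL17, ruL18, ruL19, ruL20, ruL21, ruL22, ruL23, ruL24, ruL25, ruL26]) ru_vert1_c13 x (by omega) (by omega)

theorem ru_vert1' : ∀ v, v < 4060 → chkVertex ruL1 [ruL2, ruL3, ruL4, ruL5, ruL6, ruL7, ruL8, ruL9, ruL10, ruL11, ruL12, ruL13, ruL14, ruL15, ruL16, ruL17, ruL18, ruL19, ruL20, ruL21, ruL22, ruL23, ruL24, ruL25, ruL26] v = true := fun x hx => ru_vert1 x (Nat.zero_le _) hx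

theorem ru_nest2 : ∀ x, 0 ≤ x → x < 4060 → (chkNest ruL1.S ruL2) x = true := by
  intro x hlo hx
  exact allFrom_sound (f := chkNest ruL1.S ruL2) ru_nest2_c0 x (by omega) (by omega)

theorem ru_nest2' : ∀ x, x < 4060 → chkNest ruL1.S ruL2 x = true := fun x hx => ru_nest2 x (Nat.zero_le _) hx

theorem ru_vert2 : ∀ x, 0 ≤ x → x < 4060 → (chkVertex ruL2 [ruL3, ruL4, ruL5, ruL6, ruL7, ruL8, ruL9, ruL10, ruL11, ruL12, ruL13, ruL14, ruL15, ruL16, ruL17, ruL18, ruL19, ruL20, ruL21, ruL22, ruL23, ruL24, ruL25, ruL26]) x = true := by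
  intro x hlo hx
  by_cases h0 : x < 1015
  · exact allFrom_sound (f := chkVertex ruL2 [ruL3, ruL4, ruL5, ruL6, ruL7, ruL8, ruL9, ruL10, ruL11, ruL12, ruL13, ruL14, ruL15, ruL16, ruL17, ruL18, ruL19, ruL20, ruL21, ruL22, ruL23, ruL24, ruL25, ruL26]) ru_vert2_c0 x (by omega) (by omega)
  by_cases h1 : x < 2030
  · exact allFrom_sound (f := chkVertex ruL2 [ruL3, ruL4, ruL5, ruL6, ruL7, ruL8, ruL9, ruL10, ruL11, ruL12, ruL13, ruL14, ruL15, ruL16, ruL17, ruL18, ruL19, ruL20, ruL21, ruL22, ruL23, ruL24, ruL25, ruL26]) ru_vert2_c1 x (by omega) (by omega)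
  by_cases h2 : x < 3045
  · exact allFrom_sound (f := chkVertex ruL2 [ruL3, ruL4, ruL5, ruL6, ruL7, ruL8, ruL9, ruL10, ruL11, ruL12, ruL13, ruL14, ruL15, ruL16, ruL17, ruL18, ruL19, ruL20, ruL21, ruL22, ruL23, ruL24, ruL25, ruL26]) ru_vert2_c2 x (by omega) (by omega)
  exact allFrom_sound (f := chkVertex ruL2 [ruL3, ruL4, ruL5, ruL6, ruL7, ruL8, ruL9, ruL10, ruL11, ruL12, ruL13, ruL14, ruL15, ruL16, ruL17, ruL18, ruL19, ruL20, ruL21, ruL22, ruL23, ruL24, ruL25, ruL26]) ru_vert2_c3 x (by omega) (by omega)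

theorem ru_vert2' : ∀ v, v < 4060 → chkVertex ruL2 [ruL3, ruL4, ruL5, ruL6, ruL7, ruL8, ruL9, ruL10, ruL11, ruL12, ruL13, ruL14, ruL15, ruL16, ruL17, ruL18, ruL19, ruL20, ruL21, ruL22, ruL23, ruL24, ruL25, ruL26] v = true := fun x hx => ru_vert2 x (Nat.zero_le _) hx

theorem ru_nest3 : ∀ x, 0 ≤ x → x < 4060 → (chkNest ruL2.S ruL3) x = true := by
  intro x hlo hx
  exact allFrom_sound (f := chkNest ruL2.S ruL3) ru_nest3_c0 x (by omega) (by omega)

theorem ru_nest3' : ∀ x, x < 4060 → chkNest ruL2.S ruL3 x = true := fun x hx => ru_nest3 x (Nat.zero_le _) hx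

theorem ru_vert3 : ∀ x, 0 ≤ x → x < 4060 → (chkVertex ruL3 [ruL4, ruL5, ruL6, ruL7, ruL8, ruL9, ruL10, ruL11, ruL12, ruL13, ruL14, ruL15, ruL16, ruL17, ruL18, ruL19, ruL20, ruL21, ruL22, ruL23, ruL24, ruL25, ruL26]) x = true := by
  intro x hlo hx
  exact allFrom_sound (f := chkVertex ruL3 [ruL4, ruL5, ruL6, ruL7, ruL8, ruL9, ruL10, ruL11, ruL12, ruL13, ruL14, ruL15, ruL16, ruL17, ruL18, ruL19, ruL20, ruL21, ruL22, ruL23, ruL24, ruL25, ruL26]) ru_vert3_c0 x (by omega) (by omega)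

theorem ru_vert3' : ∀ v, v < 4060 → chkVertex ruL3 [ruL4, ruL5, ruL6, ruL7, ruL8, ruL9, ruL10, ruL11, ruL12, ruL13, ruL14, ruL15, ruL16, ruL17, ruL18, ruL19, ruL20, ruL21, ruL22, ruL23, ruL24, ruL25, ruL26] v = true := fun x hx => ru_vert3 x (Nat.zero_le _) hx

theorem ru_nest4 : ∀ x, 0 ≤ x → x < 4060 → (chkNest ruL3.S ruL4) x = true := by
  intro x hlo hx
  exact allFrom_sound (f := chkNest ruL3.S ruL4) ru_nest4_c0 x (by omega) (by omega)

theorem ru_nest4' : ∀ x, x < 4060 → chkNest ruL3.S ruL4 x = true := fun x hx => ru_nest4 x (Nat.zero_le _) hx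

theorem ru_vert4 : ∀ x, 0 ≤ x → x < 4060 → (chkVertex ruL4 [ruL5, ruL6, ruL7, ruL8, ruL9, ruL10, ruL11, ruL12, ruL13, ruL14, ruL15, ruL16, ruL17, ruL18, ruL19, ruL20, ruL21, ruL22, ruL23, ruL24, ruL25, ruL26]) x = true := by
  intro x hlo hx
  exact allFrom_sound (f := chkVertex ruL4 [ruL5, ruL6, ruL7, ruL8, ruL9, ruL10, ruL11, ruL12, ruL13, ruL14, ruL15, ruL16, ruL17, ruL18, ruL19, ruL20, ruL21, ruL22, ruL23, ruL24, ruL25, ruL26]) ru_vert4_c0 x (by omega) (by omega)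

theorem ru_vert4' : ∀ v, v < 4060 → chkVertex ruL4 [ruL5, ruL6, ruL7, ruL8, ruL9, ruL10, ruL11, ruL12, ruL13, ruL14, ruL15, ruL16, ruL17, ruL18, ruL19, ruL20, ruL21, ruL22, ruL23, ruL24, ruL25, ruL26] v = true := fun x hx => ru_vert4 x (Nat.zero_le _) hx

theorem ru_nest5 : ∀ x, 0 ≤ x → x < 4060 → (chkNest ruL4.S ruL5) x = true := by
  intro x hlo hx
  exact allFrom_sound (f := chkNest ruL4.S ruL5) ru_nest5_c0 x (by omega) (by omega)

theorem ru_nest5' : ∀ x, x < 4060 → chkNest ruL4.S ruL5 x = true := fun x hx => ru_nest5 x (Nat.zero_le _) hx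

theorem ru_vert5 : ∀ x, 0 ≤ x → x < 4060 → (chkVertex ruL5 [ruL6, ruL7, ruL8, ruL9, ruL10, ruL11, ruL12, ruL13, ruL14, ruL15, ruL16, ruL17, ruL18, ruL19, ruL20, ruL21, ruL22, ruL23, ruL24, ruL25, ruL26]) x = true := by
  intro x hlo hx
  exact allFrom_sound (f := chkVertex ruL5 [ruL6, ruL7, ruL8, ruL9, ruL10, ruL11, ruL12, ruL13, ruL14, ruL15, ruL16, ruL17, ruL18, ruL19, ruL20, ruL21, ruL22, ruL23, ruL24, ruL25, ruL26]) ru_vert5_c0 x (by omega) (by omega)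

theorem ru_vert5' : ∀ v, v < 4060 → chkVertex ruL5 [ruL6, ruL7, ruL8, ruL9, ruL10, ruL11, ruL12, ruL13, ruL14, ruL15, ruL16, ruL17, ruL18, ruL19, ruL20, ruL21, ruL22, ruL23, ruL24, ruL25, ruL26] v = true := fun x hx => ru_vert5 x (Nat.zero_le _) hx

theorem ru_nest6 : ∀ x, 0 ≤ x → x < 4060 → (chkNest ruL5.S ruL6) x = true := by
  intro x hlo hx
  exact allFrom_sound (f := chkNest ruL5.S ruL6) ru_nest6_c0 x (by omega) (by omega)

theorem ru_nest6' : ∀ x, x < 4060 → chkNest ruL5.S ruL6 x = true := fun x hx => ru_nest6 x (Nat.zero_le _) hx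

theorem ru_vert6 : ∀ x, 0 ≤ x → x < 4060 → (chkVertex ruL6 [ruL7, ruL8, ruL9, ruL10, ruL11, ruL12, ruL13, ruL14, ruL15, ruL16, ruL17, ruL18, ruL19, ruL20, ruL21, ruL22, ruL23, ruL24, ruL25, ruL26]) x = true := by
  intro x hlo hx
  exact allFrom_sound (f := chkVertex ruL6 [ruL7, ruL8, ruL9, ruL10, ruL11, ruL12, ruL13, ruL14, ruL15, ruL16, ruL17, ruL18, ruL19, ruL20, ruL21, ruL22, ruL23, ruL24, ruL25, ruL26]) ru_vert6_c0 x (by omega) (by omega)

theorem ru_vert6' : ∀ v, v < 4060 → chkVertex ruL6 [ruL7, ruL8, ruL9, ruL10, ruL11, ruL12, ruL13, ruL14, ruL15, ruL16, ruL17, ruL18, ruL19, ruL20, ruL21, ruL22, ruL23, ruL24, ruL25, ruL26] v = true := fun x hx => ru_vert6 x (Nat.zero_le _) hx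

theorem ru_nest7 : ∀ x, 0 ≤ x → x < 4060 → (chkNest ruL6.S ruL7) x = true := by
  intro x hlo hx
  exact allFrom_sound (f := chkNest ruL6.S ruL7) ru_nest7_c0 x (by omega) (by omega)

theorem ru_nest7' : ∀ x, x < 4060 → chkNest ruL6.S ruL7 x = true := fun x hx => ru_nest7 x (Nat.zero_le _) hx

theorem ru_vert7 : ∀ x, 0 ≤ x → x < 4060 → (chkVertex ruL7 [ruL8, ruL9, ruL10, ruL11, ruL12, ruL13, ruL14, ruL15, ruL16, ruL17, ruL18, ruL19, ruL20, ruL21, ruL22, ruL23, ruL24, ruL25, ruL26]) x = true := by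
  intro x hlo hx
  exact allFrom_sound (f := chkVertex ruL7 [ruL8, ruL9, ruL10, ruL11, ruL12, ruL13, ruL14, ruL15, ruL16, ruL17, ruL18, ruL19, ruL20, ruL21, ruL22, ruL23, ruL24, ruL25, ruL26]) ru_vert7_c0 x (by omega) (by omega)

theorem ru_vert7' : ∀ v, v < 4060 → chkVertex ruL7 [ruL8, ruL9, ruL10, ruL11, ruL12, ruL13, ruL14, ruL15, ruL16, ruL17, ruL18, ruL19, ruL20, ruL21, ruL22, ruL23, ruL24, ruL25, ruL26] v = true := fun x hx => ru_vert7 x (Nat.zero_le _) hx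

theorem ru_nest8 : ∀ x, 0 ≤ x → x < 4060 → (chkNest ruL7.S ruL8) x = true := by
  intro x hlo hx
  exact allFrom_sound (f := chkNest ruL7.S ruL8) ru_nest8_c0 x (by omega) (by omega)

theorem ru_nest8' : ∀ x, x < 4060 → chkNest ruL7.S ruL8 x = true := fun x hx => ru_nest8 x (Nat.zero_le _) hx

theorem ru_vert8 : ∀ x, 0 ≤ x → x < 4060 → (chkVertex ruL8 [ruL9, ruL10, ruL11, ruL12, ruL13, ruL14, ruL15, ruL16, ruL17, ruL18, ruL19, ruL20, ruL21, ruL22, ruL23, ruL24, ruL25, ruL26]) x = true := by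
  intro x hlo hx
  exact allFrom_sound (f := chkVertex ruL8 [ruL9, ruL10, ruL11, ruL12, ruL13, ruL14, ruL15, ruL16, ruL17, ruL18, ruL19, ruL20, ruL21, ruL22, ruL23, ruL24, ruL25, ruL26]) ru_vert8_c0 x (by omega) (by omega)

theorem ru_vert8' : ∀ v, v < 4060 → chkVertex ruL8 [ruL9, ruL10, ruL11, ruL12, ruL13, ruL14, ruL15, ruL16, ruL17, ruL18, ruL19, ruL20, ruL21, ruL22, ruL23, ruL24, ruL25, ruL26] v = true := fun x hx => ru_vert8 x (Nat.zero_le _) hx

theorem ru_nest9 : ∀ x, 0 ≤ x → x < 4060 → (chkNest ruL8.S ruL9) x = true := by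
  intro x hlo hx
  exact allFrom_sound (f := chkNest ruL8.S ruL9) ru_nest9_c0 x (by omega) (by omega)

theorem ru_nest9' : ∀ x, x < 4060 → chkNest ruL8.S ruL9 x = true := fun x hx => ru_nest9 x (Nat.zero_le _) hx

theorem ru_vert9 : ∀ x, 0 ≤ x → x < 4060 → (chkVertex ruL9 [ruL10, ruL11, ruL12, ruL13, ruL14, ruL15, ruL16, ruL17, ruL18, ruL19, ruL20, ruL21, ruL22, ruL23, ruL24, ruL25, ruL26]) x = true := by
  intro x hlo hx
  exact allFrom_sound (f := chkVertex ruL9 [ruL10, ruL11, ruL12, ruL13, ruL14, ruL15, ruL16, ruL17, ruL18, ruL19, ruL20, ruL21, ruL22, ruL23, ruL24, ruL25, ruL26]) ru_vert9_c0 x (by omega) (by omega)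

theorem ru_vert9' : ∀ v, v < 4060 → chkVertex ruL9 [ruL10, ruL11, ruL12, ruL13, ruL14, ruL15, ruL16, ruL17, ruL18, ruL19, ruL20, ruL21, ruL22, ruL23, ruL24, ruL25, ruL26] v = true := fun x hx => ru_vert9 x (Nat.zero_le _) hx

theorem ru_nest10 : ∀ x, 0 ≤ x → x < 4060 → (chkNest ruL9.S ruL10) x = true := by
  intro x hlo hx
  exact allFrom_sound (f := chkNest ruL9.S ruL10) ru_nest10_c0 x (by omega) (by omega)

theorem ru_nest10' : ∀ x, x < 4060 → chkNest ruL9.S ruL10 x = true := fun x hx => ru_nest10 x (Nat.zero_le _) hx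

theorem ru_vert10 : ∀ x, 0 ≤ x → x < 4060 → (chkVertex ruL10 [ruL11, ruL12, ruL13, ruL14, ruL15, ruL16, ruL17, ruL18, ruL19, ruL20, ruL21, ruL22, ruL23, ruL24, ruL25, ruL26]) x = true := by
  intro x hlo hx
  exact allFrom_sound (f := chkVertex ruL10 [ruL11, ruL12, ruL13, ruL14, ruL15, ruL16, ruL17, ruL18, ruL19, ruL20, ruL21, ruL22, ruL23, ruL24, ruL25, ruL26]) ru_vert10_c0 x (by omega) (by omega)

theorem ru_vert10' : ∀ v, v < 4060 → chkVertex ruL10 [ruL11, ruL12, ruL13, ruL14, ruL15, ruL16, ruL17, ruL18, ruL19, ruL20, ruL21, ruL22, ruL23, ruL24, ruL25, ruL26] v = true := fun x hx => ru_vert10 x (Nat.zero_le _) hx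

theorem ru_nest11 : ∀ x, 0 ≤ x → x < 4060 → (chkNest ruL10.S ruL11) x = true := by
  intro x hlo hx
  exact allFrom_sound (f := chkNest ruL10.S ruL11) ru_nest11_c0 x (by omega) (by omega)

theorem ru_nest11' : ∀ x, x < 4060 → chkNest ruL10.S ruL11 x = true := fun x hx => ru_nest11 x (Nat.zero_le _) hx

theorem ru_vert11 : ∀ x, 0 ≤ x → x < 4060 → (chkVertex ruL11 [ruL12, ruL13, ruL14, ruL15, ruL16, ruL17, ruL18, ruL19, ruL20, ruL21, ruL22, ruL23, ruL24, ruL25, ruL26]) x = true := by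
  intro x hlo hx
  exact allFrom_sound (f := chkVertex ruL11 [ruL12, ruL13, ruL14, ruL15, ruL16, ruL17, ruL18, ruL19, ruL20, ruL21, ruL22, ruL23, ruL24, ruL25, ruL26]) ru_vert11_c0 x (by omega) (by omega)

theorem ru_vert11' : ∀ v, v < 4060 → chkVertex ruL11 [ruL12, ruL13, ruL14, ruL15, ruL16, ruL17, ruL18, ruL19, ruL20, ruL21, ruL22, ruL23, ruL24, ruL25, ruL26] v = true := fun x hx => ru_vert11 x (Nat.zero_le _) hx

theorem ru_nest12 : ∀ x, 0 ≤ x → x < 4060 → (chkNest ruL11.S ruL12) x = true := by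
  intro x hlo hx
  exact allFrom_sound (f := chkNest ruL11.S ruL12) ru_nest12_c0 x (by omega) (by omega)

theorem ru_nest12' : ∀ x, x < 4060 → chkNest ruL11.S ruL12 x = true := fun x hx => ru_nest12 x (Nat.zero_le _) hx

theorem ru_vert12 : ∀ x, 0 ≤ x → x < 4060 → (chkVertex ruL12 [ruL13, ruL14, ruL15, ruL16, ruL17, ruL18, ruL19, ruL20, ruL21, ruL22, ruL23, ruL24, ruL25, ruL26]) x = true := by
  intro x hlo hx
  exact allFrom_sound (f := chkVertex ruL12 [ruL13, ruL14, ruL15, ruL16, ruL17, ruL18, ruL19, ruL20, ruL21, ruL22, ruL23, ruL24, ruL25, ruL26]) ru_vert12_c0 x (by omega) (by omega)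

theorem ru_vert12' : ∀ v, v < 4060 → chkVertex ruL12 [ruL13, ruL14, ruL15, ruL16, ruL17, ruL18, ruL19, ruL20, ruL21, ruL22, ruL23, ruL24, ruL25, ruL26] v = true := fun x hx => ru_vert12 x (Nat.zero_le _) hx

theorem ru_nest13 : ∀ x, 0 ≤ x → x < 4060 → (chkNest ruL12.S ruL13) x = true := by
  intro x hlo hx
  exact allFrom_sound (f := chkNest ruL12.S ruL13) ru_nest13_c0 x (by omega) (by omega)

theorem ru_nest13' : ∀ x, x < 4060 → chkNest ruL12.S ruL13 x = true := fun x hx => ru_nest13 x (Nat.zero_le _) hx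

theorem ru_vert13 : ∀ x, 0 ≤ x → x < 4060 → (chkVertex ruL13 [ruL14, ruL15, ruL16, ruL17, ruL18, ruL19, ruL20, ruL21, ruL22, ruL23, ruL24, ruL25, ruL26]) x = true := by
  intro x hlo hx
  exact allFrom_sound (f := chkVertex ruL13 [ruL14, ruL15, ruL16, ruL17, ruL18, ruL19, ruL20, ruL21, ruL22, ruL23, ruL24, ruL25, ruL26]) ru_vert13_c0 x (by omega) (by omega)

theorem ru_vert13' : ∀ v, v < 4060 → chkVertex ruL13 [ruL14, ruL15, ruL16, ruL17, ruL18, ruL19, ruL20, ruL21, ruL22, ruL23, ruL24, ruL25, ruL26] v = true := fun x hx => ru_vert13 x (Nat.zero_le _) hx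

theorem ru_nest14 : ∀ x, 0 ≤ x → x < 4060 → (chkNest ruL13.S ruL14) x = true := by
  intro x hlo hx
  exact allFrom_sound (f := chkNest ruL13.S ruL14) ru_nest14_c0 x (by omega) (by omega)

theorem ru_nest14' : ∀ x, x < 4060 → chkNest ruL13.S ruL14 x = true := fun x hx => ru_nest14 x (Nat.zero_le _) hx

theorem ru_vert14 : ∀ x, 0 ≤ x → x < 4060 → (chkVertex ruL14 [ruL15, ruL16, ruL17, ruL18, ruL19, ruL20, ruL21, ruL22, ruL23, ruL24, ruL25, ruL26]) x = true := by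
  intro x hlo hx
  exact allFrom_sound (f := chkVertex ruL14 [ruL15, ruL16, ruL17, ruL18, ruL19, ruL20, ruL21, ruL22, ruL23, ruL24, ruL25, ruL26]) ru_vert14_c0 x (by omega) (by omega)

theorem ru_vert14' : ∀ v, v < 4060 → chkVertex ruL14 [ruL15, ruL16, ruL17, ruL18, ruL19, ruL20, ruL21, ruL22, ruL23, ruL24, ruL25, ruL26] v = true := fun x hx => ru_vert14 x (Nat.zero_le _) hx

theorem ru_nest15 : ∀ x, 0 ≤ x → x < 4060 → (chkNest ruL14.S ruL15) x = true := by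
  intro x hlo hx
  exact allFrom_sound (f := chkNest ruL14.S ruL15) ru_nest15_c0 x (by omega) (by omega)

theorem ru_nest15' : ∀ x, x < 4060 → chkNest ruL14.S ruL15 x = true := fun x hx => ru_nest15 x (Nat.zero_le _) hx

theorem ru_vert15 : ∀ x, 0 ≤ x → x < 4060 → (chkVertex ruL15 [ruL16, ruL17, ruL18, ruL19, ruL20, ruL21, ruL22, ruL23, ruL24, ruL25, ruL26]) x = true := by
  intro x hlo hx
  exact allFrom_sound (f := chkVertex ruL15 [ruL16, ruL17, ruL18, ruL19, ruL20, ruL21, ruL22, ruL23, ruL24, ruL25, ruL26]) ru_vert15_c0 x (by omega) (by omega)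

theorem ru_vert15' : ∀ v, v < 4060 → chkVertex ruL15 [ruL16, ruL17, ruL18, ruL19, ruL20, ruL21, ruL22, ruL23, ruL24, ruL25, ruL26] v = true := fun x hx => ru_vert15 x (Nat.zero_le _) hx

theorem ru_nest16 : ∀ x, 0 ≤ x → x < 4060 → (chkNest ruL15.S ruL16) x = true := by
  intro x hlo hx
  exact allFrom_sound (f := chkNest ruL15.S ruL16) ru_nest16_c0 x (by omega) (by omega)

theorem ru_nest16' : ∀ x, x < 4060 → chkNest ruL15.S ruL16 x = true := fun x hx => ru_nest16 x (Nat.zero_le _) hx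

theorem ru_vert16 : ∀ x, 0 ≤ x → x < 4060 → (chkVertex ruL16 [ruL17, ruL18, ruL19, ruL20, ruL21, ruL22, ruL23, ruL24, ruL25, ruL26]) x = true := by
  intro x hlo hx
  exact allFrom_sound (f := chkVertex ruL16 [ruL17, ruL18, ruL19, ruL20, ruL21, ruL22, ruL23, ruL24, ruL25, ruL26]) ru_vert16_c0 x (by omega) (by omega)

theorem ru_vert16' : ∀ v, v < 4060 → chkVertex ruL16 [ruL17, ruL18, ruL19, ruL20, ruL21, ruL22, ruL23, ruL24, ruL25, ruL26] v = true := fun x hx => ru_vert16 x (Nat.zero_le _) hx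

theorem ru_nest17 : ∀ x, 0 ≤ x → x < 4060 → (chkNest ruL16.S ruL17) x = true := by
  intro x hlo hx
  exact allFrom_sound (f := chkNest ruL16.S ruL17) ru_nest17_c0 x (by omega) (by omega)

theorem ru_nest17' : ∀ x, x < 4060 → chkNest ruL16.S ruL17 x = true := fun x hx => ru_nest17 x (Nat.zero_le _) hx

theorem ru_vert17 : ∀ x, 0 ≤ x → x < 4060 → (chkVertex ruL17 [ruL18, ruL19, ruL20, ruL21, ruL22, ruL23, ruL24, ruL25, ruL26]) x = true := by
  intro x hlo hx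
  exact allFrom_sound (f := chkVertex ruL17 [ruL18, ruL19, ruL20, ruL21, ruL22, ruL23, ruL24, ruL25, ruL26]) ru_vert17_c0 x (by omega) (by omega)

theorem ru_vert17' : ∀ v, v < 4060 → chkVertex ruL17 [ruL18, ruL19, ruL20, ruL21, ruL22, ruL23, ruL24, ruL25, ruL26] v = true := fun x hx => ru_vert17 x (Nat.zero_le _) hx

theorem ru_nest18 : ∀ x, 0 ≤ x → x < 4060 → (chkNest ruL17.S ruL18) x = true := by
  intro x hlo hx
  exact allFrom_sound (f := chkNest ruL17.S ruL18) ru_nest18_c0 x (by omega) (by omega)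

theorem ru_nest18' : ∀ x, x < 4060 → chkNest ruL17.S ruL18 x = true := fun x hx => ru_nest18 x (Nat.zero_le _) hx

theorem ru_vert18 : ∀ x, 0 ≤ x → x < 4060 → (chkVertex ruL18 [ruL19, ruL20, ruL21, ruL22, ruL23, ruL24, ruL25, ruL26]) x = true := by
  intro x hlo hx
  exact allFrom_sound (f := chkVertex ruL18 [ruL19, ruL20, ruL21, ruL22, ruL23, ruL24, ruL25, ruL26]) ru_vert18_c0 x (by omega) (by omega)

theorem ru_vert18' : ∀ v, v < 4060 → chkVertex ruL18 [ruL19, ruL20, ruL21, ruL22, ruL23, ruL24, ruL25, ruL26] v = true := fun x hx => ru_vert18 x (Nat.zero_le _) hx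

theorem ru_nest19 : ∀ x, 0 ≤ x → x < 4060 → (chkNest ruL18.S ruL19) x = true := by
  intro x hlo hx
  exact allFrom_sound (f := chkNest ruL18.S ruL19) ru_nest19_c0 x (by omega) (by omega)

theorem ru_nest19' : ∀ x, x < 4060 → chkNest ruL18.S ruL19 x = true := fun x hx => ru_nest19 x (Nat.zero_le _) hx

theorem ru_vert19 : ∀ x, 0 ≤ x → x < 4060 → (chkVertex ruL19 [ruL20, ruL21, ruL22, ruL23, ruL24, ruL25, ruL26]) x = true := by
  intro x hlo hx
  exact allFrom_sound (f := chkVertex ruL19 [ruL20, ruL21, ruL22, ruL23, ruL24, ruL25, ruL26]) ru_vert19_c0 x (by omega) (by omega)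

theorem ru_vert19' : ∀ v, v < 4060 → chkVertex ruL19 [ruL20, ruL21, ruL22, ruL23, ruL24, ruL25, ruL26] v = true := fun x hx => ru_vert19 x (Nat.zero_le _) hx

theorem ru_nest20 : ∀ x, 0 ≤ x → x < 4060 → (chkNest ruL19.S ruL20) x = true := by
  intro x hlo hx
  exact allFrom_sound (f := chkNest ruL19.S ruL20) ru_nest20_c0 x (by omega) (by omega)

theorem ru_nest20' : ∀ x, x < 4060 → chkNest ruL19.S ruL20 x = true := fun x hx => ru_nest20 x (Nat.zero_le _) hx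

theorem ru_vert20 : ∀ x, 0 ≤ x → x < 4060 → (chkVertex ruL20 [ruL21, ruL22, ruL23, ruL24, ruL25, ruL26]) x = true := by
  intro x hlo hx
  exact allFrom_sound (f := chkVertex ruL20 [ruL21, ruL22, ruL23, ruL24, ruL25, ruL26]) ru_vert20_c0 x (by omega) (by omega)

theorem ru_vert20' : ∀ v, v < 4060 → chkVertex ruL20 [ruL21, ruL22, ruL23, ruL24, ruL25, ruL26] v = true := fun x hx => ru_vert20 x (Nat.zero_le _) hx

theorem ru_nest21 : ∀ x, 0 ≤ x → x < 4060 → (chkNest ruL20.S ruL21) x = true := by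
  intro x hlo hx
  exact allFrom_sound (f := chkNest ruL20.S ruL21) ru_nest21_c0 x (by omega) (by omega)

theorem ru_nest21' : ∀ x, x < 4060 → chkNest ruL20.S ruL21 x = true := fun x hx => ru_nest21 x (Nat.zero_le _) hx

theorem ru_vert21 : ∀ x, 0 ≤ x → x < 4060 → (chkVertex ruL21 [ruL22, ruL23, ruL24, ruL25, ruL26]) x = true := by
  intro x hlo hx
  exact allFrom_sound (f := chkVertex ruL21 [ruL22, ruL23, ruL24, ruL25, ruL26]) ru_vert21_c0 x (by omega) (by omega)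

theorem ru_vert21' : ∀ v, v < 4060 → chkVertex ruL21 [ruL22, ruL23, ruL24, ruL25, ruL26] v = true := fun x hx => ru_vert21 x (Nat.zero_le _) hx

theorem ru_nest22 : ∀ x, 0 ≤ x → x < 4060 → (chkNest ruL21.S ruL22) x = true := by
  intro x hlo hx
  exact allFrom_sound (f := chkNest ruL21.S ruL22) ru_nest22_c0 x (by omega) (by omega)

theorem ru_nest22' : ∀ x, x < 4060 → chkNest ruL21.S ruL22 x = true := fun x hx => ru_nest22 x (Nat.zero_le _) hx

theorem ru_vert22 : ∀ x, 0 ≤ x → x < 4060 → (chkVertex ruL22 [ruL23, ruL24, ruL25, ruL26]) x = true := by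
  intro x hlo hx
  exact allFrom_sound (f := chkVertex ruL22 [ruL23, ruL24, ruL25, ruL26]) ru_vert22_c0 x (by omega) (by omega)

theorem ru_vert22' : ∀ v, v < 4060 → chkVertex ruL22 [ruL23, ruL24, ruL25, ruL26] v = true := fun x hx => ru_vert22 x (Nat.zero_le _) hx

theorem ru_nest23 : ∀ x, 0 ≤ x → x < 4060 → (chkNest ruL22.S ruL23) x = true := by
  intro x hlo hx
  exact allFrom_sound (f := chkNest ruL22.S ruL23) ru_nest23_c0 x (by omega) (by omega)

theorem ru_nest23' : ∀ x, x < 4060 → chkNest ruL22.S ruL23 x = true := fun x hx => ru_nest23 x (Nat.zero_le _) hx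

theorem ru_vert23 : ∀ x, 0 ≤ x → x < 4060 → (chkVertex ruL23 [ruL24, ruL25, ruL26]) x = true := by
  intro x hlo hx
  exact allFrom_sound (f := chkVertex ruL23 [ruL24, ruL25, ruL26]) ru_vert23_c0 x (by omega) (by omega)

theorem ru_vert23' : ∀ v, v < 4060 → chkVertex ruL23 [ruL24, ruL25, ruL26] v = true := fun x hx => ru_vert23 x (Nat.zero_le _) hx

theorem ru_nest24 : ∀ x, 0 ≤ x → x < 4060 → (chkNest ruL23.S ruL24) x = true := by
  intro x hlo hx
  exact allFrom_sound (f := chkNest ruL23.S ruL24) ru_nest24_c0 x (by omega) (by omega)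

theorem ru_nest24' : ∀ x, x < 4060 → chkNest ruL23.S ruL24 x = true := fun x hx => ru_nest24 x (Nat.zero_le _) hx

theorem ru_vert24 : ∀ x, 0 ≤ x → x < 4060 → (chkVertex ruL24 [ruL25, ruL26]) x = true := by
  intro x hlo hx
  exact allFrom_sound (f := chkVertex ruL24 [ruL25, ruL26]) ru_vert24_c0 x (by omega) (by omega)

theorem ru_vert24' : ∀ v, v < 4060 → chkVertex ruL24 [ruL25, ruL26] v = true := fun x hx => ru_vert24 x (Nat.zero_le _) hx

theorem ru_nest25 : ∀ x, 0 ≤ x → x < 4060 → (chkNest ruL24.S ruL25) x = true := by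
  intro x hlo hx
  exact allFrom_sound (f := chkNest ruL24.S ruL25) ru_nest25_c0 x (by omega) (by omega)

theorem ru_nest25' : ∀ x, x < 4060 → chkNest ruL24.S ruL25 x = true := fun x hx => ru_nest25 x (Nat.zero_le _) hx

theorem ru_vert25 : ∀ x, 0 ≤ x → x < 4060 → (chkVertex ruL25 [ruL26]) x = true := by
  intro x hlo hx
  exact allFrom_sound (f := chkVertex ruL25 [ruL26]) ru_vert25_c0 x (by omega) (by omega)

theorem ru_vert25' : ∀ v, v < 4060 → chkVertex ruL25 [ruL26] v = true := fun x hx => ru_vert25 x (Nat.zero_le _) hx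

theorem ru_nest26 : ∀ x, 0 ≤ x → x < 4060 → (chkNest ruL25.S ruL26) x = true := by
  intro x hlo hx
  exact allFrom_sound (f := chkNest ruL25.S ruL26) ru_nest26_c0 x (by omega) (by omega)

theorem ru_nest26' : ∀ x, x < 4060 → chkNest ruL25.S ruL26 x = true := fun x hx => ru_nest26 x (Nat.zero_le _) hx

theorem ru_vert26 : ∀ x, 0 ≤ x → x < 4060 → (chkVertex ruL26 []) x = true := by
  intro x hlo hx
  exact allFrom_sound (f := chkVertex ruL26 []) ru_vert26_c0 x (by omega) (by omega)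

theorem ru_vert26' : ∀ v, v < 4060 → chkVertex ruL26 [] v = true := fun x hx => ru_vert26 x (Nat.zero_le _) hx

theorem ru_chain : ChainOK ruL0.S [] [ruL0, ruL1, ruL2, ruL3, ruL4, ruL5, ruL6, ruL7, ruL8, ruL9, ruL10, ruL11, ruL12, ruL13, ruL14, ruL15, ruL16, ruL17, ruL18, ruL19, ruL20, ruL21, ruL22, ruL23, ruL24, ruL25, ruL26] :=
  ⟨ru_head0, ru_nest0', ru_vert0', ru_head1, ru_nest1', ru_vert1', ru_head2, ru_nest2', ru_vert2', ru_head3, ru_nest3', ru_vert3', ru_head4, ru_nest4', ru_vert4', ru_head5, ru_nest5', ru_vert5', ru_head6, ru_nest6', ru_vert6', ru_head7, ru_nest7', ru_vert7', ru_head8, ru_nest8', ru_vert8', ru_head9, ru_nest9', ru_vert9', ru_head10, ru_nest10', ru_vert10', ru_head11, ru_nest11', ru_vert11', ru_head12, ru_nest12', ru_vert12', ru_head13, ru_nest13', ru_vert13', ru_head14, ru_nest14', ru_vert14', ru_head15, ru_nest15', ru_vert15', ru_head16, ru_nest16', ru_vert16', ru_head17, ru_nest17',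 ru_vert17', ru_head18, ru_nest18', ru_vert18', ru_head19, ru_nest19', ru_vert19', ru_head20, ru_nest20', ru_vert20', ru_head21, ru_nest21', ru_vert21', ru_head22, ru_nest22', ru_vert22', ru_head23, ru_nest23', ru_vert23', ru_head24, ru_nest24', ru_vert24', ru_head25, ru_nest25', ru_vert25', ru_head26, ru_nest26', ru_vert26', trivial⟩

theorem ru_full : ∀ x, 0 ≤ x → x < 4060 → (fun v => plook 21 rutbl0 v != 0) x = true := by
  intro x hlo hx
  exact allFrom_sound (f := fun v => plook 21 rutbl0 v != 0) ru_full_c0 x (by omega) (by omega)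

theorem ru_hfull : ∀ v, v < 4060 → plook ruL0.W ruL0.tbl v ≠ 0 := fun v hv => by
  have := ru_full v (Nat.zero_le _) hv
  show plook 21 rutbl0 v ≠ 0
  simpa using this

theorem ru_orb : ∀ x, 0 ≤ x → x < 4060 → (chkOrbV ruL1.S.act [0, 1, 2] 2 ructab 2 19 ruotab) x = true := by
  intro x hlo hx
  exact allFrom_sound (f := chkOrbV ruL1.S.act [0, 1, 2] 2 ructab 2 19 ruotab) ru_orb_c0 x (by omega) (by omega)

theorem ru_ap : ∀ x, 0 ≤ x → x < 4060 → (fun x => pact ruL0.S.act (List.replicate 29 0) x == x) x = true := by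
  intro x hlo hx
  exact allFrom_sound (f := fun x => pact ruL0.S.act (List.replicate 29 0) x == x) ru_ap_c0 x (by omega) (by omega)

theorem ru_bp : ∀ x, 0 ≤ x → x < 4060 → (fun x => pact ruL0.S.act (List.replicate 7 2) x == x) x = true := by
  intro x hlo hx
  exact allFrom_sound (f := fun x => pact ruL0.S.act (List.replicate 7 2) x == x) ru_bp_c0 x (by omega) (by omega)

theorem ru_hb : ruL0.b < 4060 := by decide

theorem ru_mat : ∀ x, 0 ≤ x → x < 4060 → (fun i => chkMat (ruL0.S.act 0) ruCode (ruCols 0) 28 i && chkMat (ruL0.S.act 2) ruCode (ruCols 1) 28 i) x = true := by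
  intro x hlo hx
  by_cases h0 : x < 1015
  · exact allFrom_sound (f := fun i => chkMat (ruL0.S.act 0) ruCode (ruCols 0) 28 i && chkMat (ruL0.S.act 2) ruCode (ruCols 1) 28 i) ru_mat_c0 x (by omega) (by omega)
  by_cases h1 : x < 2030
  · exact allFrom_sound (f := fun i => chkMat (ruL0.S.act 0) ruCode (ruCols 0) 28 i && chkMat (ruL0.S.act 2) ruCode (ruCols 1) 28 i) ru_mat_c1 x (by omega) (by omega)
  by_cases h2 : x < 3045
  · exact allFrom_sound (f := fun i => chkMat (ruL0.S.act 0) ruCode (ruCols 0) 28 i && chkMat (ruL0.S.act 2) ruCode (ruCols 1) 28 i) ru_mat_c2 x (by omega) (by omega)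
  exact allFrom_sound (f := fun i => chkMat (ruL0.S.act 0) ruCode (ruCols 0) 28 i && chkMat (ruL0.S.act 2) ruCode (ruCols 1) 28 i) ru_mat_c3 x (by omega) (by omega)

theorem ru_hmono : ∀ i, i + 1 < 4060 → ruCode i < ruCode (i + 1) := fun i hi =>
  Nat.blt_eq.mp (allBelow_sound ru_mono i (by omega))

theorem ru_hmat : ∀ j, j < ruL0.S.g / 2 → ∀ i, i < 4060 →
    mvx (ruCols j) 28 (ruCode i) = ruCode (ruL0.S.act (2 * j) i) := by
  intro j hj i hi
  have hj' : j < 2 := hj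
  have h := ru_mat i (Nat.zero_le _) hi
  simp only [Bool.and_eq_true] at h
  interval_cases j
  · exact chkMat_sound h.1
  · exact chkMat_sound h.2

theorem ru_cmb : ∀ x, 0 ≤ x → x < 4060 → (fun i => chkCmb ruCode ruBase 2 ruCmb i) x = true := by
  intro x hlo hx
  by_cases h0 : x < 1015
  · exact allFrom_sound (f := fun i => chkCmb ruCode ruBase 2 ruCmb i) ru_cmb_c0 x (by omega) (by omega)
  by_cases h1 : x < 2030
  · exact allFrom_sound (f := fun i => chkCmb ruCode ruBase 2 ruCmb i) ru_cmb_c1 x (by omega) (by omega)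
  by_cases h2 : x < 3045
  · exact allFrom_sound (f := fun i => chkCmb ruCode ruBase 2 ruCmb i) ru_cmb_c2 x (by omega) (by omega)
  exact allFrom_sound (f := fun i => chkCmb ruCode ruBase 2 ruCmb i) ru_cmb_c3 x (by omega) (by omega)

/-- Rigidity of the base: an element of the group fixing the base points is trivial. -/
theorem ru_hR : ∀ g ∈ ruL0.S.H, (∀ x : Fin 4060, (x : ℕ) ∈ ruBase → g x = x) → g = 1 := by
  intro g hg hfix
  exact rigid_xor_z ruCode ruBase 2 ruCmb ruWk ruWi ru_hmono (by decide) (by norm_num)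
    (fun i hi => chkCmb_sound (ru_cmb i (Nat.zero_le _) hi))
    (fun j hj hjz => chkWit_sound (allBelow_sound ru_wit j hj) hjz)
    g (XInv.of_H ruL0.S ruCode ruCols 28 ru_hmat g hg) hfix

theorem ru_bases : [ruL0, ruL1, ruL2, ruL3, ruL4, ruL5, ruL6, ruL7, ruL8, ruL9, ruL10, ruL11, ruL12, ruL13, ruL14, ruL15, ruL16, ruL17, ruL18, ruL19, ruL20, ruL21, ruL22, ruL23, ruL24, ruL25, ruL26].map Lvl.b = ruBase := by decide

/-- The group of the certificate is simple of order `4060 * 35942400`, transitive, with point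
stabilisers of order `35942400`; the group of the second level lies in it and fixes the base point. -/
theorem ru_cert : IsSimpleGroup ruL0.S.H ∧ Nat.card ruL0.S.H = 4060 * 35942400 ∧
    MulAction.IsPretransitive ruL0.S.H (Fin 4060) ∧
    Nat.card (MulAction.stabilizer ruL0.S.H (⟨ruL0.b, ru_hb⟩ : Fin 4060)) = 35942400 ∧
    ruL1.S.H ≤ ruL0.S.H ∧ (∀ g ∈ ruL1.S.H, g ⟨ruL0.b, ru_hb⟩ = ⟨ruL0.b, ru_hb⟩) :=
  group_cert2 ruL0 ruL1 [ruL2, ruL3, ruL4, ruL5, ruL6, ruL7, ruL8, ruL9, ruL10, ruL11, ruL12, ruL13, ruL14, ruL15, ruL16, ruL17, ruL18, ruL19, ruL20, ruL21, ruL22, ruL23, ruL24, ruL25, ruL26] ru_chain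
    (fun g hg hfix => ru_hR g hg (fun x hx => hfix x (by rw [ru_bases]; exact hx)))
    rfl ru_hb ru_hfull [0, 1, 2] [1, 1755, 2304] 2 ructab 2 19 ruotab
    (fun v hv => ru_orb v (Nat.zero_le _) hv)
    (getD_lt_of_all _ _ (by norm_num) (by decide))
    (cls_of_chk _ _ _ _ _ ru_cls).1 (cls_of_chk _ _ _ _ _ ru_cls).2
    (sizes_of_chk _ _ _ _ _ ru_sizes) ru_arith
    35942400 29 7 (by norm_num) (by norm_num) ru_card (by norm_num) (by norm_num)
    (fun x hx => by simpa using ru_ap x (Nat.zero_le _) hx)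
    (fun x hx => by simpa using ru_bp x (Nat.zero_le _) hx)

end Cfsg.Agent.Lib.helper10
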