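/-
A kernel-checkable exhaustive search for Steiner systems S(t, t + 1, n) on `Fin n`: subsets are
encoded by bitmasks, the search extends a list of known blocks by the block through the next
uncovered `t`-set, and its soundness shows that every Steiner system containing the initial
blocks is one of the leaves of the search.
-/
import Mathlib
import Cfsg.Prelude.Def_Sporadic_a

set_option autoImplicit false
set_option linter.unusedSectionVars false

namespace Cfsg.Agent.Lib.helper10

section Mask

/-- The subset of `Fin n` encoded by a bitmask. -/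
def ofMask (n m : ℕ) : Finset (Fin n) := Finset.univ.filter (fun i => m.testBit i = true)

theorem mem_ofMask {n m : ℕ} {i : Fin n} : i ∈ ofMask n m ↔ m.testBit i = true := by
  simp [ofMask]

theorem ofMask_and (n a b : ℕ) : ofMask n (a &&& b) = ofMask n a ∩ ofMask n b := by
  ext i
  rw [Finset.mem_inter, mem_ofMask, mem_ofMask, mem_ofMask, Nat.testBit_and, Bool.and_eq_true]

theorem ofMask_or_two_pow (n m : ℕ) (p : Fin n) :
    ofMask n (m ||| 2 ^ (p : ℕ)) = insert p (ofMask n m) := by
  ext i
  rw [Finset.mem_insert, mem_ofMask, mem_ofMask, Nat.testBit_or, Nat.testBit_two_pow,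
    Bool.or_eq_true, decide_eq_true_eq]
  constructor
  · rintro (h | h)
    · exact Or.inr h
    · exact Or.inl (Fin.ext h.symm)
  · rintro (h | h)
    · exact Or.inr (by rw [h])
    · exact Or.inl h

theorem ofMask_zero (n : ℕ) : ofMask n 0 = ∅ := by
  ext i
  simp [mem_ofMask]

theorem exists_mask (n : ℕ) (s : Finset (Fin n)) : ∃ m, m < 2 ^ n ∧ ofMask n m = s := by
  induction s using Finset.induction_on with
  | empty => exact ⟨0, Nat.pos_of_ne_zero (by positivity), ofMask_zero n⟩
  | insert a s _ ih =>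
    obtain ⟨m, hm, rfl⟩ := ih
    exact ⟨m ||| 2 ^ (a : ℕ), Nat.or_lt_two_pow hm (Nat.pow_lt_pow_right (by norm_num) a.2),
      ofMask_or_two_pow n m a⟩

theorem and_eq_of_subset {n t c : ℕ} (ht : t < 2 ^ n) (h : ofMask n t ⊆ ofMask n c) :
    t &&& c = t := by
  apply Nat.eq_of_testBit_eq
  intro i
  rw [Nat.testBit_and]
  by_cases hi : i < n
  · by_cases hti : t.testBit i = true
    · have h1 : (⟨i, hi⟩ : Fin n) ∈ ofMask n c := h (mem_ofMask.mpr hti)
      have h2 : c.testBit i = true := mem_ofMask.mp h1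
      rw [hti, h2]
      rfl
    · rw [Bool.not_eq_true] at hti
      rw [hti]
      rfl
  · have h1 : t.testBit i = false :=
      Nat.testBit_lt_two_pow (lt_of_lt_of_le ht (Nat.pow_le_pow_right (by norm_num) (not_lt.mp hi)))
    rw [h1]
    rfl

theorem subset_of_and_eq {n t c : ℕ} (h : t &&& c = t) : ofMask n t ⊆ ofMask n c := by
  rw [← h, ofMask_and]
  exact Finset.inter_subset_right

/-- The number of set bits among the lowest `n` bits. -/
def popc : ℕ → ℕ → ℕ
  | 0, _ => 0
  | n + 1, m => popc n m + (if m.testBit n = true then 1 else 0)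

theorem card_ofMask (n m : ℕ) : (ofMask n m).card = popc n m := by
  induction n with
  | zero => simp [ofMask, popc]
  | succ n ih =>
    rw [popc, ← ih, ofMask, ofMask, Finset.card_filter, Finset.card_filter, Fin.sum_univ_castSucc]
    simp

end Mask

section Search

/-- Is the set with mask `tm` contained in one of the sets of the list? -/
def covered (tm : ℕ) (cs : List ℕ) : Bool := cs.any (fun c => tm &&& c == tm)

/-- Does the set with mask `o` have a small intersection with every set of the list? -/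
def compat (bad : ℕ → Bool) (o : ℕ) (cs : List ℕ) : Bool := cs.all (fun c => !(bad (o &&& c)))

/-- The search: for the next `t`-set not covered by the blocks found so far, try every
admissible block through it. -/
def search (n : ℕ) (bad : ℕ → Bool) (final : List ℕ → Bool) : List ℕ → List ℕ → Bool
  | [], cs => final cs
  | tm :: items, cs =>
    if covered tm cs then search n bad final items cs
    else (List.range n).all (fun p => tm.testBit p || !(compat bad (tm ||| 2 ^ p) cs) ||
      search n bad final items ((tm ||| 2 ^ p) :: cs))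

theorem search_sound {n t : ℕ} {B : Set (Finset (Fin n))}
    (hB : Cfsg.IsSteinerSystem t (t + 1) B) (bad : ℕ → Bool)
    (hbad : ∀ m, m < 2 ^ n → bad m = true → t ≤ (ofMask n m).card) (final : List ℕ → Bool) :
    ∀ (items cs : List ℕ), (∀ c ∈ cs, c < 2 ^ n ∧ ofMask n c ∈ B) →
      (∀ tm ∈ items, tm < 2 ^ n ∧ (ofMask n tm).card = t) →
      search n bad final items cs = true →
      ∃ cs' : List ℕ, (∀ c ∈ cs', ofMask n c ∈ B) ∧ (∀ c ∈ cs, c ∈ cs') ∧
        (∀ tm ∈ items, ∃ c ∈ cs', ofMask n tm ⊆ ofMask n c) ∧ final cs' = true := by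
  intro items
  induction items with
  | nil =>
    intro cs hcs _ hs
    exact ⟨cs, fun c hc => (hcs c hc).2, fun c hc => hc, fun tm h => absurd h (List.not_mem_nil),
      hs⟩
  | cons tm items ih =>
    intro cs hcs hitems hs
    rw [search] at hs
    have htm := hitems tm List.mem_cons_self
    have hitems' : ∀ tm' ∈ items, tm' < 2 ^ n ∧ (ofMask n tm').card = t :=
      fun tm' h => hitems tm' (List.mem_cons_of_mem _ h)
    by_cases hcov : covered tm cs = true
    · rw [if_pos hcov] at hs
      obtain ⟨cs', h1, h2, h3, h4⟩ := ih cs hcs hitems' hs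
      refine ⟨cs', h1, h2, ?_, h4⟩
      intro tm' htm'
      rcases List.mem_cons.mp htm' with rfl | h
      · rw [covered, List.any_eq_true] at hcov
        obtain ⟨c, hc, hceq⟩ := hcov
        exact ⟨c, h2 c hc, subset_of_and_eq (by simpa using hceq)⟩
      · exact h3 tm' h
    · rw [if_neg hcov] at hs
      obtain ⟨b, ⟨hbB, hsub⟩, -⟩ := hB.2 (ofMask n tm) htm.2
      have hb5 := hB.1 b hbB
      obtain ⟨p, hpb, hpt⟩ : ∃ p, p ∈ b ∧ p ∉ ofMask n tm := by
        by_contra hcon
        push Not at hcon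
        have h1 := Finset.card_le_card (fun p hp => hcon p hp : b ⊆ ofMask n tm)
        omega
      have hbeq : insert p (ofMask n tm) = b := by
        apply Finset.eq_of_subset_of_card_le
        · exact Finset.insert_subset hpb hsub
        · rw [Finset.card_insert_of_notMem hpt, htm.2, hb5]
      have hoB : ofMask n (tm ||| 2 ^ (p : ℕ)) ∈ B := by
        rw [ofMask_or_two_pow, hbeq]
        exact hbB
      have hol : tm ||| 2 ^ (p : ℕ) < 2 ^ n :=
        Nat.or_lt_two_pow htm.1 (Nat.pow_lt_pow_right (by norm_num) p.2)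
      rw [List.all_eq_true] at hs
      have hsp := hs (p : ℕ) (List.mem_range.mpr p.2)
      have htb : tm.testBit p = false := by
        by_contra h
        rw [Bool.not_eq_false] at h
        exact hpt (mem_ofMask.mpr h)
      have hcompat : compat bad (tm ||| 2 ^ (p : ℕ)) cs = true := by
        rw [compat, List.all_eq_true]
        intro c hc
        by_contra hbadc
        have hbad' : bad ((tm ||| 2 ^ (p : ℕ)) &&& c) = true := by simpa using hbadc
        have h1 := hbad _ (Nat.and_lt_two_pow _ (hcs c hc).1) hbad'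
        rw [ofMask_and] at h1
        obtain ⟨s, hs1, hs2⟩ := Finset.exists_subset_card_eq h1
        obtain ⟨d, -, hd⟩ := hB.2 s hs2
        have e1 := hd (ofMask n (tm ||| 2 ^ (p : ℕ))) ⟨hoB, hs1.trans Finset.inter_subset_left⟩
        have e2 := hd (ofMask n c) ⟨(hcs c hc).2, hs1.trans Finset.inter_subset_right⟩
        have hsub' : ofMask n tm ⊆ ofMask n c := by
          rw [e2, ← e1, ofMask_or_two_pow]
          exact Finset.subset_insert _ _
        apply hcov
        rw [covered, List.any_eq_true]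
        exact ⟨c, hc, by simpa using and_eq_of_subset htm.1 hsub'⟩
      rw [htb, hcompat] at hsp
      simp only [Bool.false_or, Bool.not_true] at hsp
      obtain ⟨cs', h1, h2, h3, h4⟩ := ih ((tm ||| 2 ^ (p : ℕ)) :: cs) (by
        intro c hc
        rcases List.mem_cons.mp hc with rfl | h
        · exact ⟨hol, hoB⟩
        · exact hcs c h) hitems' hsp
      refine ⟨cs', h1, fun c hc => h2 c (List.mem_cons_of_mem _ hc), ?_, h4⟩
      intro tm' htm'
      rcases List.mem_cons.mp htm' with rfl | h
      · refine ⟨tm' ||| 2 ^ (p : ℕ), h2 _ List.mem_cons_self, ?_⟩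
        rw [ofMask_or_two_pow]
        exact Finset.subset_insert _ _
      · exact h3 tm' h

/-- A successful search determines the Steiner system: it is the set of blocks of some leaf. -/
theorem search_complete {n t : ℕ} {B : Set (Finset (Fin n))}
    (hB : Cfsg.IsSteinerSystem t (t + 1) B) (bad : ℕ → Bool)
    (hbad : ∀ m, m < 2 ^ n → bad m = true → t ≤ (ofMask n m).card) (final : List ℕ → Bool)
    (items cs : List ℕ) (hcs : ∀ c ∈ cs, c < 2 ^ n ∧ ofMask n c ∈ B)
    (hitems : ∀ tm ∈ items, tm < 2 ^ n ∧ (ofMask n tm).card = t)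
    (hall : ∀ tm, tm < 2 ^ n → (ofMask n tm).card = t → tm ∈ items)
    (hs : search n bad final items cs = true) :
    ∃ cs' : List ℕ, final cs' = true ∧
      ∀ b : Finset (Fin n), b ∈ B ↔ ∃ c ∈ cs', ofMask n c = b := by
  obtain ⟨cs', h1, -, h3, h4⟩ := search_sound hB bad hbad final items cs hcs hitems hs
  refine ⟨cs', h4, fun b => ⟨fun hb => ?_, ?_⟩⟩
  · have hb5 := hB.1 b hb
    obtain ⟨s, hs1, hs2⟩ := Finset.exists_subset_card_eq (show t ≤ b.card by omega)
    obtain ⟨tm, htm1, rfl⟩ := exists_mask n s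
    obtain ⟨c, hc, hsub⟩ := h3 tm (hall tm htm1 hs2)
    obtain ⟨d, -, hd⟩ := hB.2 _ hs2
    exact ⟨c, hc, (hd _ ⟨h1 c hc, hsub⟩).trans (hd b ⟨hb, hs1⟩).symm⟩
  · rintro ⟨c, hc, rfl⟩
    exact h1 c hc

end Search

section Image

/-- The mask of the image under `f` of the set with mask `c`. -/
def imgMask (n : ℕ) (f : ℕ → ℕ) (c : ℕ) : ℕ :=
  (List.range n).foldl (fun acc i => if c.testBit i = true then acc ||| 2 ^ f i else acc) 0

theorem testBit_foldl_img (f : ℕ → ℕ) (c : ℕ) (l : List ℕ) (acc j : ℕ) :
    (l.foldl (fun acc i => if c.testBit i = true then acc ||| 2 ^ f i else acc) acc).testBit j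
        = true ↔ acc.testBit j = true ∨ ∃ i ∈ l, c.testBit i = true ∧ f i = j := by
  induction l generalizing acc with
  | nil => simp
  | cons a l ih =>
    rw [List.foldl_cons, ih]
    by_cases ha : c.testBit a = true
    · rw [if_pos ha, Nat.testBit_or, Nat.testBit_two_pow, Bool.or_eq_true, decide_eq_true_eq]
      constructor
      · rintro ((h | h) | ⟨i, hi, h1, h2⟩)
        · exact Or.inl h
        · exact Or.inr ⟨a, List.mem_cons_self, ha, h⟩
        · exact Or.inr ⟨i, List.mem_cons_of_mem _ hi, h1, h2⟩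
      · rintro (h | ⟨i, hi, h1, h2⟩)
        · exact Or.inl (Or.inl h)
        · rcases List.mem_cons.mp hi with rfl | hi'
          · exact Or.inl (Or.inr h2)
          · exact Or.inr ⟨i, hi', h1, h2⟩
    · rw [if_neg ha]
      constructor
      · rintro (h | ⟨i, hi, h1, h2⟩)
        · exact Or.inl h
        · exact Or.inr ⟨i, List.mem_cons_of_mem _ hi, h1, h2⟩
      · rintro (h | ⟨i, hi, h1, h2⟩)
        · exact Or.inl h
        · rcases List.mem_cons.mp hi with rfl | hi'
          · exact absurd h1 ha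
          · exact Or.inr ⟨i, hi', h1, h2⟩

theorem ofMask_imgMask {n : ℕ} (f : ℕ → ℕ) (g : Fin n → Fin n) (hfg : ∀ i : Fin n, f i = g i)
    (c : ℕ) : ofMask n (imgMask n f c) = (ofMask n c).image g := by
  ext j
  rw [mem_ofMask, imgMask, testBit_foldl_img, Finset.mem_image]
  constructor
  · rintro (h | ⟨i, hi, hc, hfi⟩)
    · simp at h
    · rw [List.mem_range] at hi
      refine ⟨⟨i, hi⟩, mem_ofMask.mpr hc, Fin.ext ?_⟩
      rw [← hfg ⟨i, hi⟩]
      exact hfi
  · rintro ⟨i, hc, rfl⟩
    exact Or.inr ⟨i, List.mem_range.mpr i.2, mem_ofMask.mp hc, hfg i⟩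

/-- Does the list describe a permutation of `{0, ..., n - 1}`? -/
def okPerm (n : ℕ) (π : List ℕ) : Bool :=
  (List.range n).all (fun i => decide (π.getD i 0 < n)) &&
    decide ((List.range n).map (fun i => π.getD i 0)).Nodup

theorem exists_perm_of_okPerm {n : ℕ} {π : List ℕ} (h : okPerm n π = true) :
    ∃ g : Fin n ≃ Fin n, ∀ i : Fin n, π.getD i 0 = g i := by
  rw [okPerm, Bool.and_eq_true, List.all_eq_true, decide_eq_true_eq] at h
  obtain ⟨h1, h2⟩ := h
  have hlt : ∀ i : Fin n, π.getD i 0 < n := by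
    intro i
    have := h1 i (List.mem_range.mpr i.2)
    simpa using this
  have hinj : Function.Injective (fun i : Fin n => (⟨π.getD i 0, hlt i⟩ : Fin n)) := by
    intro i j hij
    have h3 : π.getD i 0 = π.getD j 0 := congrArg Fin.val hij
    exact Fin.ext (List.inj_on_of_nodup_map h2 (List.mem_range.mpr i.2) (List.mem_range.mpr j.2) h3)
  exact ⟨Equiv.ofBijective _ (Finite.injective_iff_bijective.mp hinj), fun i => rfl⟩

/-- The final check of a leaf: some permutation of the list carries the blocks found onto the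
reference list of blocks. -/
def finalChk (n : ℕ) (S₀ : List ℕ) (perms : List (List ℕ)) (cs : List ℕ) : Bool :=
  perms.any (fun π => okPerm n π &&
    cs.all (fun c => S₀.contains (imgMask n (fun i => π.getD i 0) c)) &&
    S₀.all (fun w => (cs.map (imgMask n (fun i => π.getD i 0))).contains w))

theorem finalChk_spec {n : ℕ} {S₀ : List ℕ} {perms : List (List ℕ)} {cs : List ℕ}
    (h : finalChk n S₀ perms cs = true) :
    ∃ g : Fin n ≃ Fin n, (∀ c ∈ cs, ∃ w ∈ S₀, ofMask n w = (ofMask n c).image g) ∧
      ∀ w ∈ S₀, ∃ c ∈ cs, ofMask n w = (ofMask n c).image g := by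
  rw [finalChk, List.any_eq_true] at h
  obtain ⟨π, -, hπ⟩ := h
  rw [Bool.and_eq_true, Bool.and_eq_true, List.all_eq_true, List.all_eq_true] at hπ
  obtain ⟨⟨h1, h2⟩, h3⟩ := hπ
  obtain ⟨g, hg⟩ := exists_perm_of_okPerm h1
  refine ⟨g, fun c hc => ?_, fun w hw => ?_⟩
  · have h4 := h2 c hc
    rw [List.contains_iff_mem] at h4
    exact ⟨_, h4, ofMask_imgMask _ g hg c⟩
  · have h4 := h3 w hw
    rw [List.contains_iff_mem, List.mem_map] at h4
    obtain ⟨c, hc, rfl⟩ := h4
    exact ⟨c, hc, ofMask_imgMask _ g hg c⟩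

/-- A successful search with the permutation check at the leaves shows that the Steiner system
is isomorphic to the reference system. -/
theorem steiner_search_iso {n t : ℕ} {B : Set (Finset (Fin n))}
    (hB : Cfsg.IsSteinerSystem t (t + 1) B) (bad : ℕ → Bool)
    (hbad : ∀ m, m < 2 ^ n → bad m = true → t ≤ (ofMask n m).card) (S₀ : List ℕ)
    (perms : List (List ℕ)) (items cs : List ℕ) (hcs : ∀ c ∈ cs, c < 2 ^ n ∧ ofMask n c ∈ B)
    (hitems : ∀ tm ∈ items, tm < 2 ^ n ∧ (ofMask n tm).card = t)
    (hall : ∀ tm, tm < 2 ^ n → (ofMask n tm).card = t → tm ∈ items)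
    (hs : search n bad (finalChk n S₀ perms) items cs = true) :
    Cfsg.SetSystemIso B {b : Finset (Fin n) | ∃ w ∈ S₀, ofMask n w = b} := by
  obtain ⟨cs', h1, h2⟩ := search_complete hB bad hbad _ items cs hcs hitems hall hs
  obtain ⟨g, hg1, hg2⟩ := finalChk_spec h1
  refine ⟨g, ?_⟩
  ext b'
  constructor
  · rintro ⟨b, hb, rfl⟩
    obtain ⟨c, hc, rfl⟩ := (h2 b).mp hb
    obtain ⟨w, hw, e⟩ := hg1 c hc
    exact ⟨w, hw, e⟩
  · rintro ⟨w, hw, rfl⟩
    obtain ⟨c, hc, e⟩ := hg2 w hw
    exact ⟨ofMask n c, (h2 _).mpr ⟨c, hc, rfl⟩, e.symm⟩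

end Image

section Iso

variable {α β γ : Type*} [DecidableEq α] [DecidableEq β] [DecidableEq γ]

theorem setSystemIso_symm {B : Set (Finset α)} {B' : Set (Finset β)}
    (h : Cfsg.SetSystemIso B B') : Cfsg.SetSystemIso B' B := by
  obtain ⟨e, he⟩ := h
  refine ⟨e.symm, ?_⟩
  rw [← he]
  ext b
  constructor
  · rintro ⟨_, ⟨c, hc, rfl⟩, rfl⟩
    have : (c.image e).image e.symm = c := by
      rw [Finset.image_image]
      simp
    show (c.image e).image e.symm ∈ B
    rw [this]
    exact hc
  · intro hb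
    refine ⟨b.image e, ⟨b, hb, rfl⟩, ?_⟩
    show (b.image e).image e.symm = b
    rw [Finset.image_image]
    simp

theorem setSystemIso_trans {B : Set (Finset α)} {B' : Set (Finset β)} {B'' : Set (Finset γ)}
    (h : Cfsg.SetSystemIso B B') (h' : Cfsg.SetSystemIso B' B'') : Cfsg.SetSystemIso B B'' := by
  obtain ⟨e, he⟩ := h
  obtain ⟨e', he'⟩ := h'
  refine ⟨e.trans e', ?_⟩
  rw [← he', ← he]
  ext b
  constructor
  · rintro ⟨c, hc, rfl⟩
    refine ⟨c.image e, ⟨c, hc, rfl⟩, ?_⟩
    show (c.image e).image e' = c.image (e.trans e')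
    rw [Finset.image_image]
    rfl
  · rintro ⟨_, ⟨c, hc, rfl⟩, rfl⟩
    refine ⟨c, hc, ?_⟩
    show c.image (e.trans e') = (c.image e).image e'
    rw [Finset.image_image]
    rfl

end Iso

end Cfsg.Agent.Lib.helper10
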