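/-
Data for the exhaustive search proving the uniqueness of the Steiner system S(4, 5, 11): the
4-subsets of `Fin 11` in the order of the search, the three initial blocks, a reference system
of 66 blocks, and the permutations carrying the 48 systems found by the search onto it.
-/
import Mathlib
import Cfsg.Prelude.Def_Sporadic_a
import Cfsg.Agent.Lib.helper10.SteinerSearch

set_option autoImplicit false

namespace Cfsg.Agent.Lib.helper10

/-- Bit `m` is set when the set with mask `m < 2048` has at least four elements. -/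
def s4511Tbl : ℕ :=
  32317006071311007300714876688669951960444102669715484032130345427524655138867611798085573559146505641014799895848991311371956247257387566633375267744243137848884257960921268805606350887706952661165676501956076125927614541022182042818502888717384054774597045597787060770683101045224337186399012677143234198332470842845947144869336060551500352416895393676969484983969738850256642639631200294012127346836383140250101103646154313460638100785562136449267980617363656972810469965799307536140143669204172430151481343100573628908995270843320708740646659603822966391115812493455224516916017848787241355844569512400629914435584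

/-- The test for an intersection with at least four elements. -/
def s4511Bad (m : ℕ) : Bool := s4511Tbl.testBit m

/-- The masks of the 4-subsets of `Fin 11`, in decreasing order. -/
def s4511Items : List ℕ := [
  1920, 1856, 1824, 1808, 1800, 1796, 1794, 1793, 1728, 1696, 1680, 1672,
  1668, 1666, 1665, 1632, 1616, 1608, 1604, 1602, 1601, 1584, 1576, 1572,
  1570, 1569, 1560, 1556, 1554, 1553, 1548, 1546, 1545, 1542, 1541, 1539,
  1472, 1440, 1424, 1416, 1412, 1410, 1409, 1376, 1360, 1352, 1348, 1346,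
  1345, 1328, 1320, 1316, 1314, 1313, 1304, 1300, 1298, 1297, 1292, 1290,
  1289, 1286, 1285, 1283, 1248, 1232, 1224, 1220, 1218, 1217, 1200, 1192,
  1188, 1186, 1185, 1176, 1172, 1170, 1169, 1164, 1162, 1161, 1158, 1157,
  1155, 1136, 1128, 1124, 1122, 1121, 1112, 1108, 1106, 1105, 1100, 1098,
  1097, 1094, 1093, 1091, 1080, 1076, 1074, 1073, 1068, 1066, 1065, 1062,
  1061, 1059, 1052, 1050, 1049, 1046, 1045, 1043, 1038, 1037, 1035, 1031,
  960, 928, 912, 904, 900, 898, 897, 864, 848, 840, 836, 834,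
  833, 816, 808, 804, 802, 801, 792, 788, 786, 785, 780, 778,
  777, 774, 773, 771, 736, 720, 712, 708, 706, 705, 688, 680,
  676, 674, 673, 664, 660, 658, 657, 652, 650, 649, 646, 645,
  643, 624, 616, 612, 610, 609, 600, 596, 594, 593, 588, 586,
  585, 582, 581, 579, 568, 564, 562, 561, 556, 554, 553, 550,
  549, 547, 540, 538, 537, 534, 533, 531, 526, 525, 523, 519,
  480, 464, 456, 452, 450, 449, 432, 424, 420, 418, 417, 408,
  404, 402, 401, 396, 394, 393, 390, 389, 387, 368, 360, 356,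
  354, 353, 344, 340, 338, 337, 332, 330, 329, 326, 325, 323,
  312, 308, 306, 305, 300, 298, 297, 294, 293, 291, 284, 282,
  281, 278, 277, 275, 270, 269, 267, 263, 240, 232, 228, 226,
  225, 216, 212, 210, 209, 204, 202, 201, 198, 197, 195, 184,
  180, 178, 177, 172, 170, 169, 166, 165, 163, 156, 154, 153,
  150, 149, 147, 142, 141, 139, 135, 120, 116, 114, 113, 108,
  106, 105, 102, 101, 99, 92, 90, 89, 86, 85, 83, 78,
  77, 75, 71, 60, 58, 57, 54, 53, 51, 46, 45, 43,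
  39, 30, 29, 27, 23, 15]

/-- The masks of the blocks `{10, 9, 8, 7, 6}`, `{10, 9, 8, 5, 4}`, `{10, 9, 8, 3, 2}`. -/
def s4511Init : List ℕ := [1984, 1840, 1804]

/-- The masks of the blocks of a reference Steiner system S(4, 5, 11). -/
def s4511Std : List ℕ := [
  87, 110, 121, 157, 171, 182, 218, 229, 283, 295, 316, 333,
  370, 398, 433, 451, 468, 488, 542, 557, 563, 587, 628, 647,
  696, 716, 721, 738, 789, 810, 838, 856, 865, 905, 914, 932,
  1039, 1077, 1082, 1116, 1123, 1171, 1196, 1222, 1225, 1264, 1302, 1321,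
  1354, 1361, 1380, 1413, 1432, 1442, 1561, 1574, 1605, 1618, 1640, 1674,
  1684, 1697, 1795, 1984, 1840, 1804]

/-- Permutations carrying the systems found by the search onto the reference system. -/
def s4511Perms : List (List ℕ) := [
  [0, 1, 2, 3, 4, 5, 6, 7, 8, 9, 10],
  [0, 1, 2, 3, 5, 4, 7, 6, 9, 8, 10],
  [0, 1, 2, 3, 4, 5, 6, 7, 8, 10, 9],
  [0, 1, 2, 3, 7, 6, 4, 5, 10, 9, 8],
  [0, 1, 2, 3, 5, 4, 7, 6, 9, 10, 8],
  [0, 1, 2, 3, 7, 6, 4, 5, 10, 8, 9],
  [0, 1, 2, 3, 6, 7, 4, 5, 8, 9, 10],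
  [0, 1, 2, 3, 7, 6, 5, 4, 9, 8, 10],
  [0, 1, 2, 3, 6, 7, 4, 5, 8, 10, 9],
  [0, 1, 2, 3, 4, 5, 7, 6, 10, 9, 8],
  [0, 1, 2, 3, 7, 6, 5, 4, 9, 10, 8],
  [0, 1, 2, 3, 4, 5, 7, 6, 10, 8, 9],
  [0, 1, 2, 3, 6, 7, 4, 5, 9, 8, 10],
  [0, 1, 2, 3, 7, 6, 5, 4, 8, 9, 10],
  [0, 1, 2, 3, 6, 7, 4, 5, 9, 10, 8],
  [0, 1, 2, 3, 5, 4, 6, 7, 10, 8, 9],
  [0, 1, 2, 3, 7, 6, 5, 4, 8, 10, 9],
  [0, 1, 2, 3, 5, 4, 6, 7, 10, 9, 8],
  [0, 1, 2, 3, 4, 5, 6, 7, 9, 8, 10],
  [0, 1, 2, 3, 5, 4, 7, 6, 8, 9, 10],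
  [0, 1, 2, 3, 4, 5, 6, 7, 9, 10, 8],
  [0, 1, 2, 3, 6, 7, 5, 4, 10, 8, 9],
  [0, 1, 2, 3, 5, 4, 7, 6, 8, 10, 9],
  [0, 1, 2, 3, 6, 7, 5, 4, 10, 9, 8],
  [0, 1, 2, 3, 6, 7, 4, 5, 10, 8, 9],
  [0, 1, 2, 3, 4, 5, 7, 6, 9, 10, 8],
  [0, 1, 2, 3, 6, 7, 4, 5, 10, 9, 8],
  [0, 1, 2, 3, 5, 4, 6, 7, 8, 10, 9],
  [0, 1, 2, 3, 4, 5, 7, 6, 9, 8, 10],
  [0, 1, 2, 3, 5, 4, 6, 7, 8, 9, 10],
  [0, 1, 2, 3, 4, 5, 6, 7, 10, 8, 9],
  [0, 1, 2, 3, 7, 6, 4, 5, 9, 10, 8],
  [0, 1, 2, 3, 4, 5, 6, 7, 10, 9, 8],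
  [0, 1, 2, 3, 6, 7, 5, 4, 8, 10, 9],
  [0, 1, 2, 3, 7, 6, 4, 5, 9, 8, 10],
  [0, 1, 2, 3, 6, 7, 5, 4, 8, 9, 10],
  [0, 1, 2, 3, 5, 4, 7, 6, 10, 9, 8],
  [0, 1, 2, 3, 7, 6, 4, 5, 8, 10, 9],
  [0, 1, 2, 3, 5, 4, 7, 6, 10, 8, 9],
  [0, 1, 2, 3, 6, 7, 5, 4, 9, 10, 8],
  [0, 1, 2, 3, 7, 6, 4, 5, 8, 9, 10],
  [0, 1, 2, 3, 6, 7, 5, 4, 9, 8, 10],
  [0, 1, 2, 3, 7, 6, 5, 4, 10, 9, 8],
  [0, 1, 2, 3, 4, 5, 7, 6, 8, 10, 9],
  [0, 1, 2, 3, 7, 6, 5, 4, 10, 8, 9],
  [0, 1, 2, 3, 5, 4, 6, 7, 9, 10, 8],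
  [0, 1, 2, 3, 4, 5, 7, 6, 8, 9, 10],
  [0, 1, 2, 3, 5, 4, 6, 7, 9, 8, 10]]

theorem s4511_bad_aux :
    (List.range 2048).all (fun m => !(s4511Bad m) || decide (4 ≤ popc 11 m)) = true := by
  decide +kernel

theorem s4511_bad : ∀ m, m < 2 ^ 11 → s4511Bad m = true → 4 ≤ (ofMask 11 m).card := by
  intro m hm h
  have h1 := List.all_eq_true.mp s4511_bad_aux m (List.mem_range.mpr hm)
  rw [h] at h1
  rw [card_ofMask]
  simpa using h1

theorem s4511_items_aux :
    s4511Items.all (fun tm => decide (tm < 2048) && decide (popc 11 tm = 4)) = true := by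
  decide +kernel

theorem s4511_items : ∀ tm ∈ s4511Items, tm < 2 ^ 11 ∧ (ofMask 11 tm).card = 4 := by
  intro tm htm
  have h1 := List.all_eq_true.mp s4511_items_aux tm htm
  rw [Bool.and_eq_true, decide_eq_true_eq, decide_eq_true_eq] at h1
  rw [card_ofMask]
  exact h1

theorem s4511_all_aux :
    (List.range 2048).all (fun tm => !(decide (popc 11 tm = 4)) || s4511Items.contains tm)
      = true := by
  decide +kernel

theorem s4511_all : ∀ tm, tm < 2 ^ 11 → (ofMask 11 tm).card = 4 → tm ∈ s4511Items := by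
  intro tm htm h
  have h1 := List.all_eq_true.mp s4511_all_aux tm (List.mem_range.mpr htm)
  rw [card_ofMask] at h
  rw [h] at h1
  simpa using h1

set_option maxRecDepth 100000 in
theorem s4511_search :
    search 11 s4511Bad (finalChk 11 s4511Std s4511Perms) s4511Items s4511Init = true := by
  decide +kernel

end Cfsg.Agent.Lib.helper10
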