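/-
Uniqueness of the Steiner system S(4, 5, 11): the points are labelled so that three blocks
through three given points are standard, and an exhaustive search over the Steiner systems on
`Fin 11` containing these three blocks shows that each is isomorphic to a reference system.
-/
import Mathlib
import Cfsg.Prelude.Def_Sporadic_a
import Cfsg.Agent.Lib.helper10.SteinerSearch
import Cfsg.Agent.Lib.helper10.S4511Data

set_option autoImplicit false
set_option linter.unusedSectionVars false

namespace Cfsg.Agent.Lib.helper10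

open Finset

section Transport

variable {α β : Type*} [DecidableEq α] [DecidableEq β]

/-- The preimage of a Steiner system under a bijection is a Steiner system. -/
theorem steiner_preimage {t k : ℕ} (e : β ≃ α) {B : Set (Finset α)}
    (hB : Cfsg.IsSteinerSystem t k B) :
    Cfsg.IsSteinerSystem t k {b : Finset β | b.image e ∈ B} := by
  refine ⟨fun b hb => ?_, fun s hs => ?_⟩
  · have h1 := hB.1 _ hb
    rwa [Finset.card_image_of_injective _ e.injective] at h1
  · have hs' : (s.image e).card = t := by rw [Finset.card_image_of_injective _ e.injective, hs]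
    obtain ⟨b', ⟨hb', hsub⟩, huniq⟩ := hB.2 _ hs'
    have himg : (b'.image e.symm).image e = b' := by
      rw [Finset.image_image]
      simp
    refine ⟨b'.image e.symm, ⟨?_, ?_⟩, ?_⟩
    · show (b'.image e.symm).image e ∈ B
      rw [himg]
      exact hb'
    · intro a ha
      rw [Finset.mem_image]
      exact ⟨e a, hsub (Finset.mem_image_of_mem e ha), e.symm_apply_apply a⟩
    · rintro c ⟨hc, hsc⟩
      have h1 := huniq (c.image e) ⟨hc, Finset.image_subset_image hsc⟩
      rw [← h1, Finset.image_image]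
      simp

theorem setSystemIso_preimage (e : β ≃ α) (B : Set (Finset α)) :
    Cfsg.SetSystemIso {b : Finset β | b.image e ∈ B} B := by
  refine ⟨e, ?_⟩
  ext b'
  constructor
  · rintro ⟨b, hb, rfl⟩
    exact hb
  · intro hb'
    have himg : (b'.image e.symm).image e = b' := by
      rw [Finset.image_image]
      simp
    refine ⟨b'.image e.symm, ?_, himg⟩
    show (b'.image e.symm).image e ∈ B
    rw [himg]
    exact hb'

end Transport

section S4511

variable {α : Type*} [Fintype α] [DecidableEq α] {B : Set (Finset α)}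

/-- The block through three points and a fourth one has a fifth point. -/
theorem s45_fifth (hB : Cfsg.IsSteinerSystem 4 5 B) {T : Finset α} (hT : T.card = 3) {v : α}
    (hv : v ∉ T) : ∃ w, w ∉ insert v T ∧ insert w (insert v T) ∈ B := by
  have h4 : (insert v T).card = 4 := by rw [Finset.card_insert_of_notMem hv, hT]
  obtain ⟨b, ⟨hb, hs⟩, -⟩ := hB.2 _ h4
  have h5 := hB.1 b hb
  obtain ⟨w, hwb, hw⟩ := Finset.exists_mem_notMem_of_card_lt_card
    (s := insert v T) (t := b) (by rw [h4, h5]; norm_num)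
  refine ⟨w, hw, ?_⟩
  have : insert w (insert v T) = b :=
    Finset.eq_of_subset_of_card_le (Finset.insert_subset hwb hs)
      (by rw [Finset.card_insert_of_notMem hw, h4, h5])
  rw [this]
  exact hb

/-- Two blocks of this shape with a common fifth point coincide. -/
theorem s45_fifth_notMem (hB : Cfsg.IsSteinerSystem 4 5 B) {T : Finset α} (hT : T.card = 3)
    {v w v' w' : α} (hw' : w' ∉ insert v' T)
    (hb : insert w (insert v T) ∈ B) (hb' : insert w' (insert v' T) ∈ B)
    (hv' : v' ∉ insert w (insert v T)) : w' ∉ insert w (insert v T) := by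
  intro hmem
  have hw'T : w' ∉ T := fun h => hw' (Finset.mem_insert_of_mem h)
  have h4 : (insert w' T).card = 4 := by rw [Finset.card_insert_of_notMem hw'T, hT]
  obtain ⟨d, -, hd⟩ := hB.2 _ h4
  have e1 := hd _ ⟨hb, by
    intro z hz
    rcases Finset.mem_insert.mp hz with rfl | hz
    · exact hmem
    · exact Finset.mem_insert_of_mem (Finset.mem_insert_of_mem hz)⟩
  have e2 := hd _ ⟨hb', by
    intro z hz
    rcases Finset.mem_insert.mp hz with rfl | hz
    · exact Finset.mem_insert_self _ _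
    · exact Finset.mem_insert_of_mem (Finset.mem_insert_of_mem hz)⟩
  apply hv'
  rw [e1, ← e2]
  exact Finset.mem_insert_of_mem (Finset.mem_insert_self _ _)

theorem five_insert_eq (x y a v w : α) :
    ({x, y, a, v, w} : Finset α) = insert w (insert v ({x, y, a} : Finset α)) := by
  ext z
  simp only [Finset.mem_insert, Finset.mem_singleton]
  tauto

/-- The points of a Steiner system S(4, 5, 11) can be labelled so that three blocks through
three given points are standard. -/
theorem s4511_normalize (hα : Fintype.card α = 11) (hB : Cfsg.IsSteinerSystem 4 5 B) :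
    ∃ e : Fin 11 ≃ α, ({10, 9, 8, 7, 6} : Finset (Fin 11)).image e ∈ B ∧
      ({10, 9, 8, 5, 4} : Finset (Fin 11)).image e ∈ B ∧
      ({10, 9, 8, 3, 2} : Finset (Fin 11)).image e ∈ B := by
  classical
  obtain ⟨T, -, hT⟩ := Finset.exists_subset_card_eq (s := (Finset.univ : Finset α)) (n := 3)
    (by rw [Finset.card_univ, hα]; norm_num)
  have hlt : ∀ s : Finset α, s.card ≤ 10 → ∃ v, v ∉ s := by
    intro s hs
    obtain ⟨v, -, hv⟩ := Finset.exists_mem_notMem_of_card_lt_card (s := s) (t := Finset.univ)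
      (by rw [Finset.card_univ, hα]; omega)
    exact ⟨v, hv⟩
  obtain ⟨v₁, hv₁⟩ := hlt T (by omega)
  obtain ⟨w₁, hw₁, hb₁⟩ := s45_fifth hB hT hv₁
  have hc₁ := hB.1 _ hb₁
  obtain ⟨v₂, hv₂⟩ := hlt _ (by rw [hc₁]; norm_num)
  have hv₂T : v₂ ∉ T := fun h => hv₂ (Finset.mem_insert_of_mem (Finset.mem_insert_of_mem h))
  obtain ⟨w₂, hw₂, hb₂⟩ := s45_fifth hB hT hv₂T
  have hw₂1 := s45_fifth_notMem hB hT hw₂ hb₁ hb₂ hv₂
  have hc₂ := hB.1 _ hb₂
  obtain ⟨v₃, hv₃⟩ := hlt (insert w₁ (insert v₁ T) ∪ insert w₂ (insert v₂ T))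
    ((Finset.card_union_le _ _).trans (by rw [hc₁, hc₂]))
  have hv₃1 : v₃ ∉ insert w₁ (insert v₁ T) := fun h => hv₃ (Finset.mem_union_left _ h)
  have hv₃2 : v₃ ∉ insert w₂ (insert v₂ T) := fun h => hv₃ (Finset.mem_union_right _ h)
  have hv₃T : v₃ ∉ T := fun h => hv₃1 (Finset.mem_insert_of_mem (Finset.mem_insert_of_mem h))
  obtain ⟨w₃, hw₃, hb₃⟩ := s45_fifth hB hT hv₃T
  have hw₃1 := s45_fifth_notMem hB hT hw₃ hb₁ hb₃ hv₃1
  have hw₃2 := s45_fifth_notMem hB hT hw₃ hb₂ hb₃ hv₃2
  obtain ⟨x, y, a, hxy, hxa, hya, rfl⟩ := Finset.card_eq_three.mp hT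
  simp only [Finset.mem_insert, Finset.mem_singleton, not_or] at hv₁ hw₁ hv₂ hw₂ hw₂1
  simp only [Finset.mem_insert, Finset.mem_singleton, not_or] at hv₃1 hv₃2 hw₃ hw₃1 hw₃2
  obtain ⟨h1x, h1y, h1a⟩ := hv₁
  obtain ⟨h2v, h2x, h2y, h2a⟩ := hw₁
  obtain ⟨h3w, h3v, h3x, h3y, h3a⟩ := hv₂
  obtain ⟨h4v, h4x, h4y, h4a⟩ := hw₂
  obtain ⟨h4w1, h4v1, -, -, -⟩ := hw₂1
  obtain ⟨h5w1, h5v1, h5x, h5y, h5a⟩ := hv₃1
  obtain ⟨h5w2, h5v2, -, -, -⟩ := hv₃2
  obtain ⟨h6v, h6x, h6y, h6a⟩ := hw₃
  obtain ⟨h6w1, h6v1, -, -, -⟩ := hw₃1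
  obtain ⟨h6w2, h6v2, -, -, -⟩ := hw₃2
  have hl : ([w₃, v₃, w₂, v₂, w₁, v₁, a, y, x] : List α).Nodup := by
    simp only [List.nodup_cons, List.mem_cons, List.not_mem_nil, or_false, not_or,
      List.nodup_nil, and_true, not_false_eq_true]
    exact ⟨⟨h6v, h6w2, h6v2, h6w1, h6v1, h6a, h6y, h6x⟩, ⟨h5w2, h5v2, h5w1, h5v1, h5a, h5y, h5x⟩,
      ⟨h4v, h4w1, h4v1, h4a, h4y, h4x⟩, ⟨h3w, h3v, h3a, h3y, h3x⟩, ⟨h2v, h2a, h2y, h2x⟩,
      ⟨h1a, h1y, h1x⟩, ⟨hya.symm, hxa.symm⟩, hxy.symm⟩
  have hinj : Set.InjOn (fun i : Fin 11 => [w₃, v₃, w₂, v₂, w₁, v₁, a, y, x].getD (i.val - 2) x)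
      ((Finset.univ.filter fun i : Fin 11 => 2 ≤ i.val : Finset (Fin 11)) : Set (Fin 11)) := by
    intro i hi j hj hij
    simp only [Finset.coe_filter, Finset.mem_univ, true_and, Set.mem_ofPred_eq] at hi hj
    have hi' : i.val - 2 < [w₃, v₃, w₂, v₂, w₁, v₁, a, y, x].length := by
      simp only [List.length_cons, List.length_nil]; omega
    have hj' : j.val - 2 < [w₃, v₃, w₂, v₂, w₁, v₁, a, y, x].length := by
      simp only [List.length_cons, List.length_nil]; omega
    simp only at hij
    rw [List.getD_eq_getElem _ _ hi', List.getD_eq_getElem _ _ hj'] at hij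
    have := (hl.getElem_inj_iff).mp hij
    apply Fin.ext
    omega
  obtain ⟨g, hg⟩ := Finset.exists_equiv_extend_of_card_eq (α := Fin 11)
    (t := (Finset.univ : Finset α)) (by rw [Finset.card_univ, hα, Fintype.card_fin])
    (s := Finset.univ.filter fun i : Fin 11 => 2 ≤ i.val)
    (f := fun i : Fin 11 => [w₃, v₃, w₂, v₂, w₁, v₁, a, y, x].getD (i.val - 2) x)
    (Finset.subset_univ _) hinj
  have hg' : ∀ i : Fin 11, 2 ≤ i.val →
      (g i : α) = [w₃, v₃, w₂, v₂, w₁, v₁, a, y, x].getD (i.val - 2) x := fun i hi =>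
    hg i (by simp only [Finset.mem_filter, Finset.mem_univ, true_and]; exact hi)
  refine ⟨g.trans (Equiv.subtypeUnivEquiv fun z => Finset.mem_univ z), ?_, ?_, ?_⟩
  · have : ({10, 9, 8, 7, 6} : Finset (Fin 11)).image
        (g.trans (Equiv.subtypeUnivEquiv fun z => Finset.mem_univ z)) =
        insert w₁ (insert v₁ ({x, y, a} : Finset α)) := by
      simp only [Finset.image_insert, Finset.image_singleton, Equiv.trans_apply,
        Equiv.subtypeUnivEquiv_apply]
      rw [hg' 10 (by decide), hg' 9 (by decide), hg' 8 (by decide), hg' 7 (by decide),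
        hg' 6 (by decide)]
      show ({x, y, a, v₁, w₁} : Finset α) = _
      exact five_insert_eq _ _ _ _ _
    rw [this]
    exact hb₁
  · have : ({10, 9, 8, 5, 4} : Finset (Fin 11)).image
        (g.trans (Equiv.subtypeUnivEquiv fun z => Finset.mem_univ z)) =
        insert w₂ (insert v₂ ({x, y, a} : Finset α)) := by
      simp only [Finset.image_insert, Finset.image_singleton, Equiv.trans_apply,
        Equiv.subtypeUnivEquiv_apply]
      rw [hg' 10 (by decide), hg' 9 (by decide), hg' 8 (by decide), hg' 5 (by decide),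
        hg' 4 (by decide)]
      show ({x, y, a, v₂, w₂} : Finset α) = _
      exact five_insert_eq _ _ _ _ _
    rw [this]
    exact hb₂
  · have : ({10, 9, 8, 3, 2} : Finset (Fin 11)).image
        (g.trans (Equiv.subtypeUnivEquiv fun z => Finset.mem_univ z)) =
        insert w₃ (insert v₃ ({x, y, a} : Finset α)) := by
      simp only [Finset.image_insert, Finset.image_singleton, Equiv.trans_apply,
        Equiv.subtypeUnivEquiv_apply]
      rw [hg' 10 (by decide), hg' 9 (by decide), hg' 8 (by decide), hg' 3 (by decide),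
        hg' 2 (by decide)]
      show ({x, y, a, v₃, w₃} : Finset α) = _
      exact five_insert_eq _ _ _ _ _
    rw [this]
    exact hb₃

theorem s4511_mask_a : ofMask 11 1984 = ({10, 9, 8, 7, 6} : Finset (Fin 11)) := by decide

theorem s4511_mask_b : ofMask 11 1840 = ({10, 9, 8, 5, 4} : Finset (Fin 11)) := by decide

theorem s4511_mask_c : ofMask 11 1804 = ({10, 9, 8, 3, 2} : Finset (Fin 11)) := by decide

/-- Every Steiner system S(4, 5, 11) is isomorphic to the reference system. -/
theorem s4511_iso_std (hα : Fintype.card α = 11) (hB : Cfsg.IsSteinerSystem 4 5 B) :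
    Cfsg.SetSystemIso B {b : Finset (Fin 11) | ∃ w ∈ s4511Std, ofMask 11 w = b} := by
  obtain ⟨e, h1, h2, h3⟩ := s4511_normalize hα hB
  have hB' := steiner_preimage e hB
  have hcs : ∀ c ∈ s4511Init,
      c < 2 ^ 11 ∧ ofMask 11 c ∈ {b : Finset (Fin 11) | b.image e ∈ B} := by
    intro c hc
    simp only [s4511Init, List.mem_cons, List.not_mem_nil, or_false] at hc
    rcases hc with rfl | rfl | rfl
    · refine ⟨by norm_num, ?_⟩
      show (ofMask 11 1984).image e ∈ B
      rw [s4511_mask_a]
      exact h1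
    · refine ⟨by norm_num, ?_⟩
      show (ofMask 11 1840).image e ∈ B
      rw [s4511_mask_b]
      exact h2
    · refine ⟨by norm_num, ?_⟩
      show (ofMask 11 1804).image e ∈ B
      rw [s4511_mask_c]
      exact h3
  have hiso := steiner_search_iso hB' s4511Bad s4511_bad s4511Std s4511Perms s4511Items
    s4511Init hcs s4511_items s4511_all s4511_search
  exact setSystemIso_trans (setSystemIso_symm (setSystemIso_preimage e B)) hiso

end S4511

/-- Any two Steiner systems S(4, 5, 11) are isomorphic. -/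
theorem s4511_unique {α β : Type*} [Fintype α] [DecidableEq α] [Fintype β] [DecidableEq β]
    {B : Set (Finset α)} {B' : Set (Finset β)} (hα : Fintype.card α = 11)
    (hβ : Fintype.card β = 11) (hB : Cfsg.IsSteinerSystem 4 5 B)
    (hB' : Cfsg.IsSteinerSystem 4 5 B') : Cfsg.SetSystemIso B B' :=
  setSystemIso_trans (s4511_iso_std hα hB) (setSystemIso_symm (s4511_iso_std hβ hB'))

end Cfsg.Agent.Lib.helper10
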