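/-
Exact intersection numbers with a fixed block ("Leech triangle" counting) in Steiner systems,
specialised to S(5, 6, 12).
-/
import Mathlib
import Cfsg.Prelude.Def_Sporadic_a
import Cfsg.Agent.Lib.helper10.Steiner3622

set_option autoImplicit false
set_option linter.unusedSectionVars false

namespace Cfsg.Agent.Lib.helper10

open Finset

section Exact

variable {α : Type*} [Fintype α] [DecidableEq α] {B : Set (Finset α)}

/-- Number of blocks meeting `b` exactly in `s`. -/
noncomputable def exactN (B : Set (Finset α)) (b s : Finset α) : ℕ :=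
  ((blk B).filter fun c => b ∩ c = s).card

theorem ncard_exact (B : Set (Finset α)) (b s : Finset α) :
    {c : Finset α | c ∈ B ∧ b ∩ c = s}.ncard = exactN B b s := by
  have : {c : Finset α | c ∈ B ∧ b ∩ c = s} = ↑((blk B).filter fun c => b ∩ c = s) := by
    ext c; simp [mem_blk]
  rw [this, Set.ncard_coe_finset, exactN]

/-- Blocks through `s ⊆ b`, sorted by their exact intersection with `b`. -/
theorem thru_eq_sum_exactN (B : Set (Finset α)) {b s : Finset α} (hs : s ⊆ b) :
    thru B s = ∑ u ∈ (b \ s).powerset, exactN B b (s ∪ u) := by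
  rw [thru, Finset.card_eq_sum_card_fiberwise (f := fun c => (b ∩ c) \ s)
    (t := (b \ s).powerset)]
  · refine Finset.sum_congr rfl fun u hu => ?_
    rw [exactN]
    congr 1
    ext c
    simp only [Finset.mem_filter]
    rw [Finset.mem_powerset] at hu
    constructor
    · rintro ⟨⟨hc, hsc⟩, h⟩
      refine ⟨hc, ?_⟩
      rw [← h, Finset.union_sdiff_of_subset (Finset.subset_inter hs hsc)]
    · rintro ⟨hc, h⟩
      have hsc : s ⊆ c := by
        have : s ⊆ b ∩ c := by rw [h]; exact Finset.subset_union_left
        exact this.trans Finset.inter_subset_right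
      refine ⟨⟨hc, hsc⟩, ?_⟩
      rw [h, Finset.union_sdiff_left]
      exact Finset.sdiff_eq_self_of_disjoint
        ((Finset.disjoint_sdiff.mono_right hu).symm)
  · intro c _
    refine Finset.mem_coe.mpr (Finset.mem_powerset.mpr ?_)
    exact Finset.sdiff_subset_sdiff Finset.inter_subset_left (Finset.Subset.refl _)

/-- One step of the downward recursion for the exact intersection numbers. -/
theorem exactN_step {b s : Finset α} (hs : s ⊆ b) (e : ℕ → ℕ)
    (IH : ∀ t, t ⊆ b → s.card < t.card → exactN B b t = e t.card) :
    thru B s = ∑ j ∈ Finset.range ((b \ s).card + 1),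
      (b \ s).card.choose j * (if j = 0 then exactN B b s else e (s.card + j)) := by
  rw [thru_eq_sum_exactN B hs]
  have key : ∀ u ∈ (b \ s).powerset, exactN B b (s ∪ u)
      = (fun j => if j = 0 then exactN B b s else e (s.card + j)) u.card := by
    intro u hu
    rw [Finset.mem_powerset] at hu
    by_cases h0 : u = ∅
    · subst h0
      simp
    · have hdisj : Disjoint s u := Finset.disjoint_sdiff.mono_right hu
      have hcard : (s ∪ u).card = s.card + u.card := Finset.card_union_of_disjoint hdisj
      have hpos : 0 < u.card := Finset.card_pos.mpr (Finset.nonempty_iff_ne_empty.mpr h0)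
      have hne : u.card ≠ 0 := by omega
      show exactN B b (s ∪ u) = if u.card = 0 then exactN B b s else e (s.card + u.card)
      rw [if_neg hne, IH (s ∪ u) (Finset.union_subset hs (hu.trans Finset.sdiff_subset))
        (by omega), hcard]
  have h2 := Finset.sum_powerset_apply_card (α := ℕ)
    (f := fun j => if j = 0 then exactN B b s else e (s.card + j)) (x := b \ s)
  refine (Finset.sum_congr rfl key).trans (h2.trans ?_)
  simp [smul_eq_mul]

/-! ### S(5, 6, 12) -/

theorem s5612_thru_five (hB : Cfsg.IsSteinerSystem 5 6 B) (s : Finset α) (hs : s.card = 5) :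
    thru B s = 1 := thru_top hB s hs

theorem s5612_thru_four (hB : Cfsg.IsSteinerSystem 5 6 B) (hα : Fintype.card α = 12)
    (s : Finset α) (hs : s.card = 4) : thru B s = 4 := by
  have := thru_step hB s 1 (fun x hx => s5612_thru_five hB _ (card_insert_eq' hs hx))
  rw [hα, hs] at this
  omega

theorem s5612_thru_three (hB : Cfsg.IsSteinerSystem 5 6 B) (hα : Fintype.card α = 12)
    (s : Finset α) (hs : s.card = 3) : thru B s = 12 := by
  have := thru_step hB s 4 (fun x hx => s5612_thru_four hB hα _ (card_insert_eq' hs hx))
  rw [hα, hs] at this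
  omega

theorem s5612_thru_two (hB : Cfsg.IsSteinerSystem 5 6 B) (hα : Fintype.card α = 12)
    (s : Finset α) (hs : s.card = 2) : thru B s = 30 := by
  have := thru_step hB s 12 (fun x hx => s5612_thru_three hB hα _ (card_insert_eq' hs hx))
  rw [hα, hs] at this
  omega

theorem s5612_thru_one (hB : Cfsg.IsSteinerSystem 5 6 B) (hα : Fintype.card α = 12)
    (s : Finset α) (hs : s.card = 1) : thru B s = 66 := by
  have := thru_step hB s 30 (fun x hx => s5612_thru_two hB hα _ (card_insert_eq' hs hx))
  rw [hα, hs] at this
  omega

theorem s5612_thru_zero (hB : Cfsg.IsSteinerSystem 5 6 B) (hα : Fintype.card α = 12)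
    (s : Finset α) (hs : s.card = 0) : thru B s = 132 := by
  have := thru_step hB s 66 (fun x hx => s5612_thru_one hB hα _ (card_insert_eq' hs hx))
  rw [hα, hs] at this
  omega

/-- The exact intersection numbers of S(5, 6, 12) with a block, by size of the intersection. -/
def e5612 : ℕ → ℕ
  | 6 => 1
  | 4 => 3
  | 3 => 2
  | 2 => 3
  | 0 => 1
  | _ => 0

theorem s5612_exactN (hB : Cfsg.IsSteinerSystem 5 6 B) (hα : Fintype.card α = 12)
    {b : Finset α} (hb : b ∈ B) (t : Finset α) (ht : t ⊆ b) :
    exactN B b t = e5612 t.card := by
  have hb6 := hB.1 b hb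
  have hsd : ∀ s : Finset α, s ⊆ b → (b \ s).card = 6 - s.card := by
    intro s hs
    rw [Finset.card_sdiff_of_subset hs, hb6]
  have P6 : ∀ t, t ⊆ b → 6 ≤ t.card → exactN B b t = e5612 t.card := by
    intro t ht h6
    have htb : t = b := Finset.eq_of_subset_of_card_le ht (by omega)
    subst htb
    rw [hb6]
    show exactN B t t = 1
    rw [exactN, Finset.card_eq_one]
    refine ⟨t, ?_⟩
    ext c
    simp only [Finset.mem_filter, mem_blk, Finset.mem_singleton]
    constructor
    · rintro ⟨hc, h⟩
      have hsub : t ⊆ c := Finset.inter_eq_left.mp h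
      exact (Finset.eq_of_subset_of_card_le hsub (by rw [hB.1 c hc, hb6])).symm
    · rintro rfl
      exact ⟨hb, Finset.inter_self _⟩
  have P5 : ∀ t, t ⊆ b → 5 ≤ t.card → exactN B b t = e5612 t.card := by
    intro t ht h5
    rcases Nat.lt_or_ge 5 t.card with h | h
    · exact P6 t ht h
    · have htc : t.card = 5 := by omega
      have := exactN_step (B := B) ht e5612 (fun t' ht' hlt => P6 t' ht' (by omega))
      rw [s5612_thru_five hB t htc, hsd t ht, htc] at this
      simp [Finset.sum_range_succ, Nat.choose, e5612] at this
      rw [htc]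
      show exactN B b t = 0
      omega
  have P4 : ∀ t, t ⊆ b → 4 ≤ t.card → exactN B b t = e5612 t.card := by
    intro t ht h5
    rcases Nat.lt_or_ge 4 t.card with h | h
    · exact P5 t ht h
    · have htc : t.card = 4 := by omega
      have := exactN_step (B := B) ht e5612 (fun t' ht' hlt => P5 t' ht' (by omega))
      rw [s5612_thru_four hB hα t htc, hsd t ht, htc] at this
      simp [Finset.sum_range_succ, Nat.choose, e5612] at this
      rw [htc]
      show exactN B b t = 3
      omega
  have P3 : ∀ t, t ⊆ b → 3 ≤ t.card → exactN B b t = e5612 t.card := by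
    intro t ht h5
    rcases Nat.lt_or_ge 3 t.card with h | h
    · exact P4 t ht h
    · have htc : t.card = 3 := by omega
      have := exactN_step (B := B) ht e5612 (fun t' ht' hlt => P4 t' ht' (by omega))
      rw [s5612_thru_three hB hα t htc, hsd t ht, htc] at this
      simp [Finset.sum_range_succ, Nat.choose, e5612] at this
      rw [htc]
      show exactN B b t = 2
      omega
  have P2 : ∀ t, t ⊆ b → 2 ≤ t.card → exactN B b t = e5612 t.card := by
    intro t ht h5
    rcases Nat.lt_or_ge 2 t.card with h | h
    · exact P3 t ht h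
    · have htc : t.card = 2 := by omega
      have := exactN_step (B := B) ht e5612 (fun t' ht' hlt => P3 t' ht' (by omega))
      rw [s5612_thru_two hB hα t htc, hsd t ht, htc] at this
      simp [Finset.sum_range_succ, Nat.choose, e5612] at this
      rw [htc]
      show exactN B b t = 3
      omega
  have P1 : ∀ t, t ⊆ b → 1 ≤ t.card → exactN B b t = e5612 t.card := by
    intro t ht h5
    rcases Nat.lt_or_ge 1 t.card with h | h
    · exact P2 t ht h
    · have htc : t.card = 1 := by omega
      have := exactN_step (B := B) ht e5612 (fun t' ht' hlt => P2 t' ht' (by omega))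
      rw [s5612_thru_one hB hα t htc, hsd t ht, htc] at this
      simp [Finset.sum_range_succ, Nat.choose, e5612] at this
      rw [htc]
      show exactN B b t = 0
      omega
  rcases Nat.lt_or_ge 0 t.card with h | h
  · exact P1 t ht h
  · have htc : t.card = 0 := by omega
    have := exactN_step (B := B) ht e5612 (fun t' ht' hlt => P1 t' ht' (by omega))
    rw [s5612_thru_zero hB hα t htc, hsd t ht, htc] at this
    simp [Finset.sum_range_succ, Nat.choose, e5612] at this
    rw [htc]
    show exactN B b t = 1
    omega

end Exact

end Cfsg.Agent.Lib.helper10
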