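/-
Uniqueness of the Steiner system S(5, 6, 12): the derived systems at a point are isomorphic
Steiner systems S(4, 5, 11), and since the blocks missing the point are the complements of the
blocks through it, an isomorphism of the derived systems extends to the whole systems.
-/
import Mathlib
import Cfsg.Prelude.Def_Sporadic_a
import Cfsg.Agent.Lib.helper10.Steiner5612
import Cfsg.Agent.Lib.helper10.SteinerExt
import Cfsg.Agent.Lib.helper10.S4511Unique

set_option autoImplicit false
set_option linter.unusedSectionVars false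

namespace Cfsg.Agent.Lib.helper10

open Finset

section S5612

variable {α : Type*} [Fintype α] [DecidableEq α] {β : Type*} [Fintype β] [DecidableEq β]

/-- In a Steiner system S(5, 6, 12), the complement of a block is a block. -/
theorem s5612_compl (hα : Fintype.card α = 12) {B : Set (Finset α)}
    (hB : Cfsg.IsSteinerSystem 5 6 B) {b : Finset α} (hb : b ∈ B) : bᶜ ∈ B := by
  have h1 : exactN B b ∅ = 1 := s5612_exactN hB hα hb ∅ (Finset.empty_subset b)
  have hpos : ((blk B).filter fun c => b ∩ c = ∅).Nonempty := by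
    rw [← Finset.card_pos]
    rw [exactN] at h1
    omega
  obtain ⟨c, hc⟩ := hpos
  rw [Finset.mem_filter, mem_blk] at hc
  have hsub : c ⊆ bᶜ := by
    intro x hx
    rw [Finset.mem_compl]
    intro hxb
    have : x ∈ b ∩ c := Finset.mem_inter.mpr ⟨hxb, hx⟩
    rw [hc.2] at this
    exact absurd this (Finset.notMem_empty x)
  have hcard : bᶜ.card ≤ c.card := by
    rw [Finset.card_compl, hα, hB.1 b hb, hB.1 c hc.1]
  rw [← Finset.eq_of_subset_of_card_le hsub hcard]
  exact hc.1

theorem compl_map_ptEmb (x : α) (l : Finset {y : α // y ≠ x}) :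
    (l.map (ptEmb x))ᶜ = insert x (lᶜ.map (ptEmb x)) := by
  ext y
  simp only [Finset.mem_compl, Finset.mem_insert, Finset.mem_map, ptEmb_apply]
  constructor
  · intro h
    by_cases hyx : y = x
    · exact Or.inl hyx
    · exact Or.inr ⟨⟨y, hyx⟩, fun hl => h ⟨⟨y, hyx⟩, hl, rfl⟩, rfl⟩
  · rintro (rfl | ⟨z, hz, rfl⟩)
    · rintro ⟨z, -, hz⟩
      exact z.2 hz
    · rintro ⟨z', hz', hzz⟩
      exact hz (Subtype.ext hzz ▸ hz')

theorem compl_insert_map_ptEmb (x : α) (l : Finset {y : α // y ≠ x}) :
    (insert x (l.map (ptEmb x)))ᶜ = lᶜ.map (ptEmb x) := by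
  have h := compl_map_ptEmb x lᶜ
  rw [compl_compl] at h
  rw [← h, compl_compl]

theorem image_equiv_compl (e : α ≃ β) (s : Finset α) : sᶜ.image e = (s.image e)ᶜ := by
  ext y
  simp only [Finset.mem_image, Finset.mem_compl]
  constructor
  · rintro ⟨a, ha, rfl⟩ ⟨a', ha', h⟩
    exact ha (e.injective h ▸ ha')
  · intro h
    exact ⟨e.symm y, fun hs => h ⟨e.symm y, hs, e.apply_symm_apply y⟩, e.apply_symm_apply y⟩

theorem s5612_card_blk (hα : Fintype.card α = 12) {B : Set (Finset α)}
    (hB : Cfsg.IsSteinerSystem 5 6 B) : (blk B).card = 132 := by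
  have h := s5612_thru_zero hB hα ∅ Finset.card_empty
  rw [thru, Finset.filter_true_of_mem (fun b _ => Finset.empty_subset b)] at h
  exact h

/-- Any two Steiner systems S(5, 6, 12) are isomorphic. -/
theorem s5612_unique (hα : Fintype.card α = 12) (hβ : Fintype.card β = 12)
    {B : Set (Finset α)} {B' : Set (Finset β)} (hB : Cfsg.IsSteinerSystem 5 6 B)
    (hB' : Cfsg.IsSteinerSystem 5 6 B') : Cfsg.SetSystemIso B B' := by
  obtain ⟨x⟩ : Nonempty α := Fintype.card_pos_iff.mp (by rw [hα]; norm_num)
  obtain ⟨x'⟩ : Nonempty β := Fintype.card_pos_iff.mp (by rw [hβ]; norm_num)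
  have hL : Cfsg.IsSteinerSystem 4 5 (der B x) := der_steiner hB x
  have hL' : Cfsg.IsSteinerSystem 4 5 (der B' x') := der_steiner hB' x'
  have hP : Fintype.card {y : α // y ≠ x} = 11 := by rw [card_ptCompl, hα]
  have hP' : Fintype.card {y : β // y ≠ x'} = 11 := by rw [card_ptCompl, hβ]
  obtain ⟨e, he⟩ := s4511_unique hP hP' hL hL'
  have h1 : ∀ l ∈ der B x, l.image e ∈ der B' x' := by
    intro l hl
    rw [← he]
    exact ⟨l, hl, rfl⟩
  have h2 : ∀ l ∈ res B x, l.image e ∈ res B' x' := by
    intro l hl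
    have h3 : lᶜ ∈ der B x := by
      show insert x (lᶜ.map (ptEmb x)) ∈ B
      rw [← compl_map_ptEmb]
      exact s5612_compl hα hB hl
    have h4 := h1 _ h3
    rw [image_equiv_compl] at h4
    have h5 := s5612_compl hβ hB' h4
    rw [compl_insert_map_ptEmb, compl_compl] at h5
    exact h5
  exact setSystemIso_of_maps (extPt x x' e) (extPt_maps x x' e h1 h2)
    ((s5612_card_blk hα hB).trans (s5612_card_blk hβ hB').symm)

end S5612

end Cfsg.Agent.Lib.helper10
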