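/-
A simplicity criterion for permutation groups: a 2-transitive group whose point stabilizer is
simple and whose degree is divisible by two distinct primes is simple (a regular normal subgroup
of a 2-transitive group would have all its nonidentity elements conjugate).
-/
import Mathlib
import Cfsg.Agent.Lib.helper10.PermP2

set_option autoImplicit false
set_option linter.unusedSectionVars false

namespace Cfsg.Agent.Lib.helper10

section TwoTrans

variable {α : Type*} [Fintype α] [DecidableEq α]

/-- A nontrivial normal subgroup of a 2-transitive permutation group is transitive. -/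
theorem pretransitive_of_normal_two_trans (G : Subgroup (Equiv.Perm α))
    (h2 : MulAction.IsMultiplyPretransitive G α 2) (N : Subgroup G) (hN : N.Normal)
    (hne : N ≠ ⊥) : MulAction.IsPretransitive N α := by
  have : MulAction.IsPreprimitive G α := MulAction.isPreprimitive_of_is_two_pretransitive h2
  have hfp : MulAction.fixedPoints N α ≠ Set.univ := by
    intro h
    apply hne
    rw [Subgroup.eq_bot_iff_forall]
    intro n hn
    apply Subtype.ext
    apply Equiv.ext
    intro a
    have ha : a ∈ MulAction.fixedPoints N α := by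
      rw [h]
      exact Set.mem_univ a
    exact ha ⟨n, hn⟩
  exact MulAction.IsQuasiPreprimitive.isPretransitive_of_normal hfp

/-- A 2-transitive permutation group with a simple point stabilizer, on a set whose size is
divisible by two distinct primes, is simple. -/
theorem simple_of_two_trans_of_stab_simple (G : Subgroup (Equiv.Perm α))
    (h2 : MulAction.IsMultiplyPretransitive G α 2) (a : α)
    (hs : IsSimpleGroup (MulAction.stabilizer G a)) (p q : ℕ) (hp : p.Prime) (hq : q.Prime)
    (hpq : p ≠ q) (hpα : p ∣ Fintype.card α) (hqα : q ∣ Fintype.card α) : IsSimpleGroup G := by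
  have hnt : Nontrivial G := by
    obtain ⟨u, v, huv⟩ := exists_pair_ne (MulAction.stabilizer G a)
    exact ⟨⟨u.1, v.1, fun h => huv (Subtype.ext h)⟩⟩
  refine IsSimpleGroup.mk ?_
  intro N hNn
  by_contra hcon
  rw [not_or] at hcon
  obtain ⟨hNbot, hNtop⟩ := hcon
  have htr : MulAction.IsPretransitive N α := pretransitive_of_normal_two_trans G h2 N hNn hNbot
  have hM : (N.subgroupOf (MulAction.stabilizer G a)).Normal := inferInstance
  rcases hs.eq_bot_or_eq_top_of_normal _ hM with hbot | htop
  · -- the regular case
    have hreg : ∀ n : G, n ∈ N → (n : Equiv.Perm α) a = a → n = 1 := by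
      intro n hn hna
      have h1 : (⟨n, MulAction.mem_stabilizer_iff.mpr hna⟩ : MulAction.stabilizer G a)
          ∈ N.subgroupOf (MulAction.stabilizer G a) := Subgroup.mem_subgroupOf.mpr hn
      rw [hbot, Subgroup.mem_bot] at h1
      exact congrArg Subtype.val h1
    have hdvd : Fintype.card α ∣ Nat.card N := card_dvd_of_normal_two_trans G h2 N hNn hNbot
    have hconj : ∀ n n' : G, n ∈ N → n' ∈ N → n ≠ 1 → n' ≠ 1 → orderOf n' = orderOf n := by
      intro n n' hn hn' hn1 hn1'
      have hna : (n : Equiv.Perm α) a ≠ a := fun h => hn1 (hreg n hn h)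
      have hn'a : (n' : Equiv.Perm α) a ≠ a := fun h => hn1' (hreg n' hn' h)
      obtain ⟨h, hh1, hh2⟩ := MulAction.is_two_pretransitive_iff.mp h2 (Ne.symm hna)
        (Ne.symm hn'a)
      have hh1' : (h : Equiv.Perm α) a = a := hh1
      have hh2' : (h : Equiv.Perm α) ((n : Equiv.Perm α) a) = (n' : Equiv.Perm α) a := hh2
      have hmem : h * n * h⁻¹ ∈ N := hNn.conj_mem n hn h
      have heq : n'⁻¹ * (h * n * h⁻¹) = 1 := by
        apply hreg _ (N.mul_mem (N.inv_mem hn') hmem)
        show (n' : Equiv.Perm α)⁻¹ ((h : Equiv.Perm α) ((n : Equiv.Perm α)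
          ((h : Equiv.Perm α)⁻¹ a))) = a
        have h3 : (h : Equiv.Perm α)⁻¹ a = a := by
          rw [Equiv.Perm.inv_eq_iff_eq]
          exact hh1'.symm
        rw [h3, hh2', Equiv.Perm.inv_def, Equiv.symm_apply_apply]
      have h4 : n' = h * n * h⁻¹ := inv_mul_eq_one.mp heq
      rw [h4]
      exact orderOf_injective (MulAut.conj h).toMonoidHom (MulAut.conj h).injective n
    have := Fact.mk hp
    have := Fact.mk hq
    obtain ⟨n₂, hn₂⟩ := exists_prime_orderOf_dvd_card' (G := N) p (hpα.trans hdvd)
    obtain ⟨n₃, hn₃⟩ := exists_prime_orderOf_dvd_card' (G := N) q (hqα.trans hdvd)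
    rw [← Subgroup.orderOf_coe] at hn₂ hn₃
    have h21 : (n₂ : G) ≠ 1 := by
      intro h
      rw [h, orderOf_one] at hn₂
      exact hp.one_lt.ne hn₂
    have h31 : (n₃ : G) ≠ 1 := by
      intro h
      rw [h, orderOf_one] at hn₃
      exact hq.one_lt.ne hn₃
    have h5 := hconj n₂ n₃ n₂.2 n₃.2 h21 h31
    rw [hn₂, hn₃] at h5
    exact hpq h5.symm
  · -- the stabilizer lies in `N`, and `N` is transitive
    have hle : MulAction.stabilizer G a ≤ N := by
      intro s hs'
      have h1 : (⟨s, hs'⟩ : MulAction.stabilizer G a)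
          ∈ N.subgroupOf (MulAction.stabilizer G a) := by
        rw [htop]
        exact Subgroup.mem_top _
      exact Subgroup.mem_subgroupOf.mp h1
    apply hNtop
    rw [eq_top_iff]
    intro g _
    obtain ⟨n, hn⟩ := MulAction.exists_smul_eq N (g • a) a
    have h1 : (n : G) * g ∈ MulAction.stabilizer G a := by
      rw [MulAction.mem_stabilizer_iff, mul_smul]
      exact hn
    have h2 := hle h1
    have h3 : g = (n : G)⁻¹ * ((n : G) * g) := by group
    rw [h3]
    exact N.mul_mem (N.inv_mem n.2) h2

end TwoTrans

end Cfsg.Agent.Lib.helper10
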