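/-
The automorphism group of a Steiner system S(5, 8, 24): 5-transitivity, the point stabilizer is
the automorphism group of the derived S(4, 7, 23), the order 244823040, and simplicity (the
Mathieu group M24).
-/
import Mathlib
import Cfsg.Prelude.Def_Sporadic_a
import Cfsg.Agent.Lib.helper10.Steiner3622
import Cfsg.Agent.Lib.helper10.S3622Unique
import Cfsg.Agent.Lib.helper10.Steiner4723
import Cfsg.Agent.Lib.helper10.SteinerExt
import Cfsg.Agent.Lib.helper10.S4723Unique
import Cfsg.Agent.Lib.helper10.S5824Unique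
import Cfsg.Agent.Lib.helper10.S3622Frame
import Cfsg.Agent.Lib.helper10.S3622Aut
import Cfsg.Agent.Lib.helper10.S4723Aut
import Cfsg.Agent.Lib.helper10.M23Simple
import Cfsg.Agent.Lib.helper10.PermP2
import Cfsg.Agent.Lib.helper10.TwoTransSimple

set_option autoImplicit false
set_option linter.unusedSectionVars false

namespace Cfsg.Agent.Lib.helper10

open Finset
open scoped Pointwise

section M24

variable {α : Type*} [Fintype α] [DecidableEq α] {β : Type*} [Fintype β] [DecidableEq β]
  {B : Set (Finset α)} {B' : Set (Finset β)}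

theorem extPt_eq_ofSubtype (x : α) (f : Equiv.Perm {y : α // y ≠ x}) :
    extPt x x f = Equiv.Perm.ofSubtype f := by
  apply Equiv.ext
  intro a
  by_cases ha : a = x
  · rw [ha, extPt_self, Equiv.Perm.ofSubtype_apply_of_not_mem]
    simp
  · have := extPt_coe x x f ⟨a, ha⟩
    rw [Equiv.Perm.ofSubtype_apply_of_mem f ha]
    exact this

variable (hB : Cfsg.IsSteinerSystem 5 8 B) (hα : Fintype.card α = 24)
  (hB' : Cfsg.IsSteinerSystem 5 8 B') (hβ : Fintype.card β = 24)

include hB hα hB' hβ in
/-- Every isomorphism of the derived systems of two S(5, 8, 24) extends. -/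
theorem s5824_extPt_maps {x : α} {x' : β} (f : {y : α // y ≠ x} ≃ {y : β // y ≠ x'})
    (hf : ∀ l ∈ der B x, l.image f ∈ der B' x') : ∀ b ∈ B, b.image (extPt x x' f) ∈ B' := by
  have hD : Cfsg.IsSteinerSystem 4 7 (der B x) := der_steiner hB x
  have hD' : Cfsg.IsSteinerSystem 4 7 (der B' x') := der_steiner hB' x'
  have hP : Fintype.card {y : α // y ≠ x} = 23 := by rw [card_ptCompl, hα]
  have hP' : Fintype.card {y : β // y ≠ x'} = 23 := by rw [card_ptCompl, hβ]
  have hc : (blk (der B x)).card = (blk (der B' x')).card := by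
    rw [s4723_card_blk hD hP, s4723_card_blk hD' hP']
  refine extPt_maps x x' f hf (fun Y hY => ?_)
  have h0 := res_mem_oct hB hα hY
  refine oct_mem_res hB' hβ ⟨?_, fun b' hb' => ?_⟩
  · rw [Finset.card_image_of_injective _ f.injective]
    exact h0.1
  · obtain ⟨b, hb, rfl⟩ := exists_preimage_block f hf hc hb'
    rw [← Finset.image_inter _ _ f.injective, Finset.card_image_of_injective _ f.injective]
    exact h0.2 b hb

include hB hα hB' hβ in
/-- Isomorphisms between Steiner systems S(5, 8, 24) with five prescribed values. -/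
theorem s5824_iso_five (f : Fin 5 ↪ α) (f' : Fin 5 ↪ β) :
    ∃ g : α ≃ β, (∀ d ∈ B, d.image g ∈ B') ∧ ∀ i, g (f i) = f' i := by
  have hD : Cfsg.IsSteinerSystem 4 7 (der B (f 0)) := der_steiner hB (f 0)
  have hD' : Cfsg.IsSteinerSystem 4 7 (der B' (f' 0)) := der_steiner hB' (f' 0)
  have hP : Fintype.card {y : α // y ≠ f 0} = 23 := by rw [card_ptCompl, hα]
  have hP' : Fintype.card {y : β // y ≠ f' 0} = 23 := by rw [card_ptCompl, hβ]
  have hne : ∀ i : Fin 5, i ≠ 0 → f i ≠ f 0 := fun i hi => f.injective.ne hi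
  have hne' : ∀ i : Fin 5, i ≠ 0 → f' i ≠ f' 0 := fun i hi => f'.injective.ne hi
  have hd : ∀ (i j : Fin 5) (hi : i ≠ 0) (hj : j ≠ 0), i ≠ j →
      (⟨f i, hne i hi⟩ : {y : α // y ≠ f 0}) ≠ ⟨f j, hne j hj⟩ :=
    fun i j hi hj hij h => hij (f.injective (congrArg Subtype.val h))
  have hd' : ∀ (i j : Fin 5) (hi : i ≠ 0) (hj : j ≠ 0), i ≠ j →
      (⟨f' i, hne' i hi⟩ : {y : β // y ≠ f' 0}) ≠ ⟨f' j, hne' j hj⟩ :=
    fun i j hi hj hij h => hij (f'.injective (congrArg Subtype.val h))
  obtain ⟨e, he, h1, h2, h3, h4⟩ := s4723_iso_four hD hP hD' hP'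
    (hd 1 2 (by decide) (by decide) (by decide)) (hd 1 3 (by decide) (by decide) (by decide))
    (hd 1 4 (by decide) (by decide) (by decide)) (hd 2 3 (by decide) (by decide) (by decide))
    (hd 2 4 (by decide) (by decide) (by decide)) (hd 3 4 (by decide) (by decide) (by decide))
    (hd' 1 2 (by decide) (by decide) (by decide)) (hd' 1 3 (by decide) (by decide) (by decide))
    (hd' 1 4 (by decide) (by decide) (by decide)) (hd' 2 3 (by decide) (by decide) (by decide))
    (hd' 2 4 (by decide) (by decide) (by decide)) (hd' 3 4 (by decide) (by decide) (by decide))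
  refine ⟨extPt (f 0) (f' 0) e, s5824_extPt_maps hB hα hB' hβ e he, fun i => ?_⟩
  fin_cases i
  · exact extPt_self _ _ _
  · have := extPt_coe (f 0) (f' 0) e ⟨f 1, hne 1 (by decide)⟩
    rw [h1] at this
    exact this
  · have := extPt_coe (f 0) (f' 0) e ⟨f 2, hne 2 (by decide)⟩
    rw [h2] at this
    exact this
  · have := extPt_coe (f 0) (f' 0) e ⟨f 3, hne 3 (by decide)⟩
    rw [h3] at this
    exact this
  · have := extPt_coe (f 0) (f' 0) e ⟨f 4, hne 4 (by decide)⟩
    rw [h4] at this
    exact this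

include hB hα in
/-- The automorphism group of an S(5, 8, 24) is 5-transitive on the points. -/
theorem s5824_five_trans : MulAction.IsMultiplyPretransitive (Cfsg.setSystemAut B) α 5 := by
  rw [MulAction.isMultiplyPretransitive_iff]
  intro f f'
  obtain ⟨g, hg, h⟩ := s5824_iso_five hB hα hB hα f f'
  refine ⟨⟨g, mem_aut_iff.mpr hg⟩, ?_⟩
  ext i
  exact h i

include hB hα in
theorem s5824_two_trans : MulAction.IsMultiplyPretransitive (Cfsg.setSystemAut B) α 2 := by
  have h5 := s5824_five_trans hB hα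
  exact MulAction.isMultiplyPretransitive_of_le (n := 5) (by norm_num)
    (by rw [Nat.card_eq_fintype_card, hα]; norm_num)

include hB hα in
/-- The stabilizer of a point in the automorphism group of an S(5, 8, 24) is isomorphic to the
automorphism group of the derived S(4, 7, 23). -/
theorem s5824_stab_equiv (x : α) :
    Nonempty (↥(Cfsg.setSystemAut (der B x)) ≃*
      ↥(MulAction.stabilizer (Cfsg.setSystemAut B) x)) := by
  have h1 : ∀ k : Cfsg.setSystemAut (der B x),
      (Equiv.Perm.ofSubtype.comp (Subgroup.subtype (Cfsg.setSystemAut (der B x)))) k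
        ∈ Cfsg.setSystemAut B := by
    intro k
    show Equiv.Perm.ofSubtype (k : Equiv.Perm {y : α // y ≠ x}) ∈ Cfsg.setSystemAut B
    rw [← extPt_eq_ofSubtype]
    exact mem_aut_iff.mpr (s5824_extPt_maps hB hα hB hα _ (mem_aut_iff.mp k.2))
  have h2 : ∀ k : Cfsg.setSystemAut (der B x),
      ((Equiv.Perm.ofSubtype.comp (Subgroup.subtype (Cfsg.setSystemAut (der B x)))).codRestrict
        (Cfsg.setSystemAut B) h1) k ∈ MulAction.stabilizer (Cfsg.setSystemAut B) x := by
    intro k
    rw [MulAction.mem_stabilizer_iff]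
    show Equiv.Perm.ofSubtype (k : Equiv.Perm {y : α // y ≠ x}) x = x
    exact Equiv.Perm.ofSubtype_apply_of_not_mem _ (by simp)
  refine ⟨MulEquiv.ofBijective
    (((Equiv.Perm.ofSubtype.comp (Subgroup.subtype (Cfsg.setSystemAut (der B x)))).codRestrict
      (Cfsg.setSystemAut B) h1).codRestrict (MulAction.stabilizer (Cfsg.setSystemAut B) x) h2)
    ⟨?_, ?_⟩⟩
  · intro k k' e
    have e1 : Equiv.Perm.ofSubtype (k : Equiv.Perm {y : α // y ≠ x})
        = Equiv.Perm.ofSubtype (k' : Equiv.Perm {y : α // y ≠ x}) :=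
      congrArg (fun s : MulAction.stabilizer (Cfsg.setSystemAut B) x =>
        ((s : Cfsg.setSystemAut B) : Equiv.Perm α)) e
    exact Subtype.ext (Equiv.Perm.ofSubtype_injective e1)
  · intro s
    have hsx : ((s : Cfsg.setSystemAut B) : Equiv.Perm α) x = x :=
      MulAction.mem_stabilizer_iff.mp s.2
    have hsB := mem_aut_iff.mp (s : Cfsg.setSystemAut B).2
    refine ⟨⟨restrictPt ((s : Cfsg.setSystemAut B) : Equiv.Perm α) hsx,
      mem_aut_iff.mpr (restrictPt_der _ hsx hsB)⟩, ?_⟩
    apply Subtype.ext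
    apply Subtype.ext
    show Equiv.Perm.ofSubtype (restrictPt ((s : Cfsg.setSystemAut B) : Equiv.Perm α) hsx)
      = ((s : Cfsg.setSystemAut B) : Equiv.Perm α)
    rw [← extPt_eq_ofSubtype]
    exact extPt_restrictPt _ hsx

include hB hα in
theorem s5824_card_stabilizer (x : α) :
    Nat.card (MulAction.stabilizer (Cfsg.setSystemAut B) x) = 10200960 := by
  have hD : Cfsg.IsSteinerSystem 4 7 (der B x) := der_steiner hB x
  have hP : Fintype.card {y : α // y ≠ x} = 23 := by rw [card_ptCompl, hα]
  obtain ⟨e⟩ := s5824_stab_equiv hB hα x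
  rw [← Nat.card_congr e.toEquiv, s4723_card_aut hD hP]

include hB hα in
theorem s5824_stab_simple (x : α) :
    IsSimpleGroup (MulAction.stabilizer (Cfsg.setSystemAut B) x) := by
  have hD : Cfsg.IsSteinerSystem 4 7 (der B x) := der_steiner hB x
  have hP : Fintype.card {y : α // y ≠ x} = 23 := by rw [card_ptCompl, hα]
  obtain ⟨e⟩ := s5824_stab_equiv hB hα x
  have := s4723_aut_simple hD hP
  exact e.symm.isSimpleGroup

include hB hα in
/-- The automorphism group of an S(5, 8, 24) has order 244823040. -/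
theorem s5824_card_aut : Nat.card (Cfsg.setSystemAut B) = 244823040 := by
  obtain ⟨x⟩ : Nonempty α := Fintype.card_pos_iff.mp (by rw [hα]; norm_num)
  have := s5824_two_trans hB hα
  have : MulAction.IsPretransitive (Cfsg.setSystemAut B) α :=
    MulAction.isPretransitive_of_is_two_pretransitive
  have h1 := card_stabilizer_mul (Cfsg.setSystemAut B) x
  rw [hα, s5824_card_stabilizer hB hα] at h1
  omega

include hB hα in
/-- The automorphism group of an S(5, 8, 24) is simple. -/
theorem s5824_aut_simple : IsSimpleGroup (Cfsg.setSystemAut B) := by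
  obtain ⟨x⟩ : Nonempty α := Fintype.card_pos_iff.mp (by rw [hα]; norm_num)
  exact simple_of_two_trans_of_stab_simple (Cfsg.setSystemAut B) (s5824_two_trans hB hα) x
    (s5824_stab_simple hB hα x) 2 3 Nat.prime_two Nat.prime_three (by norm_num)
    (by rw [hα]; norm_num) (by rw [hα]; norm_num)

end M24

end Cfsg.Agent.Lib.helper10
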