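/-
Uniqueness of the Steiner system S(5, 8, 24): counting in S(5, 8, 24) (759, 253, 77, 21, 5, 1
blocks through an `i`-set; two distinct blocks meet in 0, 2 or 4 points), and the residual
blocks at a point are exactly the 8-sets meeting every block of the derived S(4, 7, 23) in
0, 2 or 4 points.
-/
import Mathlib
import Cfsg.Prelude.Def_Sporadic_a
import Cfsg.Agent.Lib.helper10.Steiner3622
import Cfsg.Agent.Lib.helper10.S3622Unique
import Cfsg.Agent.Lib.helper10.Steiner4723
import Cfsg.Agent.Lib.helper10.Heptad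
import Cfsg.Agent.Lib.helper10.SteinerExt
import Cfsg.Agent.Lib.helper10.S4723Unique

set_option autoImplicit false
set_option linter.unusedSectionVars false

namespace Cfsg.Agent.Lib.helper10

open Finset

section Steiner5824

variable {α : Type*} [Fintype α] [DecidableEq α] {B : Set (Finset α)}

theorem s5824_thru_five (hB : Cfsg.IsSteinerSystem 5 8 B) (s : Finset α) (hs : s.card = 5) :
    thru B s = 1 := thru_top hB s hs

theorem s5824_thru_four (hB : Cfsg.IsSteinerSystem 5 8 B) (hα : Fintype.card α = 24)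
    (s : Finset α) (hs : s.card = 4) : thru B s = 5 := by
  have := thru_step hB s 1 (fun x hx => s5824_thru_five hB _ (card_insert_eq' hs hx))
  rw [hα, hs] at this
  omega

theorem s5824_thru_three (hB : Cfsg.IsSteinerSystem 5 8 B) (hα : Fintype.card α = 24)
    (s : Finset α) (hs : s.card = 3) : thru B s = 21 := by
  have := thru_step hB s 5 (fun x hx => s5824_thru_four hB hα _ (card_insert_eq' hs hx))
  rw [hα, hs] at this
  omega

theorem s5824_thru_two (hB : Cfsg.IsSteinerSystem 5 8 B) (hα : Fintype.card α = 24)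
    (s : Finset α) (hs : s.card = 2) : thru B s = 77 := by
  have := thru_step hB s 21 (fun x hx => s5824_thru_three hB hα _ (card_insert_eq' hs hx))
  rw [hα, hs] at this
  omega

theorem s5824_thru_one (hB : Cfsg.IsSteinerSystem 5 8 B) (hα : Fintype.card α = 24)
    (s : Finset α) (hs : s.card = 1) : thru B s = 253 := by
  have := thru_step hB s 77 (fun x hx => s5824_thru_two hB hα _ (card_insert_eq' hs hx))
  rw [hα, hs] at this
  omega

theorem s5824_thru_zero (hB : Cfsg.IsSteinerSystem 5 8 B) (hα : Fintype.card α = 24)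
    (s : Finset α) (hs : s.card = 0) : thru B s = 759 := by
  have := thru_step hB s 253 (fun x hx => s5824_thru_one hB hα _ (card_insert_eq' hs hx))
  rw [hα, hs] at this
  omega

/-- An S(5, 8, 24) has 759 blocks. -/
theorem s5824_card_blk (hB : Cfsg.IsSteinerSystem 5 8 B) (hα : Fintype.card α = 24) :
    (blk B).card = 759 := by
  have := s5824_thru_zero hB hα ∅ rfl
  rw [thru] at this
  rw [← this]
  congr 1
  ext b; simp

/-- Two distinct blocks of an S(5, 8, 24) share at most four points. -/
theorem s5824_inter_le_four (hB : Cfsg.IsSteinerSystem 5 8 B) {b c : Finset α} (hb : b ∈ B)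
    (hc : c ∈ B) (hne : b ≠ c) : (b ∩ c).card ≤ 4 := by
  by_contra hcon
  obtain ⟨s, hs, hs5⟩ := Finset.exists_subset_card_eq (show 5 ≤ (b ∩ c).card by omega)
  obtain ⟨d, -, huniq⟩ := hB.2 s hs5
  have h1 := huniq b ⟨hb, hs.trans Finset.inter_subset_left⟩
  have h2 := huniq c ⟨hc, hs.trans Finset.inter_subset_right⟩
  exact hne (h1.trans h2.symm)

/-- Intersection numbers of the blocks of an S(5, 8, 24) with a fixed block. -/
theorem s5824_meet_block (hB : Cfsg.IsSteinerSystem 5 8 B) (hα : Fintype.card α = 24)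
    {b : Finset α} (hb : b ∈ B) :
    meetN B b 0 = 30 ∧ meetN B b 1 = 0 ∧ meetN B b 2 = 448 ∧ meetN B b 3 = 0 ∧
      meetN B b 4 = 280 := by
  have hb8 := hB.1 b hb
  have hle : ∀ d ∈ B, d ≠ b → (d ∩ b).card ≤ 4 :=
    fun d hd hne => s5824_inter_le_four hB hd hb hne
  have h8 : meetN B b 8 = 1 := by
    rw [meetN_eq_card {b}, Finset.card_singleton]
    intro d
    rw [Finset.mem_singleton]
    constructor
    · rintro ⟨hd, h⟩
      by_contra hne
      have := hle d hd hne
      omega
    · rintro rfl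
      exact ⟨hb, by rw [Finset.inter_self, hb8]⟩
  have hz : ∀ k, 4 < k → k < 8 → meetN B b k = 0 := by
    intro k hk1 hk2
    refine meetN_eq_zero fun d hd h => ?_
    by_cases hne : d = b
    · subst hne
      rw [Finset.inter_self, hb8] at h
      omega
    · have := hle d hd hne
      omega
  have h5 := hz 5 (by norm_num) (by norm_num)
  have h6 := hz 6 (by norm_num) (by norm_num)
  have h7 := hz 7 (by norm_num) (by norm_num)
  have hn : ∀ d ∈ blk B, (d ∩ b).card < 9 := by
    intro d _
    have h1 := Finset.card_le_card (Finset.inter_subset_right (s₁ := d) (s₂ := b))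
    omega
  have key : ∀ (j l : ℕ), (∀ T : Finset α, T.card = j → thru B T = l) →
      (8).choose j * l = ∑ k ∈ Finset.range 9, meetN B b k * k.choose j := by
    intro j l hl
    rw [← sum_blk_fibre B b 9 hn (fun n => n.choose j), ← sum_thru_eq B b j,
      Finset.sum_congr rfl (fun T hT => hl T (Finset.mem_powersetCard.mp hT).2),
      Finset.sum_const, Finset.card_powersetCard, smul_eq_mul, hb8]
  have e0 := key 0 759 (s5824_thru_zero hB hα)
  have e1 := key 1 253 (s5824_thru_one hB hα)
  have e2 := key 2 77 (s5824_thru_two hB hα)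
  have e3 := key 3 21 (s5824_thru_three hB hα)
  have e4 := key 4 5 (s5824_thru_four hB hα)
  simp only [Finset.sum_range_succ, Finset.sum_range_zero, h5, h6, h7, h8] at e0 e1 e2 e3 e4
  norm_num [Nat.choose] at e0 e1 e2 e3 e4
  omega

/-- Two distinct blocks of an S(5, 8, 24) meet in 0, 2 or 4 points. -/
theorem s5824_inter_even (hB : Cfsg.IsSteinerSystem 5 8 B) (hα : Fintype.card α = 24)
    {b c : Finset α} (hb : b ∈ B) (hc : c ∈ B) (hne : b ≠ c) :
    (b ∩ c).card = 0 ∨ (b ∩ c).card = 2 ∨ (b ∩ c).card = 4 := by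
  obtain ⟨-, h1, -, h3, -⟩ := s5824_meet_block hB hα hc
  rw [meetN, Finset.card_eq_zero, Finset.filter_eq_empty_iff] at h1 h3
  have h1' := h1 (mem_blk.mpr hb)
  have h3' := h3 (mem_blk.mpr hb)
  have h4 := s5824_inter_le_four hB hb hc hne
  omega

/-- Octads of a set system: the 8-sets meeting every block in 0, 2 or 4 points. -/
def oct (D : Set (Finset α)) : Set (Finset α) :=
  {Y | Y.card = 8 ∧ ∀ b ∈ D, (b ∩ Y).card = 0 ∨ (b ∩ Y).card = 2 ∨ (b ∩ Y).card = 4}

theorem res_mem_oct (hB : Cfsg.IsSteinerSystem 5 8 B) (hα : Fintype.card α = 24) {x : α}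
    {Y : Finset {y : α // y ≠ x}} (hY : Y ∈ res B x) : Y ∈ oct (der B x) := by
  refine ⟨?_, fun b hb => ?_⟩
  · have h1 := hB.1 _ hY
    rw [Finset.card_map] at h1
    exact h1
  · have hne : insert x (b.map (ptEmb x)) ≠ Y.map (ptEmb x) := fun h =>
      notMem_map_ptEmb x Y (h ▸ Finset.mem_insert_self _ _)
    have h1 := s5824_inter_even hB hα hb hY hne
    rw [Finset.inter_comm, map_inter_insert_map, Finset.card_map, Finset.inter_comm] at h1
    exact h1

/-- An octad of an S(4, 7, 23) through `x` gives a heptad of the derived S(3, 6, 22) at `x`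
which is not a residual block. -/
theorem oct_subtype {D : Set (Finset α)} {Y : Finset α} (hY : Y ∈ oct D) {x : α} (hx : x ∈ Y) :
    Y.subtype (· ≠ x) ∈ hept (der D x) ∧ Y.subtype (· ≠ x) ∉ res D x := by
  have hYe := insert_map_subtype hx
  refine ⟨⟨?_, fun _ hl => ?_⟩, fun hres => ?_⟩
  · rw [card_subtype_ne hx, hY.1]
  · have h1 := hY.2 _ hl
    rw [← hYe, insert_map_inter, card_insert_map] at h1
    omega
  · have h1 := hY.2 _ hres
    have h2 : (Y.subtype (· ≠ x)).map (ptEmb x) ∩ Y = (Y.subtype (· ≠ x)).map (ptEmb x) := by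
      rw [Finset.inter_eq_left, map_subtype_ne]
      exact Finset.erase_subset _ _
    rw [h2, Finset.card_map, card_subtype_ne hx, hY.1] at h1
    omega

/-- The residual blocks of an S(5, 8, 24) at a point are exactly the octads of the derived
S(4, 7, 23). -/
theorem oct_mem_res (hB : Cfsg.IsSteinerSystem 5 8 B) (hα : Fintype.card α = 24) {x₀ : α}
    {Y : Finset {y : α // y ≠ x₀}} (hY : Y ∈ oct (der B x₀)) : Y ∈ res B x₀ := by
  classical
  have hD : Cfsg.IsSteinerSystem 4 7 (der B x₀) := der_steiner hB x₀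
  have hP : Fintype.card {y : α // y ≠ x₀} = 23 := by rw [card_ptCompl, hα]
  obtain ⟨x, hx⟩ : Y.Nonempty := Finset.card_pos.mp (by rw [hY.1]; norm_num)
  have hD3 : Cfsg.IsSteinerSystem 3 6 (der (der B x₀) x) := der_steiner hD x
  have hP3 : Fintype.card {z : {y : α // y ≠ x₀} // z ≠ x} = 22 := by rw [card_ptCompl, hP]
  -- the residual blocks through `x`
  have hc1 : ((blk (res B x₀)).filter (fun Y' => {x} ⊆ Y')).card = 176 := by
    have h1 := thru_res B x₀ {x}
    have h2 : thru B (({x} : Finset {y : α // y ≠ x₀}).map (ptEmb x₀)) = 253 :=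
      s5824_thru_one hB hα _ (by rw [Finset.card_map, Finset.card_singleton])
    have h3 : thru B (insert x₀ (({x} : Finset {y : α // y ≠ x₀}).map (ptEmb x₀))) = 77 :=
      s5824_thru_two hB hα _ (by rw [card_insert_map, Finset.card_singleton])
    rw [thru] at h1
    omega
  -- the heptads at `x` which are not residual blocks
  have hsubres : blk (res (der B x₀) x) ⊆ blk (hept (der (der B x₀) x)) := fun Z hZ =>
    mem_blk.mpr (res_mem_hept hD hP (mem_blk.mp hZ))
  have hc2 : (blk (hept (der (der B x₀) x)) \ blk (res (der B x₀) x)).card = 176 := by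
    rw [Finset.card_sdiff_of_subset hsubres, hept_card hD3 hP3, s4723_card_blk_res hD hP]
  have himg : ((blk (res B x₀)).filter (fun Y' => {x} ⊆ Y')).image (fun Y' => Y'.subtype (· ≠ x))
      = blk (hept (der (der B x₀) x)) \ blk (res (der B x₀) x) := by
    refine Finset.eq_of_subset_of_card_le ?_ ?_
    · intro Z hZ
      obtain ⟨Y', hY', rfl⟩ := Finset.mem_image.mp hZ
      rw [Finset.mem_filter, mem_blk, Finset.singleton_subset_iff] at hY'
      obtain ⟨h1, h2⟩ := oct_subtype (res_mem_oct hB hα hY'.1) hY'.2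
      rw [Finset.mem_sdiff, mem_blk, mem_blk]
      exact ⟨h1, h2⟩
    · rw [hc2, Finset.card_image_of_injOn, hc1]
      intro Y₁ hY₁ Y₂ hY₂ h
      rw [Finset.mem_coe, Finset.mem_filter, Finset.singleton_subset_iff] at hY₁ hY₂
      have h' : Y₁.subtype (· ≠ x) = Y₂.subtype (· ≠ x) := h
      rw [← insert_map_subtype hY₁.2, h', insert_map_subtype hY₂.2]
  obtain ⟨h1, h2⟩ := oct_subtype hY hx
  have h3 : Y.subtype (· ≠ x) ∈ blk (hept (der (der B x₀) x)) \ blk (res (der B x₀) x) := by
    rw [Finset.mem_sdiff, mem_blk, mem_blk]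
    exact ⟨h1, h2⟩
  rw [← himg] at h3
  obtain ⟨Y', hY', h4⟩ := Finset.mem_image.mp h3
  rw [Finset.mem_filter, mem_blk, Finset.singleton_subset_iff] at hY'
  have h5 : Y' = Y := by
    rw [← insert_map_subtype hY'.2, h4, insert_map_subtype hx]
  exact h5 ▸ hY'.1

end Steiner5824

section Iso

variable {α : Type*} [Fintype α] [DecidableEq α] {β : Type*} [Fintype β] [DecidableEq β]

/-- Uniqueness of the Steiner system S(5, 8, 24). -/
theorem s5824_unique (hα : Fintype.card α = 24) (hβ : Fintype.card β = 24)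
    {B : Set (Finset α)} {B' : Set (Finset β)} (hB : Cfsg.IsSteinerSystem 5 8 B)
    (hB' : Cfsg.IsSteinerSystem 5 8 B') : Cfsg.SetSystemIso B B' := by
  obtain ⟨x⟩ : Nonempty α := Fintype.card_pos_iff.mp (by rw [hα]; norm_num)
  obtain ⟨x'⟩ : Nonempty β := Fintype.card_pos_iff.mp (by rw [hβ]; norm_num)
  have hD : Cfsg.IsSteinerSystem 4 7 (der B x) := der_steiner hB x
  have hD' : Cfsg.IsSteinerSystem 4 7 (der B' x') := der_steiner hB' x'
  have hP : Fintype.card {y : α // y ≠ x} = 23 := by rw [card_ptCompl, hα]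
  have hP' : Fintype.card {y : β // y ≠ x'} = 23 := by rw [card_ptCompl, hβ]
  obtain ⟨f, hf⟩ := s4723_unique hP hP' hD hD'
  have hf1 : ∀ b ∈ der B x, b.image f ∈ der B' x' := by
    intro b hb
    rw [← hf]
    exact ⟨b, hb, rfl⟩
  have hres : ∀ Y ∈ res B x, Y.image f ∈ res B' x' := by
    intro Y hY
    have h0 := res_mem_oct hB hα hY
    refine oct_mem_res hB' hβ ⟨?_, fun b' hb' => ?_⟩
    · rw [Finset.card_image_of_injective _ f.injective]
      exact h0.1
    · rw [← hf] at hb'
      obtain ⟨b, hb, rfl⟩ := hb'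
      show ((b.image f) ∩ (Y.image f)).card = 0 ∨ ((b.image f) ∩ (Y.image f)).card = 2 ∨
        ((b.image f) ∩ (Y.image f)).card = 4
      rw [← Finset.image_inter _ _ f.injective, Finset.card_image_of_injective _ f.injective]
      exact h0.2 b hb
  exact setSystemIso_of_maps (extPt x x' f) (extPt_maps x x' f hf1 hres)
    (by rw [s5824_card_blk hB hα, s5824_card_blk hB' hβ])

end Iso

end Cfsg.Agent.Lib.helper10
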