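import Mathlib
import Cfsg.Agent.Lib.helper44.SL3Defs
import Cfsg.Agent.Lib.helper48.SL3T1
import Cfsg.Agent.Lib.helper37.SL3TA
import Cfsg.Agent.Lib.helper4.SL3C1c
import Cfsg.Agent.Lib.helper90.SL3C1d
import Cfsg.Agent.Lib.helper76.SL3C1ef
import Cfsg.Agent.Lib.helper83.SL3T2
import Cfsg.Agent.Lib.helper84.SL3C2

/-!
# S2287, piece A2G

From the base configuration and the unit relations R8 - R11 to the Steinberg relations of type
`A₂` (`IsA2Conf`), generic case: assembly of the pieces T1, TA, C1c, C1d, C1e, C1f, T2, C2.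
-/

set_option autoImplicit false

namespace Cfsg.Agent.Lib.helper44.SL3

/-- If a power of `ω` generates `F` over the prime field, so does `ω`. -/
theorem h10_adjoin_of_pow {F : Type*} [Field F] {p : ℕ} [Algebra (ZMod p) F] (ω : F) (n : ℕ)
    (hκ : Algebra.adjoin (ZMod p) {ω ^ n} = ⊤) : Algebra.adjoin (ZMod p) {ω} = ⊤ := by
  rw [eq_top_iff, ← hκ]
  apply Algebra.adjoin_le
  intro z hz
  rw [Set.mem_singleton_iff] at hz
  subst hz
  exact pow_mem (Algebra.subset_adjoin (Set.mem_singleton ω)) n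

-- A2G
theorem a2conf_of_base {G : Type*} [Group G] {F : Type*} [Field F] [Fintype F] {p : ℕ}
    [Fact p.Prime] [Algebra (ZMod p) F] (x : F → G) (h c : G) (ω : F) (hB : IsBase x h c ω)
    (hκ : Algebra.adjoin (ZMod p) {ω ^ 3} = ⊤)
    (r8 : Commute (x 1) (ZZ x c 1)) (r9 : Commute (yy x c 1) (ZZ x c 1))
    (r10 : cm (ZZ x c 1) (WW x c 1) = x 1)
    (r11 : Commute ((c * c * h * (c * c)⁻¹) * (c * h * c⁻¹)⁻¹) (ZZ x c 1)) :
    IsA2Conf x c := by
  have hω0 : ω ≠ 0 := hB.ω0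
  have hκ0 : ω ^ 3 ≠ 0 := pow_ne_zero 3 hω0
  have hω : Algebra.adjoin (ZMod p) {ω} = ⊤ := h10_adjoin_of_pow ω 3 hκ
  have hT := tor1_of_base x h c ω hB r8 r9 r11
  obtain ⟨-, -, -, -, -, -, y_add, hcy⟩ := base_actions x h c ω hB
  have hcen := core1_central x (yy x c) h (h * (c * h * c⁻¹)⁻¹)
    ((c * c * h * (c * c)⁻¹) * (c * h * c⁻¹)⁻¹) ω (ω ^ 3) hT hκ hω hω0 hκ0
  obtain ⟨hadd1, -⟩ := core1_biadd x (yy x c) hB.x_add y_add hcen
  have hstep := core1_dfix x (yy x c) h (h * (c * h * c⁻¹)⁻¹)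
    ((c * c * h * (c * c)⁻¹) * (c * h * c⁻¹)⁻¹) ω (ω ^ 3) hT hκ hω hω0 hκ0 hcen
  have hbal := core1_balance x (yy x c) (ω ^ 3) hB.x_add y_add hcen hκ hstep
  have hbp : ∀ a b, zz x c a b = ZZ x c (a * b) := fun a b => hbal a b
  have hrow : ∀ a b, Commute (x a) (ZZ x c b) := fun a b => (hcen b 1 a).1
  have hcol : ∀ a b, Commute (yy x c a) (ZZ x c b) := fun a b => (hcen b 1 a).2
  obtain ⟨gZ, gW, gx, eZ, eW, ex, -, -⟩ := tor2_of_base x h c ω hB hbp
  have Z_add : ∀ a b, ZZ x c (a + b) = ZZ x c a * ZZ x c b := fun a b => hadd1 a b 1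
  have W_add : ∀ a b, WW x c (a + b) = WW x c a * WW x c b := by
    intro a b
    unfold WW
    rw [Z_add]
    group
  have xW : ∀ a b, Commute (x a) (WW x c b) := by
    intro a b
    have h1 := hcol a b
    have h2 : Commute (c * c * yy x c a * (c * c)⁻¹) (c * c * ZZ x c b * (c * c)⁻¹) := by
      unfold Commute SemiconjBy at h1 ⊢
      calc c * c * yy x c a * (c * c)⁻¹ * (c * c * ZZ x c b * (c * c)⁻¹)
          = c * c * (yy x c a * ZZ x c b) * (c * c)⁻¹ := by group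
        _ = c * c * (ZZ x c b * yy x c a) * (c * c)⁻¹ := by rw [h1]
        _ = c * c * ZZ x c b * (c * c)⁻¹ * (c * c * yy x c a * (c * c)⁻¹) := by group
    rw [hcy a] at h2
    exact h2
  have hbm := core2 x (ZZ x c) (WW x c) (h * (c * h * c⁻¹)⁻¹) h⁻¹ (ω ^ 3) ω (ω⁻¹ * ω⁻¹)
    hB.x_add Z_add W_add hrow xW r10 gZ gW gx eZ eW ex hκ hω
    (mul_ne_zero (inv_ne_zero hω0) (inv_ne_zero hω0))
  exact ⟨hB.x_add, hB.c3, hrow, hcol, hbp, hbm⟩

end Cfsg.Agent.Lib.helper44.SL3
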