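import Mathlib
import Cfsg.Agent.Lib.helper44.SL3Defs
import Cfsg.Agent.Lib.helper44.StNC
import Cfsg.Agent.Lib.helper45.SLGen

/-!
# S2287, piece CLOSE (core form)

From an `A₂` configuration in a presented group on four generators whose root elements generate,
and a homomorphism to `SL₃(F)` sending the root elements to the elementary transvections, to the
isomorphism.  The pieces ST (`stdata_of_conf`) and MATR (`mat_rootX`) enter as hypotheses.
-/

set_option autoImplicit false

namespace Cfsg.Agent.Lib.helper44.SL3

/-- CLOSE, with the Steinberg data (ST) and the images of the root elements (MATR) as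
hypotheses. -/
theorem close_pres_core {F : Type*} [Field F] [Fintype F] (L : List (FreeGroup (Fin 4)))
    (hL : L.length ≤ 14)
    (φ : PresentedGroup (↑L.toFinset : Set (FreeGroup (Fin 4))) →*
      Matrix.SpecialLinearGroup (Fin 3) F)
    (x : F → PresentedGroup (↑L.toFinset : Set (FreeGroup (Fin 4))))
    (c : PresentedGroup (↑L.toFinset : Set (FreeGroup (Fin 4))))
    (hST : ∃ D : StData (Fin 3) F (PresentedGroup (↑L.toFinset : Set (FreeGroup (Fin 4)))),
      D.X = rootX x c)
    (hMAT : ∀ (a b : Fin 3) (hab : a ≠ b) (t : F),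
      φ (rootX x c a b t) = Matrix.SpecialLinearGroup.transvection hab t)
    (hgen : rootE x c = ⊤) :
    ∃ rels : Finset (FreeGroup (Fin 4)), rels.card ≤ 14 ∧
      Nonempty (PresentedGroup (↑rels : Set (FreeGroup (Fin 4))) ≃*
        Matrix.SpecialLinearGroup (Fin 3) F) := by
  obtain ⟨D, hD⟩ := hST
  have hφ : ∀ (a b : Fin 3) (h : a ≠ b) (t : F),
      φ (D.X a b t) = Matrix.SpecialLinearGroup.transvection h t := by
    intro a b h t
    rw [hD]
    exact hMAT a b h t
  have hgen' : Subgroup.closure {g : PresentedGroup (↑L.toFinset : Set (FreeGroup (Fin 4))) |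
      ∃ (a b : Fin 3) (t : F), a ≠ b ∧ g = D.X a b t} = ⊤ := by
    rw [hD]
    exact hgen
  have hinj : Function.Injective φ := D.injective_of_hom φ hφ hgen'
  have hrange : φ.range = ⊤ := by
    apply Cfsg.Agent.Lib.helper45.eq_top_of_transvection_mem
    intro i j hij a
    exact ⟨rootX x c i j a, hMAT i j hij a⟩
  have hsurj : Function.Surjective φ := MonoidHom.range_eq_top.mp hrange
  exact ⟨L.toFinset, (List.toFinset_card_le L).trans hL,
    ⟨MulEquiv.ofBijective φ ⟨hinj, hsurj⟩⟩⟩

end Cfsg.Agent.Lib.helper44.SL3
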