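import Mathlib
import Cfsg.Agent.Lib.helper44.SL3Defs
import Cfsg.Agent.Lib.helper10.SL3CLOSEc
import Cfsg.Agent.Lib.helper6.SL3ST
import Cfsg.Agent.Lib.helper85.SL3MATR

/-!
# S2287, piece CLOSE

From an `A₂` configuration in a presented group on four generators whose root elements generate,
and a homomorphism to `SL₃(F)` sending `x a` to `x₁₂(a)` and `c` to the 3-cycle, to the
isomorphism.  Uses `close_pres_core`, the Steinberg data of piece ST (helper6's copy
`helper6_stdata_of_conf`) and piece MATR (`mat_rootX`, helper85).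
-/

set_option autoImplicit false

namespace Cfsg.Agent.Lib.helper44.SL3

-- CLOSE
theorem close_pres {F : Type*} [Field F] [Fintype F] (L : List (FreeGroup (Fin 4)))
    (hL : L.length ≤ 14)
    (φ : PresentedGroup (↑L.toFinset : Set (FreeGroup (Fin 4))) →*
      Matrix.SpecialLinearGroup (Fin 3) F)
    (x : F → PresentedGroup (↑L.toFinset : Set (FreeGroup (Fin 4))))
    (c : PresentedGroup (↑L.toFinset : Set (FreeGroup (Fin 4))))
    (hconf : IsA2Conf x c) (hφx : ∀ a, φ (x a) = mX01 F a) (hφc : φ c = mC F)
    (hgen : rootE x c = ⊤) :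
    ∃ rels : Finset (FreeGroup (Fin 4)), rels.card ≤ 14 ∧
      Nonempty (PresentedGroup (↑rels : Set (FreeGroup (Fin 4))) ≃*
        Matrix.SpecialLinearGroup (Fin 3) F) :=
  close_pres_core L hL φ x c (helper6_stdata_of_conf x c hconf) (mat_rootX φ x c hφx hφc) hgen

end Cfsg.Agent.Lib.helper44.SL3
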