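import Mathlib
import Cfsg.Agent.Lib.helper49.SPEDefs

/-! S2333 piece PAIRTR, racing copy (helper10): an invertible matrix moving an independent pair
to another one. -/

set_option autoImplicit false

namespace Cfsg.Agent.Lib.helper49.SPE

open Matrix Module

/-- extend an independent pair to an independent family of any length up to the dimension -/
theorem h10_extend_pair {F : Type*} [Field F] {V : Type*} [AddCommGroup V] [Module F V]
    [FiniteDimensional F V] (u v : V) (h : LinearIndependent F ![u, v]) :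
    ∀ k, 2 ≤ k → k ≤ finrank F V → ∃ b : Fin k → V, LinearIndependent F b ∧
      (∀ i : Fin k, i.val = 0 → b i = u) ∧ (∀ i : Fin k, i.val = 1 → b i = v) := by
  intro k hk
  induction k, hk using Nat.le_induction with
  | base =>
    intro _
    refine ⟨![u, v], h, ?_, ?_⟩
    · intro i hi
      have hE : i = 0 := Fin.ext hi
      rw [hE]
      rfl
    · intro i hi
      have hE : i = 1 := Fin.ext hi
      rw [hE]
      rfl
  | succ k hk ih =>
    intro hle
    obtain ⟨b, hb, hb0, hb1⟩ := ih (by omega)
    have hspan : finrank F (Submodule.span F (Set.range b)) = k := by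
      rw [finrank_span_eq_card hb]
      simp
    have hne : Submodule.span F (Set.range b) ≠ ⊤ := by
      intro h1
      rw [h1, finrank_top] at hspan
      omega
    obtain ⟨w, hw⟩ : ∃ w, w ∉ Submodule.span F (Set.range b) := by
      by_contra hcon
      apply hne
      rw [eq_top_iff]
      intro x _
      by_contra hx
      exact hcon ⟨x, hx⟩
    refine ⟨Fin.snoc b w, linearIndependent_finSnoc.mpr ⟨hb, hw⟩, ?_, ?_⟩
    · intro i hi
      have hE : i = Fin.castSucc ⟨0, by omega⟩ := Fin.ext hi
      rw [hE, Fin.snoc_castSucc]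
      exact hb0 _ rfl
    · intro i hi
      have hE : i = Fin.castSucc ⟨1, by omega⟩ := Fin.ext hi
      rw [hE, Fin.snoc_castSucc]
      exact hb1 _ rfl

/-- PAIRTR (racing copy) -/
theorem h10_pair_trans {F : Type*} [Field F] {n : ℕ} (u v u' v' : Fin n → F) (h : Indep u v)
    (h' : Indep u' v') :
    ∃ B : Matrix (Fin n) (Fin n) F, B.det ≠ 0 ∧ B *ᵥ u = u' ∧ B *ᵥ v = v' := by
  classical
  have hli : LinearIndependent F ![u, v] := LinearIndependent.pair_iff.mpr h
  have hli' : LinearIndependent F ![u', v'] := LinearIndependent.pair_iff.mpr h'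
  have hn2 : 2 ≤ n := by
    have h1 := hli.fintype_card_le_finrank
    simpa using h1
  have hfr : finrank F (Fin n → F) = n := by simp
  have : Nonempty (Fin n) := ⟨⟨0, by omega⟩⟩
  obtain ⟨b, hb, hb0, hb1⟩ := h10_extend_pair u v hli n hn2 (by rw [hfr])
  obtain ⟨b', hb', hb0', hb1'⟩ := h10_extend_pair u' v' hli' n hn2 (by rw [hfr])
  let bas : Basis (Fin n) F (Fin n → F) := basisOfLinearIndependentOfCardEqFinrank hb (by simp)
  let bas' : Basis (Fin n) F (Fin n → F) := basisOfLinearIndependentOfCardEqFinrank hb' (by simp)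
  have hbas : ∀ i, bas i = b i := fun i => by simp [bas]
  have hbas' : ∀ i, bas' i = b' i := fun i => by simp [bas']
  let φ : (Fin n → F) ≃ₗ[F] (Fin n → F) := bas.equiv bas' (Equiv.refl _)
  have hφ : ∀ i, φ (b i) = b' i := by
    intro i
    have h1 := bas.equiv_apply i bas' (Equiv.refl _)
    rw [hbas, Equiv.refl_apply, hbas'] at h1
    exact h1
  have hφu : φ u = u' := by
    have h1 := hφ ⟨0, by omega⟩
    rw [hb0 _ rfl, hb0' _ rfl] at h1
    exact h1
  have hφv : φ v = v' := by
    have h1 := hφ ⟨1, by omega⟩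
    rw [hb1 _ rfl, hb1' _ rfl] at h1
    exact h1
  let B : Matrix (Fin n) (Fin n) F := LinearMap.toMatrix' (φ : (Fin n → F) →ₗ[F] (Fin n → F))
  let B' : Matrix (Fin n) (Fin n) F :=
    LinearMap.toMatrix' (φ.symm : (Fin n → F) →ₗ[F] (Fin n → F))
  have hBB : B * B' = 1 := by
    show LinearMap.toMatrix' _ * LinearMap.toMatrix' _ = 1
    rw [← LinearMap.toMatrix'_comp]
    simp
  have hdet : B.det ≠ 0 := by
    have h1 := congrArg Matrix.det hBB
    rw [Matrix.det_mul, Matrix.det_one] at h1
    exact left_ne_zero_of_mul_eq_one h1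
  have hBv : ∀ x, B *ᵥ x = φ x := by
    intro x
    have h1 := Matrix.toLin'_apply B x
    rw [← h1]
    show Matrix.toLin' (LinearMap.toMatrix' (φ : (Fin n → F) →ₗ[F] (Fin n → F))) x = φ x
    rw [Matrix.toLin'_toMatrix']
    rfl
  exact ⟨B, hdet, by rw [hBv, hφu], by rw [hBv, hφv]⟩

end Cfsg.Agent.Lib.helper49.SPE
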