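import Mathlib
import Cfsg.Agent.Lib.helper49.SPEDefs
import Cfsg.Agent.Lib.helper10.SPEPAIRTR

/-! S2333 pieces DUALV and ESPAN, racing copies (helper10). -/

set_option autoImplicit false

namespace Cfsg.Agent.Lib.helper49.SPE

open Matrix Module

/-- DUALV (racing copy) -/
theorem h10_dual_vecs {F : Type*} [Field F] {n : ℕ} (l m : Fin n → F) (h : Indep l m) :
    ∃ x₁ x₂ : Fin n → F, l ⬝ᵥ x₁ = 1 ∧ m ⬝ᵥ x₁ = 0 ∧ l ⬝ᵥ x₂ = 0 ∧ m ⬝ᵥ x₂ = 1 := by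
  classical
  have hli : LinearIndependent F ![l, m] := LinearIndependent.pair_iff.mpr h
  have hn2 : 2 ≤ n := by
    have h1 := hli.fintype_card_le_finrank
    simpa using h1
  have hev : ∀ (j : ℕ) (hj : j < n) (x : Fin n → F), ev F n j ⬝ᵥ x = x ⟨j, hj⟩ := by
    intro j hj x
    unfold ev
    rw [dotProduct, Finset.sum_eq_single ⟨j, hj⟩]
    · simp
    · intro i _ hi
      have hne : ¬ i.val = j := fun hc => hi (Fin.ext hc)
      simp [hne]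
    · intro hc
      exact (hc (Finset.mem_univ _)).elim
  have hind : Indep (ev F n 0) (ev F n 1) := by
    intro s t hst
    have h0 := congrFun hst ⟨0, by omega⟩
    have h1 := congrFun hst ⟨1, by omega⟩
    simp [ev] at h0 h1
    exact ⟨h0, h1⟩
  obtain ⟨C, -, hCl, hCm⟩ := h10_pair_trans l m (ev F n 0) (ev F n 1) h hind
  have hdot : ∀ (w x : Fin n → F), w ⬝ᵥ (Cᵀ *ᵥ x) = (C *ᵥ w) ⬝ᵥ x := by
    intro w x
    rw [Matrix.dotProduct_mulVec, Matrix.vecMul_transpose]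
  refine ⟨Cᵀ *ᵥ ev F n 0, Cᵀ *ᵥ ev F n 1, ?_, ?_, ?_, ?_⟩
  · rw [hdot, hCl, hev 0 (by omega)]
    simp [ev]
  · rw [hdot, hCm, hev 1 (by omega)]
    simp [ev]
  · rw [hdot, hCl, hev 0 (by omega)]
    simp [ev]
  · rw [hdot, hCm, hev 1 (by omega)]
    simp [ev]

/-- ESPAN (racing copy) -/
theorem h10_ell_span {F : Type*} [Field F] {n : ℕ} (a b c : F)
    (haniso : ∀ s t : F, bq a b c s t = 0 → s = 0 ∧ t = 0) (l m l' m' : Fin n → F)
    (h : Indep l m)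
    (heq : ∀ x, bq a b c (l' ⬝ᵥ x) (m' ⬝ᵥ x) = bq a b c (l ⬝ᵥ x) (m ⬝ᵥ x)) :
    ∃ p r s t : F, l' = p • l + r • m ∧ m' = s • l + t • m ∧
      ∀ S T : F, bq a b c (p * S + r * T) (s * S + t * T) = bq a b c S T := by
  classical
  obtain ⟨x₁, x₂, h11, h21, h12, h22⟩ := h10_dual_vecs l m h
  have hkey : ∀ x, l' ⬝ᵥ x = (l ⬝ᵥ x) * (l' ⬝ᵥ x₁) + (m ⬝ᵥ x) * (l' ⬝ᵥ x₂) ∧
      m' ⬝ᵥ x = (l ⬝ᵥ x) * (m' ⬝ᵥ x₁) + (m ⬝ᵥ x) * (m' ⬝ᵥ x₂) := by
    intro x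
    have hy := heq (x - (l ⬝ᵥ x) • x₁ - (m ⬝ᵥ x) • x₂)
    have hl0 : l ⬝ᵥ (x - (l ⬝ᵥ x) • x₁ - (m ⬝ᵥ x) • x₂) = 0 := by
      rw [dotProduct_sub, dotProduct_sub, dotProduct_smul, dotProduct_smul, h11, h12]
      simp
    have hm0 : m ⬝ᵥ (x - (l ⬝ᵥ x) • x₁ - (m ⬝ᵥ x) • x₂) = 0 := by
      rw [dotProduct_sub, dotProduct_sub, dotProduct_smul, dotProduct_smul, h21, h22]
      simp
    rw [hl0, hm0] at hy
    have hz : bq a b c (0 : F) 0 = 0 := by simp [bq]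
    rw [hz] at hy
    obtain ⟨hl', hm'⟩ := haniso _ _ hy
    rw [dotProduct_sub, dotProduct_sub, dotProduct_smul, dotProduct_smul] at hl' hm'
    simp only [smul_eq_mul] at hl' hm'
    constructor
    · linear_combination hl'
    · linear_combination hm'
  have hsingle : ∀ (w : Fin n → F) (i : Fin n), w ⬝ᵥ Pi.single i (1 : F) = w i := by
    intro w i
    simp
  refine ⟨l' ⬝ᵥ x₁, l' ⬝ᵥ x₂, m' ⬝ᵥ x₁, m' ⬝ᵥ x₂, ?_, ?_, ?_⟩
  · funext i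
    have h1 := (hkey (Pi.single i 1)).1
    rw [hsingle, hsingle, hsingle] at h1
    simp only [Pi.add_apply, Pi.smul_apply, smul_eq_mul]
    linear_combination h1
  · funext i
    have h1 := (hkey (Pi.single i 1)).2
    rw [hsingle, hsingle, hsingle] at h1
    simp only [Pi.add_apply, Pi.smul_apply, smul_eq_mul]
    linear_combination h1
  · intro S T
    have hx := heq (S • x₁ + T • x₂)
    have hk := hkey (S • x₁ + T • x₂)
    have hl1 : l ⬝ᵥ (S • x₁ + T • x₂) = S := by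
      rw [dotProduct_add, dotProduct_smul, dotProduct_smul, h11, h12]
      simp
    have hm1 : m ⬝ᵥ (S • x₁ + T • x₂) = T := by
      rw [dotProduct_add, dotProduct_smul, dotProduct_smul, h21, h22]
      simp
    rw [hl1, hm1] at hk hx
    rw [hk.1, hk.2] at hx
    have e1 : l' ⬝ᵥ x₁ * S + l' ⬝ᵥ x₂ * T = S * l' ⬝ᵥ x₁ + T * l' ⬝ᵥ x₂ := by ring
    have e2 : m' ⬝ᵥ x₁ * S + m' ⬝ᵥ x₂ * T = S * m' ⬝ᵥ x₁ + T * m' ⬝ᵥ x₂ := by ring
    rw [e1, e2]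
    exact hx

end Cfsg.Agent.Lib.helper49.SPE
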