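import Mathlib
import Cfsg.Agent.Lib.helper45.SVDefs

/-! S2425 piece COMB, racing copy (helper10): permutations with `κ i ≤ i + 1` against the
sets of block ends. No cycle types: `κ d ≤ d` makes `κ` map `[0, d]` onto itself. -/

set_option autoImplicit false

namespace Cfsg.Agent.Lib.helper45.SV

/-- the set of block ends of a permutation -/
def h10_endsOf {n : ℕ} (κ : Equiv.Perm (Fin n)) : Finset (Fin n) :=
  Finset.univ.filter (fun i => (κ i).val ≤ i.val)

theorem h10_mem_endsOf {n : ℕ} (κ : Equiv.Perm (Fin n)) (i : Fin n) :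
    i ∈ h10_endsOf κ ↔ (κ i).val ≤ i.val := by
  simp [h10_endsOf]

/-- key lemma: above a block end the values stay above it -/
theorem h10_key {n : ℕ} (κ : Equiv.Perm (Fin n)) (hκ : ∀ i : Fin n, (κ i).val ≤ 1 + i.val)
    (d : Fin n) (hd : (κ d).val ≤ d.val) (i : Fin n) (hi : d.val < i.val) :
    d.val < (κ i).val := by
  by_contra hcon
  have hcon' : (κ i).val ≤ d.val := not_lt.mp hcon
  have hnot : i ∉ Finset.Iic d := by
    simp only [Finset.mem_Iic, not_le]
    exact Fin.lt_def.mpr hi
  have h1 : (insert i (Finset.Iic d)).card ≤ (Finset.Iic d).card := by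
    apply Finset.card_le_card_of_injOn (fun a => κ a)
    · intro a ha
      simp only [Finset.coe_insert, Finset.coe_Iic, Set.mem_insert_iff, Set.mem_Iic] at ha
      simp only [Finset.coe_Iic, Set.mem_Iic]
      rcases ha with rfl | ha
      · exact Fin.le_def.mpr hcon'
      · have h2 := Fin.le_def.mp ha
        rcases Nat.lt_or_ge a.val d.val with hlt | hge
        · have := hκ a
          exact Fin.le_def.mpr (by omega)
        · have hE : a = d := Fin.ext (by omega)
          rw [hE]
          exact Fin.le_def.mpr hd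
    · exact κ.injective.injOn
  rw [Finset.card_insert_of_notMem hnot] at h1
  omega

theorem h10_topOf_le {n : ℕ} (D : Finset (Fin n)) (i : Fin n) : topOf D i ≤ i.val := by
  unfold topOf
  apply Finset.sup_le
  intro x hx
  obtain ⟨d, hd, rfl⟩ := Finset.mem_image.mp hx
  rw [Finset.mem_filter] at hd
  have := Fin.lt_def.mp hd.2
  simp only [id]
  omega

theorem h10_topOf_cases {n : ℕ} (D : Finset (Fin n)) (i : Fin n) :
    topOf D i = 0 ∨ ∃ d ∈ D, d.val < i.val ∧ topOf D i = d.val + 1 := by
  unfold topOf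
  rcases Finset.eq_empty_or_nonempty
    ((D.filter (fun d => d < i)).image (fun d : Fin n => d.val + 1)) with he | hne
  · left
    rw [he]
    rfl
  · right
    obtain ⟨x, hx, hsup⟩ := Finset.exists_mem_eq_sup _ hne id
    obtain ⟨d, hd, rfl⟩ := Finset.mem_image.mp hx
    rw [Finset.mem_filter] at hd
    exact ⟨d, hd.1, Fin.lt_def.mp hd.2, hsup⟩

theorem h10_lt_topOf {n : ℕ} (D : Finset (Fin n)) (i d : Fin n) (hd : d ∈ D)
    (hdi : d.val < i.val) : d.val + 1 ≤ topOf D i := by
  unfold topOf
  have hmem : d.val + 1 ∈ ((D.filter (fun d => d < i)).image (fun d : Fin n => d.val + 1)) :=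
    Finset.mem_image.mpr ⟨d, Finset.mem_filter.mpr ⟨hd, Fin.lt_def.mpr hdi⟩, rfl⟩
  exact Finset.le_sup (f := id) hmem

/-- on a block end the value is the start of the block -/
theorem h10_kappa_eq_topOf {n : ℕ} (κ : Equiv.Perm (Fin n))
    (hκ : ∀ i : Fin n, (κ i).val ≤ 1 + i.val) (i : Fin n) (hi : (κ i).val ≤ i.val) :
    (κ i).val = topOf (h10_endsOf κ) i := by
  apply le_antisymm
  · rcases Nat.eq_zero_or_pos (κ i).val with h0 | hpos
    · rw [h0]
      exact Nat.zero_le _
    · have hdlt : (κ i).val - 1 < n := by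
        have := (κ i).2
        omega
      have hdi : (⟨(κ i).val - 1, hdlt⟩ : Fin n).val < i.val := by
        show (κ i).val - 1 < i.val
        omega
      have hdD : (⟨(κ i).val - 1, hdlt⟩ : Fin n) ∈ h10_endsOf κ := by
        rw [h10_mem_endsOf]
        by_contra hcon
        have h0 := hκ ⟨(κ i).val - 1, hdlt⟩
        have h1 : (κ ⟨(κ i).val - 1, hdlt⟩).val = (κ i).val := by
          have h3 : ¬ (κ ⟨(κ i).val - 1, hdlt⟩).val ≤ (κ i).val - 1 := hcon
          have h4 : (κ ⟨(κ i).val - 1, hdlt⟩).val ≤ 1 + ((κ i).val - 1) := h0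
          omega
        have h2 : (⟨(κ i).val - 1, hdlt⟩ : Fin n) = i := κ.injective (Fin.ext h1)
        rw [h2] at hdi
        omega
      have h5 := h10_lt_topOf (h10_endsOf κ) i _ hdD hdi
      have h6 : (⟨(κ i).val - 1, hdlt⟩ : Fin n).val + 1 = (κ i).val := by
        show (κ i).val - 1 + 1 = (κ i).val
        omega
      omega
  · unfold topOf
    apply Finset.sup_le
    intro x hx
    obtain ⟨d, hd, rfl⟩ := Finset.mem_image.mp hx
    rw [Finset.mem_filter] at hd
    have h1 := h10_key κ hκ d ((h10_mem_endsOf κ d).mp hd.1) i (Fin.lt_def.mp hd.2)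
    simp only [id]
    omega

theorem h10_fun_eq_compOf {n : ℕ} (κ : Equiv.Perm (Fin n))
    (hκ : ∀ i : Fin n, (κ i).val ≤ 1 + i.val) :
    (fun i : Fin n => 1 + i.val - (κ i).val) = compOf (h10_endsOf κ) := by
  funext i
  unfold compOf
  by_cases hi : (κ i).val ≤ i.val
  · rw [if_pos ((h10_mem_endsOf κ i).mpr hi), ← h10_kappa_eq_topOf κ hκ i hi]
    omega
  · rw [if_neg (fun h => hi ((h10_mem_endsOf κ i).mp h))]
    have := hκ i
    omega

theorem h10_endsOf_mem {n : ℕ} (κ : Equiv.Perm (Fin n)) : h10_endsOf κ ∈ endSets n := by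
  unfold endSets
  rw [Finset.mem_filter]
  refine ⟨Finset.mem_univ _, fun i hi => ?_⟩
  rw [h10_mem_endsOf]
  have := (κ i).2
  omega

theorem h10_endsOf_inj {n : ℕ} (κ κ' : Equiv.Perm (Fin n))
    (hκ : ∀ i : Fin n, (κ i).val ≤ 1 + i.val) (hκ' : ∀ i : Fin n, (κ' i).val ≤ 1 + i.val)
    (h : h10_endsOf κ = h10_endsOf κ') : κ = κ' := by
  apply Equiv.ext
  intro i
  apply Fin.ext
  by_cases hi : (κ i).val ≤ i.val
  · have hi' : (κ' i).val ≤ i.val := by
      rw [← h10_mem_endsOf, ← h, h10_mem_endsOf]
      exact hi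
    rw [h10_kappa_eq_topOf κ hκ i hi, h10_kappa_eq_topOf κ' hκ' i hi', h]
  · have hi' : ¬ (κ' i).val ≤ i.val := by
      rw [← h10_mem_endsOf, ← h, h10_mem_endsOf]
      exact hi
    have := hκ i
    have := hκ' i
    omega

theorem h10_exists_perm {n : ℕ} (D : Finset (Fin n)) (hD : D ∈ endSets n) :
    ∃ κ : Equiv.Perm (Fin n), (∀ i : Fin n, (κ i).val ≤ 1 + i.val) ∧ h10_endsOf κ = D := by
  classical
  have hlast : ∀ i : Fin n, i.val + 1 = n → i ∈ D := by
    unfold endSets at hD
    exact (Finset.mem_filter.mp hD).2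
  have hbound : ∀ i : Fin n, (if i ∈ D then topOf D i else i.val + 1) < n := by
    intro i
    split_ifs with h
    · have := h10_topOf_le D i
      have := i.2
      omega
    · have := i.2
      by_contra hcon
      exact h (hlast i (by omega))
  let f : Fin n → Fin n := fun i => ⟨if i ∈ D then topOf D i else i.val + 1, hbound i⟩
  have hfval : ∀ i, (f i).val = if i ∈ D then topOf D i else i.val + 1 := fun i => rfl
  have hinj : Function.Injective f := by
    intro i i' h
    have hv : (f i).val = (f i').val := congrArg Fin.val h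
    rw [hfval, hfval] at hv
    by_cases hi : i ∈ D <;> by_cases hi' : i' ∈ D
    · rw [if_pos hi, if_pos hi'] at hv
      rcases Nat.lt_trichotomy i.val i'.val with hlt | heq | hgt
      · have := h10_lt_topOf D i' i hi hlt
        have := h10_topOf_le D i
        omega
      · exact Fin.ext heq
      · have := h10_lt_topOf D i i' hi' hgt
        have := h10_topOf_le D i'
        omega
    · rw [if_pos hi, if_neg hi'] at hv
      rcases h10_topOf_cases D i with h0 | ⟨d, hdD, _, hd⟩
      · omega
      · have hE : d = i' := Fin.ext (by omega)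
        rw [hE] at hdD
        exact (hi' hdD).elim
    · rw [if_neg hi, if_pos hi'] at hv
      rcases h10_topOf_cases D i' with h0 | ⟨d, hdD, _, hd⟩
      · omega
      · have hE : d = i := Fin.ext (by omega)
        rw [hE] at hdD
        exact (hi hdD).elim
    · rw [if_neg hi, if_neg hi'] at hv
      exact Fin.ext (by omega)
  let κ : Equiv.Perm (Fin n) := Equiv.ofBijective f hinj.bijective_of_finite
  have hκf : ∀ i, κ i = f i := fun i => rfl
  refine ⟨κ, ?_, ?_⟩
  · intro i
    rw [hκf, hfval]
    split_ifs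
    · have := h10_topOf_le D i
      omega
    · omega
  · ext i
    rw [h10_mem_endsOf, hκf, hfval]
    split_ifs with h
    · have := h10_topOf_le D i
      exact ⟨fun _ => h, fun _ => this⟩
    · constructor
      · intro h'
        omega
      · intro h'
        exact (h h').elim

theorem h10_inv_count {n : ℕ} (κ : Equiv.Perm (Fin n))
    (hκ : ∀ i : Fin n, (κ i).val ≤ 1 + i.val) (j : Fin n) :
    ((Finset.Iio j).filter (fun i => ¬ κ i < κ j)).card +
      (if (κ j).val ≤ j.val then 1 else 0) = 1 + j.val - (κ j).val := by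
  by_cases hj : (κ j).val ≤ j.val
  · rw [if_pos hj]
    have hcard : ((Finset.Iio j).filter (fun i => ¬ κ i < κ j)).card =
        (Finset.Ioc (κ j) j).card := by
      apply Finset.card_nbij' (fun i => κ i) (fun v => κ.symm v)
      · intro i hi
        simp only [Finset.coe_filter, Finset.mem_Iio, Set.mem_ofPred_eq, not_lt] at hi
        simp only [Finset.coe_Ioc, Set.mem_Ioc]
        refine ⟨lt_of_le_of_ne hi.2 (fun h => ?_), ?_⟩
        · have h1 : j = i := κ.injective h
          rw [h1] at hi
          exact lt_irrefl _ hi.1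
        · rw [Fin.le_def]
          have := hκ i
          have := Fin.lt_def.mp hi.1
          omega
      · intro v hv
        simp only [Finset.coe_Ioc, Set.mem_Ioc] at hv
        simp only [Finset.coe_filter, Finset.mem_Iio, Set.mem_ofPred_eq, not_lt,
          Equiv.apply_symm_apply]
        refine ⟨?_, hv.1.le⟩
        rw [Fin.lt_def]
        by_contra hcon
        rcases Nat.lt_or_ge j.val (κ.symm v).val with hgt | hle
        · have h1 := h10_key κ hκ j hj (κ.symm v) hgt
          rw [Equiv.apply_symm_apply] at h1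
          have := Fin.le_def.mp hv.2
          omega
        · have heq : κ.symm v = j := Fin.ext (by omega)
          have h2 : v = κ j := by rw [← heq, Equiv.apply_symm_apply]
          rw [h2] at hv
          exact lt_irrefl _ hv.1
      · intro i _
        exact κ.symm_apply_apply i
      · intro v _
        exact κ.apply_symm_apply v
    rw [hcard, Fin.card_Ioc]
    omega
  · rw [if_neg hj]
    have hempty : ((Finset.Iio j).filter (fun i => ¬ κ i < κ j)) = ∅ := by
      apply Finset.filter_eq_empty_iff.mpr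
      intro i hi
      simp only [Finset.mem_Iio] at hi
      simp only [not_not]
      rw [Fin.lt_def]
      have := hκ i
      have := Fin.lt_def.mp hi
      omega
    rw [hempty, Finset.card_empty]
    have := hκ j
    omega

theorem h10_sum_one_add {n : ℕ} (κ : Equiv.Perm (Fin n))
    (hκ : ∀ i : Fin n, (κ i).val ≤ 1 + i.val) :
    ∑ j : Fin n, (1 + j.val - (κ j).val) = n := by
  have h1 : ∑ j : Fin n, ((1 + j.val - (κ j).val) + (κ j).val) = ∑ j : Fin n, (1 + j.val) := by
    apply Finset.sum_congr rfl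
    intro j _
    have := hκ j
    omega
  rw [Finset.sum_add_distrib, Finset.sum_add_distrib] at h1
  have h2 : ∑ j : Fin n, (κ j).val = ∑ j : Fin n, j.val := Equiv.sum_comp κ (fun j => j.val)
  have h3 : ∑ _j : Fin n, (1 : ℕ) = n := by simp
  rw [h2, h3] at h1
  omega

theorem h10_sign_eq {n : ℕ} (κ : Equiv.Perm (Fin n))
    (hκ : ∀ i : Fin n, (κ i).val ≤ 1 + i.val) :
    ((Equiv.Perm.sign κ : ℤ) : ℂ) = (-1 : ℂ) ^ (n - (h10_endsOf κ).card) := by
  have hs : Equiv.Perm.sign κ = (-1 : ℤˣ) ^ (n - (h10_endsOf κ).card) := by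
    rw [Equiv.Perm.sign_eq_prod_prod_Iio]
    have h1 : ∀ j : Fin n, ∏ i ∈ Finset.Iio j, (if κ i < κ j then (1 : ℤˣ) else -1) =
        (-1 : ℤˣ) ^ ((Finset.Iio j).filter (fun i => ¬ κ i < κ j)).card := by
      intro j
      rw [Finset.prod_ite, Finset.prod_const_one, one_mul, Finset.prod_const]
    rw [Finset.prod_congr rfl (fun j _ => h1 j), Finset.prod_pow_eq_pow_sum]
    congr 1
    have h2 : ∑ j : Fin n, (((Finset.Iio j).filter (fun i => ¬ κ i < κ j)).card +
        (if (κ j).val ≤ j.val then 1 else 0)) = n := by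
      exact (Finset.sum_congr rfl (fun j _ => h10_inv_count κ hκ j)).trans
        (h10_sum_one_add κ hκ)
    rw [Finset.sum_add_distrib] at h2
    have h3 : ∑ j : Fin n, (if (κ j).val ≤ j.val then 1 else 0) = (h10_endsOf κ).card := by
      unfold h10_endsOf
      rw [Finset.card_filter]
    omega
  rw [hs]
  simp

/-- COMB (racing copy) -/
theorem h10_comb_perm {n : ℕ} (Φ : (Fin n → ℕ) → ℂ) :
    (∑ κ : Equiv.Perm (Fin n), if ∀ i : Fin n, (κ i).val ≤ 1 + i.val then
        ((Equiv.Perm.sign κ : ℤ) : ℂ) * Φ (fun i => 1 + i.val - (κ i).val) else 0) =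
    ∑ D ∈ endSets n, (-1 : ℂ) ^ (n - D.card) * Φ (compOf D) := by
  classical
  rw [← Finset.sum_filter]
  apply Finset.sum_bij (fun κ _ => h10_endsOf κ)
  · intro κ _
    exact h10_endsOf_mem κ
  · intro κ hκ κ' hκ' h
    exact h10_endsOf_inj κ κ' (Finset.mem_filter.mp hκ).2 (Finset.mem_filter.mp hκ').2 h
  · intro D hD
    obtain ⟨κ, hκ, hκD⟩ := h10_exists_perm D hD
    exact ⟨κ, Finset.mem_filter.mpr ⟨Finset.mem_univ _, hκ⟩, hκD⟩
  · intro κ hκ
    have hκ' := (Finset.mem_filter.mp hκ).2
    rw [h10_sign_eq κ hκ', h10_fun_eq_compOf κ hκ']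

end Cfsg.Agent.Lib.helper45.SV
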