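import Mathlib
import Cfsg.Agent.Lib.helper45.SVDefs

/-! S2425 piece FIXB, racing copy (helper10): `GL_n` is transitive on the flags of given
dimensions. -/

set_option autoImplicit false
open scoped MatrixGroups

namespace Cfsg.Agent.Lib.helper45.SV

open Module

/-- an independent family adapted to a chain of subspaces -/
theorem h10_adapted_family {F : Type*} [Field F] {V : Type*} [AddCommGroup V] [Module F V]
    [FiniteDimensional F V] {m : ℕ} (d : Fin m → ℕ)
    (W : Fin m → Submodule F V) (hW : Monotone W) (hdim : ∀ j, finrank F (W j) = d j) :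
    ∀ k, k ≤ finrank F V → ∃ b : Fin k → V, LinearIndependent F b ∧
      ∀ (i : Fin k) (j : Fin m), i.val < d j → b i ∈ W j := by
  classical
  intro k
  induction k with
  | zero =>
    intro _
    exact ⟨Fin.elim0, linearIndependent_empty_type, fun i => i.elim0⟩
  | succ k ih =>
    intro hk
    obtain ⟨b, hb, hbW⟩ := ih (by omega)
    have hspan : finrank F (Submodule.span F (Set.range b)) = k := by
      rw [finrank_span_eq_card hb]; simp
    obtain ⟨v, hv1, hv2⟩ : ∃ v, v ∉ Submodule.span F (Set.range b) ∧ ∀ j, k < d j → v ∈ W j := by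
      by_cases hex : ∃ j, k < d j
      · obtain ⟨j0, hj0, hmin⟩ : ∃ j0, k < d j0 ∧ ∀ j, k < d j → j0 ≤ j := by
          have hne : (Finset.univ.filter (fun j => k < d j)).Nonempty := by
            obtain ⟨j, hj⟩ := hex
            exact ⟨j, by simp [hj]⟩
          refine ⟨(Finset.univ.filter (fun j => k < d j)).min' hne, ?_, ?_⟩
          · have := Finset.min'_mem _ hne
            simpa using this
          · intro j hj
            exact Finset.min'_le _ _ (by simp [hj])
        have hnle : ¬ W j0 ≤ Submodule.span F (Set.range b) := by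
          intro hle
          have := Submodule.finrank_mono hle
          rw [hdim, hspan] at this
          omega
        obtain ⟨v, hvW, hvs⟩ := SetLike.not_le_iff_exists.mp hnle
        exact ⟨v, hvs, fun j hj => hW (hmin j hj) hvW⟩
      · have hne : Submodule.span F (Set.range b) ≠ ⊤ := by
          intro h
          rw [h, finrank_top] at hspan
          omega
        obtain ⟨v, hv⟩ : ∃ v, v ∉ Submodule.span F (Set.range b) := by
          by_contra hcon
          apply hne
          rw [eq_top_iff]
          intro x _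
          by_contra hx
          exact hcon ⟨x, hx⟩
        exact ⟨v, hv, fun j hj => (hex ⟨j, hj⟩).elim⟩
    refine ⟨Fin.snoc b v, linearIndependent_finSnoc.mpr ⟨hb, hv1⟩, ?_⟩
    intro i j hij
    rcases Fin.eq_castSucc_or_eq_last i with ⟨i', rfl⟩ | rfl
    · rw [Fin.snoc_castSucc]
      exact hbW i' j (by simpa using hij)
    · rw [Fin.snoc_last]
      exact hv2 j (by simpa using hij)

/-- FIXB (racing copy) -/
theorem h10_exists_gl_flag {F : Type*} [Field F] {n : ℕ} (μ : Fin n → ℕ)
    (W : Fin n → Submodule F (Fin n → F)) (hW : Monotone W)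
    (hd : ∀ j, Module.finrank F (W j) = csum μ j) :
    ∃ g : GL (Fin n) F, ∀ j,
      (stdFlag F μ j).map (Matrix.toLin' (g : Matrix (Fin n) (Fin n) F)) = W j := by
  classical
  rcases Nat.eq_zero_or_pos n with h0 | hpos
  · subst h0
    exact ⟨1, fun j => j.elim0⟩
  have : Nonempty (Fin n) := ⟨⟨0, hpos⟩⟩
  obtain ⟨b, hb, hbW⟩ := h10_adapted_family (fun j => csum μ j) W hW hd n (by simp)
  let bas : Basis (Fin n) F (Fin n → F) := basisOfLinearIndependentOfCardEqFinrank hb (by simp)
  have hbas : ∀ i, bas i = b i := fun i => by simp [bas]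
  let φ : (Fin n → F) ≃ₗ[F] (Fin n → F) := (Pi.basisFun F (Fin n)).equiv bas (Equiv.refl _)
  have hφ : ∀ i, φ (Pi.basisFun F (Fin n) i) = b i := by
    intro i
    have h1 := (Pi.basisFun F (Fin n)).equiv_apply i bas (Equiv.refl _)
    rw [← hbas]
    exact h1
  let G : Matrix (Fin n) (Fin n) F := LinearMap.toMatrix' (φ : (Fin n → F) →ₗ[F] (Fin n → F))
  let G' : Matrix (Fin n) (Fin n) F :=
    LinearMap.toMatrix' (φ.symm : (Fin n → F) →ₗ[F] (Fin n → F))
  have h1 : G * G' = 1 := by
    show LinearMap.toMatrix' _ * LinearMap.toMatrix' _ = 1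
    rw [← LinearMap.toMatrix'_comp]
    simp
  have h2 : G' * G = 1 := by
    show LinearMap.toMatrix' _ * LinearMap.toMatrix' _ = 1
    rw [← LinearMap.toMatrix'_comp]
    simp
  refine ⟨⟨G, G', h1, h2⟩, fun j => ?_⟩
  show (stdFlag F μ j).map (Matrix.toLin' G) = W j
  have hG : Matrix.toLin' G = (φ : (Fin n → F) →ₗ[F] (Fin n → F)) := Matrix.toLin'_toMatrix' _
  rw [hG]
  have hc : csum μ j ≤ n := by
    rw [← hd j]
    have := Submodule.finrank_le (W j)
    simpa using this
  set S : Submodule F (Fin n → F) :=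
    Submodule.span F (Set.range (fun i : Fin (csum μ j) => b (Fin.castLE hc i))) with hS
  have hS1 : S ≤ (stdFlag F μ j).map (φ : (Fin n → F) →ₗ[F] (Fin n → F)) := by
    rw [hS, Submodule.span_le]
    rintro _ ⟨i, rfl⟩
    refine ⟨Pi.basisFun F (Fin n) (Fin.castLE hc i), ?_, hφ _⟩
    intro i' hi'
    have hne : i' ≠ Fin.castLE hc i := by
      intro h
      rw [h] at hi'
      simp at hi'
      omega
    simp [Pi.basisFun_apply, hne]
  have hS2 : S ≤ W j := by
    rw [hS, Submodule.span_le]
    rintro _ ⟨i, rfl⟩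
    exact hbW _ j (by simp)
  have hS3 : (stdFlag F μ j).map (φ : (Fin n → F) →ₗ[F] (Fin n → F)) ≤ S := by
    rintro _ ⟨v, hv, rfl⟩
    have hvsum : v = ∑ i, v i • Pi.basisFun F (Fin n) i := by
      have h3 := (Pi.basisFun F (Fin n)).sum_repr v
      simp only [Pi.basisFun_repr] at h3
      exact h3.symm
    rw [hvsum, map_sum]
    apply Submodule.sum_mem
    intro i _
    rw [map_smul]
    by_cases hi : i.val < csum μ j
    · apply Submodule.smul_mem
      have h4 : (φ : (Fin n → F) →ₗ[F] (Fin n → F)) (Pi.basisFun F (Fin n) i) = b i := hφ i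
      rw [h4]
      exact Submodule.subset_span ⟨⟨i.val, hi⟩, rfl⟩
    · rw [hv i (not_lt.mp hi), zero_smul]
      exact Submodule.zero_mem _
  have hfin : finrank F S = csum μ j := by
    have h5 := finrank_span_eq_card (hb.comp _ (Fin.castLE_injective hc))
    rw [hS]
    exact h5.trans (by simp)
  have hSW : S = W j := Submodule.eq_of_le_of_finrank_eq hS2 (by rw [hfin, hd])
  rw [← hSW]
  exact le_antisymm hS3 hS1

end Cfsg.Agent.Lib.helper45.SV
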