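import Mathlib

/-! S5977 / S5978 block [A], piece PAIR (helper10 racer copy): a fixed-point-free involution of
`Fin n` preserving a sign vector with an even number of `-1`. -/

set_option autoImplicit false

namespace Cfsg.Agent.Lib.helper59.Sfk

/-- a finite type of even cardinality has a fixed-point-free involution -/
theorem h10_fpf_invol {α : Type*} [Fintype α] (h : Even (Fintype.card α)) :
    ∃ σ : α → α, (∀ i, σ (σ i) = i) ∧ ∀ i, σ i ≠ i := by
  classical
  obtain ⟨a, ha⟩ := h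
  have hc : Fintype.card α = Fintype.card (Fin a × Bool) := by
    rw [Fintype.card_prod, Fintype.card_fin, Fintype.card_bool, ha]
    omega
  have e : α ≃ Fin a × Bool := Fintype.equivOfCardEq hc
  refine ⟨fun i => e.symm ((e i).1, !(e i).2), ?_, ?_⟩
  · intro i
    simp
  · intro i hi
    have h1 := congrArg e hi
    rw [Equiv.apply_symm_apply] at h1
    have h2 := congrArg Prod.snd h1
    simp at h2

/-- PAIR (racer copy) -/
theorem h10_sfk_pairing {F : Type*} [Field F] [DecidableEq F] (h2 : (2 : F) ≠ 0) (n : ℕ)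
    (hn : Even n)
    (ε : Fin n → F) (hε : ∀ i, ε i = 1 ∨ ε i = -1)
    (hneg : Even (Finset.univ.filter (fun i => ε i = -1)).card) :
    ∃ π : Fin n → Fin n, (∀ i, π (π i) = i) ∧ (∀ i, π i ≠ i) ∧ ∀ i, ε (π i) = ε i := by
  classical
  have hc1 : Fintype.card {i : Fin n // ε i = -1} =
      (Finset.univ.filter (fun i => ε i = -1)).card := Fintype.card_subtype _
  have h1 : Even (Fintype.card {i : Fin n // ε i = -1}) := by
    rw [hc1]
    exact hneg
  have h2' : Even (Fintype.card {i : Fin n // ¬ ε i = -1}) := by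
    rw [Fintype.card_subtype_compl, Fintype.card_fin]
    obtain ⟨c, hc⟩ := hn
    obtain ⟨a, ha⟩ := h1
    exact ⟨c - a, by omega⟩
  obtain ⟨σ₁, hσ₁, hσ₁'⟩ := h10_fpf_invol h1
  obtain ⟨σ₂, hσ₂, hσ₂'⟩ := h10_fpf_invol h2'
  refine ⟨fun i => if h : ε i = -1 then (σ₁ ⟨i, h⟩).1 else (σ₂ ⟨i, h⟩).1, ?_, ?_, ?_⟩
  · intro i
    by_cases h : ε i = -1
    · have h' : ε (σ₁ ⟨i, h⟩).1 = -1 := (σ₁ ⟨i, h⟩).2
      simp only [dif_pos h, dif_pos h', Subtype.coe_eta, hσ₁]
    · have h' : ¬ ε (σ₂ ⟨i, h⟩).1 = -1 := (σ₂ ⟨i, h⟩).2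
      simp only [dif_neg h, dif_neg h', Subtype.coe_eta, hσ₂]
  · intro i hi
    by_cases h : ε i = -1
    · simp only [dif_pos h] at hi
      exact hσ₁' ⟨i, h⟩ (Subtype.ext hi)
    · simp only [dif_neg h] at hi
      exact hσ₂' ⟨i, h⟩ (Subtype.ext hi)
  · intro i
    by_cases h : ε i = -1
    · simp only [dif_pos h]
      rw [h]
      exact (σ₁ ⟨i, h⟩).2
    · simp only [dif_neg h]
      have h' : ¬ ε (σ₂ ⟨i, h⟩).1 = -1 := (σ₂ ⟨i, h⟩).2
      rcases hε (σ₂ ⟨i, h⟩).1 with h3 | h3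
      · rcases hε i with h4 | h4
        · rw [h3, h4]
        · exact (h h4).elim
      · exact (h' h3).elim

end Cfsg.Agent.Lib.helper59.Sfk
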