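import Mathlib
import Cfsg.Agent.Lib.helper24.SfuDefs

/-! S5982 piece UFIX, racing copy (helper10), core: the count of norm-one vectors enters as a
hypothesis. -/

set_option autoImplicit false

namespace Cfsg.Agent.Lib.helper24

open Module Matrix Cfsg.Geo

theorem h10_toLin_pow {F : Type*} [Field F] {n : ℕ} (x : Matrix (Fin n) (Fin n) F) (k : ℕ) :
    Matrix.toLin' (x ^ k) = (Matrix.toLin' x) ^ k := by
  induction k with
  | zero => simp [Module.End.one_eq_id]
  | succ k ih => rw [pow_succ, Matrix.toLin'_mul, ih, pow_succ]; rfl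

/-- a fixed-point-free map of prime order on a set `N`: `r ∣ #N` -/
theorem h10_dvd_card_of_fpf {V : Type*} [Fintype V] [DecidableEq V] (r : ℕ) [Fact r.Prime]
    (T : V → V) (P : V → Prop) [DecidablePred P] (hP : ∀ v, P v → P (T v))
    (hTr : ∀ v, P v → T^[r] v = v) (hfix : ∀ v, P v → T v ≠ v) :
    r ∣ (Finset.univ.filter P).card := by
  classical
  let G : Function.End V := fun v => if P v then T v else v
  have hG : ∀ (k : ℕ) (v : V), (G ^ k) v = if P v then T^[k] v else v := by
    intro k
    induction k with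
    | zero => intro v; simp; rfl
    | succ k ih =>
      intro v
      have h1 : (G ^ (k + 1)) v = (G ^ k) (G v) := by rw [pow_succ]; rfl
      rw [h1]
      by_cases hv : P v
      · have h2 : G v = T v := if_pos hv
        rw [h2, ih, if_pos (hP v hv), if_pos hv, Function.iterate_succ_apply]
      · have h2 : G v = v := if_neg hv
        rw [h2, ih, if_neg hv, if_neg hv]
  have hGr : G ^ r ^ 1 = 1 := by
    funext v
    rw [pow_one, hG]
    by_cases hv : P v
    · rw [if_pos hv, hTr v hv]; rfl
    · rw [if_neg hv]; rfl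
  have h2 := Equiv.Perm.card_fixedPoints_modEq (p := r) (n := 1) (f := G) hGr
  have h3 : Fintype.card (Function.fixedPoints G) = (Finset.univ.filter (fun v => ¬ P v)).card := by
    apply Fintype.card_of_subtype
    intro v
    simp only [Finset.mem_filter, Finset.mem_univ, true_and]
    constructor
    · intro hv
      show G v = v
      exact if_neg hv
    · intro hfx hv
      have h4 : G v = v := hfx
      have h5 : G v = T v := if_pos hv
      rw [h5] at h4
      exact hfix v hv h4
  have h4 := Finset.card_filter_add_card_filter_not (s := (Finset.univ : Finset V)) P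
  rw [Finset.card_univ] at h4
  rw [h3, ← h4] at h2
  have h5 : (Finset.univ.filter (fun v => ¬ P v)).card ≤
      (Finset.univ.filter P).card + (Finset.univ.filter (fun v => ¬ P v)).card := Nat.le_add_left _ _
  have h6 := (Nat.modEq_iff_dvd' h5).mp h2.symm
  rwa [Nat.add_sub_cancel] at h6

/-- UFIX core (racing copy): COUNT enters as the hypothesis `hCOUNT` -/
theorem h10_sfu_fix_dvd_core {F : Type*} [Field F] [Fintype F] [DecidableEq F] {n : ℕ} (q₀ : ℕ)
    (hcard : Fintype.card F = q₀ ^ 2) (f : (Fin n → F) → (Fin n → F) → F)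
    (hf : IsUnitaryFormPow q₀ f) (r : ℕ) [Fact r.Prime] (hrF : (r : F) ≠ 0)
    (hnd : ¬ r ∣ Fintype.card F - 1) (g : GL (Fin n) F) (hg : g ∈ similarityGroup f)
    (hgr : (g : Matrix (Fin n) (Fin n) F) ^ r = 1)
    (hCOUNT : ∀ (m : ℕ) (f' : (Fin m → F) → (Fin m → F) → F), IsUnitaryFormPow q₀ f' →
      ((Finset.univ.filter (fun v : Fin m → F => f' v v = 1)).card : ℤ) =
        (q₀ : ℤ) ^ (m - 1) * ((q₀ : ℤ) ^ m - (-1) ^ m)) :
    (-(q₀ : ZMod r)) ^ (n - Module.finrank F
      (LinearMap.ker (Matrix.toLin' (g : Matrix (Fin n) (Fin n) F) - 1))) = 1 := by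
  classical
  have hr : r.Prime := Fact.out
  rcases Nat.eq_zero_or_pos n with hn0 | hnpos
  · subst hn0; simp
  have hq0 : q₀ ≠ 0 := by
    intro h0
    rw [h0] at hcard
    have := Fintype.card_pos (α := F)
    omega
  set T : (Fin n → F) →ₗ[F] (Fin n → F) := Matrix.toLin' (g : Matrix (Fin n) (Fin n) F) with hT
  have hTr : T ^ r = 1 := by
    rw [hT, ← h10_toLin_pow, hgr, Matrix.toLin'_one]; rfl
  obtain ⟨c, hc⟩ := hg
  have hc' : ∀ u v, f (T u) (T v) = (c : F) * f u v := by
    intro u v
    have := hc u v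
    simpa [hT, Matrix.toLin'_apply] using this
  have hck : ∀ (k : ℕ) (u v : Fin n → F), f ((T ^ k) u) ((T ^ k) v) = (c : F) ^ k * f u v := by
    intro k
    induction k with
    | zero => intro u v; simp
    | succ k ih =>
      intro u v
      rw [pow_succ', Module.End.mul_apply, Module.End.mul_apply, hc', ih, pow_succ', mul_assoc]
  have hc1 : (c : F) = 1 := by
    have hv : (Pi.single (⟨0, hnpos⟩ : Fin n) (1 : F) : Fin n → F) ≠ 0 := by
      intro h
      have := congrFun h ⟨0, hnpos⟩
      simp at this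
    obtain ⟨⟨x, hx⟩, -⟩ := hf.nondegenerate _ hv
    have h1 := hck r x (Pi.single ⟨0, hnpos⟩ 1)
    rw [hTr] at h1
    simp only [Module.End.one_apply] at h1
    have h2 : ((c : F) ^ r - 1) * f x (Pi.single ⟨0, hnpos⟩ 1) = 0 := by
      rw [sub_mul, ← h1]; ring
    have h3 : (c : F) ^ r = 1 := by
      rcases mul_eq_zero.mp h2 with h | h
      · exact sub_eq_zero.mp h
      · exact absurd h hx
    have h4 : (c : F) ^ (Fintype.card F - 1) = 1 :=
      FiniteField.pow_card_sub_one_eq_one _ c.ne_zero
    have h5 : (c : F) ^ Nat.gcd r (Fintype.card F - 1) = 1 := pow_gcd_eq_one.mpr ⟨h3, h4⟩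
    have h6 : Nat.gcd r (Fintype.card F - 1) = 1 := (Nat.Prime.coprime_iff_not_dvd hr).mpr hnd
    rw [h6, pow_one] at h5
    exact h5
  have hiso : ∀ u v, f (T u) (T v) = f u v := by
    intro u v; rw [hc', hc1, one_mul]
  have hsub : ∀ a b w, f (a - b) w = f a w - f b w := by
    intro a b w
    have h1 := hf.add_left (a - b) b w
    rw [sub_add_cancel] at h1
    rw [h1]; ring
  have hT1 : ∀ y, (T - 1) y = T y - y := fun y => rfl
  set U : Submodule F (Fin n → F) := LinearMap.range (T - 1) with hU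
  have hTU : ∀ u, u ∈ U → T u ∈ U := by
    rintro u ⟨y, rfl⟩
    refine ⟨T y, ?_⟩
    rw [hT1, hT1, map_sub]
  have hperp : ∀ w u, T w = w → u ∈ U → f u w = 0 := by
    rintro w u hw ⟨y, rfl⟩
    rw [hT1, hsub]
    nth_rewrite 1 [← hw]
    rw [hiso, sub_self]
  have hperp' : ∀ w u, T w = w → u ∈ U → f w u = 0 := by
    intro w u hw hu
    rw [hf.herm, hperp w u hw hu]
    exact zero_pow hq0
  have hsumfix : ∀ x, T (∑ i ∈ Finset.range r, (T ^ i) x) = ∑ i ∈ Finset.range r, (T ^ i) x := by
    intro x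
    rw [map_sum]
    have h1 : ∀ i, T ((T ^ i) x) = (T ^ (i + 1)) x := fun i => by rw [pow_succ']; rfl
    simp only [h1]
    have h2 := Finset.sum_range_succ (fun i => (T ^ i) x) r
    have h3 := Finset.sum_range_succ' (fun i => (T ^ i) x) r
    rw [h2] at h3
    rw [hTr] at h3
    simp only [pow_zero, Module.End.one_apply] at h3
    exact (add_right_cancel h3).symm
  have hdiff : ∀ (i : ℕ) x, x - (T ^ i) x ∈ U := by
    intro i
    induction i with
    | zero => intro x; simp
    | succ i ih =>
      intro x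
      have h1 : x - (T ^ (i + 1)) x = (x - (T ^ i) x) - (T - 1) ((T ^ i) x) := by
        rw [pow_succ', Module.End.mul_apply, hT1]; abel
      rw [h1]
      exact U.sub_mem (ih x) ⟨_, rfl⟩
  have hUx : ∀ x, (r : F) • x - ∑ i ∈ Finset.range r, (T ^ i) x ∈ U := by
    intro x
    have h1 : (r : F) • x - ∑ i ∈ Finset.range r, (T ^ i) x =
        ∑ i ∈ Finset.range r, (x - (T ^ i) x) := by
      rw [Finset.sum_sub_distrib, Finset.sum_const, Finset.card_range, Nat.cast_smul_eq_nsmul]
    rw [h1]
    exact U.sum_mem (fun i _ => hdiff i x)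
  -- coordinates on `U`
  set m := Module.finrank F U with hm
  let b : Basis (Fin m) F U := Module.finBasis F U
  let φ : (Fin m → F) →ₗ[F] (Fin n → F) :=
    U.subtype.comp (b.equivFun.symm : (Fin m → F) →ₗ[F] U)
  have hφU : ∀ y, φ y ∈ U := fun y => (b.equivFun.symm y).2
  have hφinj : Function.Injective φ := by
    intro y z h
    have h1 : b.equivFun.symm y = b.equivFun.symm z := Subtype.ext h
    exact b.equivFun.symm.injective h1
  have hφsurj : ∀ u ∈ U, ∃ y, φ y = u := by
    intro u hu
    refine ⟨b.equivFun ⟨u, hu⟩, ?_⟩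
    simp [φ]
  let f' : (Fin m → F) → (Fin m → F) → F := fun y z => f (φ y) (φ z)
  have hf' : IsUnitaryFormPow q₀ f' := by
    refine ⟨?_, ?_, ?_, ?_⟩
    · intro x y v
      show f (φ (x + y)) (φ v) = f (φ x) (φ v) + f (φ y) (φ v)
      rw [map_add]; exact hf.add_left _ _ _
    · intro a x v
      show f (φ (a • x)) (φ v) = a * f (φ x) (φ v)
      rw [map_smul]; exact hf.smul_left _ _ _
    · intro v w; exact hf.herm _ _
    · intro y hy
      have hu0 : φ y ≠ 0 := fun h => hy (hφinj (by rw [h, map_zero]))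
      obtain ⟨⟨x, hx⟩, -⟩ := hf.nondegenerate _ hu0
      obtain ⟨y', hy'⟩ := hφsurj _ (hUx x)
      have h1 : f (φ y') (φ y) ≠ 0 := by
        rw [hy', hsub, hf.smul_left, hperp' _ (φ y) (hsumfix x) (hφU y), sub_zero]
        exact mul_ne_zero hrF hx
      refine ⟨⟨y', h1⟩, ⟨y', ?_⟩⟩
      show f (φ y) (φ y') ≠ 0
      rw [hf.herm]
      exact pow_ne_zero _ h1
  have hcount := hCOUNT m f' hf'
  have hdvd : r ∣ (Finset.univ.filter (fun v : Fin n → F => v ∈ U ∧ f v v = 1)).card := by
    apply h10_dvd_card_of_fpf r (fun v => T v) (fun v => v ∈ U ∧ f v v = 1)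
    · rintro v ⟨hvU, hv1⟩
      exact ⟨hTU v hvU, by rw [hiso]; exact hv1⟩
    · rintro v -
      have h1 : ∀ k, (fun v => T v)^[k] v = (T ^ k) v := by
        intro k
        induction k with
        | zero => simp
        | succ k ih => rw [Function.iterate_succ_apply', ih, pow_succ']; rfl
      rw [h1, hTr]; rfl
    · rintro v ⟨hvU, hv1⟩ hfix
      have h1 := hperp v v hfix hvU
      rw [hv1] at h1
      exact one_ne_zero h1
  have hcardeq : (Finset.univ.filter (fun v : Fin n → F => v ∈ U ∧ f v v = 1)).card =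
      (Finset.univ.filter (fun y : Fin m → F => f' y y = 1)).card := by
    symm
    apply Finset.card_bij (fun y _ => φ y)
    · intro y hy
      simp only [Finset.mem_filter, Finset.mem_univ, true_and] at hy ⊢
      exact ⟨hφU y, hy⟩
    · intro y _ z _ h
      exact hφinj h
    · intro u hu
      simp only [Finset.mem_filter, Finset.mem_univ, true_and] at hu
      obtain ⟨y, hy⟩ := hφsurj u hu.1
      refine ⟨y, ?_, hy⟩
      simp only [Finset.mem_filter, Finset.mem_univ, true_and]
      show f (φ y) (φ y) = 1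
      rw [hy]; exact hu.2
  have hmn : m = n - Module.finrank F (LinearMap.ker (T - 1)) := by
    have h1 := LinearMap.finrank_range_add_finrank_ker (T - 1)
    rw [Module.finrank_fin_fun] at h1
    have h0 : m = Module.finrank F (LinearMap.range (T - 1)) := hm
    omega
  rw [← hmn]
  have hz : ((q₀ : ZMod r)) ^ (m - 1) * ((q₀ : ZMod r) ^ m - (-1) ^ m) = 0 := by
    have h1 : (((Finset.univ.filter (fun y : Fin m → F => f' y y = 1)).card : ℤ) : ZMod r) = 0 := by
      rw [← hcardeq]
      have h2 := (ZMod.natCast_eq_zero_iff _ r).mpr hdvd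
      exact_mod_cast h2
    rw [hcount] at h1
    push_cast at h1
    exact h1
  have hqr : (q₀ : ZMod r) ≠ 0 := by
    intro h0
    have h1 : r ∣ q₀ := (ZMod.natCast_eq_zero_iff _ _).mp h0
    obtain ⟨p, hp⟩ := CharP.exists F
    have := hp
    have : Fact p.Prime := ⟨CharP.char_is_prime F p⟩
    obtain ⟨k, hk⟩ := FiniteField.card F p
    have h2 : r ∣ p ^ (k : ℕ) := by
      rw [← hk.2, hcard]
      exact dvd_pow h1 (by norm_num)
    have h3 : r = p := (Nat.prime_dvd_prime_iff_eq hr Fact.out).mp (hr.dvd_of_dvd_pow h2)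
    apply hrF
    rw [h3]
    exact CharP.cast_eq_zero F p
  have h1 : (q₀ : ZMod r) ^ m = (-1) ^ m := by
    rcases mul_eq_zero.mp hz with h | h
    · exact absurd h (pow_ne_zero _ hqr)
    · exact sub_eq_zero.mp h
  rw [neg_pow, h1, ← mul_pow]
  norm_num

end Cfsg.Agent.Lib.helper24
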