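import Mathlib
import Cfsg.Agent.Lib.helper24.SfoDefs
import Cfsg.Agent.Lib.helper10.SfuUFIXcore

/-! S5981 piece OFREE, racing copy (helper10): a similarity of prime order `r` without fixed
vectors acts freely on `{Q = 1}`. -/

set_option autoImplicit false

namespace Cfsg.Agent.Lib.helper24

open Module Matrix Cfsg.Geo

/-- OFREE (racing copy) -/
theorem h10_sfo_free_count {F : Type*} [Field F] [Fintype F] {n : ℕ} (h2 : (2 : F) ≠ 0)
    (Q : (Fin n → F) → F) (hQ : IsNondegenerateQuadraticForm Q) (r : ℕ) [Fact r.Prime]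
    (hrF : (r : F) ≠ 0) (hnd : ¬ r ∣ Fintype.card F - 1) (g : GL (Fin n) F)
    (hg : g ∈ quadSimilarityGroup Q) (hgr : (g : Matrix (Fin n) (Fin n) F) ^ r = 1)
    (hker : LinearMap.ker (Matrix.toLin' (g : Matrix (Fin n) (Fin n) F) - 1) = ⊥) :
    r ∣ sfoCount Q 1 := by
  classical
  have hr : r.Prime := Fact.out
  have hcnt : sfoCount Q 1 = (Finset.univ.filter (fun v : Fin n → F => Q v = 1)).card := by
    unfold sfoCount
    rw [Nat.card_eq_fintype_card, Fintype.card_subtype]
  rw [hcnt]
  by_cases hex : ∃ v0 : Fin n → F, Q v0 = 1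
  swap
  · have h0 : (Finset.univ.filter (fun v : Fin n → F => Q v = 1)) = ∅ := by
      rw [Finset.filter_eq_empty_iff]
      intro v _ hv
      exact hex ⟨v, hv⟩
    rw [h0, Finset.card_empty]
    exact dvd_zero r
  obtain ⟨v0, hv0⟩ := hex
  set T : (Fin n → F) →ₗ[F] (Fin n → F) := Matrix.toLin' (g : Matrix (Fin n) (Fin n) F) with hT
  have hTr : T ^ r = 1 := by
    rw [hT, ← h10_toLin_pow, hgr, Matrix.toLin'_one]; rfl
  obtain ⟨c, hc⟩ := hg
  have hc' : ∀ v, Q (T v) = (c : F) * Q v := by
    intro v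
    have := hc v
    simpa [hT, Matrix.toLin'_apply] using this
  have hck : ∀ (k : ℕ) (v : Fin n → F), Q ((T ^ k) v) = (c : F) ^ k * Q v := by
    intro k
    induction k with
    | zero => intro v; simp
    | succ k ih =>
      intro v
      rw [pow_succ', Module.End.mul_apply, hc', ih, pow_succ', mul_assoc]
  have hc1 : (c : F) = 1 := by
    have h1 := hck r v0
    rw [hTr, hv0, mul_one] at h1
    simp only [Module.End.one_apply] at h1
    rw [hv0] at h1
    have h3 : (c : F) ^ r = 1 := h1.symm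
    have h4 : (c : F) ^ (Fintype.card F - 1) = 1 :=
      FiniteField.pow_card_sub_one_eq_one _ c.ne_zero
    have h5 : (c : F) ^ Nat.gcd r (Fintype.card F - 1) = 1 := pow_gcd_eq_one.mpr ⟨h3, h4⟩
    have h6 : Nat.gcd r (Fintype.card F - 1) = 1 := (Nat.Prime.coprime_iff_not_dvd hr).mpr hnd
    rw [h6, pow_one] at h5
    exact h5
  have hiso : ∀ v, Q (T v) = Q v := by
    intro v; rw [hc', hc1, one_mul]
  have hQ0 : Q 0 = 0 := by
    have h1 := hQ.smul 0 0
    rw [zero_smul] at h1
    rw [h1]; ring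
  apply h10_dvd_card_of_fpf r (fun v => T v) (fun v => Q v = 1)
  · intro v hv
    show Q (T v) = 1
    rw [hiso]; exact hv
  · intro v _
    have h1 : ∀ k, (fun v => T v)^[k] v = (T ^ k) v := by
      intro k
      induction k with
      | zero => simp
      | succ k ih => rw [Function.iterate_succ_apply', ih, pow_succ']; rfl
    rw [h1, hTr]; rfl
  · intro v hv hfix
    have h1 : v ∈ LinearMap.ker (T - 1) := by
      rw [LinearMap.mem_ker]
      show T v - v = 0
      rw [hfix, sub_self]
    rw [hker] at h1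
    have h3 : v = 0 := (Submodule.mem_bot F).mp h1
    have h4 : Q v = 1 := hv
    rw [h3, hQ0] at h4
    exact zero_ne_one h4

end Cfsg.Agent.Lib.helper24
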