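import Mathlib
import Cfsg.Agent.Lib.helper24.SfoDefs

/-! S5981 piece OSUFA (helper10), core: the orthogonal basis enters as a hypothesis. -/

set_option autoImplicit false

namespace Cfsg.Agent.Lib.helper24

open Module Matrix Cfsg.Geo

/-- the polar form kills a sum of vectors orthogonal to `u` -/
theorem h10_polar_sum_zero {F : Type*} [Field F] {n : ℕ} (Q : (Fin n → F) → F)
    (hQ : IsNondegenerateQuadraticForm Q) (e : Fin n → (Fin n → F)) (a : Fin n → F)
    (u : Fin n → F) (s : Finset (Fin n)) (h : ∀ j ∈ s, QuadraticMap.polar Q u (e j) = 0) :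
    QuadraticMap.polar Q u (∑ j ∈ s, a j • e j) = 0 := by
  classical
  induction s using Finset.induction_on with
  | empty =>
    rw [Finset.sum_empty]
    have h1 := hQ.polar_bilinear.add_right u 0 0
    rw [add_zero] at h1
    exact left_eq_add.mp h1
  | insert b s hb ih =>
    rw [Finset.sum_insert hb, hQ.polar_bilinear.add_right, hQ.polar_bilinear.smul_right,
      h b (Finset.mem_insert_self b s), mul_zero, zero_add]
    exact ih (fun j hj => h j (Finset.mem_insert_of_mem hj))

/-- the value of `Q` on a combination of pairwise orthogonal vectors -/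
theorem h10_Q_sum {F : Type*} [Field F] {n : ℕ} (Q : (Fin n → F) → F)
    (hQ : IsNondegenerateQuadraticForm Q) (e : Fin n → (Fin n → F))
    (horth : ∀ i j, i ≠ j → QuadraticMap.polar Q (e i) (e j) = 0) (a : Fin n → F)
    (s : Finset (Fin n)) :
    Q (∑ j ∈ s, a j • e j) = ∑ j ∈ s, a j ^ 2 * Q (e j) := by
  classical
  induction s using Finset.induction_on with
  | empty =>
    rw [Finset.sum_empty, Finset.sum_empty]
    have h1 := hQ.smul 0 0
    rw [zero_smul] at h1
    rw [h1]; ring
  | insert b s hb ih =>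
    rw [Finset.sum_insert hb, Finset.sum_insert hb]
    have h1 : Q (a b • e b + ∑ j ∈ s, a j • e j) =
        Q (a b • e b) + Q (∑ j ∈ s, a j • e j) +
          QuadraticMap.polar Q (a b • e b) (∑ j ∈ s, a j • e j) := by
      unfold QuadraticMap.polar; ring
    have h2 : QuadraticMap.polar Q (a b • e b) (∑ j ∈ s, a j • e j) = 0 := by
      apply h10_polar_sum_zero Q hQ e a
      intro j hj
      have hjb : b ≠ j := fun h => hb (h ▸ hj)
      rw [hQ.polar_bilinear.smul_left, horth b j hjb, mul_zero]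
    rw [h1, h2, add_zero, ih, hQ.smul]

/-- OSUFA core: the orthogonal basis is a hypothesis -/
theorem h10_sfo_suff_diag_core {F : Type*} [Field F] {n : ℕ} (Q : (Fin n → F) → F)
    (hQ : IsNondegenerateQuadraticForm Q) (x K : Matrix (Fin n) (Fin n) F) (μ : Fin n → F)
    (hK : K.det ≠ 0) (hx : x * K = K * Matrix.diagonal μ) (c : F) (hc : c ≠ 0)
    (hμ : ∀ j, μ j ^ 2 = c)
    (e : Fin n → (Fin n → F)) (he : LinearIndependent F e)
    (horth : ∀ i j, i ≠ j → QuadraticMap.polar Q (e i) (e j) = 0) : SfoConj Q x := by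
  classical
  rcases Nat.eq_zero_or_pos n with hn0 | hnpos
  · subst hn0
    exact ⟨1, 1, by simp, Subgroup.one_mem _, Subsingleton.elim _ _⟩
  let E : Matrix (Fin n) (Fin n) F := fun i j => e j i
  have hEdet : E.det ≠ 0 := by
    have h1 : LinearIndependent F (Matrix.of e).row := he
    have h2 : IsUnit (Matrix.of e) := Matrix.linearIndependent_rows_iff_isUnit.mp h1
    have h3 : IsUnit (Matrix.of e).det := (Matrix.isUnit_iff_isUnit_det _).mp h2
    have h4 : E = (Matrix.of e)ᵀ := rfl
    rw [h4, Matrix.det_transpose]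
    exact h3.ne_zero
  have hEu : IsUnit E.det := isUnit_iff_ne_zero.mpr hEdet
  have hEa : ∀ a : Fin n → F, E *ᵥ a = ∑ j, a j • e j := by
    intro a
    ext i
    simp [Matrix.mulVec, dotProduct, E, mul_comm]
  have hμ0 : ∀ j, μ j ≠ 0 := by
    intro j h0
    have := hμ j
    rw [h0] at this
    exact hc (by rw [← this]; ring)
  -- the similarity
  let G : Matrix (Fin n) (Fin n) F := E * Matrix.diagonal μ * E⁻¹
  have hGdet : G.det ≠ 0 := by
    have h1 : G.det = (Matrix.diagonal μ).det :=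
      Matrix.det_conj ((Matrix.isUnit_iff_isUnit_det _).mpr hEu) _
    rw [h1, Matrix.det_diagonal]
    exact Finset.prod_ne_zero_iff.mpr (fun j _ => hμ0 j)
  have hGQ : ∀ v, Q (G *ᵥ v) = c * Q v := by
    intro v
    have hv : v = E *ᵥ (E⁻¹ *ᵥ v) := by
      rw [Matrix.mulVec_mulVec, Matrix.mul_nonsing_inv E hEu, Matrix.one_mulVec]
    have hGv : G *ᵥ v = E *ᵥ (fun j => μ j * (E⁻¹ *ᵥ v) j) := by
      show (E * Matrix.diagonal μ * E⁻¹) *ᵥ v = _
      rw [← Matrix.mulVec_mulVec, ← Matrix.mulVec_mulVec]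
      congr 1
      ext j
      rw [Matrix.mulVec_diagonal]
    rw [hGv, hEa, h10_Q_sum Q hQ e horth]
    nth_rewrite 2 [hv]
    rw [hEa, h10_Q_sum Q hQ e horth, Finset.mul_sum]
    apply Finset.sum_congr rfl
    intro j _
    rw [mul_pow, hμ j]; ring
  -- rescaling
  let j0 : Fin n := ⟨0, hnpos⟩
  let D : Matrix (Fin n) (Fin n) F := Matrix.diagonal (fun j => if j = j0 then E.det / K.det else 1)
  have hDdet : D.det = E.det / K.det := by
    show (Matrix.diagonal _).det = _
    rw [Matrix.det_diagonal, Finset.prod_ite_eq']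
    simp
  refine ⟨K * D * E⁻¹, Matrix.GeneralLinearGroup.mkOfDetNeZero G hGdet, ?_, ?_, ?_⟩
  · rw [Matrix.det_mul, Matrix.det_mul, hDdet, Matrix.det_nonsing_inv, Ring.inverse_eq_inv']
    field_simp
  · exact ⟨Units.mk0 c hc, fun v => hGQ v⟩
  · show x * (K * D * E⁻¹) = K * D * E⁻¹ * (E * Matrix.diagonal μ * E⁻¹)
    have h1 : x * (K * D * E⁻¹) = K * (Matrix.diagonal μ * D) * E⁻¹ := by
      rw [← Matrix.mul_assoc, ← Matrix.mul_assoc, hx, Matrix.mul_assoc K]
    have h2 : K * D * E⁻¹ * (E * Matrix.diagonal μ * E⁻¹) = K * (D * Matrix.diagonal μ) * E⁻¹ := by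
      have h3 : E⁻¹ * (E * Matrix.diagonal μ * E⁻¹) = Matrix.diagonal μ * E⁻¹ := by
        rw [← Matrix.mul_assoc, ← Matrix.mul_assoc, Matrix.nonsing_inv_mul E hEu, Matrix.one_mul]
      rw [Matrix.mul_assoc (K * D), h3, ← Matrix.mul_assoc, Matrix.mul_assoc K]
    have h4 : Matrix.diagonal μ * D = D * Matrix.diagonal μ := by
      show Matrix.diagonal μ * Matrix.diagonal _ = Matrix.diagonal _ * Matrix.diagonal μ
      rw [Matrix.diagonal_mul_diagonal, Matrix.diagonal_mul_diagonal]
      congr 1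
      funext j
      ring
    rw [h1, h2, h4]

end Cfsg.Agent.Lib.helper24
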