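import Mathlib
import Cfsg.Agent.Lib.helper24.SfoDefs
import Cfsg.Agent.Lib.helper10.SfoOSUFAcore

/-! S5981 piece OSIM2, racing copy (helper10), core: orthogonal basis and the binary
representation lemma enter as hypotheses. -/

set_option autoImplicit false

namespace Cfsg.Agent.Lib.helper24

open Module Matrix Cfsg.Geo

/-- constants for the plane-by-plane similarity with square `z` -/
theorem h10_pair_consts {F : Type*} [Field F] {n : ℕ} (hn : Even n) (d : Fin n → F)
    (hd : ∀ i, d i ≠ 0) (z : F)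
    (hBIN : ∀ a b t : F, a ≠ 0 → b ≠ 0 → ∃ x y : F, a * x ^ 2 + b * y ^ 2 = t) :
    ∃ (σ : Fin n → Fin n) (a b : Fin n → F), (∀ i, σ (σ i) = i) ∧ (∀ i, a (σ i) = - a i) ∧
      (∀ i, a i ^ 2 + b i * b (σ i) = z) ∧
      (∀ i, a i ^ 2 * d i + b i ^ 2 * d (σ i) = z * d i) ∧
      (∀ i, a i * b (σ i) * d i + a (σ i) * b i * d (σ i) = 0) := by
  classical
  obtain ⟨k, hk⟩ := hn
  let σ : Fin n → Fin n := fun i =>
    if h : i.val % 2 = 0 then ⟨i.val + 1, by have := i.2; omega⟩
    else ⟨i.val - 1, by have := i.2; omega⟩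
  have hσval : ∀ i : Fin n, (σ i).val = if i.val % 2 = 0 then i.val + 1 else i.val - 1 := by
    intro i
    simp only [σ]
    split_ifs <;> rfl
  have hσσ : ∀ i, σ (σ i) = i := by
    intro i
    apply Fin.ext
    rw [hσval, hσval]
    split_ifs <;> omega
  have hpar : ∀ i : Fin n, (σ i).val % 2 = 0 ↔ ¬ i.val % 2 = 0 := by
    intro i
    rw [hσval]
    split_ifs <;> omega
  have hsol : ∀ i, ∃ x y : F, d i * x ^ 2 + d (σ i) * y ^ 2 = z * d i :=
    fun i => hBIN (d i) (d (σ i)) (z * d i) (hd i) (hd (σ i))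
  choose al ga hag using hsol
  let a : Fin n → F := fun i => if i.val % 2 = 0 then al i else - al (σ i)
  let b : Fin n → F := fun i => if i.val % 2 = 0 then ga i else d i * ga (σ i) / d (σ i)
  have ha0 : ∀ i : Fin n, i.val % 2 = 0 → a i = al i := fun i h => if_pos h
  have ha1 : ∀ i : Fin n, ¬ i.val % 2 = 0 → a i = - al (σ i) := fun i h => if_neg h
  have hb0 : ∀ i : Fin n, i.val % 2 = 0 → b i = ga i := fun i h => if_pos h
  have hb1 : ∀ i : Fin n, ¬ i.val % 2 = 0 → b i = d i * ga (σ i) / d (σ i) := fun i h => if_neg h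
  refine ⟨σ, a, b, hσσ, ?_, ?_, ?_, ?_⟩
  · intro i
    by_cases hi : i.val % 2 = 0
    · have hs : ¬ (σ i).val % 2 = 0 := fun h => (hpar i).mp h hi
      rw [ha0 i hi, ha1 (σ i) hs, hσσ]
    · have hs : (σ i).val % 2 = 0 := (hpar i).mpr hi
      rw [ha1 i hi, ha0 (σ i) hs, neg_neg]
  · intro i
    by_cases hi : i.val % 2 = 0
    · have hs : ¬ (σ i).val % 2 = 0 := fun h => (hpar i).mp h hi
      rw [ha0 i hi, hb0 i hi, hb1 (σ i) hs, hσσ]
      have h1 := hag i
      have hdi := hd i
      field_simp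
      linear_combination h1
    · have hs : (σ i).val % 2 = 0 := (hpar i).mpr hi
      rw [ha1 i hi, hb1 i hi, hb0 (σ i) hs]
      have h1 := hag (σ i)
      rw [hσσ] at h1
      have hdi := hd (σ i)
      field_simp
      linear_combination h1
  · intro i
    by_cases hi : i.val % 2 = 0
    · rw [ha0 i hi, hb0 i hi]
      linear_combination hag i
    · rw [ha1 i hi, hb1 i hi]
      have h1 := hag (σ i)
      rw [hσσ] at h1
      have hdi := hd (σ i)
      field_simp
      linear_combination (d i) * h1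
  · intro i
    by_cases hi : i.val % 2 = 0
    · have hs : ¬ (σ i).val % 2 = 0 := fun h => (hpar i).mp h hi
      rw [ha0 i hi, hb0 i hi, ha1 (σ i) hs, hb1 (σ i) hs, hσσ]
      have hdi := hd i
      field_simp
      ring
    · have hs : (σ i).val % 2 = 0 := (hpar i).mpr hi
      rw [ha1 i hi, hb1 i hi, ha0 (σ i) hs, hb0 (σ i) hs]
      have hdi := hd (σ i)
      field_simp
      ring

/-- OSIM2 core (racing copy): orthogonal basis and binary representation as hypotheses -/
theorem h10_sfo_exists_sim_sq_core {F : Type*} [Field F] {n : ℕ} (h2 : (2 : F) ≠ 0)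
    (Q : (Fin n → F) → F) (hQ : IsNondegenerateQuadraticForm Q) (hn : Even n) (z : F)
    (hz : z ≠ 0)
    (e : Fin n → (Fin n → F)) (he : LinearIndependent F e)
    (horth : ∀ i j, i ≠ j → QuadraticMap.polar Q (e i) (e j) = 0) (hne : ∀ i, Q (e i) ≠ 0)
    (hBIN : ∀ a b t : F, a ≠ 0 → b ≠ 0 → ∃ x y : F, a * x ^ 2 + b * y ^ 2 = t) :
    ∃ g ∈ quadSimilarityGroup Q,
      (g : Matrix (Fin n) (Fin n) F) * (g : Matrix (Fin n) (Fin n) F) =
        z • (1 : Matrix (Fin n) (Fin n) F) := by
  classical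
  rcases Nat.eq_zero_or_pos n with h0 | hpos
  · subst h0
    exact ⟨1, Subgroup.one_mem _, Subsingleton.elim _ _⟩
  have : Nonempty (Fin n) := ⟨⟨0, hpos⟩⟩
  obtain ⟨σ, a, bb, hσσ, hC1, hC2, hC3, hC4⟩ :=
    h10_pair_consts hn (fun i => Q (e i)) hne z hBIN
  let σp : Equiv.Perm (Fin n) := ⟨σ, σ, hσσ, hσσ⟩
  have hσp : ∀ i, σp i = σ i := fun i => rfl
  let bas : Basis (Fin n) F (Fin n → F) := basisOfLinearIndependentOfCardEqFinrank he (by simp)
  have hbas : ∀ i, bas i = e i := fun i => by simp [bas]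
  let M : (Fin n → F) →ₗ[F] (Fin n → F) := bas.constr F (fun i => a i • e i + bb i • e (σ i))
  have hMe : ∀ i, M (e i) = a i • e i + bb i • e (σ i) := by
    intro i
    have h1 := bas.constr_basis F (fun i => a i • e i + bb i • e (σ i)) i
    rw [hbas] at h1
    exact h1
  have hcomp : M.comp M = z • LinearMap.id := by
    apply bas.ext
    intro i
    rw [hbas]
    show M (M (e i)) = z • e i
    rw [hMe, map_add, map_smul, map_smul, hMe, hMe, hσσ, hC1, ← hC2 i]
    module
  have hMv : ∀ x : Fin n → F,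
      M (∑ i, x i • e i) = ∑ i, (x i * a i + x (σ i) * bb (σ i)) • e i := by
    intro x
    rw [map_sum]
    have h1 : ∀ i, M (x i • e i) = (x i * a i) • e i + (x i * bb i) • e (σ i) := by
      intro i
      rw [map_smul, hMe, smul_add, smul_smul, smul_smul]
    simp only [h1]
    rw [Finset.sum_add_distrib]
    have h2' : ∑ i, (x i * bb i) • e (σ i) = ∑ i, (x (σ i) * bb (σ i)) • e i := by
      have h3 := Equiv.sum_comp σp (fun i => (x (σ i) * bb (σ i)) • e i)
      rw [← h3]
      apply Finset.sum_congr rfl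
      intro i _
      rw [hσp, hσσ]
    rw [h2', ← Finset.sum_add_distrib]
    apply Finset.sum_congr rfl
    intro i _
    rw [add_smul]
  have hMQ : ∀ v, Q (M v) = z * Q v := by
    intro v
    set x : Fin n → F := fun i => bas.repr v i with hx
    have hv : v = ∑ i, x i • e i := by
      have h1 := bas.sum_repr v
      simp only [hbas] at h1
      exact h1.symm
    rw [hv, hMv, h10_Q_sum Q hQ e horth, h10_Q_sum Q hQ e horth]
    set d : Fin n → F := fun i => Q (e i) with hd
    have e1 : ∑ i, x (σ i) ^ 2 * bb (σ i) ^ 2 * d i = ∑ i, x i ^ 2 * bb i ^ 2 * d (σ i) := by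
      have h3 := Equiv.sum_comp σp (fun i => x i ^ 2 * bb i ^ 2 * d (σ i))
      rw [← h3]
      apply Finset.sum_congr rfl
      intro i _
      rw [hσp, hσσ]
    have e2 : ∑ i, x i * x (σ i) * (a i * bb (σ i) * d i) = 0 := by
      have h3 := Equiv.sum_comp σp (fun i => x i * x (σ i) * (a i * bb (σ i) * d i))
      have hsum : ∑ i, (x i * x (σ i) * (a i * bb (σ i) * d i) +
          x (σp i) * x (σ (σp i)) * (a (σp i) * bb (σ (σp i)) * d (σp i))) = 0 := by
        apply Finset.sum_eq_zero
        intro i _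
        rw [hσp, hσσ]
        have h4 := hC4 i
        linear_combination (x i * x (σ i)) * h4
      rw [Finset.sum_add_distrib, h3] at hsum
      have h5 : (2 : F) * ∑ i, x i * x (σ i) * (a i * bb (σ i) * d i) = 0 := by
        rw [two_mul]; exact hsum
      exact (mul_eq_zero.mp h5).resolve_left h2
    calc ∑ i, (x i * a i + x (σ i) * bb (σ i)) ^ 2 * d i
        = ∑ i, (x i ^ 2 * (a i ^ 2 * d i) + x (σ i) ^ 2 * bb (σ i) ^ 2 * d i +
            2 * (x i * x (σ i) * (a i * bb (σ i) * d i))) := by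
          apply Finset.sum_congr rfl
          intro i _
          ring
      _ = ∑ i, x i ^ 2 * (a i ^ 2 * d i) + ∑ i, x i ^ 2 * bb i ^ 2 * d (σ i) + 2 * 0 := by
          rw [Finset.sum_add_distrib, Finset.sum_add_distrib, e1, ← Finset.mul_sum, e2]
      _ = ∑ i, x i ^ 2 * (a i ^ 2 * d i + bb i ^ 2 * d (σ i)) := by
          rw [mul_zero, add_zero, ← Finset.sum_add_distrib]
          apply Finset.sum_congr rfl
          intro i _
          ring
      _ = z * ∑ i, x i ^ 2 * d i := by
          rw [Finset.mul_sum]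
          apply Finset.sum_congr rfl
          intro i _
          rw [hC3 i]
          ring
  let G : Matrix (Fin n) (Fin n) F := LinearMap.toMatrix' M
  have hGv : ∀ v, G *ᵥ v = M v := by
    intro v
    have h1 := Matrix.toLin'_apply G v
    rw [← h1]
    simp [G]
  have hGG : G * G = z • (1 : Matrix (Fin n) (Fin n) F) := by
    show LinearMap.toMatrix' M * LinearMap.toMatrix' M = _
    rw [← LinearMap.toMatrix'_comp, hcomp, map_smul, LinearMap.toMatrix'_id]
  have hGdet : G.det ≠ 0 := by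
    intro h0
    have h1 := congrArg Matrix.det hGG
    rw [Matrix.det_mul, h0, mul_zero, Matrix.det_smul, Matrix.det_one, mul_one] at h1
    exact (pow_ne_zero _ hz) h1.symm
  refine ⟨Matrix.GeneralLinearGroup.mkOfDetNeZero G hGdet, ⟨Units.mk0 z hz, fun v => ?_⟩, hGG⟩
  show Q (G *ᵥ v) = z * Q v
  rw [hGv]
  exact hMQ v

end Cfsg.Agent.Lib.helper24
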