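import Mathlib
import Cfsg.Agent.Lib.helper24.SfoDefs
import Cfsg.Agent.Lib.helper10.SfoOSUFAcore
import Cfsg.Agent.Lib.helper98.SfoOB

/-! S5981 piece OSUFA (helper10): diagonal sufficiency. -/

set_option autoImplicit false

namespace Cfsg.Agent.Lib.helper24

open Module Matrix Cfsg.Geo

/-- OSUFA -/
theorem sfo_suff_diag {F : Type*} [Field F] {n : ℕ} (h2 : (2 : F) ≠ 0) (Q : (Fin n → F) → F)
    (hQ : IsNondegenerateQuadraticForm Q) (x K : Matrix (Fin n) (Fin n) F) (μ : Fin n → F)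
    (hK : K.det ≠ 0) (hx : x * K = K * Matrix.diagonal μ) (c : F) (hc : c ≠ 0)
    (hμ : ∀ j, μ j ^ 2 = c) : SfoConj Q x := by
  obtain ⟨e, he, horth, -⟩ := sfo_orth_basis h2 Q hQ
  exact h10_sfo_suff_diag_core Q hQ x K μ hK hx c hc hμ e he horth

end Cfsg.Agent.Lib.helper24
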