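import Mathlib
import Cfsg.Agent.Lib.helper24.SfuDefs
import Cfsg.Agent.Lib.helper10.SfuUFIXcore
import Cfsg.Agent.Lib.helper27.SfuCOUNT

/-! S5982 piece UFIX, racing copy (helper10): the verbatim statement under a prefixed name. -/

set_option autoImplicit false

namespace Cfsg.Agent.Lib.helper24

open Module Matrix Cfsg.Geo

/-- UFIX (racing copy) -/
theorem h10_sfu_fix_dvd {F : Type*} [Field F] [Fintype F] {n : ℕ} (q₀ : ℕ)
    (hcard : Fintype.card F = q₀ ^ 2) (f : (Fin n → F) → (Fin n → F) → F)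
    (hf : IsUnitaryFormPow q₀ f) (r : ℕ) [Fact r.Prime] (hrF : (r : F) ≠ 0)
    (hnd : ¬ r ∣ Fintype.card F - 1) (g : GL (Fin n) F) (hg : g ∈ similarityGroup f)
    (hgr : (g : Matrix (Fin n) (Fin n) F) ^ r = 1) :
    (-(q₀ : ZMod r)) ^ (n - Module.finrank F
      (LinearMap.ker (Matrix.toLin' (g : Matrix (Fin n) (Fin n) F) - 1))) = 1 := by
  classical
  exact h10_sfu_fix_dvd_core q₀ hcard f hf r hrF hnd g hg hgr
    (fun m f' hf' => h27_sfu_count q₀ hcard f' hf')

end Cfsg.Agent.Lib.helper24
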