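import Mathlib
import Cfsg.Agent.Lib.helper10.PermSimple
import Cfsg.Agent.Lib.helper10.SuzData

set_option autoImplicit false
set_option maxRecDepth 100000

namespace Cfsg.Agent.Lib.helper10

theorem suz_head0 : chkHead [] suzL0 = true := by decide +kernel

theorem suz_nest0_c0 : allBelow (fun i => (chkNest suzL0.S suzL0) (0 + i)) 1782 = true := by decide +kernel

theorem suz_vert0_c0 : allBelow (fun i => (chkVertex suzL0 [suzL1, suzL2, suzL3, suzL4, suzL5]) (0 + i)) 900 = true := by decide +kernel

theorem suz_vert0_c1 : allBelow (fun i => (chkVertex suzL0 [suzL1, suzL2, suzL3, suzL4, suzL5]) (900 + i)) 882 = true := by decide +kernel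

theorem suz_head1 : chkHead [0] suzL1 = true := by decide +kernel

theorem suz_nest1_c0 : allBelow (fun i => (chkNest suzL0.S suzL1) (0 + i)) 1782 = true := by decide +kernel

theorem suz_vert1_c0 : allBelow (fun i => (chkVertex suzL1 [suzL2, suzL3, suzL4, suzL5]) (0 + i)) 1782 = true := by decide +kernel

theorem suz_head2 : chkHead [0, 1] suzL2 = true := by decide +kernel

theorem suz_nest2_c0 : allBelow (fun i => (chkNest suzL1.S suzL2) (0 + i)) 1782 = true := by decide +kernel

theorem suz_vert2_c0 : allBelow (fun i => (chkVertex suzL2 [suzL3, suzL4, suzL5]) (0 + i)) 1782 = true := by decide +kernel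

end Cfsg.Agent.Lib.helper10
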