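import Mathlib
import Cfsg.Agent.Lib.helper10.PermSimple
import Cfsg.Agent.Lib.helper10.SuzData

set_option autoImplicit false
set_option maxRecDepth 100000

namespace Cfsg.Agent.Lib.helper10

theorem suz_head3 : chkHead [0, 1, 2] suzL3 = true := by decide +kernel

theorem suz_nest3_c0 : allBelow (fun i => (chkNest suzL2.S suzL3) (0 + i)) 1782 = true := by decide +kernel

theorem suz_vert3_c0 : allBelow (fun i => (chkVertex suzL3 [suzL4, suzL5]) (0 + i)) 1782 = true := by decide +kernel

theorem suz_head4 : chkHead [0, 1, 2, 3] suzL4 = true := by decide +kernel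

theorem suz_nest4_c0 : allBelow (fun i => (chkNest suzL3.S suzL4) (0 + i)) 1782 = true := by decide +kernel

theorem suz_vert4_c0 : allBelow (fun i => (chkVertex suzL4 [suzL5]) (0 + i)) 1782 = true := by decide +kernel

theorem suz_head5 : chkHead [0, 1, 2, 3, 4] suzL5 = true := by decide +kernel

theorem suz_nest5_c0 : allBelow (fun i => (chkNest suzL4.S suzL5) (0 + i)) 1782 = true := by decide +kernel

theorem suz_vert5_c0 : allBelow (fun i => (chkVertex suzL5 []) (0 + i)) 1782 = true := by decide +kernel

theorem suz_inv_c0 : allBelow (fun i => (fun v => chkInvV suzL0.S.act suzrow 11 1782 416 0 v && chkInvV suzL0.S.act suzrow 11 1782 416 2 v) (0 + i)) 60 = true := by decide +kernel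

end Cfsg.Agent.Lib.helper10
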