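import Mathlib
import Cfsg.Agent.Lib.helper10.PermSimple
import Cfsg.Agent.Lib.helper10.SuzData

set_option autoImplicit false
set_option maxRecDepth 100000

namespace Cfsg.Agent.Lib.helper10

theorem suz_inv_c1 : allBelow (fun i => (fun v => chkInvV suzL0.S.act suzrow 11 1782 416 0 v && chkInvV suzL0.S.act suzrow 11 1782 416 2 v) (60 + i)) 60 = true := by decide +kernel

theorem suz_inv_c2 : allBelow (fun i => (fun v => chkInvV suzL0.S.act suzrow 11 1782 416 0 v && chkInvV suzL0.S.act suzrow 11 1782 416 2 v) (120 + i)) 60 = true := by decide +kernel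

theorem suz_inv_c3 : allBelow (fun i => (fun v => chkInvV suzL0.S.act suzrow 11 1782 416 0 v && chkInvV suzL0.S.act suzrow 11 1782 416 2 v) (180 + i)) 60 = true := by decide +kernel

theorem suz_inv_c4 : allBelow (fun i => (fun v => chkInvV suzL0.S.act suzrow 11 1782 416 0 v && chkInvV suzL0.S.act suzrow 11 1782 416 2 v) (240 + i)) 60 = true := by decide +kernel

theorem suz_inv_c5 : allBelow (fun i => (fun v => chkInvV suzL0.S.act suzrow 11 1782 416 0 v && chkInvV suzL0.S.act suzrow 11 1782 416 2 v) (300 + i)) 60 = true := by decide +kernel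

theorem suz_inv_c6 : allBelow (fun i => (fun v => chkInvV suzL0.S.act suzrow 11 1782 416 0 v && chkInvV suzL0.S.act suzrow 11 1782 416 2 v) (360 + i)) 60 = true := by decide +kernel

theorem suz_inv_c7 : allBelow (fun i => (fun v => chkInvV suzL0.S.act suzrow 11 1782 416 0 v && chkInvV suzL0.S.act suzrow 11 1782 416 2 v) (420 + i)) 60 = true := by decide +kernel

theorem suz_inv_c8 : allBelow (fun i => (fun v => chkInvV suzL0.S.act suzrow 11 1782 416 0 v && chkInvV suzL0.S.act suzrow 11 1782 416 2 v) (480 + i)) 60 = true := by decide +kernel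

theorem suz_inv_c9 : allBelow (fun i => (fun v => chkInvV suzL0.S.act suzrow 11 1782 416 0 v && chkInvV suzL0.S.act suzrow 11 1782 416 2 v) (540 + i)) 60 = true := by decide +kernel

theorem suz_inv_c10 : allBelow (fun i => (fun v => chkInvV suzL0.S.act suzrow 11 1782 416 0 v && chkInvV suzL0.S.act suzrow 11 1782 416 2 v) (600 + i)) 60 = true := by decide +kernel

end Cfsg.Agent.Lib.helper10
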