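import Mathlib
import Cfsg.Agent.Lib.helper10.PermSimple
import Cfsg.Agent.Lib.helper10.SuzData

set_option autoImplicit false
set_option maxRecDepth 100000

namespace Cfsg.Agent.Lib.helper10

theorem suz_inv_c11 : allBelow (fun i => (fun v => chkInvV suzL0.S.act suzrow 11 1782 416 0 v && chkInvV suzL0.S.act suzrow 11 1782 416 2 v) (660 + i)) 60 = true := by decide +kernel

theorem suz_inv_c12 : allBelow (fun i => (fun v => chkInvV suzL0.S.act suzrow 11 1782 416 0 v && chkInvV suzL0.S.act suzrow 11 1782 416 2 v) (720 + i)) 60 = true := by decide +kernel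

theorem suz_inv_c13 : allBelow (fun i => (fun v => chkInvV suzL0.S.act suzrow 11 1782 416 0 v && chkInvV suzL0.S.act suzrow 11 1782 416 2 v) (780 + i)) 60 = true := by decide +kernel

theorem suz_inv_c14 : allBelow (fun i => (fun v => chkInvV suzL0.S.act suzrow 11 1782 416 0 v && chkInvV suzL0.S.act suzrow 11 1782 416 2 v) (840 + i)) 60 = true := by decide +kernel

theorem suz_inv_c15 : allBelow (fun i => (fun v => chkInvV suzL0.S.act suzrow 11 1782 416 0 v && chkInvV suzL0.S.act suzrow 11 1782 416 2 v) (900 + i)) 60 = true := by decide +kernel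

theorem suz_inv_c16 : allBelow (fun i => (fun v => chkInvV suzL0.S.act suzrow 11 1782 416 0 v && chkInvV suzL0.S.act suzrow 11 1782 416 2 v) (960 + i)) 60 = true := by decide +kernel

theorem suz_inv_c17 : allBelow (fun i => (fun v => chkInvV suzL0.S.act suzrow 11 1782 416 0 v && chkInvV suzL0.S.act suzrow 11 1782 416 2 v) (1020 + i)) 60 = true := by decide +kernel

theorem suz_inv_c18 : allBelow (fun i => (fun v => chkInvV suzL0.S.act suzrow 11 1782 416 0 v && chkInvV suzL0.S.act suzrow 11 1782 416 2 v) (1080 + i)) 60 = true := by decide +kernel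

theorem suz_inv_c19 : allBelow (fun i => (fun v => chkInvV suzL0.S.act suzrow 11 1782 416 0 v && chkInvV suzL0.S.act suzrow 11 1782 416 2 v) (1140 + i)) 60 = true := by decide +kernel

theorem suz_inv_c20 : allBelow (fun i => (fun v => chkInvV suzL0.S.act suzrow 11 1782 416 0 v && chkInvV suzL0.S.act suzrow 11 1782 416 2 v) (1200 + i)) 60 = true := by decide +kernel

end Cfsg.Agent.Lib.helper10
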