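import Mathlib
import Cfsg.Agent.Lib.helper10.PermSimple
import Cfsg.Agent.Lib.helper10.SuzData

set_option autoImplicit false
set_option maxRecDepth 100000

namespace Cfsg.Agent.Lib.helper10

theorem suz_inv_c21 : allBelow (fun i => (fun v => chkInvV suzL0.S.act suzrow 11 1782 416 0 v && chkInvV suzL0.S.act suzrow 11 1782 416 2 v) (1260 + i)) 60 = true := by decide +kernel

theorem suz_inv_c22 : allBelow (fun i => (fun v => chkInvV suzL0.S.act suzrow 11 1782 416 0 v && chkInvV suzL0.S.act suzrow 11 1782 416 2 v) (1320 + i)) 60 = true := by decide +kernel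

theorem suz_inv_c23 : allBelow (fun i => (fun v => chkInvV suzL0.S.act suzrow 11 1782 416 0 v && chkInvV suzL0.S.act suzrow 11 1782 416 2 v) (1380 + i)) 60 = true := by decide +kernel

theorem suz_inv_c24 : allBelow (fun i => (fun v => chkInvV suzL0.S.act suzrow 11 1782 416 0 v && chkInvV suzL0.S.act suzrow 11 1782 416 2 v) (1440 + i)) 60 = true := by decide +kernel

theorem suz_inv_c25 : allBelow (fun i => (fun v => chkInvV suzL0.S.act suzrow 11 1782 416 0 v && chkInvV suzL0.S.act suzrow 11 1782 416 2 v) (1500 + i)) 60 = true := by decide +kernel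

theorem suz_inv_c26 : allBelow (fun i => (fun v => chkInvV suzL0.S.act suzrow 11 1782 416 0 v && chkInvV suzL0.S.act suzrow 11 1782 416 2 v) (1560 + i)) 60 = true := by decide +kernel

theorem suz_inv_c27 : allBelow (fun i => (fun v => chkInvV suzL0.S.act suzrow 11 1782 416 0 v && chkInvV suzL0.S.act suzrow 11 1782 416 2 v) (1620 + i)) 60 = true := by decide +kernel

theorem suz_inv_c28 : allBelow (fun i => (fun v => chkInvV suzL0.S.act suzrow 11 1782 416 0 v && chkInvV suzL0.S.act suzrow 11 1782 416 2 v) (1680 + i)) 60 = true := by decide +kernel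

theorem suz_inv_c29 : allBelow (fun i => (fun v => chkInvV suzL0.S.act suzrow 11 1782 416 0 v && chkInvV suzL0.S.act suzrow 11 1782 416 2 v) (1740 + i)) 42 = true := by decide +kernel

theorem suz_prop_c0 : allBelow (fun i => (chkPropV (fun v => rowMask 11 416 (suzrow v)) 1782 12 99 suzptab) (6 + i)) 130 = true := by decide +kernel

end Cfsg.Agent.Lib.helper10
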