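import Mathlib
import Cfsg.Agent.Lib.helper10.PermSimple
import Cfsg.Agent.Lib.helper10.SuzData

set_option autoImplicit false
set_option maxRecDepth 100000

namespace Cfsg.Agent.Lib.helper10

theorem suz_prop_c1 : allBelow (fun i => (chkPropV (fun v => rowMask 11 416 (suzrow v)) 1782 12 99 suzptab) (136 + i)) 130 = true := by decide +kernel

theorem suz_prop_c2 : allBelow (fun i => (chkPropV (fun v => rowMask 11 416 (suzrow v)) 1782 12 99 suzptab) (266 + i)) 130 = true := by decide +kernel

theorem suz_prop_c3 : allBelow (fun i => (chkPropV (fun v => rowMask 11 416 (suzrow v)) 1782 12 99 suzptab) (396 + i)) 130 = true := by decide +kernel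

theorem suz_prop_c4 : allBelow (fun i => (chkPropV (fun v => rowMask 11 416 (suzrow v)) 1782 12 99 suzptab) (526 + i)) 130 = true := by decide +kernel

theorem suz_prop_c5 : allBelow (fun i => (chkPropV (fun v => rowMask 11 416 (suzrow v)) 1782 12 99 suzptab) (656 + i)) 130 = true := by decide +kernel

theorem suz_prop_c6 : allBelow (fun i => (chkPropV (fun v => rowMask 11 416 (suzrow v)) 1782 12 99 suzptab) (786 + i)) 130 = true := by decide +kernel

theorem suz_prop_c7 : allBelow (fun i => (chkPropV (fun v => rowMask 11 416 (suzrow v)) 1782 12 99 suzptab) (916 + i)) 130 = true := by decide +kernel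

theorem suz_prop_c8 : allBelow (fun i => (chkPropV (fun v => rowMask 11 416 (suzrow v)) 1782 12 99 suzptab) (1046 + i)) 130 = true := by decide +kernel

theorem suz_prop_c9 : allBelow (fun i => (chkPropV (fun v => rowMask 11 416 (suzrow v)) 1782 12 99 suzptab) (1176 + i)) 130 = true := by decide +kernel

theorem suz_prop_c10 : allBelow (fun i => (chkPropV (fun v => rowMask 11 416 (suzrow v)) 1782 12 99 suzptab) (1306 + i)) 130 = true := by decide +kernel

end Cfsg.Agent.Lib.helper10
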