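import Mathlib
import Cfsg.Agent.Lib.helper10.PermSimple
import Cfsg.Agent.Lib.helper10.SuzData

set_option autoImplicit false
set_option maxRecDepth 100000

namespace Cfsg.Agent.Lib.helper10

theorem suz_prop_c11 : allBelow (fun i => (chkPropV (fun v => rowMask 11 416 (suzrow v)) 1782 12 99 suzptab) (1436 + i)) 130 = true := by decide +kernel

theorem suz_prop_c12 : allBelow (fun i => (chkPropV (fun v => rowMask 11 416 (suzrow v)) 1782 12 99 suzptab) (1566 + i)) 130 = true := by decide +kernel

theorem suz_prop_c13 : allBelow (fun i => (chkPropV (fun v => rowMask 11 416 (suzrow v)) 1782 12 99 suzptab) (1696 + i)) 86 = true := by decide +kernel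

theorem suz_full_c0 : allBelow (fun i => (fun v => plook 19 suztbl0 v != 0) (0 + i)) 1782 = true := by decide +kernel

theorem suz_orb_c0 : allBelow (fun i => (chkOrbV suzL1.S.act [0, 1, 2] 2 suzctab 2 17 suzotab) (0 + i)) 1782 = true := by decide +kernel

theorem suz_cls : allBelow (fun v => decide (plook 2 suzctab v < 3) && (decide (plook 2 suzctab v = 0) == decide (v = 0))) 1782 = true := by decide +kernel

theorem suz_sizes : allBelow (fun j => cntBelow (fun v => plook 2 suzctab v == j) 1782 == ([1, 416, 1365] : List ℕ).getD j 0) 3 = true := by decide +kernel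

theorem suz_arith : chkArith (fun j => ([1, 416, 1365] : List ℕ).getD j 0) 1782 3 = true := by decide +kernel

theorem suz_card : ([suzL0, suzL1, suzL2, suzL3, suzL4, suzL5].map orbCard).prod = 1782 * 251596800 := by decide +kernel

theorem suz_ap_c0 : allBelow (fun i => (fun x => pact suzL0.S.act (List.replicate 13 0) x == x) (0 + i)) 1782 = true := by decide +kernel

end Cfsg.Agent.Lib.helper10
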