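import Mathlib
import Cfsg.Agent.Lib.helper10.PermSimple
import Cfsg.Agent.Lib.helper10.SuzData

set_option autoImplicit false
set_option maxRecDepth 100000

namespace Cfsg.Agent.Lib.helper10

theorem suz_bp_c0 : allBelow (fun i => (fun x => pact suzL0.S.act (List.replicate 11 2) x == x) (0 + i)) 1782 = true := by decide +kernel

theorem suz_ane : suzL0.S.act 0 0 ≠ 0 := by decide +kernel

theorem suz_bne : suzL0.S.act 2 0 ≠ 0 := by decide +kernel

theorem suz_fix1 : 0 < cntBelow (fun x => suzL0.S.act 0 x == x) 1782 := by decide +kernel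

theorem suz_fix2 : cntBelow (fun x => suzL0.S.act 0 x == x) 1782 < 11 := by decide +kernel

end Cfsg.Agent.Lib.helper10
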