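import Mathlib
import Cfsg.Agent.Lib.helper10.PermSimple
import Cfsg.Agent.Lib.helper10.SuzChk0
import Cfsg.Agent.Lib.helper10.SuzChk1
import Cfsg.Agent.Lib.helper10.SuzChk2
import Cfsg.Agent.Lib.helper10.SuzChk3
import Cfsg.Agent.Lib.helper10.SuzChk4
import Cfsg.Agent.Lib.helper10.SuzChk5
import Cfsg.Agent.Lib.helper10.SuzChk6
import Cfsg.Agent.Lib.helper10.SuzChk7

set_option autoImplicit false
set_option maxRecDepth 100000

namespace Cfsg.Agent.Lib.helper10

theorem suz_nest0 : ∀ x, 0 ≤ x → x < 1782 → (chkNest suzL0.S suzL0) x = true := by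
  intro x hlo hx
  exact allFrom_sound (f := chkNest suzL0.S suzL0) suz_nest0_c0 x (by omega) (by omega)

theorem suz_nest0' : ∀ x, x < 1782 → chkNest suzL0.S suzL0 x = true := fun x hx => suz_nest0 x (Nat.zero_le _) hx

theorem suz_vert0 : ∀ x, 0 ≤ x → x < 1782 → (chkVertex suzL0 [suzL1, suzL2, suzL3, suzL4, suzL5]) x = true := by
  intro x hlo hx
  by_cases h0 : x < 900
  · exact allFrom_sound (f := chkVertex suzL0 [suzL1, suzL2, suzL3, suzL4, suzL5]) suz_vert0_c0 x (by omega) (by omega)
  exact allFrom_sound (f := chkVertex suzL0 [suzL1, suzL2, suzL3, suzL4, suzL5]) suz_vert0_c1 x (by omega) (by omega)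

theorem suz_vert0' : ∀ v, v < 1782 → chkVertex suzL0 [suzL1, suzL2, suzL3, suzL4, suzL5] v = true := fun x hx => suz_vert0 x (Nat.zero_le _) hx

theorem suz_nest1 : ∀ x, 0 ≤ x → x < 1782 → (chkNest suzL0.S suzL1) x = true := by
  intro x hlo hx
  exact allFrom_sound (f := chkNest suzL0.S suzL1) suz_nest1_c0 x (by omega) (by omega)

theorem suz_nest1' : ∀ x, x < 1782 → chkNest suzL0.S suzL1 x = true := fun x hx => suz_nest1 x (Nat.zero_le _) hx

theorem suz_vert1 : ∀ x, 0 ≤ x → x < 1782 → (chkVertex suzL1 [suzL2, suzL3, suzL4, suzL5]) x = true := by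
  intro x hlo hx
  exact allFrom_sound (f := chkVertex suzL1 [suzL2, suzL3, suzL4, suzL5]) suz_vert1_c0 x (by omega) (by omega)

theorem suz_vert1' : ∀ v, v < 1782 → chkVertex suzL1 [suzL2, suzL3, suzL4, suzL5] v = true := fun x hx => suz_vert1 x (Nat.zero_le _) hx

theorem suz_nest2 : ∀ x, 0 ≤ x → x < 1782 → (chkNest suzL1.S suzL2) x = true := by
  intro x hlo hx
  exact allFrom_sound (f := chkNest suzL1.S suzL2) suz_nest2_c0 x (by omega) (by omega)

theorem suz_nest2' : ∀ x, x < 1782 → chkNest suzL1.S suzL2 x = true := fun x hx => suz_nest2 x (Nat.zero_le _) hx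

theorem suz_vert2 : ∀ x, 0 ≤ x → x < 1782 → (chkVertex suzL2 [suzL3, suzL4, suzL5]) x = true := by
  intro x hlo hx
  exact allFrom_sound (f := chkVertex suzL2 [suzL3, suzL4, suzL5]) suz_vert2_c0 x (by omega) (by omega)

theorem suz_vert2' : ∀ v, v < 1782 → chkVertex suzL2 [suzL3, suzL4, suzL5] v = true := fun x hx => suz_vert2 x (Nat.zero_le _) hx

theorem suz_nest3 : ∀ x, 0 ≤ x → x < 1782 → (chkNest suzL2.S suzL3) x = true := by
  intro x hlo hx
  exact allFrom_sound (f := chkNest suzL2.S suzL3) suz_nest3_c0 x (by omega) (by omega)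

theorem suz_nest3' : ∀ x, x < 1782 → chkNest suzL2.S suzL3 x = true := fun x hx => suz_nest3 x (Nat.zero_le _) hx

theorem suz_vert3 : ∀ x, 0 ≤ x → x < 1782 → (chkVertex suzL3 [suzL4, suzL5]) x = true := by
  intro x hlo hx
  exact allFrom_sound (f := chkVertex suzL3 [suzL4, suzL5]) suz_vert3_c0 x (by omega) (by omega)

theorem suz_vert3' : ∀ v, v < 1782 → chkVertex suzL3 [suzL4, suzL5] v = true := fun x hx => suz_vert3 x (Nat.zero_le _) hx

theorem suz_nest4 : ∀ x, 0 ≤ x → x < 1782 → (chkNest suzL3.S suzL4) x = true := by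
  intro x hlo hx
  exact allFrom_sound (f := chkNest suzL3.S suzL4) suz_nest4_c0 x (by omega) (by omega)

theorem suz_nest4' : ∀ x, x < 1782 → chkNest suzL3.S suzL4 x = true := fun x hx => suz_nest4 x (Nat.zero_le _) hx

theorem suz_vert4 : ∀ x, 0 ≤ x → x < 1782 → (chkVertex suzL4 [suzL5]) x = true := by
  intro x hlo hx
  exact allFrom_sound (f := chkVertex suzL4 [suzL5]) suz_vert4_c0 x (by omega) (by omega)

theorem suz_vert4' : ∀ v, v < 1782 → chkVertex suzL4 [suzL5] v = true := fun x hx => suz_vert4 x (Nat.zero_le _) hx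

theorem suz_nest5 : ∀ x, 0 ≤ x → x < 1782 → (chkNest suzL4.S suzL5) x = true := by
  intro x hlo hx
  exact allFrom_sound (f := chkNest suzL4.S suzL5) suz_nest5_c0 x (by omega) (by omega)

theorem suz_nest5' : ∀ x, x < 1782 → chkNest suzL4.S suzL5 x = true := fun x hx => suz_nest5 x (Nat.zero_le _) hx

theorem suz_vert5 : ∀ x, 0 ≤ x → x < 1782 → (chkVertex suzL5 []) x = true := by
  intro x hlo hx
  exact allFrom_sound (f := chkVertex suzL5 []) suz_vert5_c0 x (by omega) (by omega)

theorem suz_vert5' : ∀ v, v < 1782 → chkVertex suzL5 [] v = true := fun x hx => suz_vert5 x (Nat.zero_le _) hx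

theorem suz_chain : ChainOK suzL0.S [] [suzL0, suzL1, suzL2, suzL3, suzL4, suzL5] :=
  ⟨suz_head0, suz_nest0', suz_vert0', suz_head1, suz_nest1', suz_vert1', suz_head2, suz_nest2', suz_vert2', suz_head3, suz_nest3', suz_vert3', suz_head4, suz_nest4', suz_vert4', suz_head5, suz_nest5', suz_vert5', trivial⟩

theorem suz_inv : ∀ x, 0 ≤ x → x < 1782 → (fun v => chkInvV suzL0.S.act suzrow 11 1782 416 0 v && chkInvV suzL0.S.act suzrow 11 1782 416 2 v) x = true := by
  intro x hlo hx
  by_cases h0 : x < 60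
  · exact allFrom_sound (f := fun v => chkInvV suzL0.S.act suzrow 11 1782 416 0 v && chkInvV suzL0.S.act suzrow 11 1782 416 2 v) suz_inv_c0 x (by omega) (by omega)
  by_cases h1 : x < 120
  · exact allFrom_sound (f := fun v => chkInvV suzL0.S.act suzrow 11 1782 416 0 v && chkInvV suzL0.S.act suzrow 11 1782 416 2 v) suz_inv_c1 x (by omega) (by omega)
  by_cases h2 : x < 180
  · exact allFrom_sound (f := fun v => chkInvV suzL0.S.act suzrow 11 1782 416 0 v && chkInvV suzL0.S.act suzrow 11 1782 416 2 v) suz_inv_c2 x (by omega) (by omega)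
  by_cases h3 : x < 240
  · exact allFrom_sound (f := fun v => chkInvV suzL0.S.act suzrow 11 1782 416 0 v && chkInvV suzL0.S.act suzrow 11 1782 416 2 v) suz_inv_c3 x (by omega) (by omega)
  by_cases h4 : x < 300
  · exact allFrom_sound (f := fun v => chkInvV suzL0.S.act suzrow 11 1782 416 0 v && chkInvV suzL0.S.act suzrow 11 1782 416 2 v) suz_inv_c4 x (by omega) (by omega)
  by_cases h5 : x < 360
  · exact allFrom_sound (f := fun v => chkInvV suzL0.S.act suzrow 11 1782 416 0 v && chkInvV suzL0.S.act suzrow 11 1782 416 2 v) suz_inv_c5 x (by omega) (by omega)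
  by_cases h6 : x < 420
  · exact allFrom_sound (f := fun v => chkInvV suzL0.S.act suzrow 11 1782 416 0 v && chkInvV suzL0.S.act suzrow 11 1782 416 2 v) suz_inv_c6 x (by omega) (by omega)
  by_cases h7 : x < 480
  · exact allFrom_sound (f := fun v => chkInvV suzL0.S.act suzrow 11 1782 416 0 v && chkInvV suzL0.S.act suzrow 11 1782 416 2 v) suz_inv_c7 x (by omega) (by omega)
  by_cases h8 : x < 540
  · exact allFrom_sound (f := fun v => chkInvV suzL0.S.act suzrow 11 1782 416 0 v && chkInvV suzL0.S.act suzrow 11 1782 416 2 v) suz_inv_c8 x (by omega) (by omega)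
  by_cases h9 : x < 600
  · exact allFrom_sound (f := fun v => chkInvV suzL0.S.act suzrow 11 1782 416 0 v && chkInvV suzL0.S.act suzrow 11 1782 416 2 v) suz_inv_c9 x (by omega) (by omega)
  by_cases h10 : x < 660
  · exact allFrom_sound (f := fun v => chkInvV suzL0.S.act suzrow 11 1782 416 0 v && chkInvV suzL0.S.act suzrow 11 1782 416 2 v) suz_inv_c10 x (by omega) (by omega)
  by_cases h11 : x < 720
  · exact allFrom_sound (f := fun v => chkInvV suzL0.S.act suzrow 11 1782 416 0 v && chkInvV suzL0.S.act suzrow 11 1782 416 2 v) suz_inv_c11 x (by omega) (by omega)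
  by_cases h12 : x < 780
  · exact allFrom_sound (f := fun v => chkInvV suzL0.S.act suzrow 11 1782 416 0 v && chkInvV suzL0.S.act suzrow 11 1782 416 2 v) suz_inv_c12 x (by omega) (by omega)
  by_cases h13 : x < 840
  · exact allFrom_sound (f := fun v => chkInvV suzL0.S.act suzrow 11 1782 416 0 v && chkInvV suzL0.S.act suzrow 11 1782 416 2 v) suz_inv_c13 x (by omega) (by omega)
  by_cases h14 : x < 900
  · exact allFrom_sound (f := fun v => chkInvV suzL0.S.act suzrow 11 1782 416 0 v && chkInvV suzL0.S.act suzrow 11 1782 416 2 v) suz_inv_c14 x (by omega) (by omega)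
  by_cases h15 : x < 960
  · exact allFrom_sound (f := fun v => chkInvV suzL0.S.act suzrow 11 1782 416 0 v && chkInvV suzL0.S.act suzrow 11 1782 416 2 v) suz_inv_c15 x (by omega) (by omega)
  by_cases h16 : x < 1020
  · exact allFrom_sound (f := fun v => chkInvV suzL0.S.act suzrow 11 1782 416 0 v && chkInvV suzL0.S.act suzrow 11 1782 416 2 v) suz_inv_c16 x (by omega) (by omega)
  by_cases h17 : x < 1080
  · exact allFrom_sound (f := fun v => chkInvV suzL0.S.act suzrow 11 1782 416 0 v && chkInvV suzL0.S.act suzrow 11 1782 416 2 v) suz_inv_c17 x (by omega) (by omega)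
  by_cases h18 : x < 1140
  · exact allFrom_sound (f := fun v => chkInvV suzL0.S.act suzrow 11 1782 416 0 v && chkInvV suzL0.S.act suzrow 11 1782 416 2 v) suz_inv_c18 x (by omega) (by omega)
  by_cases h19 : x < 1200
  · exact allFrom_sound (f := fun v => chkInvV suzL0.S.act suzrow 11 1782 416 0 v && chkInvV suzL0.S.act suzrow 11 1782 416 2 v) suz_inv_c19 x (by omega) (by omega)
  by_cases h20 : x < 1260
  · exact allFrom_sound (f := fun v => chkInvV suzL0.S.act suzrow 11 1782 416 0 v && chkInvV suzL0.S.act suzrow 11 1782 416 2 v) suz_inv_c20 x (by omega) (by omega)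
  by_cases h21 : x < 1320
  · exact allFrom_sound (f := fun v => chkInvV suzL0.S.act suzrow 11 1782 416 0 v && chkInvV suzL0.S.act suzrow 11 1782 416 2 v) suz_inv_c21 x (by omega) (by omega)
  by_cases h22 : x < 1380
  · exact allFrom_sound (f := fun v => chkInvV suzL0.S.act suzrow 11 1782 416 0 v && chkInvV suzL0.S.act suzrow 11 1782 416 2 v) suz_inv_c22 x (by omega) (by omega)
  by_cases h23 : x < 1440
  · exact allFrom_sound (f := fun v => chkInvV suzL0.S.act suzrow 11 1782 416 0 v && chkInvV suzL0.S.act suzrow 11 1782 416 2 v) suz_inv_c23 x (by omega) (by omega)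
  by_cases h24 : x < 1500
  · exact allFrom_sound (f := fun v => chkInvV suzL0.S.act suzrow 11 1782 416 0 v && chkInvV suzL0.S.act suzrow 11 1782 416 2 v) suz_inv_c24 x (by omega) (by omega)
  by_cases h25 : x < 1560
  · exact allFrom_sound (f := fun v => chkInvV suzL0.S.act suzrow 11 1782 416 0 v && chkInvV suzL0.S.act suzrow 11 1782 416 2 v) suz_inv_c25 x (by omega) (by omega)
  by_cases h26 : x < 1620
  · exact allFrom_sound (f := fun v => chkInvV suzL0.S.act suzrow 11 1782 416 0 v && chkInvV suzL0.S.act suzrow 11 1782 416 2 v) suz_inv_c26 x (by omega) (by omega)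
  by_cases h27 : x < 1680
  · exact allFrom_sound (f := fun v => chkInvV suzL0.S.act suzrow 11 1782 416 0 v && chkInvV suzL0.S.act suzrow 11 1782 416 2 v) suz_inv_c27 x (by omega) (by omega)
  by_cases h28 : x < 1740
  · exact allFrom_sound (f := fun v => chkInvV suzL0.S.act suzrow 11 1782 416 0 v && chkInvV suzL0.S.act suzrow 11 1782 416 2 v) suz_inv_c28 x (by omega) (by omega)
  exact allFrom_sound (f := fun v => chkInvV suzL0.S.act suzrow 11 1782 416 0 v && chkInvV suzL0.S.act suzrow 11 1782 416 2 v) suz_inv_c29 x (by omega) (by omega)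

theorem suz_hinv : ∀ j, j < suzL0.S.g / 2 → ∀ v, v < 1782 → chkInvV suzL0.S.act suzrow 11 1782 416 (2 * j) v = true := by
  intro j hj v hv
  have hj' : j < 2 := hj
  have h := suz_inv v (Nat.zero_le _) hv
  simp only [Bool.and_eq_true] at h
  interval_cases j
  · exact h.1
  · exact h.2

theorem suz_prop : ∀ x, 6 ≤ x → x < 1782 → (chkPropV (fun v => rowMask 11 416 (suzrow v)) 1782 12 99 suzptab) x = true := by
  intro x hlo hx
  by_cases h0 : x < 136
  · exact allFrom_sound (f := chkPropV (fun v => rowMask 11 416 (suzrow v)) 1782 12 99 suzptab) suz_prop_c0 x (by omega) (by omega)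
  by_cases h1 : x < 266
  · exact allFrom_sound (f := chkPropV (fun v => rowMask 11 416 (suzrow v)) 1782 12 99 suzptab) suz_prop_c1 x (by omega) (by omega)
  by_cases h2 : x < 396
  · exact allFrom_sound (f := chkPropV (fun v => rowMask 11 416 (suzrow v)) 1782 12 99 suzptab) suz_prop_c2 x (by omega) (by omega)
  by_cases h3 : x < 526
  · exact allFrom_sound (f := chkPropV (fun v => rowMask 11 416 (suzrow v)) 1782 12 99 suzptab) suz_prop_c3 x (by omega) (by omega)
  by_cases h4 : x < 656
  · exact allFrom_sound (f := chkPropV (fun v => rowMask 11 416 (suzrow v)) 1782 12 99 suzptab) suz_prop_c4 x (by omega) (by omega)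
  by_cases h5 : x < 786
  · exact allFrom_sound (f := chkPropV (fun v => rowMask 11 416 (suzrow v)) 1782 12 99 suzptab) suz_prop_c5 x (by omega) (by omega)
  by_cases h6 : x < 916
  · exact allFrom_sound (f := chkPropV (fun v => rowMask 11 416 (suzrow v)) 1782 12 99 suzptab) suz_prop_c6 x (by omega) (by omega)
  by_cases h7 : x < 1046
  · exact allFrom_sound (f := chkPropV (fun v => rowMask 11 416 (suzrow v)) 1782 12 99 suzptab) suz_prop_c7 x (by omega) (by omega)
  by_cases h8 : x < 1176
  · exact allFrom_sound (f := chkPropV (fun v => rowMask 11 416 (suzrow v)) 1782 12 99 suzptab) suz_prop_c8 x (by omega) (by omega)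
  by_cases h9 : x < 1306
  · exact allFrom_sound (f := chkPropV (fun v => rowMask 11 416 (suzrow v)) 1782 12 99 suzptab) suz_prop_c9 x (by omega) (by omega)
  by_cases h10 : x < 1436
  · exact allFrom_sound (f := chkPropV (fun v => rowMask 11 416 (suzrow v)) 1782 12 99 suzptab) suz_prop_c10 x (by omega) (by omega)
  by_cases h11 : x < 1566
  · exact allFrom_sound (f := chkPropV (fun v => rowMask 11 416 (suzrow v)) 1782 12 99 suzptab) suz_prop_c11 x (by omega) (by omega)
  by_cases h12 : x < 1696
  · exact allFrom_sound (f := chkPropV (fun v => rowMask 11 416 (suzrow v)) 1782 12 99 suzptab) suz_prop_c12 x (by omega) (by omega)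
  exact allFrom_sound (f := chkPropV (fun v => rowMask 11 416 (suzrow v)) 1782 12 99 suzptab) suz_prop_c13 x (by omega) (by omega)

theorem suz_full : ∀ x, 0 ≤ x → x < 1782 → (fun v => plook 19 suztbl0 v != 0) x = true := by
  intro x hlo hx
  exact allFrom_sound (f := fun v => plook 19 suztbl0 v != 0) suz_full_c0 x (by omega) (by omega)

theorem suz_hfull : ∀ v, v < 1782 → plook suzL0.W suzL0.tbl v ≠ 0 := fun v hv => by
  have := suz_full v (Nat.zero_le _) hv
  show plook 19 suztbl0 v ≠ 0
  simpa using this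

theorem suz_orb : ∀ x, 0 ≤ x → x < 1782 → (chkOrbV suzL1.S.act [0, 1, 2] 2 suzctab 2 17 suzotab) x = true := by
  intro x hlo hx
  exact allFrom_sound (f := chkOrbV suzL1.S.act [0, 1, 2] 2 suzctab 2 17 suzotab) suz_orb_c0 x (by omega) (by omega)

theorem suz_ap : ∀ x, 0 ≤ x → x < 1782 → (fun x => pact suzL0.S.act (List.replicate 13 0) x == x) x = true := by
  intro x hlo hx
  exact allFrom_sound (f := fun x => pact suzL0.S.act (List.replicate 13 0) x == x) suz_ap_c0 x (by omega) (by omega)

theorem suz_bp : ∀ x, 0 ≤ x → x < 1782 → (fun x => pact suzL0.S.act (List.replicate 11 2) x == x) x = true := by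
  intro x hlo hx
  exact allFrom_sound (f := fun x => pact suzL0.S.act (List.replicate 11 2) x == x) suz_bp_c0 x (by omega) (by omega)

theorem suz_hb : suzL0.b < 1782 := by decide

/-- The group of the certificate is simple of order `1782 * 251596800`, transitive, with point
stabilisers of order `251596800`. -/
theorem suz_cert : IsSimpleGroup suzL0.S.H ∧ Nat.card suzL0.S.H = 1782 * 251596800 ∧
    MulAction.IsPretransitive suzL0.S.H (Fin 1782) ∧
    Nat.card (MulAction.stabilizer suzL0.S.H (⟨suzL0.b, suz_hb⟩ : Fin 1782)) = 251596800 :=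
  group_cert suzL0 suzL1 [suzL2, suzL3, suzL4, suzL5] suz_chain 6 (by decide) suzrow 11 416 12 99 suzptab
    suz_hinv suz_prop rfl suz_hb suz_hfull [0, 1, 2] [1, 416, 1365] 2 suzctab 2 17 suzotab
    (fun v hv => suz_orb v (Nat.zero_le _) hv)
    (getD_lt_of_all _ _ (by norm_num) (by decide))
    (cls_of_chk _ _ _ _ _ suz_cls).1 (cls_of_chk _ _ _ _ _ suz_cls).2
    (sizes_of_chk _ _ _ _ _ suz_sizes) suz_arith
    251596800 11 13 1 162 (by norm_num) (by norm_num) suz_card (by norm_num) (by norm_num) (by norm_num) (by norm_num)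
    (fun x hx => by simpa using suz_ap x (Nat.zero_le _) hx) ⟨0, by norm_num, suz_ane⟩
    (fun x hx => by simpa using suz_bp x (Nat.zero_le _) hx) ⟨0, by norm_num, suz_bne⟩
    suz_fix1 suz_fix2 (by norm_num)

end Cfsg.Agent.Lib.helper10
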