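/-
Tits: a sharply 4-transitive group acts on a finite set (no finiteness assumed on the group).
Involution argument: let `σ` swap `a, b` and fix `c, d`.  Every point `p` not in `{a, b}` and
not fixed by `σ` is fixed by `σ * τ`, where `τ` fixes `a, b`, swaps `p, σ p`, hence commutes
with `σ`; there are only finitely many such `τ` (they permute the at most three fixed points of
`σ`), and each non-identity element has at most three fixed points.
-/
import Mathlib
import Cfsg.Agent.Lib.helper10.Jordan

set_option autoImplicit false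

namespace Cfsg.Agent.Lib.helper10

open MulAction

/-- In a sharply 4-transitive group a non-identity element has finitely many fixed points. -/
theorem fixedBy_finite_of_sharp_four {G α : Type*} [Group G] [MulAction G α]
    (hsharp : ∀ x : Fin 4 ↪ α, stabilizer G x = ⊥) (g : G) (hg : g ≠ 1) :
    (fixedBy α g).Finite := by
  by_contra hinf
  obtain ⟨t, ht, ht4⟩ := Set.Infinite.exists_subset_card_eq hinf 4
  let e : Fin 4 ≃ t := (Finset.equivFinOfCardEq ht4).symm
  let z : Fin 4 ↪ α := ⟨fun i => (e i : α), fun i j h => e.injective (Subtype.ext h)⟩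
  have hz : g ∈ stabilizer G z := by
    rw [mem_stabilizer_iff]
    ext i
    rw [Function.Embedding.smul_apply]
    exact ht (e i).2
  rw [hsharp z, Subgroup.mem_bot] at hz
  exact hg hz

/-- **Tits**: a sharply 4-transitive group has finite degree. -/
theorem finite_of_sharp_four {G α : Type*} [Group G] [MulAction G α]
    (h4 : IsMultiplyPretransitive G α 4) (hsharp : ∀ x : Fin 4 ↪ α, stabilizer G x = ⊥)
    (hne : Nonempty (Fin 4 ↪ α)) : Finite α := by
  obtain ⟨x⟩ := hne
  set a := x 0 with ha
  set b := x 1 with hb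
  set c := x 2 with hc
  set d := x 3 with hd
  have hab : a ≠ b := fun h => by simpa using x.injective h
  have hac : a ≠ c := fun h => by simpa using x.injective h
  have had : a ≠ d := fun h => by simpa using x.injective h
  have hbc : b ≠ c := fun h => by simpa using x.injective h
  have hbd : b ≠ d := fun h => by simpa using x.injective h
  have hcd : c ≠ d := fun h => by simpa using x.injective h
  let x' : Fin 4 ↪ α := ⟨![a, b, c, d], injective_vec4 hab hac had hbc hbd hcd⟩
  let y : Fin 4 ↪ α := ⟨![b, a, c, d], injective_vec4 hab.symm hbc hbd hac had hcd⟩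
  obtain ⟨σ, hσ⟩ := MulAction.exists_smul_eq G x' y
  have hσa : σ • a = b := by
    have := congrArg (fun f : Fin 4 ↪ α => f 0) hσ
    simpa [x', y] using this
  have hσb : σ • b = a := by
    have := congrArg (fun f : Fin 4 ↪ α => f 1) hσ
    simpa [x', y] using this
  have hσc : σ • c = c := by
    have := congrArg (fun f : Fin 4 ↪ α => f 2) hσ
    simpa [x', y] using this
  have hσd : σ • d = d := by
    have := congrArg (fun f : Fin 4 ↪ α => f 3) hσ
    simpa [x', y] using this
  have hσσ : σ * σ = 1 := by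
    refine eq_of_smul_eq_four hsharp _ _ x' (forall_fin4 ?_ ?_ ?_ ?_)
    · show (σ * σ) • a = (1 : G) • a
      rw [mul_smul, hσa, hσb, one_smul]
    · show (σ * σ) • b = (1 : G) • b
      rw [mul_smul, hσb, hσa, one_smul]
    · show (σ * σ) • c = (1 : G) • c
      rw [mul_smul, hσc, hσc, one_smul]
    · show (σ * σ) • d = (1 : G) • d
      rw [mul_smul, hσd, hσd, one_smul]
  have hσ2 : ∀ p : α, σ • σ • p = p := fun p => by rw [← mul_smul, hσσ, one_smul]
  have hσ1 : σ ≠ 1 := by
    rintro rfl
    rw [one_smul] at hσa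
    exact hab hσa
  have hFσ : (fixedBy α σ).Finite := fixedBy_finite_of_sharp_four hsharp σ hσ1
  -- the finitely many candidates for `τ`
  set T : Set G := {τ | τ • a = a ∧ τ • b = b ∧ τ • c ∈ fixedBy α σ ∧ τ • d ∈ fixedBy α σ} with hT
  have hTfin : T.Finite := by
    have hinj : Set.InjOn (fun τ : G => (τ • c, τ • d)) T := by
      intro τ hτ τ' hτ' h
      have h1 : τ • c = τ' • c := congrArg Prod.fst h
      have h2 : τ • d = τ' • d := congrArg Prod.snd h
      refine eq_of_smul_eq_four hsharp _ _ x' (forall_fin4 ?_ ?_ ?_ ?_)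
      · show τ • a = τ' • a
        rw [hτ.1, hτ'.1]
      · show τ • b = τ' • b
        rw [hτ.2.1, hτ'.2.1]
      · exact h1
      · exact h2
    refine Set.Finite.of_finite_image ?_ hinj
    refine Set.Finite.subset (hFσ.prod hFσ) ?_
    rintro _ ⟨τ, hτ, rfl⟩
    exact Set.mk_mem_prod hτ.2.2.1 hτ.2.2.2
  have hcover : ∀ p : α, p ∈ (({a, b} : Set α) ∪ fixedBy α σ) ∪ ⋃ τ ∈ T, fixedBy α (σ * τ) := by
    intro p
    by_cases hpa : p = a
    · exact Or.inl (Or.inl (by rw [hpa]; exact Set.mem_insert _ _))
    by_cases hpb : p = b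
    · exact Or.inl (Or.inl (by rw [hpb]; exact Set.mem_insert_of_mem _ rfl))
    by_cases hpσ : σ • p = p
    · exact Or.inl (Or.inr hpσ)
    right
    have hσpa : σ • p ≠ a := by
      intro h
      apply hpb
      rw [← hσ2 p, h, hσa]
    have hσpb : σ • p ≠ b := by
      intro h
      apply hpa
      rw [← hσ2 p, h, hσb]
    let w : Fin 4 ↪ α :=
      ⟨![a, b, p, σ • p], injective_vec4 hab (Ne.symm hpa) (Ne.symm hσpa) (Ne.symm hpb)
        (Ne.symm hσpb) (Ne.symm hpσ)⟩
    let w' : Fin 4 ↪ α :=
      ⟨![a, b, σ • p, p], injective_vec4 hab (Ne.symm hσpa) (Ne.symm hpa) (Ne.symm hσpb)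
        (Ne.symm hpb) hpσ⟩
    obtain ⟨τ, hτ⟩ := MulAction.exists_smul_eq G w w'
    have hτa : τ • a = a := by
      have := congrArg (fun f : Fin 4 ↪ α => f 0) hτ
      simpa [w, w'] using this
    have hτb : τ • b = b := by
      have := congrArg (fun f : Fin 4 ↪ α => f 1) hτ
      simpa [w, w'] using this
    have hτp : τ • p = σ • p := by
      have := congrArg (fun f : Fin 4 ↪ α => f 2) hτ
      simpa [w, w'] using this
    have hτσp : τ • σ • p = p := by
      have := congrArg (fun f : Fin 4 ↪ α => f 3) hτ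
      simpa [w, w'] using this
    have hcomm : σ * τ = τ * σ := by
      refine eq_of_smul_eq_four hsharp _ _ w (forall_fin4 ?_ ?_ ?_ ?_)
      · show (σ * τ) • a = (τ * σ) • a
        rw [mul_smul, mul_smul, hτa, hσa, hτb]
      · show (σ * τ) • b = (τ * σ) • b
        rw [mul_smul, mul_smul, hτb, hσb, hτa]
      · show (σ * τ) • p = (τ * σ) • p
        rw [mul_smul, mul_smul, hτp, hσ2, hτσp]
      · show (σ * τ) • σ • p = (τ * σ) • σ • p
        rw [mul_smul, mul_smul, hτσp, hσ2, hτp]
    have hτT : τ ∈ T := by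
      refine ⟨hτa, hτb, ?_, ?_⟩
      · show σ • τ • c = τ • c
        rw [← mul_smul, hcomm, mul_smul, hσc]
      · show σ • τ • d = τ • d
        rw [← mul_smul, hcomm, mul_smul, hσd]
    refine Set.mem_biUnion hτT ?_
    show (σ * τ) • p = p
    rw [mul_smul, hτp, hσ2]
  have hfinU : ((({a, b} : Set α) ∪ fixedBy α σ) ∪ ⋃ τ ∈ T, fixedBy α (σ * τ)).Finite := by
    refine ((Set.toFinite {a, b}).union hFσ).union (Set.Finite.biUnion hTfin ?_)
    intro τ hτ
    refine fixedBy_finite_of_sharp_four hsharp (σ * τ) ?_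
    intro h1
    have : (σ * τ) • a = a := by rw [h1, one_smul]
    rw [mul_smul, hτ.1, hσa] at this
    exact hab this.symm
  exact Set.finite_univ_iff.mp (hfinU.subset fun p _ => hcover p)

/-- **Tits / Jordan**: a sharply 4-transitive group (no finiteness assumed) has degree
4, 5, 6 or 11. -/
theorem sharp_four_degree_of_nonempty {G α : Type*} [Group G] [MulAction G α]
    (h4 : IsMultiplyPretransitive G α 4) (hsharp : ∀ x : Fin 4 ↪ α, stabilizer G x = ⊥)
    (hne : Nonempty (Fin 4 ↪ α)) :
    Finite α ∧ (Nat.card α = 4 ∨ Nat.card α = 5 ∨ Nat.card α = 6 ∨ Nat.card α = 11) := by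
  have hfin : Finite α := finite_of_sharp_four h4 hsharp hne
  obtain ⟨x⟩ := hne
  have hfaith : FaithfulSMul G α :=
    ⟨fun {g g'} h => eq_of_smul_eq_four hsharp g g' x (fun i => h (x i))⟩
  have hcard : 4 ≤ Nat.card α := by
    have := Nat.card_le_card_of_injective x x.injective
    simpa using this
  exact ⟨hfin, sharp_four_degree hsharp hcard⟩

end Cfsg.Agent.Lib.helper10
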