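import Mathlib
import Cfsg.Agent.Lib.helper10.PermSimple
import Cfsg.Agent.Lib.helper10.TtData

set_option autoImplicit false
set_option maxRecDepth 100000

namespace Cfsg.Agent.Lib.helper10

theorem tt_vert1_c0 : allBelow (fun i => (chkVertex ttL1 [ttL2, ttL3, ttL4, ttL5, ttL6, ttL7, ttL8, ttL9, ttL10, ttL11, ttL12, ttL13, ttL14, ttL15, ttL16, ttL17, ttL18, ttL19, ttL20, ttL21, ttL22, ttL23, ttL24, ttL25, ttL26]) (0 + i)) 450 = true := by decide +kernel

theorem tt_vert1_c2 : allBelow (fun i => (chkVertex ttL1 [ttL2, ttL3, ttL4, ttL5, ttL6, ttL7, ttL8, ttL9, ttL10, ttL11, ttL12, ttL13, ttL14, ttL15, ttL16, ttL17, ttL18, ttL19, ttL20, ttL21, ttL22, ttL23, ttL24, ttL25, ttL26]) (900 + i)) 450 = true := by decide +kernel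

theorem tt_vert0_c0 : allBelow (fun i => (chkVertex ttL0 [ttL1, ttL2, ttL3, ttL4, ttL5, ttL6, ttL7, ttL8, ttL9, ttL10, ttL11, ttL12, ttL13, ttL14, ttL15, ttL16, ttL17, ttL18, ttL19, ttL20, ttL21, ttL22, ttL23, ttL24, ttL25, ttL26]) (0 + i)) 150 = true := by decide +kernel

theorem tt_vert0_c2 : allBelow (fun i => (chkVertex ttL0 [ttL1, ttL2, ttL3, ttL4, ttL5, ttL6, ttL7, ttL8, ttL9, ttL10, ttL11, ttL12, ttL13, ttL14, ttL15, ttL16, ttL17, ttL18, ttL19, ttL20, ttL21, ttL22, ttL23, ttL24, ttL25, ttL26]) (300 + i)) 150 = true := by decide +kernel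

theorem tt_vert0_c4 : allBelow (fun i => (chkVertex ttL0 [ttL1, ttL2, ttL3, ttL4, ttL5, ttL6, ttL7, ttL8, ttL9, ttL10, ttL11, ttL12, ttL13, ttL14, ttL15, ttL16, ttL17, ttL18, ttL19, ttL20, ttL21, ttL22, ttL23, ttL24, ttL25, ttL26]) (600 + i)) 150 = true := by decide +kernel

theorem tt_vert0_c6 : allBelow (fun i => (chkVertex ttL0 [ttL1, ttL2, ttL3, ttL4, ttL5, ttL6, ttL7, ttL8, ttL9, ttL10, ttL11, ttL12, ttL13, ttL14, ttL15, ttL16, ttL17, ttL18, ttL19, ttL20, ttL21, ttL22, ttL23, ttL24, ttL25, ttL26]) (900 + i)) 150 = true := by decide +kernel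

theorem tt_vert0_c8 : allBelow (fun i => (chkVertex ttL0 [ttL1, ttL2, ttL3, ttL4, ttL5, ttL6, ttL7, ttL8, ttL9, ttL10, ttL11, ttL12, ttL13, ttL14, ttL15, ttL16, ttL17, ttL18, ttL19, ttL20, ttL21, ttL22, ttL23, ttL24, ttL25, ttL26]) (1200 + i)) 150 = true := by decide +kernel

theorem tt_vert0_c10 : allBelow (fun i => (chkVertex ttL0 [ttL1, ttL2, ttL3, ttL4, ttL5, ttL6, ttL7, ttL8, ttL9, ttL10, ttL11, ttL12, ttL13, ttL14, ttL15, ttL16, ttL17, ttL18, ttL19, ttL20, ttL21, ttL22, ttL23, ttL24, ttL25, ttL26]) (1500 + i)) 150 = true := by decide +kernel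

theorem tt_mat_c0 : allBelow (fun i => (fun i => chkMat (ttL0.S.act 0) ttCode (ttCols 0) 28 i && chkMat (ttL0.S.act 2) ttCode (ttCols 1) 28 i) (0 + i)) 900 = true := by decide +kernel

theorem tt_cmb : allBelow (fun i => chkCmb0 ttCode ttBase ttCmb i) 1755 = true := by decide +kernel

theorem tt_nest2_c0 : allBelow (fun i => (chkNest ttL1.S ttL2) (0 + i)) 1755 = true := by decide +kernel

theorem tt_ap_c0 : allBelow (fun i => (fun x => pact ttL0.S.act (List.replicate 13 0) x == x) (0 + i)) 1755 = true := by decide +kernel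

theorem tt_orb_c0 : allBelow (fun i => (chkOrbV ttL1.S.act [0, 1, 3, 8, 215] 3 ttctab 2 17 ttotab) (0 + i)) 1755 = true := by decide +kernel

theorem tt_mono : allBelow (fun i => Nat.blt (ttCode i) (ttCode (i + 1))) 1754 = true := by decide +kernel

theorem tt_vert3_c0 : allBelow (fun i => (chkVertex ttL3 [ttL4, ttL5, ttL6, ttL7, ttL8, ttL9, ttL10, ttL11, ttL12, ttL13, ttL14, ttL15, ttL16, ttL17, ttL18, ttL19, ttL20, ttL21, ttL22, ttL23, ttL24, ttL25, ttL26]) (0 + i)) 1755 = true := by decide +kernel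

theorem tt_vert5_c0 : allBelow (fun i => (chkVertex ttL5 [ttL6, ttL7, ttL8, ttL9, ttL10, ttL11, ttL12, ttL13, ttL14, ttL15, ttL16, ttL17, ttL18, ttL19, ttL20, ttL21, ttL22, ttL23, ttL24, ttL25, ttL26]) (0 + i)) 1755 = true := by decide +kernel

theorem tt_vert7_c0 : allBelow (fun i => (chkVertex ttL7 [ttL8, ttL9, ttL10, ttL11, ttL12, ttL13, ttL14, ttL15, ttL16, ttL17, ttL18, ttL19, ttL20, ttL21, ttL22, ttL23, ttL24, ttL25, ttL26]) (0 + i)) 1755 = true := by decide +kernel

theorem tt_vert9_c0 : allBelow (fun i => (chkVertex ttL9 [ttL10, ttL11, ttL12, ttL13, ttL14, ttL15, ttL16, ttL17, ttL18, ttL19, ttL20, ttL21, ttL22, ttL23, ttL24, ttL25, ttL26]) (0 + i)) 1755 = true := by decide +kernel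

theorem tt_vert11_c0 : allBelow (fun i => (chkVertex ttL11 [ttL12, ttL13, ttL14, ttL15, ttL16, ttL17, ttL18, ttL19, ttL20, ttL21, ttL22, ttL23, ttL24, ttL25, ttL26]) (0 + i)) 1755 = true := by decide +kernel

theorem tt_vert13_c0 : allBelow (fun i => (chkVertex ttL13 [ttL14, ttL15, ttL16, ttL17, ttL18, ttL19, ttL20, ttL21, ttL22, ttL23, ttL24, ttL25, ttL26]) (0 + i)) 1755 = true := by decide +kernel

theorem tt_vert14_c0 : allBelow (fun i => (chkVertex ttL14 [ttL15, ttL16, ttL17, ttL18, ttL19, ttL20, ttL21, ttL22, ttL23, ttL24, ttL25, ttL26]) (0 + i)) 1755 = true := by decide +kernel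

theorem tt_nest24_c0 : allBelow (fun i => (chkNest ttL23.S ttL24) (0 + i)) 1755 = true := by decide +kernel

theorem tt_nest23_c0 : allBelow (fun i => (chkNest ttL22.S ttL23) (0 + i)) 1755 = true := by decide +kernel

theorem tt_vert16_c0 : allBelow (fun i => (chkVertex ttL16 [ttL17, ttL18, ttL19, ttL20, ttL21, ttL22, ttL23, ttL24, ttL25, ttL26]) (0 + i)) 1755 = true := by decide +kernel

theorem tt_nest20_c0 : allBelow (fun i => (chkNest ttL19.S ttL20) (0 + i)) 1755 = true := by decide +kernel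

theorem tt_nest19_c0 : allBelow (fun i => (chkNest ttL18.S ttL19) (0 + i)) 1755 = true := by decide +kernel

theorem tt_nest17_c0 : allBelow (fun i => (chkNest ttL16.S ttL17) (0 + i)) 1755 = true := by decide +kernel

theorem tt_nest16_c0 : allBelow (fun i => (chkNest ttL15.S ttL16) (0 + i)) 1755 = true := by decide +kernel

theorem tt_vert19_c0 : allBelow (fun i => (chkVertex ttL19 [ttL20, ttL21, ttL22, ttL23, ttL24, ttL25, ttL26]) (0 + i)) 1755 = true := by decide +kernel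

theorem tt_nest13_c0 : allBelow (fun i => (chkNest ttL12.S ttL13) (0 + i)) 1755 = true := by decide +kernel

theorem tt_nest12_c0 : allBelow (fun i => (chkNest ttL11.S ttL12) (0 + i)) 1755 = true := by decide +kernel

theorem tt_vert21_c0 : allBelow (fun i => (chkVertex ttL21 [ttL22, ttL23, ttL24, ttL25, ttL26]) (0 + i)) 1755 = true := by decide +kernel

theorem tt_nest9_c0 : allBelow (fun i => (chkNest ttL8.S ttL9) (0 + i)) 1755 = true := by decide +kernel

theorem tt_nest8_c0 : allBelow (fun i => (chkNest ttL7.S ttL8) (0 + i)) 1755 = true := by decide +kernel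

theorem tt_vert23_c0 : allBelow (fun i => (chkVertex ttL23 [ttL24, ttL25, ttL26]) (0 + i)) 1755 = true := by decide +kernel

theorem tt_nest5_c0 : allBelow (fun i => (chkNest ttL4.S ttL5) (0 + i)) 1755 = true := by decide +kernel

theorem tt_nest4_c0 : allBelow (fun i => (chkNest ttL3.S ttL4) (0 + i)) 1755 = true := by decide +kernel

theorem tt_vert25_c0 : allBelow (fun i => (chkVertex ttL25 [ttL26]) (0 + i)) 1755 = true := by decide +kernel

theorem tt_full_c0 : allBelow (fun i => (fun v => plook 19 tttbl0 v != 0) (0 + i)) 1755 = true := by decide +kernel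

theorem tt_head0 : chkHead [] ttL0 = true := by decide +kernel

theorem tt_head1 : chkHead [0] ttL1 = true := by decide +kernel

theorem tt_head2 : chkHead [0, 3] ttL2 = true := by decide +kernel

theorem tt_head4 : chkHead [0, 3, 1, 2] ttL4 = true := by decide +kernel

theorem tt_head6 : chkHead [0, 3, 1, 2, 4, 5] ttL6 = true := by decide +kernel

theorem tt_head8 : chkHead [0, 3, 1, 2, 4, 5, 6, 7] ttL8 = true := by decide +kernel

theorem tt_head10 : chkHead [0, 3, 1, 2, 4, 5, 6, 7, 8, 9] ttL10 = true := by decide +kernel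

theorem tt_head12 : chkHead [0, 3, 1, 2, 4, 5, 6, 7, 8, 9, 10, 11] ttL12 = true := by decide +kernel

theorem tt_head14 : chkHead [0, 3, 1, 2, 4, 5, 6, 7, 8, 9, 10, 11, 12, 14] ttL14 = true := by decide +kernel

theorem tt_head16 : chkHead [0, 3, 1, 2, 4, 5, 6, 7, 8, 9, 10, 11, 12, 14, 15, 16] ttL16 = true := by decide +kernel

theorem tt_head18 : chkHead [0, 3, 1, 2, 4, 5, 6, 7, 8, 9, 10, 11, 12, 14, 15, 16, 17, 18] ttL18 = true := by decide +kernel

theorem tt_head20 : chkHead [0, 3, 1, 2, 4, 5, 6, 7, 8, 9, 10, 11, 12, 14, 15, 16, 17, 18, 19, 20] ttL20 = true := by decide +kernel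

theorem tt_head22 : chkHead [0, 3, 1, 2, 4, 5, 6, 7, 8, 9, 10, 11, 12, 14, 15, 16, 17, 18, 19, 20, 21, 22] ttL22 = true := by decide +kernel

theorem tt_head24 : chkHead [0, 3, 1, 2, 4, 5, 6, 7, 8, 9, 10, 11, 12, 14, 15, 16, 17, 18, 19, 20, 21, 22, 25, 39] ttL24 = true := by decide +kernel

theorem tt_head26 : chkHead [0, 3, 1, 2, 4, 5, 6, 7, 8, 9, 10, 11, 12, 14, 15, 16, 17, 18, 19, 20, 21, 22, 25, 39, 99, 283] ttL26 = true := by decide +kernel

end Cfsg.Agent.Lib.helper10
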