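import Mathlib
import Cfsg.Agent.Lib.helper10.PermSimple
import Cfsg.Agent.Lib.helper10.TtData

set_option autoImplicit false
set_option maxRecDepth 100000

namespace Cfsg.Agent.Lib.helper10

theorem tt_vert1_c1 : allBelow (fun i => (chkVertex ttL1 [ttL2, ttL3, ttL4, ttL5, ttL6, ttL7, ttL8, ttL9, ttL10, ttL11, ttL12, ttL13, ttL14, ttL15, ttL16, ttL17, ttL18, ttL19, ttL20, ttL21, ttL22, ttL23, ttL24, ttL25, ttL26]) (450 + i)) 450 = true := by decide +kernel

theorem tt_vert1_c3 : allBelow (fun i => (chkVertex ttL1 [ttL2, ttL3, ttL4, ttL5, ttL6, ttL7, ttL8, ttL9, ttL10, ttL11, ttL12, ttL13, ttL14, ttL15, ttL16, ttL17, ttL18, ttL19, ttL20, ttL21, ttL22, ttL23, ttL24, ttL25, ttL26]) (1350 + i)) 405 = true := by decide +kernel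

theorem tt_vert0_c1 : allBelow (fun i => (chkVertex ttL0 [ttL1, ttL2, ttL3, ttL4, ttL5, ttL6, ttL7, ttL8, ttL9, ttL10, ttL11, ttL12, ttL13, ttL14, ttL15, ttL16, ttL17, ttL18, ttL19, ttL20, ttL21, ttL22, ttL23, ttL24, ttL25, ttL26]) (150 + i)) 150 = true := by decide +kernel

theorem tt_vert0_c3 : allBelow (fun i => (chkVertex ttL0 [ttL1, ttL2, ttL3, ttL4, ttL5, ttL6, ttL7, ttL8, ttL9, ttL10, ttL11, ttL12, ttL13, ttL14, ttL15, ttL16, ttL17, ttL18, ttL19, ttL20, ttL21, ttL22, ttL23, ttL24, ttL25, ttL26]) (450 + i)) 150 = true := by decide +kernel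

theorem tt_vert0_c5 : allBelow (fun i => (chkVertex ttL0 [ttL1, ttL2, ttL3, ttL4, ttL5, ttL6, ttL7, ttL8, ttL9, ttL10, ttL11, ttL12, ttL13, ttL14, ttL15, ttL16, ttL17, ttL18, ttL19, ttL20, ttL21, ttL22, ttL23, ttL24, ttL25, ttL26]) (750 + i)) 150 = true := by decide +kernel

theorem tt_vert0_c7 : allBelow (fun i => (chkVertex ttL0 [ttL1, ttL2, ttL3, ttL4, ttL5, ttL6, ttL7, ttL8, ttL9, ttL10, ttL11, ttL12, ttL13, ttL14, ttL15, ttL16, ttL17, ttL18, ttL19, ttL20, ttL21, ttL22, ttL23, ttL24, ttL25, ttL26]) (1050 + i)) 150 = true := by decide +kernel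

theorem tt_vert0_c9 : allBelow (fun i => (chkVertex ttL0 [ttL1, ttL2, ttL3, ttL4, ttL5, ttL6, ttL7, ttL8, ttL9, ttL10, ttL11, ttL12, ttL13, ttL14, ttL15, ttL16, ttL17, ttL18, ttL19, ttL20, ttL21, ttL22, ttL23, ttL24, ttL25, ttL26]) (1350 + i)) 150 = true := by decide +kernel

theorem tt_vert0_c11 : allBelow (fun i => (chkVertex ttL0 [ttL1, ttL2, ttL3, ttL4, ttL5, ttL6, ttL7, ttL8, ttL9, ttL10, ttL11, ttL12, ttL13, ttL14, ttL15, ttL16, ttL17, ttL18, ttL19, ttL20, ttL21, ttL22, ttL23, ttL24, ttL25, ttL26]) (1650 + i)) 105 = true := by decide +kernel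

theorem tt_mat_c1 : allBelow (fun i => (fun i => chkMat (ttL0.S.act 0) ttCode (ttCols 0) 28 i && chkMat (ttL0.S.act 2) ttCode (ttCols 1) 28 i) (900 + i)) 855 = true := by decide +kernel

theorem tt_nest1_c0 : allBelow (fun i => (chkNest ttL0.S ttL1) (0 + i)) 1755 = true := by decide +kernel

theorem tt_card : ([ttL0, ttL1, ttL2, ttL3, ttL4, ttL5, ttL6, ttL7, ttL8, ttL9, ttL10, ttL11, ttL12, ttL13, ttL14, ttL15, ttL16, ttL17, ttL18, ttL19, ttL20, ttL21, ttL22, ttL23, ttL24, ttL25, ttL26].map orbCard).prod = 1755 * 10240 := by decide +kernel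

theorem tt_bp_c0 : allBelow (fun i => (fun x => pact ttL0.S.act (List.replicate 13 2) x == x) (0 + i)) 1755 = true := by decide +kernel

theorem tt_sizes : allBelow (fun j => cntBelow (fun v => plook 3 ttctab v == j) 1755 == ([1, 640, 1024, 80, 10] : List ℕ).getD j 0) 5 = true := by decide +kernel

theorem tt_nest0_c0 : allBelow (fun i => (chkNest ttL0.S ttL0) (0 + i)) 1755 = true := by decide +kernel

theorem tt_vert2_c0 : allBelow (fun i => (chkVertex ttL2 [ttL3, ttL4, ttL5, ttL6, ttL7, ttL8, ttL9, ttL10, ttL11, ttL12, ttL13, ttL14, ttL15, ttL16, ttL17, ttL18, ttL19, ttL20, ttL21, ttL22, ttL23, ttL24, ttL25, ttL26]) (0 + i)) 1755 = true := by decide +kernel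

theorem tt_vert4_c0 : allBelow (fun i => (chkVertex ttL4 [ttL5, ttL6, ttL7, ttL8, ttL9, ttL10, ttL11, ttL12, ttL13, ttL14, ttL15, ttL16, ttL17, ttL18, ttL19, ttL20, ttL21, ttL22, ttL23, ttL24, ttL25, ttL26]) (0 + i)) 1755 = true := by decide +kernel

theorem tt_vert6_c0 : allBelow (fun i => (chkVertex ttL6 [ttL7, ttL8, ttL9, ttL10, ttL11, ttL12, ttL13, ttL14, ttL15, ttL16, ttL17, ttL18, ttL19, ttL20, ttL21, ttL22, ttL23, ttL24, ttL25, ttL26]) (0 + i)) 1755 = true := by decide +kernel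

theorem tt_vert8_c0 : allBelow (fun i => (chkVertex ttL8 [ttL9, ttL10, ttL11, ttL12, ttL13, ttL14, ttL15, ttL16, ttL17, ttL18, ttL19, ttL20, ttL21, ttL22, ttL23, ttL24, ttL25, ttL26]) (0 + i)) 1755 = true := by decide +kernel

theorem tt_vert10_c0 : allBelow (fun i => (chkVertex ttL10 [ttL11, ttL12, ttL13, ttL14, ttL15, ttL16, ttL17, ttL18, ttL19, ttL20, ttL21, ttL22, ttL23, ttL24, ttL25, ttL26]) (0 + i)) 1755 = true := by decide +kernel

theorem tt_vert12_c0 : allBelow (fun i => (chkVertex ttL12 [ttL13, ttL14, ttL15, ttL16, ttL17, ttL18, ttL19, ttL20, ttL21, ttL22, ttL23, ttL24, ttL25, ttL26]) (0 + i)) 1755 = true := by decide +kernel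

theorem tt_nest26_c0 : allBelow (fun i => (chkNest ttL25.S ttL26) (0 + i)) 1755 = true := by decide +kernel

theorem tt_nest25_c0 : allBelow (fun i => (chkNest ttL24.S ttL25) (0 + i)) 1755 = true := by decide +kernel

theorem tt_vert15_c0 : allBelow (fun i => (chkVertex ttL15 [ttL16, ttL17, ttL18, ttL19, ttL20, ttL21, ttL22, ttL23, ttL24, ttL25, ttL26]) (0 + i)) 1755 = true := by decide +kernel

theorem tt_nest22_c0 : allBelow (fun i => (chkNest ttL21.S ttL22) (0 + i)) 1755 = true := by decide +kernel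

theorem tt_nest21_c0 : allBelow (fun i => (chkNest ttL20.S ttL21) (0 + i)) 1755 = true := by decide +kernel

theorem tt_vert17_c0 : allBelow (fun i => (chkVertex ttL17 [ttL18, ttL19, ttL20, ttL21, ttL22, ttL23, ttL24, ttL25, ttL26]) (0 + i)) 1755 = true := by decide +kernel

theorem tt_nest18_c0 : allBelow (fun i => (chkNest ttL17.S ttL18) (0 + i)) 1755 = true := by decide +kernel

theorem tt_vert18_c0 : allBelow (fun i => (chkVertex ttL18 [ttL19, ttL20, ttL21, ttL22, ttL23, ttL24, ttL25, ttL26]) (0 + i)) 1755 = true := by decide +kernel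

theorem tt_nest15_c0 : allBelow (fun i => (chkNest ttL14.S ttL15) (0 + i)) 1755 = true := by decide +kernel

theorem tt_nest14_c0 : allBelow (fun i => (chkNest ttL13.S ttL14) (0 + i)) 1755 = true := by decide +kernel

theorem tt_vert20_c0 : allBelow (fun i => (chkVertex ttL20 [ttL21, ttL22, ttL23, ttL24, ttL25, ttL26]) (0 + i)) 1755 = true := by decide +kernel

theorem tt_nest11_c0 : allBelow (fun i => (chkNest ttL10.S ttL11) (0 + i)) 1755 = true := by decide +kernel

theorem tt_nest10_c0 : allBelow (fun i => (chkNest ttL9.S ttL10) (0 + i)) 1755 = true := by decide +kernel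

theorem tt_vert22_c0 : allBelow (fun i => (chkVertex ttL22 [ttL23, ttL24, ttL25, ttL26]) (0 + i)) 1755 = true := by decide +kernel

theorem tt_nest7_c0 : allBelow (fun i => (chkNest ttL6.S ttL7) (0 + i)) 1755 = true := by decide +kernel

theorem tt_nest6_c0 : allBelow (fun i => (chkNest ttL5.S ttL6) (0 + i)) 1755 = true := by decide +kernel

theorem tt_vert24_c0 : allBelow (fun i => (chkVertex ttL24 [ttL25, ttL26]) (0 + i)) 1755 = true := by decide +kernel

theorem tt_nest3_c0 : allBelow (fun i => (chkNest ttL2.S ttL3) (0 + i)) 1755 = true := by decide +kernel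

theorem tt_vert26_c0 : allBelow (fun i => (chkVertex ttL26 []) (0 + i)) 1755 = true := by decide +kernel

theorem tt_cls : allBelow (fun v => decide (plook 3 ttctab v < 5) && (decide (plook 3 ttctab v = 0) == decide (v = 0))) 1755 = true := by decide +kernel

theorem tt_head3 : chkHead [0, 3, 1] ttL3 = true := by decide +kernel

theorem tt_head5 : chkHead [0, 3, 1, 2, 4] ttL5 = true := by decide +kernel

theorem tt_head7 : chkHead [0, 3, 1, 2, 4, 5, 6] ttL7 = true := by decide +kernel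

theorem tt_head9 : chkHead [0, 3, 1, 2, 4, 5, 6, 7, 8] ttL9 = true := by decide +kernel

theorem tt_head11 : chkHead [0, 3, 1, 2, 4, 5, 6, 7, 8, 9, 10] ttL11 = true := by decide +kernel

theorem tt_head13 : chkHead [0, 3, 1, 2, 4, 5, 6, 7, 8, 9, 10, 11, 12] ttL13 = true := by decide +kernel

theorem tt_head15 : chkHead [0, 3, 1, 2, 4, 5, 6, 7, 8, 9, 10, 11, 12, 14, 15] ttL15 = true := by decide +kernel

theorem tt_head17 : chkHead [0, 3, 1, 2, 4, 5, 6, 7, 8, 9, 10, 11, 12, 14, 15, 16, 17] ttL17 = true := by decide +kernel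

theorem tt_head19 : chkHead [0, 3, 1, 2, 4, 5, 6, 7, 8, 9, 10, 11, 12, 14, 15, 16, 17, 18, 19] ttL19 = true := by decide +kernel

theorem tt_head21 : chkHead [0, 3, 1, 2, 4, 5, 6, 7, 8, 9, 10, 11, 12, 14, 15, 16, 17, 18, 19, 20, 21] ttL21 = true := by decide +kernel

theorem tt_head23 : chkHead [0, 3, 1, 2, 4, 5, 6, 7, 8, 9, 10, 11, 12, 14, 15, 16, 17, 18, 19, 20, 21, 22, 25] ttL23 = true := by decide +kernel

theorem tt_head25 : chkHead [0, 3, 1, 2, 4, 5, 6, 7, 8, 9, 10, 11, 12, 14, 15, 16, 17, 18, 19, 20, 21, 22, 25, 39, 99] ttL25 = true := by decide +kernel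

theorem tt_arith : chkArith (fun j => ([1, 640, 1024, 80, 10] : List ℕ).getD j 0) 1755 5 = true := by decide +kernel

end Cfsg.Agent.Lib.helper10
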