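import Mathlib
import Cfsg.Agent.Lib.helper10.PermCert2
import Cfsg.Agent.Lib.helper10.XorRigid
import Cfsg.Agent.Lib.helper10.TtChk0
import Cfsg.Agent.Lib.helper10.TtChk1

set_option autoImplicit false
set_option maxRecDepth 100000

namespace Cfsg.Agent.Lib.helper10

theorem tt_nest0 : ∀ x, 0 ≤ x → x < 1755 → (chkNest ttL0.S ttL0) x = true := by
  intro x hlo hx
  exact allFrom_sound (f := chkNest ttL0.S ttL0) tt_nest0_c0 x (by omega) (by omega)

theorem tt_nest0' : ∀ x, x < 1755 → chkNest ttL0.S ttL0 x = true := fun x hx => tt_nest0 x (Nat.zero_le _) hx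

theorem tt_vert0 : ∀ x, 0 ≤ x → x < 1755 → (chkVertex ttL0 [ttL1, ttL2, ttL3, ttL4, ttL5, ttL6, ttL7, ttL8, ttL9, ttL10, ttL11, ttL12, ttL13, ttL14, ttL15, ttL16, ttL17, ttL18, ttL19, ttL20, ttL21, ttL22, ttL23, ttL24, ttL25, ttL26]) x = true := by
  intro x hlo hx
  by_cases h0 : x < 150
  · exact allFrom_sound (f := chkVertex ttL0 [ttL1, ttL2, ttL3, ttL4, ttL5, ttL6, ttL7, ttL8, ttL9, ttL10, ttL11, ttL12, ttL13, ttL14, ttL15, ttL16, ttL17, ttL18, ttL19, ttL20, ttL21, ttL22, ttL23, ttL24, ttL25, ttL26]) tt_vert0_c0 x (by omega) (by omega)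
  by_cases h1 : x < 300
  · exact allFrom_sound (f := chkVertex ttL0 [ttL1, ttL2, ttL3, ttL4, ttL5, ttL6, ttL7, ttL8, ttL9, ttL10, ttL11, ttL12, ttL13, ttL14, ttL15, ttL16, ttL17, ttL18, ttL19, ttL20, ttL21, ttL22, ttL23, ttL24, ttL25, ttL26]) tt_vert0_c1 x (by omega) (by omega)
  by_cases h2 : x < 450
  · exact allFrom_sound (f := chkVertex ttL0 [ttL1, ttL2, ttL3, ttL4, ttL5, ttL6, ttL7, ttL8, ttL9, ttL10, ttL11, ttL12, ttL13, ttL14, ttL15, ttL16, ttL17, ttL18, ttL19, ttL20, ttL21, ttL22, ttL23, ttL24, ttL25, ttL26]) tt_vert0_c2 x (by omega) (by omega)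
  by_cases h3 : x < 600
  · exact allFrom_sound (f := chkVertex ttL0 [ttL1, ttL2, ttL3, ttL4, ttL5, ttL6, ttL7, ttL8, ttL9, ttL10, ttL11, ttL12, ttL13, ttL14, ttL15, ttL16, ttL17, ttL18, ttL19, ttL20, ttL21, ttL22, ttL23, ttL24, ttL25, ttL26]) tt_vert0_c3 x (by omega) (by omega)
  by_cases h4 : x < 750
  · exact allFrom_sound (f := chkVertex ttL0 [ttL1, ttL2, ttL3, ttL4, ttL5, ttL6, ttL7, ttL8, ttL9, ttL10, ttL11, ttL12, ttL13, ttL14, ttL15, ttL16, ttL17, ttL18, ttL19, ttL20, ttL21, ttL22, ttL23, ttL24, ttL25, ttL26]) tt_vert0_c4 x (by omega) (by omega)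
  by_cases h5 : x < 900
  · exact allFrom_sound (f := chkVertex ttL0 [ttL1, ttL2, ttL3, ttL4, ttL5, ttL6, ttL7, ttL8, ttL9, ttL10, ttL11, ttL12, ttL13, ttL14, ttL15, ttL16, ttL17, ttL18, ttL19, ttL20, ttL21, ttL22, ttL23, ttL24, ttL25, ttL26]) tt_vert0_c5 x (by omega) (by omega)
  by_cases h6 : x < 1050
  · exact allFrom_sound (f := chkVertex ttL0 [ttL1, ttL2, ttL3, ttL4, ttL5, ttL6, ttL7, ttL8, ttL9, ttL10, ttL11, ttL12, ttL13, ttL14, ttL15, ttL16, ttL17, ttL18, ttL19, ttL20, ttL21, ttL22, ttL23, ttL24, ttL25, ttL26]) tt_vert0_c6 x (by omega) (by omega)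
  by_cases h7 : x < 1200
  · exact allFrom_sound (f := chkVertex ttL0 [ttL1, ttL2, ttL3, ttL4, ttL5, ttL6, ttL7, ttL8, ttL9, ttL10, ttL11, ttL12, ttL13, ttL14, ttL15, ttL16, ttL17, ttL18, ttL19, ttL20, ttL21, ttL22, ttL23, ttL24, ttL25, ttL26]) tt_vert0_c7 x (by omega) (by omega)
  by_cases h8 : x < 1350
  · exact allFrom_sound (f := chkVertex ttL0 [ttL1, ttL2, ttL3, ttL4, ttL5, ttL6, ttL7, ttL8, ttL9, ttL10, ttL11, ttL12, ttL13, ttL14, ttL15, ttL16, ttL17, ttL18, ttL19, ttL20, ttL21, ttL22, ttL23, ttL24, ttL25, ttL26]) tt_vert0_c8 x (by omega) (by omega)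
  by_cases h9 : x < 1500
  · exact allFrom_sound (f := chkVertex ttL0 [ttL1, ttL2, ttL3, ttL4, ttL5, ttL6, ttL7, ttL8, ttL9, ttL10, ttL11, ttL12, ttL13, ttL14, ttL15, ttL16, ttL17, ttL18, ttL19, ttL20, ttL21, ttL22, ttL23, ttL24, ttL25, ttL26]) tt_vert0_c9 x (by omega) (by omega)
  by_cases h10 : x < 1650
  · exact allFrom_sound (f := chkVertex ttL0 [ttL1, ttL2, ttL3, ttL4, ttL5, ttL6, ttL7, ttL8, ttL9, ttL10, ttL11, ttL12, ttL13, ttL14, ttL15, ttL16, ttL17, ttL18, ttL19, ttL20, ttL21, ttL22, ttL23, ttL24, ttL25, ttL26]) tt_vert0_c10 x (by omega) (by omega)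
  exact allFrom_sound (f := chkVertex ttL0 [ttL1, ttL2, ttL3, ttL4, ttL5, ttL6, ttL7, ttL8, ttL9, ttL10, ttL11, ttL12, ttL13, ttL14, ttL15, ttL16, ttL17, ttL18, ttL19, ttL20, ttL21, ttL22, ttL23, ttL24, ttL25, ttL26]) tt_vert0_c11 x (by omega) (by omega)

theorem tt_vert0' : ∀ v, v < 1755 → chkVertex ttL0 [ttL1, ttL2, ttL3, ttL4, ttL5, ttL6, ttL7, ttL8, ttL9, ttL10, ttL11, ttL12, ttL13, ttL14, ttL15, ttL16, ttL17, ttL18, ttL19, ttL20, ttL21, ttL22, ttL23, ttL24, ttL25, ttL26] v = true := fun x hx => tt_vert0 x (Nat.zero_le _) hx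

theorem tt_nest1 : ∀ x, 0 ≤ x → x < 1755 → (chkNest ttL0.S ttL1) x = true := by
  intro x hlo hx
  exact allFrom_sound (f := chkNest ttL0.S ttL1) tt_nest1_c0 x (by omega) (by omega)

theorem tt_nest1' : ∀ x, x < 1755 → chkNest ttL0.S ttL1 x = true := fun x hx => tt_nest1 x (Nat.zero_le _) hx

theorem tt_vert1 : ∀ x, 0 ≤ x → x < 1755 → (chkVertex ttL1 [ttL2, ttL3, ttL4, ttL5, ttL6, ttL7, ttL8, ttL9, ttL10, ttL11, ttL12, ttL13, ttL14, ttL15, ttL16, ttL17, ttL18, ttL19, ttL20, ttL21, ttL22, ttL23, ttL24, ttL25, ttL26]) x = true := by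
  intro x hlo hx
  by_cases h0 : x < 450
  · exact allFrom_sound (f := chkVertex ttL1 [ttL2, ttL3, ttL4, ttL5, ttL6, ttL7, ttL8, ttL9, ttL10, ttL11, ttL12, ttL13, ttL14, ttL15, ttL16, ttL17, ttL18, ttL19, ttL20, ttL21, ttL22, ttL23, ttL24, ttL25, ttL26]) tt_vert1_c0 x (by omega) (by omega)
  by_cases h1 : x < 900
  · exact allFrom_sound (f := chkVertex ttL1 [ttL2, ttL3, ttL4, ttL5, ttL6, ttL7, ttL8, ttL9, ttL10, ttL11, ttL12, ttL13, ttL14, ttL15, ttL16, ttL17, ttL18, ttL19, ttL20, ttL21, ttL22, ttL23, ttL24, ttL25, ttL26]) tt_vert1_c1 x (by omega) (by omega)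
  by_cases h2 : x < 1350
  · exact allFrom_sound (f := chkVertex ttL1 [ttL2, ttL3, ttL4, ttL5, ttL6, ttL7, ttL8, ttL9, ttL10, ttL11, ttL12, ttL13, ttL14, ttL15, ttL16, ttL17, ttL18, ttL19, ttL20, ttL21, ttL22, ttL23, ttL24, ttL25, ttL26]) tt_vert1_c2 x (by omega) (by omega)
  exact allFrom_sound (f := chkVertex ttL1 [ttL2, ttL3, ttL4, ttL5, ttL6, ttL7, ttL8, ttL9, ttL10, ttL11, ttL12, ttL13, ttL14, ttL15, ttL16, ttL17, ttL18, ttL19, ttL20, ttL21, ttL22, ttL23, ttL24, ttL25, ttL26]) tt_vert1_c3 x (by omega) (by omega)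

theorem tt_vert1' : ∀ v, v < 1755 → chkVertex ttL1 [ttL2, ttL3, ttL4, ttL5, ttL6, ttL7, ttL8, ttL9, ttL10, ttL11, ttL12, ttL13, ttL14, ttL15, ttL16, ttL17, ttL18, ttL19, ttL20, ttL21, ttL22, ttL23, ttL24, ttL25, ttL26] v = true := fun x hx => tt_vert1 x (Nat.zero_le _) hx

theorem tt_nest2 : ∀ x, 0 ≤ x → x < 1755 → (chkNest ttL1.S ttL2) x = true := by
  intro x hlo hx
  exact allFrom_sound (f := chkNest ttL1.S ttL2) tt_nest2_c0 x (by omega) (by omega)

theorem tt_nest2' : ∀ x, x < 1755 → chkNest ttL1.S ttL2 x = true := fun x hx => tt_nest2 x (Nat.zero_le _) hx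

theorem tt_vert2 : ∀ x, 0 ≤ x → x < 1755 → (chkVertex ttL2 [ttL3, ttL4, ttL5, ttL6, ttL7, ttL8, ttL9, ttL10, ttL11, ttL12, ttL13, ttL14, ttL15, ttL16, ttL17, ttL18, ttL19, ttL20, ttL21, ttL22, ttL23, ttL24, ttL25, ttL26]) x = true := by
  intro x hlo hx
  exact allFrom_sound (f := chkVertex ttL2 [ttL3, ttL4, ttL5, ttL6, ttL7, ttL8, ttL9, ttL10, ttL11, ttL12, ttL13, ttL14, ttL15, ttL16, ttL17, ttL18, ttL19, ttL20, ttL21, ttL22, ttL23, ttL24, ttL25, ttL26]) tt_vert2_c0 x (by omega) (by omega)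

theorem tt_vert2' : ∀ v, v < 1755 → chkVertex ttL2 [ttL3, ttL4, ttL5, ttL6, ttL7, ttL8, ttL9, ttL10, ttL11, ttL12, ttL13, ttL14, ttL15, ttL16, ttL17, ttL18, ttL19, ttL20, ttL21, ttL22, ttL23, ttL24, ttL25, ttL26] v = true := fun x hx => tt_vert2 x (Nat.zero_le _) hx

theorem tt_nest3 : ∀ x, 0 ≤ x → x < 1755 → (chkNest ttL2.S ttL3) x = true := by
  intro x hlo hx
  exact allFrom_sound (f := chkNest ttL2.S ttL3) tt_nest3_c0 x (by omega) (by omega)

theorem tt_nest3' : ∀ x, x < 1755 → chkNest ttL2.S ttL3 x = true := fun x hx => tt_nest3 x (Nat.zero_le _) hx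

theorem tt_vert3 : ∀ x, 0 ≤ x → x < 1755 → (chkVertex ttL3 [ttL4, ttL5, ttL6, ttL7, ttL8, ttL9, ttL10, ttL11, ttL12, ttL13, ttL14, ttL15, ttL16, ttL17, ttL18, ttL19, ttL20, ttL21, ttL22, ttL23, ttL24, ttL25, ttL26]) x = true := by
  intro x hlo hx
  exact allFrom_sound (f := chkVertex ttL3 [ttL4, ttL5, ttL6, ttL7, ttL8, ttL9, ttL10, ttL11, ttL12, ttL13, ttL14, ttL15, ttL16, ttL17, ttL18, ttL19, ttL20, ttL21, ttL22, ttL23, ttL24, ttL25, ttL26]) tt_vert3_c0 x (by omega) (by omega)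

theorem tt_vert3' : ∀ v, v < 1755 → chkVertex ttL3 [ttL4, ttL5, ttL6, ttL7, ttL8, ttL9, ttL10, ttL11, ttL12, ttL13, ttL14, ttL15, ttL16, ttL17, ttL18, ttL19, ttL20, ttL21, ttL22, ttL23, ttL24, ttL25, ttL26] v = true := fun x hx => tt_vert3 x (Nat.zero_le _) hx

theorem tt_nest4 : ∀ x, 0 ≤ x → x < 1755 → (chkNest ttL3.S ttL4) x = true := by
  intro x hlo hx
  exact allFrom_sound (f := chkNest ttL3.S ttL4) tt_nest4_c0 x (by omega) (by omega)

theorem tt_nest4' : ∀ x, x < 1755 → chkNest ttL3.S ttL4 x = true := fun x hx => tt_nest4 x (Nat.zero_le _) hx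

theorem tt_vert4 : ∀ x, 0 ≤ x → x < 1755 → (chkVertex ttL4 [ttL5, ttL6, ttL7, ttL8, ttL9, ttL10, ttL11, ttL12, ttL13, ttL14, ttL15, ttL16, ttL17, ttL18, ttL19, ttL20, ttL21, ttL22, ttL23, ttL24, ttL25, ttL26]) x = true := by
  intro x hlo hx
  exact allFrom_sound (f := chkVertex ttL4 [ttL5, ttL6, ttL7, ttL8, ttL9, ttL10, ttL11, ttL12, ttL13, ttL14, ttL15, ttL16, ttL17, ttL18, ttL19, ttL20, ttL21, ttL22, ttL23, ttL24, ttL25, ttL26]) tt_vert4_c0 x (by omega) (by omega)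

theorem tt_vert4' : ∀ v, v < 1755 → chkVertex ttL4 [ttL5, ttL6, ttL7, ttL8, ttL9, ttL10, ttL11, ttL12, ttL13, ttL14, ttL15, ttL16, ttL17, ttL18, ttL19, ttL20, ttL21, ttL22, ttL23, ttL24, ttL25, ttL26] v = true := fun x hx => tt_vert4 x (Nat.zero_le _) hx

theorem tt_nest5 : ∀ x, 0 ≤ x → x < 1755 → (chkNest ttL4.S ttL5) x = true := by
  intro x hlo hx
  exact allFrom_sound (f := chkNest ttL4.S ttL5) tt_nest5_c0 x (by omega) (by omega)

theorem tt_nest5' : ∀ x, x < 1755 → chkNest ttL4.S ttL5 x = true := fun x hx => tt_nest5 x (Nat.zero_le _) hx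

theorem tt_vert5 : ∀ x, 0 ≤ x → x < 1755 → (chkVertex ttL5 [ttL6, ttL7, ttL8, ttL9, ttL10, ttL11, ttL12, ttL13, ttL14, ttL15, ttL16, ttL17, ttL18, ttL19, ttL20, ttL21, ttL22, ttL23, ttL24, ttL25, ttL26]) x = true := by
  intro x hlo hx
  exact allFrom_sound (f := chkVertex ttL5 [ttL6, ttL7, ttL8, ttL9, ttL10, ttL11, ttL12, ttL13, ttL14, ttL15, ttL16, ttL17, ttL18, ttL19, ttL20, ttL21, ttL22, ttL23, ttL24, ttL25, ttL26]) tt_vert5_c0 x (by omega) (by omega)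

theorem tt_vert5' : ∀ v, v < 1755 → chkVertex ttL5 [ttL6, ttL7, ttL8, ttL9, ttL10, ttL11, ttL12, ttL13, ttL14, ttL15, ttL16, ttL17, ttL18, ttL19, ttL20, ttL21, ttL22, ttL23, ttL24, ttL25, ttL26] v = true := fun x hx => tt_vert5 x (Nat.zero_le _) hx

theorem tt_nest6 : ∀ x, 0 ≤ x → x < 1755 → (chkNest ttL5.S ttL6) x = true := by
  intro x hlo hx
  exact allFrom_sound (f := chkNest ttL5.S ttL6) tt_nest6_c0 x (by omega) (by omega)

theorem tt_nest6' : ∀ x, x < 1755 → chkNest ttL5.S ttL6 x = true := fun x hx => tt_nest6 x (Nat.zero_le _) hx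

theorem tt_vert6 : ∀ x, 0 ≤ x → x < 1755 → (chkVertex ttL6 [ttL7, ttL8, ttL9, ttL10, ttL11, ttL12, ttL13, ttL14, ttL15, ttL16, ttL17, ttL18, ttL19, ttL20, ttL21, ttL22, ttL23, ttL24, ttL25, ttL26]) x = true := by
  intro x hlo hx
  exact allFrom_sound (f := chkVertex ttL6 [ttL7, ttL8, ttL9, ttL10, ttL11, ttL12, ttL13, ttL14, ttL15, ttL16, ttL17, ttL18, ttL19, ttL20, ttL21, ttL22, ttL23, ttL24, ttL25, ttL26]) tt_vert6_c0 x (by omega) (by omega)

theorem tt_vert6' : ∀ v, v < 1755 → chkVertex ttL6 [ttL7, ttL8, ttL9, ttL10, ttL11, ttL12, ttL13, ttL14, ttL15, ttL16, ttL17, ttL18, ttL19, ttL20, ttL21, ttL22, ttL23, ttL24, ttL25, ttL26] v = true := fun x hx => tt_vert6 x (Nat.zero_le _) hx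

theorem tt_nest7 : ∀ x, 0 ≤ x → x < 1755 → (chkNest ttL6.S ttL7) x = true := by
  intro x hlo hx
  exact allFrom_sound (f := chkNest ttL6.S ttL7) tt_nest7_c0 x (by omega) (by omega)

theorem tt_nest7' : ∀ x, x < 1755 → chkNest ttL6.S ttL7 x = true := fun x hx => tt_nest7 x (Nat.zero_le _) hx

theorem tt_vert7 : ∀ x, 0 ≤ x → x < 1755 → (chkVertex ttL7 [ttL8, ttL9, ttL10, ttL11, ttL12, ttL13, ttL14, ttL15, ttL16, ttL17, ttL18, ttL19, ttL20, ttL21, ttL22, ttL23, ttL24, ttL25, ttL26]) x = true := by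
  intro x hlo hx
  exact allFrom_sound (f := chkVertex ttL7 [ttL8, ttL9, ttL10, ttL11, ttL12, ttL13, ttL14, ttL15, ttL16, ttL17, ttL18, ttL19, ttL20, ttL21, ttL22, ttL23, ttL24, ttL25, ttL26]) tt_vert7_c0 x (by omega) (by omega)

theorem tt_vert7' : ∀ v, v < 1755 → chkVertex ttL7 [ttL8, ttL9, ttL10, ttL11, ttL12, ttL13, ttL14, ttL15, ttL16, ttL17, ttL18, ttL19, ttL20, ttL21, ttL22, ttL23, ttL24, ttL25, ttL26] v = true := fun x hx => tt_vert7 x (Nat.zero_le _) hx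

theorem tt_nest8 : ∀ x, 0 ≤ x → x < 1755 → (chkNest ttL7.S ttL8) x = true := by
  intro x hlo hx
  exact allFrom_sound (f := chkNest ttL7.S ttL8) tt_nest8_c0 x (by omega) (by omega)

theorem tt_nest8' : ∀ x, x < 1755 → chkNest ttL7.S ttL8 x = true := fun x hx => tt_nest8 x (Nat.zero_le _) hx

theorem tt_vert8 : ∀ x, 0 ≤ x → x < 1755 → (chkVertex ttL8 [ttL9, ttL10, ttL11, ttL12, ttL13, ttL14, ttL15, ttL16, ttL17, ttL18, ttL19, ttL20, ttL21, ttL22, ttL23, ttL24, ttL25, ttL26]) x = true := by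
  intro x hlo hx
  exact allFrom_sound (f := chkVertex ttL8 [ttL9, ttL10, ttL11, ttL12, ttL13, ttL14, ttL15, ttL16, ttL17, ttL18, ttL19, ttL20, ttL21, ttL22, ttL23, ttL24, ttL25, ttL26]) tt_vert8_c0 x (by omega) (by omega)

theorem tt_vert8' : ∀ v, v < 1755 → chkVertex ttL8 [ttL9, ttL10, ttL11, ttL12, ttL13, ttL14, ttL15, ttL16, ttL17, ttL18, ttL19, ttL20, ttL21, ttL22, ttL23, ttL24, ttL25, ttL26] v = true := fun x hx => tt_vert8 x (Nat.zero_le _) hx

theorem tt_nest9 : ∀ x, 0 ≤ x → x < 1755 → (chkNest ttL8.S ttL9) x = true := by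
  intro x hlo hx
  exact allFrom_sound (f := chkNest ttL8.S ttL9) tt_nest9_c0 x (by omega) (by omega)

theorem tt_nest9' : ∀ x, x < 1755 → chkNest ttL8.S ttL9 x = true := fun x hx => tt_nest9 x (Nat.zero_le _) hx

theorem tt_vert9 : ∀ x, 0 ≤ x → x < 1755 → (chkVertex ttL9 [ttL10, ttL11, ttL12, ttL13, ttL14, ttL15, ttL16, ttL17, ttL18, ttL19, ttL20, ttL21, ttL22, ttL23, ttL24, ttL25, ttL26]) x = true := by
  intro x hlo hx
  exact allFrom_sound (f := chkVertex ttL9 [ttL10, ttL11, ttL12, ttL13, ttL14, ttL15, ttL16, ttL17, ttL18, ttL19, ttL20, ttL21, ttL22, ttL23, ttL24, ttL25, ttL26]) tt_vert9_c0 x (by omega) (by omega)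

theorem tt_vert9' : ∀ v, v < 1755 → chkVertex ttL9 [ttL10, ttL11, ttL12, ttL13, ttL14, ttL15, ttL16, ttL17, ttL18, ttL19, ttL20, ttL21, ttL22, ttL23, ttL24, ttL25, ttL26] v = true := fun x hx => tt_vert9 x (Nat.zero_le _) hx

theorem tt_nest10 : ∀ x, 0 ≤ x → x < 1755 → (chkNest ttL9.S ttL10) x = true := by
  intro x hlo hx
  exact allFrom_sound (f := chkNest ttL9.S ttL10) tt_nest10_c0 x (by omega) (by omega)

theorem tt_nest10' : ∀ x, x < 1755 → chkNest ttL9.S ttL10 x = true := fun x hx => tt_nest10 x (Nat.zero_le _) hx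

theorem tt_vert10 : ∀ x, 0 ≤ x → x < 1755 → (chkVertex ttL10 [ttL11, ttL12, ttL13, ttL14, ttL15, ttL16, ttL17, ttL18, ttL19, ttL20, ttL21, ttL22, ttL23, ttL24, ttL25, ttL26]) x = true := by
  intro x hlo hx
  exact allFrom_sound (f := chkVertex ttL10 [ttL11, ttL12, ttL13, ttL14, ttL15, ttL16, ttL17, ttL18, ttL19, ttL20, ttL21, ttL22, ttL23, ttL24, ttL25, ttL26]) tt_vert10_c0 x (by omega) (by omega)

theorem tt_vert10' : ∀ v, v < 1755 → chkVertex ttL10 [ttL11, ttL12, ttL13, ttL14, ttL15, ttL16, ttL17, ttL18, ttL19, ttL20, ttL21, ttL22, ttL23, ttL24, ttL25, ttL26] v = true := fun x hx => tt_vert10 x (Nat.zero_le _) hx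

theorem tt_nest11 : ∀ x, 0 ≤ x → x < 1755 → (chkNest ttL10.S ttL11) x = true := by
  intro x hlo hx
  exact allFrom_sound (f := chkNest ttL10.S ttL11) tt_nest11_c0 x (by omega) (by omega)

theorem tt_nest11' : ∀ x, x < 1755 → chkNest ttL10.S ttL11 x = true := fun x hx => tt_nest11 x (Nat.zero_le _) hx

theorem tt_vert11 : ∀ x, 0 ≤ x → x < 1755 → (chkVertex ttL11 [ttL12, ttL13, ttL14, ttL15, ttL16, ttL17, ttL18, ttL19, ttL20, ttL21, ttL22, ttL23, ttL24, ttL25, ttL26]) x = true := by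
  intro x hlo hx
  exact allFrom_sound (f := chkVertex ttL11 [ttL12, ttL13, ttL14, ttL15, ttL16, ttL17, ttL18, ttL19, ttL20, ttL21, ttL22, ttL23, ttL24, ttL25, ttL26]) tt_vert11_c0 x (by omega) (by omega)

theorem tt_vert11' : ∀ v, v < 1755 → chkVertex ttL11 [ttL12, ttL13, ttL14, ttL15, ttL16, ttL17, ttL18, ttL19, ttL20, ttL21, ttL22, ttL23, ttL24, ttL25, ttL26] v = true := fun x hx => tt_vert11 x (Nat.zero_le _) hx

theorem tt_nest12 : ∀ x, 0 ≤ x → x < 1755 → (chkNest ttL11.S ttL12) x = true := by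
  intro x hlo hx
  exact allFrom_sound (f := chkNest ttL11.S ttL12) tt_nest12_c0 x (by omega) (by omega)

theorem tt_nest12' : ∀ x, x < 1755 → chkNest ttL11.S ttL12 x = true := fun x hx => tt_nest12 x (Nat.zero_le _) hx

theorem tt_vert12 : ∀ x, 0 ≤ x → x < 1755 → (chkVertex ttL12 [ttL13, ttL14, ttL15, ttL16, ttL17, ttL18, ttL19, ttL20, ttL21, ttL22, ttL23, ttL24, ttL25, ttL26]) x = true := by
  intro x hlo hx
  exact allFrom_sound (f := chkVertex ttL12 [ttL13, ttL14, ttL15, ttL16, ttL17, ttL18, ttL19, ttL20, ttL21, ttL22, ttL23, ttL24, ttL25, ttL26]) tt_vert12_c0 x (by omega) (by omega)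

theorem tt_vert12' : ∀ v, v < 1755 → chkVertex ttL12 [ttL13, ttL14, ttL15, ttL16, ttL17, ttL18, ttL19, ttL20, ttL21, ttL22, ttL23, ttL24, ttL25, ttL26] v = true := fun x hx => tt_vert12 x (Nat.zero_le _) hx

theorem tt_nest13 : ∀ x, 0 ≤ x → x < 1755 → (chkNest ttL12.S ttL13) x = true := by
  intro x hlo hx
  exact allFrom_sound (f := chkNest ttL12.S ttL13) tt_nest13_c0 x (by omega) (by omega)

theorem tt_nest13' : ∀ x, x < 1755 → chkNest ttL12.S ttL13 x = true := fun x hx => tt_nest13 x (Nat.zero_le _) hx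

theorem tt_vert13 : ∀ x, 0 ≤ x → x < 1755 → (chkVertex ttL13 [ttL14, ttL15, ttL16, ttL17, ttL18, ttL19, ttL20, ttL21, ttL22, ttL23, ttL24, ttL25, ttL26]) x = true := by
  intro x hlo hx
  exact allFrom_sound (f := chkVertex ttL13 [ttL14, ttL15, ttL16, ttL17, ttL18, ttL19, ttL20, ttL21, ttL22, ttL23, ttL24, ttL25, ttL26]) tt_vert13_c0 x (by omega) (by omega)

theorem tt_vert13' : ∀ v, v < 1755 → chkVertex ttL13 [ttL14, ttL15, ttL16, ttL17, ttL18, ttL19, ttL20, ttL21, ttL22, ttL23, ttL24, ttL25, ttL26] v = true := fun x hx => tt_vert13 x (Nat.zero_le _) hx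

theorem tt_nest14 : ∀ x, 0 ≤ x → x < 1755 → (chkNest ttL13.S ttL14) x = true := by
  intro x hlo hx
  exact allFrom_sound (f := chkNest ttL13.S ttL14) tt_nest14_c0 x (by omega) (by omega)

theorem tt_nest14' : ∀ x, x < 1755 → chkNest ttL13.S ttL14 x = true := fun x hx => tt_nest14 x (Nat.zero_le _) hx

theorem tt_vert14 : ∀ x, 0 ≤ x → x < 1755 → (chkVertex ttL14 [ttL15, ttL16, ttL17, ttL18, ttL19, ttL20, ttL21, ttL22, ttL23, ttL24, ttL25, ttL26]) x = true := by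
  intro x hlo hx
  exact allFrom_sound (f := chkVertex ttL14 [ttL15, ttL16, ttL17, ttL18, ttL19, ttL20, ttL21, ttL22, ttL23, ttL24, ttL25, ttL26]) tt_vert14_c0 x (by omega) (by omega)

theorem tt_vert14' : ∀ v, v < 1755 → chkVertex ttL14 [ttL15, ttL16, ttL17, ttL18, ttL19, ttL20, ttL21, ttL22, ttL23, ttL24, ttL25, ttL26] v = true := fun x hx => tt_vert14 x (Nat.zero_le _) hx

theorem tt_nest15 : ∀ x, 0 ≤ x → x < 1755 → (chkNest ttL14.S ttL15) x = true := by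
  intro x hlo hx
  exact allFrom_sound (f := chkNest ttL14.S ttL15) tt_nest15_c0 x (by omega) (by omega)

theorem tt_nest15' : ∀ x, x < 1755 → chkNest ttL14.S ttL15 x = true := fun x hx => tt_nest15 x (Nat.zero_le _) hx

theorem tt_vert15 : ∀ x, 0 ≤ x → x < 1755 → (chkVertex ttL15 [ttL16, ttL17, ttL18, ttL19, ttL20, ttL21, ttL22, ttL23, ttL24, ttL25, ttL26]) x = true := by
  intro x hlo hx
  exact allFrom_sound (f := chkVertex ttL15 [ttL16, ttL17, ttL18, ttL19, ttL20, ttL21, ttL22, ttL23, ttL24, ttL25, ttL26]) tt_vert15_c0 x (by omega) (by omega)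

theorem tt_vert15' : ∀ v, v < 1755 → chkVertex ttL15 [ttL16, ttL17, ttL18, ttL19, ttL20, ttL21, ttL22, ttL23, ttL24, ttL25, ttL26] v = true := fun x hx => tt_vert15 x (Nat.zero_le _) hx

theorem tt_nest16 : ∀ x, 0 ≤ x → x < 1755 → (chkNest ttL15.S ttL16) x = true := by
  intro x hlo hx
  exact allFrom_sound (f := chkNest ttL15.S ttL16) tt_nest16_c0 x (by omega) (by omega)

theorem tt_nest16' : ∀ x, x < 1755 → chkNest ttL15.S ttL16 x = true := fun x hx => tt_nest16 x (Nat.zero_le _) hx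

theorem tt_vert16 : ∀ x, 0 ≤ x → x < 1755 → (chkVertex ttL16 [ttL17, ttL18, ttL19, ttL20, ttL21, ttL22, ttL23, ttL24, ttL25, ttL26]) x = true := by
  intro x hlo hx
  exact allFrom_sound (f := chkVertex ttL16 [ttL17, ttL18, ttL19, ttL20, ttL21, ttL22, ttL23, ttL24, ttL25, ttL26]) tt_vert16_c0 x (by omega) (by omega)

theorem tt_vert16' : ∀ v, v < 1755 → chkVertex ttL16 [ttL17, ttL18, ttL19, ttL20, ttL21, ttL22, ttL23, ttL24, ttL25, ttL26] v = true := fun x hx => tt_vert16 x (Nat.zero_le _) hx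

theorem tt_nest17 : ∀ x, 0 ≤ x → x < 1755 → (chkNest ttL16.S ttL17) x = true := by
  intro x hlo hx
  exact allFrom_sound (f := chkNest ttL16.S ttL17) tt_nest17_c0 x (by omega) (by omega)

theorem tt_nest17' : ∀ x, x < 1755 → chkNest ttL16.S ttL17 x = true := fun x hx => tt_nest17 x (Nat.zero_le _) hx

theorem tt_vert17 : ∀ x, 0 ≤ x → x < 1755 → (chkVertex ttL17 [ttL18, ttL19, ttL20, ttL21, ttL22, ttL23, ttL24, ttL25, ttL26]) x = true := by
  intro x hlo hx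
  exact allFrom_sound (f := chkVertex ttL17 [ttL18, ttL19, ttL20, ttL21, ttL22, ttL23, ttL24, ttL25, ttL26]) tt_vert17_c0 x (by omega) (by omega)

theorem tt_vert17' : ∀ v, v < 1755 → chkVertex ttL17 [ttL18, ttL19, ttL20, ttL21, ttL22, ttL23, ttL24, ttL25, ttL26] v = true := fun x hx => tt_vert17 x (Nat.zero_le _) hx

theorem tt_nest18 : ∀ x, 0 ≤ x → x < 1755 → (chkNest ttL17.S ttL18) x = true := by
  intro x hlo hx
  exact allFrom_sound (f := chkNest ttL17.S ttL18) tt_nest18_c0 x (by omega) (by omega)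

theorem tt_nest18' : ∀ x, x < 1755 → chkNest ttL17.S ttL18 x = true := fun x hx => tt_nest18 x (Nat.zero_le _) hx

theorem tt_vert18 : ∀ x, 0 ≤ x → x < 1755 → (chkVertex ttL18 [ttL19, ttL20, ttL21, ttL22, ttL23, ttL24, ttL25, ttL26]) x = true := by
  intro x hlo hx
  exact allFrom_sound (f := chkVertex ttL18 [ttL19, ttL20, ttL21, ttL22, ttL23, ttL24, ttL25, ttL26]) tt_vert18_c0 x (by omega) (by omega)

theorem tt_vert18' : ∀ v, v < 1755 → chkVertex ttL18 [ttL19, ttL20, ttL21, ttL22, ttL23, ttL24, ttL25, ttL26] v = true := fun x hx => tt_vert18 x (Nat.zero_le _) hx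

theorem tt_nest19 : ∀ x, 0 ≤ x → x < 1755 → (chkNest ttL18.S ttL19) x = true := by
  intro x hlo hx
  exact allFrom_sound (f := chkNest ttL18.S ttL19) tt_nest19_c0 x (by omega) (by omega)

theorem tt_nest19' : ∀ x, x < 1755 → chkNest ttL18.S ttL19 x = true := fun x hx => tt_nest19 x (Nat.zero_le _) hx

theorem tt_vert19 : ∀ x, 0 ≤ x → x < 1755 → (chkVertex ttL19 [ttL20, ttL21, ttL22, ttL23, ttL24, ttL25, ttL26]) x = true := by
  intro x hlo hx
  exact allFrom_sound (f := chkVertex ttL19 [ttL20, ttL21, ttL22, ttL23, ttL24, ttL25, ttL26]) tt_vert19_c0 x (by omega) (by omega)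

theorem tt_vert19' : ∀ v, v < 1755 → chkVertex ttL19 [ttL20, ttL21, ttL22, ttL23, ttL24, ttL25, ttL26] v = true := fun x hx => tt_vert19 x (Nat.zero_le _) hx

theorem tt_nest20 : ∀ x, 0 ≤ x → x < 1755 → (chkNest ttL19.S ttL20) x = true := by
  intro x hlo hx
  exact allFrom_sound (f := chkNest ttL19.S ttL20) tt_nest20_c0 x (by omega) (by omega)

theorem tt_nest20' : ∀ x, x < 1755 → chkNest ttL19.S ttL20 x = true := fun x hx => tt_nest20 x (Nat.zero_le _) hx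

theorem tt_vert20 : ∀ x, 0 ≤ x → x < 1755 → (chkVertex ttL20 [ttL21, ttL22, ttL23, ttL24, ttL25, ttL26]) x = true := by
  intro x hlo hx
  exact allFrom_sound (f := chkVertex ttL20 [ttL21, ttL22, ttL23, ttL24, ttL25, ttL26]) tt_vert20_c0 x (by omega) (by omega)

theorem tt_vert20' : ∀ v, v < 1755 → chkVertex ttL20 [ttL21, ttL22, ttL23, ttL24, ttL25, ttL26] v = true := fun x hx => tt_vert20 x (Nat.zero_le _) hx

theorem tt_nest21 : ∀ x, 0 ≤ x → x < 1755 → (chkNest ttL20.S ttL21) x = true := by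
  intro x hlo hx
  exact allFrom_sound (f := chkNest ttL20.S ttL21) tt_nest21_c0 x (by omega) (by omega)

theorem tt_nest21' : ∀ x, x < 1755 → chkNest ttL20.S ttL21 x = true := fun x hx => tt_nest21 x (Nat.zero_le _) hx

theorem tt_vert21 : ∀ x, 0 ≤ x → x < 1755 → (chkVertex ttL21 [ttL22, ttL23, ttL24, ttL25, ttL26]) x = true := by
  intro x hlo hx
  exact allFrom_sound (f := chkVertex ttL21 [ttL22, ttL23, ttL24, ttL25, ttL26]) tt_vert21_c0 x (by omega) (by omega)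

theorem tt_vert21' : ∀ v, v < 1755 → chkVertex ttL21 [ttL22, ttL23, ttL24, ttL25, ttL26] v = true := fun x hx => tt_vert21 x (Nat.zero_le _) hx

theorem tt_nest22 : ∀ x, 0 ≤ x → x < 1755 → (chkNest ttL21.S ttL22) x = true := by
  intro x hlo hx
  exact allFrom_sound (f := chkNest ttL21.S ttL22) tt_nest22_c0 x (by omega) (by omega)

theorem tt_nest22' : ∀ x, x < 1755 → chkNest ttL21.S ttL22 x = true := fun x hx => tt_nest22 x (Nat.zero_le _) hx

theorem tt_vert22 : ∀ x, 0 ≤ x → x < 1755 → (chkVertex ttL22 [ttL23, ttL24, ttL25, ttL26]) x = true := by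
  intro x hlo hx
  exact allFrom_sound (f := chkVertex ttL22 [ttL23, ttL24, ttL25, ttL26]) tt_vert22_c0 x (by omega) (by omega)

theorem tt_vert22' : ∀ v, v < 1755 → chkVertex ttL22 [ttL23, ttL24, ttL25, ttL26] v = true := fun x hx => tt_vert22 x (Nat.zero_le _) hx

theorem tt_nest23 : ∀ x, 0 ≤ x → x < 1755 → (chkNest ttL22.S ttL23) x = true := by
  intro x hlo hx
  exact allFrom_sound (f := chkNest ttL22.S ttL23) tt_nest23_c0 x (by omega) (by omega)

theorem tt_nest23' : ∀ x, x < 1755 → chkNest ttL22.S ttL23 x = true := fun x hx => tt_nest23 x (Nat.zero_le _) hx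

theorem tt_vert23 : ∀ x, 0 ≤ x → x < 1755 → (chkVertex ttL23 [ttL24, ttL25, ttL26]) x = true := by
  intro x hlo hx
  exact allFrom_sound (f := chkVertex ttL23 [ttL24, ttL25, ttL26]) tt_vert23_c0 x (by omega) (by omega)

theorem tt_vert23' : ∀ v, v < 1755 → chkVertex ttL23 [ttL24, ttL25, ttL26] v = true := fun x hx => tt_vert23 x (Nat.zero_le _) hx

theorem tt_nest24 : ∀ x, 0 ≤ x → x < 1755 → (chkNest ttL23.S ttL24) x = true := by
  intro x hlo hx
  exact allFrom_sound (f := chkNest ttL23.S ttL24) tt_nest24_c0 x (by omega) (by omega)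

theorem tt_nest24' : ∀ x, x < 1755 → chkNest ttL23.S ttL24 x = true := fun x hx => tt_nest24 x (Nat.zero_le _) hx

theorem tt_vert24 : ∀ x, 0 ≤ x → x < 1755 → (chkVertex ttL24 [ttL25, ttL26]) x = true := by
  intro x hlo hx
  exact allFrom_sound (f := chkVertex ttL24 [ttL25, ttL26]) tt_vert24_c0 x (by omega) (by omega)

theorem tt_vert24' : ∀ v, v < 1755 → chkVertex ttL24 [ttL25, ttL26] v = true := fun x hx => tt_vert24 x (Nat.zero_le _) hx

theorem tt_nest25 : ∀ x, 0 ≤ x → x < 1755 → (chkNest ttL24.S ttL25) x = true := by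
  intro x hlo hx
  exact allFrom_sound (f := chkNest ttL24.S ttL25) tt_nest25_c0 x (by omega) (by omega)

theorem tt_nest25' : ∀ x, x < 1755 → chkNest ttL24.S ttL25 x = true := fun x hx => tt_nest25 x (Nat.zero_le _) hx

theorem tt_vert25 : ∀ x, 0 ≤ x → x < 1755 → (chkVertex ttL25 [ttL26]) x = true := by
  intro x hlo hx
  exact allFrom_sound (f := chkVertex ttL25 [ttL26]) tt_vert25_c0 x (by omega) (by omega)

theorem tt_vert25' : ∀ v, v < 1755 → chkVertex ttL25 [ttL26] v = true := fun x hx => tt_vert25 x (Nat.zero_le _) hx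

theorem tt_nest26 : ∀ x, 0 ≤ x → x < 1755 → (chkNest ttL25.S ttL26) x = true := by
  intro x hlo hx
  exact allFrom_sound (f := chkNest ttL25.S ttL26) tt_nest26_c0 x (by omega) (by omega)

theorem tt_nest26' : ∀ x, x < 1755 → chkNest ttL25.S ttL26 x = true := fun x hx => tt_nest26 x (Nat.zero_le _) hx

theorem tt_vert26 : ∀ x, 0 ≤ x → x < 1755 → (chkVertex ttL26 []) x = true := by
  intro x hlo hx
  exact allFrom_sound (f := chkVertex ttL26 []) tt_vert26_c0 x (by omega) (by omega)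

theorem tt_vert26' : ∀ v, v < 1755 → chkVertex ttL26 [] v = true := fun x hx => tt_vert26 x (Nat.zero_le _) hx

theorem tt_chain : ChainOK ttL0.S [] [ttL0, ttL1, ttL2, ttL3, ttL4, ttL5, ttL6, ttL7, ttL8, ttL9, ttL10, ttL11, ttL12, ttL13, ttL14, ttL15, ttL16, ttL17, ttL18, ttL19, ttL20, ttL21, ttL22, ttL23, ttL24, ttL25, ttL26] :=
  ⟨tt_head0, tt_nest0', tt_vert0', tt_head1, tt_nest1', tt_vert1', tt_head2, tt_nest2', tt_vert2', tt_head3, tt_nest3', tt_vert3', tt_head4, tt_nest4', tt_vert4', tt_head5, tt_nest5', tt_vert5', tt_head6, tt_nest6', tt_vert6', tt_head7, tt_nest7', tt_vert7', tt_head8, tt_nest8', tt_vert8', tt_head9, tt_nest9', tt_vert9', tt_head10, tt_nest10', tt_vert10', tt_head11, tt_nest11', tt_vert11', tt_head12, tt_nest12', tt_vert12', tt_head13, tt_nest13', tt_vert13', tt_head14, tt_nest14', tt_vert14', tt_head15, tt_nest15', tt_vert15', tt_head16, tt_nest16', tt_vert16', tt_head17, tt_nest17',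 tt_vert17', tt_head18, tt_nest18', tt_vert18', tt_head19, tt_nest19', tt_vert19', tt_head20, tt_nest20', tt_vert20', tt_head21, tt_nest21', tt_vert21', tt_head22, tt_nest22', tt_vert22', tt_head23, tt_nest23', tt_vert23', tt_head24, tt_nest24', tt_vert24', tt_head25, tt_nest25', tt_vert25', tt_head26, tt_nest26', tt_vert26', trivial⟩

theorem tt_full : ∀ x, 0 ≤ x → x < 1755 → (fun v => plook 19 tttbl0 v != 0) x = true := by
  intro x hlo hx
  exact allFrom_sound (f := fun v => plook 19 tttbl0 v != 0) tt_full_c0 x (by omega) (by omega)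

theorem tt_hfull : ∀ v, v < 1755 → plook ttL0.W ttL0.tbl v ≠ 0 := fun v hv => by
  have := tt_full v (Nat.zero_le _) hv
  show plook 19 tttbl0 v ≠ 0
  simpa using this

theorem tt_orb : ∀ x, 0 ≤ x → x < 1755 → (chkOrbV ttL1.S.act [0, 1, 3, 8, 215] 3 ttctab 2 17 ttotab) x = true := by
  intro x hlo hx
  exact allFrom_sound (f := chkOrbV ttL1.S.act [0, 1, 3, 8, 215] 3 ttctab 2 17 ttotab) tt_orb_c0 x (by omega) (by omega)

theorem tt_ap : ∀ x, 0 ≤ x → x < 1755 → (fun x => pact ttL0.S.act (List.replicate 13 0) x == x) x = true := by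
  intro x hlo hx
  exact allFrom_sound (f := fun x => pact ttL0.S.act (List.replicate 13 0) x == x) tt_ap_c0 x (by omega) (by omega)

theorem tt_bp : ∀ x, 0 ≤ x → x < 1755 → (fun x => pact ttL0.S.act (List.replicate 13 2) x == x) x = true := by
  intro x hlo hx
  exact allFrom_sound (f := fun x => pact ttL0.S.act (List.replicate 13 2) x == x) tt_bp_c0 x (by omega) (by omega)

theorem tt_hb : ttL0.b < 1755 := by decide

theorem tt_mat : ∀ x, 0 ≤ x → x < 1755 → (fun i => chkMat (ttL0.S.act 0) ttCode (ttCols 0) 28 i && chkMat (ttL0.S.act 2) ttCode (ttCols 1) 28 i) x = true := by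
  intro x hlo hx
  by_cases h0 : x < 900
  · exact allFrom_sound (f := fun i => chkMat (ttL0.S.act 0) ttCode (ttCols 0) 28 i && chkMat (ttL0.S.act 2) ttCode (ttCols 1) 28 i) tt_mat_c0 x (by omega) (by omega)
  exact allFrom_sound (f := fun i => chkMat (ttL0.S.act 0) ttCode (ttCols 0) 28 i && chkMat (ttL0.S.act 2) ttCode (ttCols 1) 28 i) tt_mat_c1 x (by omega) (by omega)

theorem tt_hmono : ∀ i, i + 1 < 1755 → ttCode i < ttCode (i + 1) := fun i hi =>
  Nat.blt_eq.mp (allBelow_sound tt_mono i (by omega))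

theorem tt_hmat : ∀ j, j < ttL0.S.g / 2 → ∀ i, i < 1755 →
    mvx (ttCols j) 28 (ttCode i) = ttCode (ttL0.S.act (2 * j) i) := by
  intro j hj i hi
  have hj' : j < 2 := hj
  have h := tt_mat i (Nat.zero_le _) hi
  simp only [Bool.and_eq_true] at h
  interval_cases j
  · exact chkMat_sound h.1
  · exact chkMat_sound h.2

/-- Rigidity of the base: an element of the group fixing the base points is trivial. -/
theorem tt_hR : ∀ g ∈ ttL0.S.H, (∀ x : Fin 1755, (x : ℕ) ∈ ttBase → g x = x) → g = 1 := by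
  intro g hg hfix
  exact rigid_xor ttCode ttBase ttCmb tt_hmono (by decide)
    (fun i hi => chkCmb0_sound (allBelow_sound tt_cmb i hi))
    g (XInv.of_H ttL0.S ttCode ttCols 28 tt_hmat g hg) hfix

theorem tt_bases : [ttL0, ttL1, ttL2, ttL3, ttL4, ttL5, ttL6, ttL7, ttL8, ttL9, ttL10, ttL11, ttL12, ttL13, ttL14, ttL15, ttL16, ttL17, ttL18, ttL19, ttL20, ttL21, ttL22, ttL23, ttL24, ttL25, ttL26].map Lvl.b = ttBase := by decide

/-- The group of the certificate is simple of order `1755 * 10240`, transitive, with point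
stabilisers of order `10240`; the group of the second level lies in it and fixes the base point. -/
theorem tt_cert : IsSimpleGroup ttL0.S.H ∧ Nat.card ttL0.S.H = 1755 * 10240 ∧
    MulAction.IsPretransitive ttL0.S.H (Fin 1755) ∧
    Nat.card (MulAction.stabilizer ttL0.S.H (⟨ttL0.b, tt_hb⟩ : Fin 1755)) = 10240 ∧
    ttL1.S.H ≤ ttL0.S.H ∧ (∀ g ∈ ttL1.S.H, g ⟨ttL0.b, tt_hb⟩ = ⟨ttL0.b, tt_hb⟩) :=
  group_cert2 ttL0 ttL1 [ttL2, ttL3, ttL4, ttL5, ttL6, ttL7, ttL8, ttL9, ttL10, ttL11, ttL12, ttL13, ttL14, ttL15, ttL16, ttL17, ttL18, ttL19, ttL20, ttL21, ttL22, ttL23, ttL24, ttL25, ttL26] tt_chain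
    (fun g hg hfix => tt_hR g hg (fun x hx => hfix x (by rw [tt_bases]; exact hx)))
    rfl tt_hb tt_hfull [0, 1, 3, 8, 215] [1, 640, 1024, 80, 10] 3 ttctab 2 17 ttotab
    (fun v hv => tt_orb v (Nat.zero_le _) hv)
    (getD_lt_of_all _ _ (by norm_num) (by decide))
    (cls_of_chk _ _ _ _ _ tt_cls).1 (cls_of_chk _ _ _ _ _ tt_cls).2
    (sizes_of_chk _ _ _ _ _ tt_sizes) tt_arith
    10240 13 13 (by norm_num) (by norm_num) tt_card (by norm_num) (by norm_num)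
    (fun x hx => by simpa using tt_ap x (Nat.zero_le _) hx)
    (fun x hx => by simpa using tt_bp x (Nat.zero_le _) hx)

end Cfsg.Agent.Lib.helper10
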