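/-
The field with four elements as a concrete type, vectors of length nine over it packed into
natural numbers (two bits per entry), matrices given by packed columns, and kernel-checkable
tests: a matrix maps one additive subgroup given by packed generators into another, or
annihilates it.
-/
import Mathlib
import Cfsg.Agent.Lib.helper10.PermChain

set_option autoImplicit false
open scoped Matrix

namespace Cfsg.Agent.Lib.helper10

/-- The field with four elements: `0`, `1`, `ω`, `ω² = ω + 1`. -/
inductive F4 : Type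
  | z | o | w | v
  deriving DecidableEq

namespace F4

instance instFintypeF4 : Fintype F4 where
  elems := {z, o, w, v}
  complete := by intro x; cases x <;> decide

/-- Addition. -/
def add : F4 → F4 → F4
  | z, x => x
  | x, z => x
  | o, o => z
  | o, w => v
  | o, v => w
  | w, o => v
  | w, w => z
  | w, v => o
  | v, o => w
  | v, w => o
  | v, v => z

/-- Multiplication. -/
def mul : F4 → F4 → F4
  | z, _ => z
  | _, z => z
  | o, x => x
  | x, o => x
  | w, w => v
  | w, v => o
  | v, w => o
  | v, v => w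

/-- Inversion. -/
def inv : F4 → F4
  | z => z
  | o => o
  | w => v
  | v => w

instance instZeroF4 : Zero F4 := ⟨z⟩
instance instOneF4 : One F4 := ⟨o⟩
instance instAddF4 : Add F4 := ⟨add⟩
instance instMulF4 : Mul F4 := ⟨mul⟩
instance instNegF4 : Neg F4 := ⟨id⟩
instance instInvF4 : Inv F4 := ⟨inv⟩

instance instFieldF4 : Field F4 where
  add_assoc := by decide
  zero_add := by decide
  add_zero := by decide
  add_comm := by decide
  neg_add_cancel := by decide
  mul_assoc := by decide
  one_mul := by decide
  mul_one := by decide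
  left_distrib := by decide
  right_distrib := by decide
  mul_comm := by decide
  zero_mul := by decide
  mul_zero := by decide
  exists_pair_ne := ⟨z, o, by decide⟩
  mul_inv_cancel := by decide
  inv_zero := rfl
  nsmul := nsmulRec
  zsmul := zsmulRec
  nnqsmul := _
  qsmul := _

theorem card_eq : Fintype.card F4 = 4 := rfl

/-- The element `b0 + b1 * ω`. -/
def ofBits : Bool → Bool → F4
  | false, false => z
  | true, false => o
  | false, true => w
  | true, true => v

theorem ofBits_xor (a b c d : Bool) : ofBits (a ^^ b) (c ^^ d) = ofBits a c + ofBits b d := by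
  cases a <;> cases b <;> cases c <;> cases d <;> rfl

theorem mul_ofBits (c : F4) (b0 b1 : Bool) :
    c * ofBits b0 b1 = (if b0 then c else 0) + (if b1 then w * c else 0) := by
  cases c <;> cases b0 <;> cases b1 <;> rfl

/-- Squaring as an additive map. -/
def sqHom : F4 →+ F4 where
  toFun := fun x => x ^ 2
  map_zero' := rfl
  map_add' := by decide

theorem sum_sq {ι : Type*} (s : Finset ι) (f : ι → F4) :
    (∑ j ∈ s, f j) ^ 2 = ∑ j ∈ s, (f j) ^ 2 :=
  map_sum sqHom f s

end F4

/-- The vector of a packed code: entry `i` is given by the bits `2 i` and `2 i + 1`. -/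
def dec (x : ℕ) : Fin 9 → F4 := fun i =>
  F4.ofBits (x.testBit (2 * i.val)) (x.testBit (2 * i.val + 1))

theorem dec_xor (x y : ℕ) : dec (x ^^^ y) = dec x + dec y := by
  funext i
  simp only [dec, Nat.testBit_xor, Pi.add_apply, F4.ofBits_xor]

theorem dec_zero : dec 0 = 0 := by
  funext i
  simp only [dec, Nat.zero_testBit]
  rfl

/-- The matrix whose column `j` is the vector of `cols (2 j)`. -/
def Mc (cols : ℕ → ℕ) : Matrix (Fin 9) (Fin 9) F4 := fun i j => dec (cols (2 * j.val)) i

/-- The odd packed columns are `ω` times the even ones. -/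
def OmC (cols : ℕ → ℕ) : Prop :=
  ∀ j : Fin 9, dec (cols (2 * j.val + 1)) = F4.w • dec (cols (2 * j.val))

instance instDecidableOmC (cols : ℕ → ℕ) : Decidable (OmC cols) := by
  unfold OmC
  infer_instance

/-- The packed product of a matrix given by packed columns and a packed vector: the sum of the
columns at the bits of the vector, on the first `k` bits. -/
def mvN (cols : ℕ → ℕ) (x k : ℕ) : ℕ :=
  Nat.rec (motive := fun _ => ℕ) 0 (fun i ih => Nat.xor ih (cond (Nat.testBit x i) (cols i) 0)) k

theorem mvN_succ (cols : ℕ → ℕ) (x k : ℕ) :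
    mvN cols x (k + 1) = mvN cols x k ^^^ (cond (Nat.testBit x k) (cols k) 0) := rfl

/-- The packed product of a matrix given by packed columns and a packed vector. -/
def mv (cols : ℕ → ℕ) (x : ℕ) : ℕ := mvN cols x 18

theorem dec_mvN (cols : ℕ → ℕ) (x k : ℕ) :
    dec (mvN cols x k) = ∑ l ∈ Finset.range k, if x.testBit l then dec (cols l) else 0 := by
  induction k with
  | zero => simpa [mvN] using dec_zero
  | succ k ih =>
    rw [mvN_succ, dec_xor, ih, Finset.sum_range_succ]
    congr 1
    cases h : Nat.testBit x k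
    · simp [dec_zero]
    · simp

theorem sum_range_two_mul {M : Type*} [AddCommMonoid M] (f : ℕ → M) (n : ℕ) :
    ∑ l ∈ Finset.range (2 * n), f l = ∑ j ∈ Finset.range n, (f (2 * j) + f (2 * j + 1)) := by
  induction n with
  | zero => simp
  | succ n ih =>
    rw [show 2 * (n + 1) = 2 * n + 1 + 1 from by ring, Finset.sum_range_succ,
      Finset.sum_range_succ, ih, Finset.sum_range_succ, add_assoc]

theorem mulVec_dec (cols : ℕ → ℕ) (h : OmC cols) (x : ℕ) :
    Mc cols *ᵥ dec x = dec (mv cols x) := by
  rw [mv, dec_mvN, show (18 : ℕ) = 2 * 9 from rfl, sum_range_two_mul, Finset.sum_range]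
  funext i
  rw [Finset.sum_apply]
  show ∑ j : Fin 9, Mc cols i j * dec x j = _
  apply Finset.sum_congr rfl
  intro j _
  rw [h j]
  show dec (cols (2 * j.val)) i * F4.ofBits (x.testBit (2 * j.val)) (x.testBit (2 * j.val + 1)) = _
  rw [F4.mul_ofBits]
  simp only [Pi.add_apply]
  congr 1
  · split_ifs <;> rfl
  · split_ifs <;> rfl

/-- A product of matrices given by packed columns, checked on the columns. -/
theorem Mc_mul (c1 c2 c3 : ℕ → ℕ) (h1 : OmC c1)
    (h : ∀ j : Fin 9, mv c1 (c2 (2 * j.val)) = c3 (2 * j.val)) : Mc c1 * Mc c2 = Mc c3 := by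
  ext i j
  have h2 : (Mc c1 * Mc c2) i j = (Mc c1 *ᵥ dec (c2 (2 * j.val))) i := rfl
  rw [h2, mulVec_dec c1 h1, h j]
  rfl

theorem Mc_one : Mc (fun k => 2 ^ k) = 1 := by
  ext i j
  show F4.ofBits ((2 ^ (2 * j.val)).testBit (2 * i.val)) ((2 ^ (2 * j.val)).testBit (2 * i.val + 1))
    = (1 : Matrix (Fin 9) (Fin 9) F4) i j
  rw [Nat.testBit_two_pow, Nat.testBit_two_pow]
  by_cases hij : i = j
  · subst hij
    simp [F4.ofBits]
    rfl
  · have h1 : ¬ (2 * j.val = 2 * i.val) := fun h => hij (Fin.ext (by omega))
    have h2 : ¬ (2 * j.val = 2 * i.val + 1) := by omega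
    simp [h1, h2, F4.ofBits, Matrix.one_apply_ne hij]
    rfl

/-! ### Additive subgroups given by packed generators -/

/-- The additive subgroup generated by the vectors of a list of packed codes. -/
def Wof (bs : List ℕ) : AddSubgroup (Fin 9 → F4) := AddSubgroup.closure {v | ∃ b ∈ bs, v = dec b}

theorem dec_mem_Wof {bs : List ℕ} {b : ℕ} (h : b ∈ bs) : dec b ∈ Wof bs :=
  AddSubgroup.subset_closure ⟨b, h, rfl⟩

/-- One step of the reduction of a packed vector by a packed vector, at the top bit of the
latter. -/
def red1 (y b : ℕ) : ℕ :=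
  nforce y fun y' => nforce b fun b' => cond (Nat.testBit y' (Nat.log2 b')) (Nat.xor y' b') y'

theorem red1_eq (y b : ℕ) : red1 y b = y ^^^ b ∨ red1 y b = y := by
  unfold red1
  rw [nforce_eq, nforce_eq]
  cases Nat.testBit y (Nat.log2 b)
  · right; rfl
  · left; rfl

/-- The reduction of a packed vector by a list of packed vectors. -/
noncomputable def redL (bs : List ℕ) (y : ℕ) : ℕ :=
  List.rec (motive := fun _ => ℕ → ℕ) (fun y => y) (fun b _ ih y => ih (red1 y b)) bs y

theorem redL_cons (b : ℕ) (bs : List ℕ) (y : ℕ) : redL (b :: bs) y = redL bs (red1 y b) := rfl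

theorem redL_mem (C : AddSubgroup (Fin 9 → F4)) (bs : List ℕ) (hbs : ∀ b ∈ bs, dec b ∈ C) :
    ∀ y, dec (redL bs y) ∈ C → dec y ∈ C := by
  induction bs with
  | nil => intro y h; exact h
  | cons b bs ih =>
    intro y h
    rw [redL_cons] at h
    have h1 := ih (fun b' hb' => hbs b' (List.mem_cons_of_mem _ hb')) _ h
    rcases red1_eq y b with h2 | h2
    · rw [h2, dec_xor] at h1
      exact (AddSubgroup.add_mem_cancel_right C (hbs b List.mem_cons_self)).mp h1
    · rw [h2] at h1
      exact h1

theorem redL_sound {bs : List ℕ} {y : ℕ} (h : redL bs y = 0) : dec y ∈ Wof bs :=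
  redL_mem (Wof bs) bs (fun _ hb => dec_mem_Wof hb) y (by rw [h, dec_zero]; exact zero_mem _)

/-- The test that a matrix maps the generators `src` into the subgroup generated by `dst`. -/
noncomputable def chkMap (cols : ℕ → ℕ) (src dst : List ℕ) : Bool :=
  List.rec (motive := fun _ => Bool) true
    (fun b _ ih => nforce (mv cols b) (fun y => redL dst y == 0) && ih) src

theorem chkMap_cons (cols : ℕ → ℕ) (b : ℕ) (src dst : List ℕ) :
    chkMap cols (b :: src) dst = (nforce (mv cols b) (fun y => redL dst y == 0) && chkMap cols src dst) :=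
  rfl

theorem chkMap_spec (cols : ℕ → ℕ) (src dst : List ℕ) (h : chkMap cols src dst = true) :
    ∀ b ∈ src, redL dst (mv cols b) = 0 := by
  induction src with
  | nil => intro b hb; simp at hb
  | cons c src ih =>
    rw [chkMap_cons, Bool.and_eq_true, nforce_eq] at h
    intro b hb
    rcases List.mem_cons.mp hb with rfl | hb
    · exact beq_iff_eq.mp h.1
    · exact ih h.2 b hb

/-- Multiplication by a matrix as an additive map. -/
def mvAdd (M : Matrix (Fin 9) (Fin 9) F4) : (Fin 9 → F4) →+ (Fin 9 → F4) :=
  (Matrix.mulVecLin M).toAddMonoidHom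

theorem mvAdd_apply (M : Matrix (Fin 9) (Fin 9) F4) (v : Fin 9 → F4) : mvAdd M v = M *ᵥ v := rfl

theorem chkMap_sound (cols : ℕ → ℕ) (hc : OmC cols) (src dst : List ℕ)
    (h : chkMap cols src dst = true) : ∀ v ∈ Wof src, Mc cols *ᵥ v ∈ Wof dst := by
  have h1 := chkMap_spec cols src dst h
  have h2 : Wof src ≤ (Wof dst).comap (mvAdd (Mc cols)) := by
    rw [Wof, AddSubgroup.closure_le]
    rintro v ⟨b, hb, rfl⟩
    show Mc cols *ᵥ dec b ∈ Wof dst
    rw [mulVec_dec cols hc]
    exact redL_sound (h1 b hb)
  exact fun v hv => h2 hv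

/-- The test that a matrix annihilates the generators `src`. -/
noncomputable def chkKill (cols : ℕ → ℕ) (src : List ℕ) : Bool :=
  List.rec (motive := fun _ => Bool) true (fun b _ ih => (mv cols b == 0) && ih) src

theorem chkKill_cons (cols : ℕ → ℕ) (b : ℕ) (src : List ℕ) :
    chkKill cols (b :: src) = ((mv cols b == 0) && chkKill cols src) := rfl

theorem chkKill_spec (cols : ℕ → ℕ) (src : List ℕ) (h : chkKill cols src = true) :
    ∀ b ∈ src, mv cols b = 0 := by
  induction src with
  | nil => intro b hb; simp at hb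
  | cons c src ih =>
    rw [chkKill_cons, Bool.and_eq_true] at h
    intro b hb
    rcases List.mem_cons.mp hb with rfl | hb
    · exact beq_iff_eq.mp h.1
    · exact ih h.2 b hb

theorem chkKill_sound (cols : ℕ → ℕ) (hc : OmC cols) (src : List ℕ)
    (h : chkKill cols src = true) : ∀ v ∈ Wof src, Mc cols *ᵥ v = 0 := by
  have h1 := chkKill_spec cols src h
  have h2 : Wof src ≤ (mvAdd (Mc cols)).ker := by
    rw [Wof, AddSubgroup.closure_le]
    rintro v ⟨b, hb, rfl⟩
    show Mc cols *ᵥ dec b = 0
    rw [mulVec_dec cols hc, h1 b hb, dec_zero]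
  exact fun v hv => h2 hv

/-- The eight packed vectors of a packed row of `144` bits. -/
def basl (r : ℕ) : List ℕ :=
  [plook 18 r 0, plook 18 r 1, plook 18 r 2, plook 18 r 3, plook 18 r 4, plook 18 r 5,
    plook 18 r 6, plook 18 r 7]

/-- The test at a point `i`: the matrix maps the subgroup of row `i` into that of row `act i`. -/
noncomputable def chkPt (cols : ℕ → ℕ) (act : ℕ → ℕ) (row : ℕ → ℕ) (i : ℕ) : Bool :=
  nforce (row i) fun r => nforce (row (act i)) fun r' =>
    lforce (basl r) fun src => lforce (basl r') fun dst => chkMap cols src dst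

theorem chkPt_sound (cols : ℕ → ℕ) (hc : OmC cols) (act : ℕ → ℕ) (row : ℕ → ℕ) (i : ℕ)
    (h : chkPt cols act row i = true) :
    ∀ v ∈ Wof (basl (row i)), Mc cols *ᵥ v ∈ Wof (basl (row (act i))) := by
  unfold chkPt at h
  rw [nforce_eq, nforce_eq, lforce_eq, lforce_eq] at h
  exact chkMap_sound cols hc _ _ h

end Cfsg.Agent.Lib.helper10
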