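/-
Algebra for the certificate of the triple cover of Janko's third group: the Hermitian form,
determinants from orders, lines as intersections, scalar matrices from a frame of
eigenvectors, and the centre of a subgroup of a product that is the graph of a
homomorphism.
-/
import Mathlib
import Cfsg.Agent.Lib.helper10.U9Core

set_option autoImplicit false
open scoped Matrix

namespace Cfsg.Agent.Lib.helper10

/-- Equality of two families of entries. -/
def allEq (f g : Fin 9 → Fin 9 → F4) : Prop := ∀ i j : Fin 9, f i j = g i j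

instance instDecidableAllEq (f g : Fin 9 → Fin 9 → F4) : Decidable (allEq f g) := by
  unfold allEq
  infer_instance

theorem mat_ext_allEq (A B : Matrix (Fin 9) (Fin 9) F4)
    (h : allEq (fun i j => A i j) (fun i j => B i j)) : A = B := by
  ext i j
  exact h i j

/-- A matrix with `Mᵀ * M^(2) = 1` preserves the form `∑ u i * (v i) ^ 2`. -/
theorem herm_of (M : Matrix (Fin 9) (Fin 9) F4) (h : Mᵀ * M.map (fun x => x ^ 2) = 1)
    (u v : Fin 9 → F4) :
    ∑ i, (M *ᵥ u) i * ((M *ᵥ v) i) ^ 2 = ∑ i, u i * (v i) ^ 2 := by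
  have h1 : (fun i => ((M *ᵥ v) i) ^ 2) = M.map (fun x => x ^ 2) *ᵥ (fun j => (v j) ^ 2) := by
    funext i
    show (∑ j, M i j * v j) ^ 2 = ∑ j, (M i j) ^ 2 * (v j) ^ 2
    rw [F4.sum_sq]
    exact Finset.sum_congr rfl (fun j _ => mul_pow _ _ _)
  have h2 : ∑ i, (M *ᵥ u) i * ((M *ᵥ v) i) ^ 2
      = (M *ᵥ u) ⬝ᵥ (M.map (fun x => x ^ 2) *ᵥ (fun j => (v j) ^ 2)) := by
    rw [← h1]
    rfl
  rw [h2, Matrix.dotProduct_mulVec, ← Matrix.vecMul_transpose, Matrix.vecMul_vecMul, h,
    Matrix.vecMul_one]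
  rfl

theorem F4.eq_one_of_pow_17 : ∀ x : F4, x ^ 16 * x = 1 → x = 1 := by decide

theorem F4.eq_one_of_pow_19 : ∀ x : F4, x ^ 18 * x = 1 → x = 1 := by decide

theorem det_of_17 (A A2 A4 A8 A16 : Matrix (Fin 9) (Fin 9) F4) (h2 : A * A = A2)
    (h4 : A2 * A2 = A4) (h8 : A4 * A4 = A8) (h16 : A8 * A8 = A16) (h : A16 * A = 1) :
    A.det = 1 := by
  have h0 := congrArg Matrix.det h
  rw [← h16, ← h8, ← h4, ← h2] at h0
  simp only [Matrix.det_mul, Matrix.det_one] at h0
  apply F4.eq_one_of_pow_17
  rw [← h0]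
  ring

theorem det_of_19 (A A2 A4 A8 A16 A18 : Matrix (Fin 9) (Fin 9) F4) (h2 : A * A = A2)
    (h4 : A2 * A2 = A4) (h8 : A4 * A4 = A8) (h16 : A8 * A8 = A16) (h18 : A16 * A2 = A18)
    (h : A18 * A = 1) : A.det = 1 := by
  have h0 := congrArg Matrix.det h
  rw [← h18, ← h16, ← h8, ← h4, ← h2] at h0
  simp only [Matrix.det_mul, Matrix.det_one] at h0
  apply F4.eq_one_of_pow_19
  rw [← h0]
  ring

/-- The unitarity condition from the inverse. -/
theorem unit_of_inv (A Ai : Matrix (Fin 9) (Fin 9) F4) (h : Ai * A = 1)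
    (hc : allEq (fun i j => Ai i j) (fun i j => (A j i) ^ 2)) :
    Aᵀ * A.map (fun x => x ^ 2) = 1 := by
  have h1 : Ai = (A.map (fun x => x ^ 2))ᵀ := by
    ext i j
    exact hc i j
  rw [h1] at h
  have h2 := congrArg Matrix.transpose h
  rw [Matrix.transpose_mul, Matrix.transpose_transpose, Matrix.transpose_one] at h2
  exact h2

/-- A vector in two subgroups annihilated by two matrices that add up to the identity with a
matrix of rank one is a multiple of the vector of the latter. -/
theorem line_of_kills (q1 q2 : ℕ → ℕ) (u : ℕ) (w : Fin 9 → F4) (bs1 bs2 : List ℕ)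
    (h1 : OmC q1) (h2 : OmC q2) (k1 : chkKill q1 bs1 = true) (k2 : chkKill q2 bs2 = true)
    (hsum' : allEq (fun i j => Mc q1 i j + Mc q2 i j + dec u i * w j)
      (fun i j => if i = j then 1 else 0))
    (v : Fin 9 → F4) (hv1 : v ∈ Wof bs1) (hv2 : v ∈ Wof bs2) : ∃ c : F4, v = c • dec u := by
  have hsum : Mc q1 + Mc q2 + Matrix.vecMulVec (dec u) w = 1 := by
    ext i j
    rw [Matrix.add_apply, Matrix.add_apply, Matrix.vecMulVec_apply, Matrix.one_apply]
    exact hsum' i j
  have e1 := chkKill_sound q1 h1 bs1 k1 v hv1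
  have e2 := chkKill_sound q2 h2 bs2 k2 v hv2
  have e3 : v = (Mc q1 + Mc q2 + Matrix.vecMulVec (dec u) w) *ᵥ v := by
    rw [hsum, Matrix.one_mulVec]
  rw [Matrix.add_mulVec, Matrix.add_mulVec, e1, e2, zero_add, zero_add] at e3
  refine ⟨w ⬝ᵥ v, e3.trans ?_⟩
  funext i
  simp only [Matrix.mulVec, dotProduct, Matrix.vecMulVec_apply, Pi.smul_apply, smul_eq_mul,
    Finset.sum_mul]
  apply Finset.sum_congr rfl
  intro j _
  ring

/-- A matrix with a frame of eigenvectors is a scalar matrix. -/
theorem scalar_of_frame (M U V : Matrix (Fin 9) (Fin 9) F4) (hVU : V * U = 1)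
    (α : Fin 9 → F4) (hα : ∀ j, α j ≠ 0)
    (he : ∀ j : Fin 9, ∃ c : F4, M *ᵥ (fun i => U i j) = c • (fun i => U i j))
    (he9 : ∃ c : F4, M *ᵥ (U *ᵥ α) = c • (U *ᵥ α)) : ∃ c : F4, M = c • 1 := by
  choose c hc using he
  obtain ⟨c9, h9⟩ := he9
  have hMU : M * U = U * Matrix.diagonal c := by
    ext i j
    have h1 : (M * U) i j = (M *ᵥ (fun i => U i j)) i := rfl
    rw [h1, hc j, Matrix.mul_diagonal, Pi.smul_apply, smul_eq_mul, mul_comm]
  have h2 : U *ᵥ (Matrix.diagonal c *ᵥ α) = U *ᵥ (c9 • α) := by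
    rw [Matrix.mulVec_mulVec, ← hMU, ← Matrix.mulVec_mulVec, h9, Matrix.mulVec_smul]
  have h3 : Matrix.diagonal c *ᵥ α = c9 • α := by
    have e : ∀ y : Fin 9 → F4, V *ᵥ (U *ᵥ y) = y := fun y => by
      rw [Matrix.mulVec_mulVec, hVU, Matrix.one_mulVec]
    rw [← e (Matrix.diagonal c *ᵥ α), h2, e]
  have h4 : ∀ j, c j = c9 := by
    intro j
    have := congrFun h3 j
    rw [Matrix.mulVec_diagonal, Pi.smul_apply, smul_eq_mul] at this
    exact mul_right_cancel₀ (hα j) this
  have h5 : Matrix.diagonal c = c9 • (1 : Matrix (Fin 9) (Fin 9) F4) := by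
    rw [Matrix.smul_one_eq_diagonal]
    congr 1
    funext j
    exact h4 j
  have hUV : U * V = 1 := mul_eq_one_comm.mp hVU
  refine ⟨c9, ?_⟩
  calc M = M * (U * V) := by rw [hUV, mul_one]
    _ = (M * U) * V := (mul_assoc _ _ _).symm
    _ = c9 • 1 := by rw [hMU, h5, Matrix.mul_smul, mul_one, Matrix.smul_mul, hUV]

/-! ### The graph of a homomorphism with central kernel -/

section Graph

variable {G P : Type*} [Group G] [Group P]

/-- Let `D` be a subgroup of a product `G × P` whose elements with first component `1` are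
trivial, whose elements with second component `1` have first component central in `G`, and
whose second projection has trivial centre.  Then the quotient of the first projection by its
centre is isomorphic to the second projection, and the centre of the first projection consists
of the first components of the elements with second component `1`. -/
theorem center_quot_of_graph (D : Subgroup (G × P))
    (h1 : ∀ σ : P, ((1 : G), σ) ∈ D → σ = 1)
    (hc : ∀ g : G, (g, (1 : P)) ∈ D → ∀ g' : G, g' * g = g * g')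
    (hZ : ∀ σ : P, σ ∈ D.map (MonoidHom.snd G P) →
      (∀ τ ∈ D.map (MonoidHom.snd G P), τ * σ = σ * τ) → σ = 1) :
    Nonempty ((D.map (MonoidHom.fst G P) ⧸ Subgroup.center (D.map (MonoidHom.fst G P))) ≃*
      D.map (MonoidHom.snd G P)) ∧
    (∀ h : D.map (MonoidHom.fst G P),
      h ∈ Subgroup.center (D.map (MonoidHom.fst G P)) ↔ ((h : G), (1 : P)) ∈ D) := by
  have huniq : ∀ (g : G) (σ τ : P), (g, σ) ∈ D → (g, τ) ∈ D → σ = τ := by
    intro g σ τ h1' h2'
    have h3 : ((1 : G), σ⁻¹ * τ) ∈ D := by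
      have := D.mul_mem (D.inv_mem h1') h2'
      simpa using this
    exact inv_mul_eq_one.mp (h1 _ h3)
  let f : D →* D.map (MonoidHom.fst G P) := (MonoidHom.fst G P).subgroupMap D
  let φ : D →* D.map (MonoidHom.snd G P) := (MonoidHom.snd G P).subgroupMap D
  have hf_inj : Function.Injective f := by
    intro d1 d2 h
    have h' : (d1 : G × P).1 = (d2 : G × P).1 := congrArg Subtype.val h
    have e1 : ((d1 : G × P).1, (d1 : G × P).2) ∈ D := d1.2
    have e2 : ((d1 : G × P).1, (d2 : G × P).2) ∈ D := by rw [h']; exact d2.2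
    exact Subtype.ext (Prod.ext h' (huniq _ _ _ e1 e2))
  have hf_surj : Function.Surjective f := MonoidHom.subgroupMap_surjective _ _
  have hφ_surj : Function.Surjective φ := MonoidHom.subgroupMap_surjective _ _
  let e : D ≃* D.map (MonoidHom.fst G P) := MulEquiv.ofBijective f ⟨hf_inj, hf_surj⟩
  let ψ : D.map (MonoidHom.fst G P) →* D.map (MonoidHom.snd G P) := φ.comp e.symm.toMonoidHom
  have hψ_surj : Function.Surjective ψ := hφ_surj.comp e.symm.surjective
  have hd : ∀ h : D.map (MonoidHom.fst G P), ((e.symm h : D) : G × P).1 = (h : G) := by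
    intro h
    exact congrArg Subtype.val (e.apply_symm_apply h)
  have hmem : ∀ h : D.map (MonoidHom.fst G P),
      ((h : G), ((e.symm h : D) : G × P).2) ∈ D := by
    intro h
    rw [← hd h]
    exact (e.symm h).2
  have hker : ∀ h : D.map (MonoidHom.fst G P), h ∈ ψ.ker ↔ ((h : G), (1 : P)) ∈ D := by
    intro h
    rw [MonoidHom.mem_ker]
    constructor
    · intro hψ
      have h2 : ((e.symm h : D) : G × P).2 = 1 := congrArg Subtype.val hψ
      have := hmem h
      rw [h2] at this
      exact this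
    · intro hm
      have h2 := huniq _ _ _ (hmem h) hm
      exact Subtype.ext h2
  have hcen : ∀ h : D.map (MonoidHom.fst G P),
      h ∈ Subgroup.center (D.map (MonoidHom.fst G P)) ↔ ((h : G), (1 : P)) ∈ D := by
    intro h
    constructor
    · intro hz
      rw [Subgroup.mem_center_iff] at hz
      have hσ : ((e.symm h : D) : G × P).2 = 1 := by
        apply hZ
        · exact ⟨_, hmem h, rfl⟩
        · rintro τ ⟨d, hdD, rfl⟩
          have hg : d.1 ∈ D.map (MonoidHom.fst G P) := ⟨d, hdD, rfl⟩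
          have hcomm : d.1 * (h : G) = (h : G) * d.1 := congrArg Subtype.val (hz ⟨d.1, hg⟩)
          have e1 : (d.1 * (h : G), d.2 * ((e.symm h : D) : G × P).2) ∈ D :=
            D.mul_mem hdD (hmem h)
          have e2 : (d.1 * (h : G), ((e.symm h : D) : G × P).2 * d.2) ∈ D := by
            rw [hcomm]
            exact D.mul_mem (hmem h) hdD
          exact huniq _ _ _ e1 e2
      have := hmem h
      rw [hσ] at this
      exact this
    · intro hm
      rw [Subgroup.mem_center_iff]
      intro g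
      exact Subtype.ext (hc _ hm g)
  have hkc : ψ.ker = Subgroup.center (D.map (MonoidHom.fst G P)) := by
    ext h
    rw [hker, hcen]
  exact ⟨⟨(QuotientGroup.quotientMulEquivOfEq hkc.symm).trans
    (QuotientGroup.quotientKerEquivOfSurjective ψ hψ_surj)⟩, hcen⟩

/-- The order of the centre in `center_quot_of_graph`. -/
theorem card_center_of_graph (D : Subgroup (G × P)) (K : Subgroup G)
    (hK : ∀ g : G, (g, (1 : P)) ∈ D ↔ g ∈ K)
    (hcen : ∀ h : D.map (MonoidHom.fst G P),
      h ∈ Subgroup.center (D.map (MonoidHom.fst G P)) ↔ ((h : G), (1 : P)) ∈ D) :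
    Nat.card (Subgroup.center (D.map (MonoidHom.fst G P))) = Nat.card K := by
  have hle : K ≤ D.map (MonoidHom.fst G P) := fun g hg => ⟨(g, 1), (hK g).mpr hg, rfl⟩
  have heq : Subgroup.center (D.map (MonoidHom.fst G P)) = K.subgroupOf (D.map (MonoidHom.fst G P)) := by
    ext h
    rw [hcen, hK, Subgroup.mem_subgroupOf]
  rw [heq]
  exact Nat.card_congr (Subgroup.subgroupOfEquivOfLe hle).toEquiv

end Graph

theorem pow_of_17 (A A2 A4 A8 A16 : Matrix (Fin 9) (Fin 9) F4) (h2 : A * A = A2)
    (h4 : A2 * A2 = A4) (h8 : A4 * A4 = A8) (h16 : A8 * A8 = A16) (h : A16 * A = 1) :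
    A ^ 17 = 1 := by
  have e2 : A ^ 2 = A2 := by rw [pow_two, h2]
  have e4 : A ^ 4 = A4 := by rw [show 4 = 2 + 2 from rfl, pow_add, e2, h4]
  have e8 : A ^ 8 = A8 := by rw [show 8 = 4 + 4 from rfl, pow_add, e4, h8]
  have e16 : A ^ 16 = A16 := by rw [show 16 = 8 + 8 from rfl, pow_add, e8, h16]
  rw [show 17 = 16 + 1 from rfl, pow_add, e16, pow_one, h]

theorem pow_of_19 (A A2 A4 A8 A16 A18 : Matrix (Fin 9) (Fin 9) F4) (h2 : A * A = A2)
    (h4 : A2 * A2 = A4) (h8 : A4 * A4 = A8) (h16 : A8 * A8 = A16) (h18 : A16 * A2 = A18)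
    (h : A18 * A = 1) : A ^ 19 = 1 := by
  have e2 : A ^ 2 = A2 := by rw [pow_two, h2]
  have e4 : A ^ 4 = A4 := by rw [show 4 = 2 + 2 from rfl, pow_add, e2, h4]
  have e8 : A ^ 8 = A8 := by rw [show 8 = 4 + 4 from rfl, pow_add, e4, h8]
  have e16 : A ^ 16 = A16 := by rw [show 16 = 8 + 8 from rfl, pow_add, e8, h16]
  have e18 : A ^ 18 = A18 := by rw [show 18 = 16 + 2 from rfl, pow_add, e16, e2, h18]
  rw [show 19 = 18 + 1 from rfl, pow_add, e18, pow_one, h]

/-- The centre of a simple group whose order is not a prime is trivial. -/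
theorem center_trivial_of_simple {P : Type*} [Group P] (J : Subgroup P) [hs : IsSimpleGroup J]
    (hcard : ¬ (Nat.card J).Prime) (σ : P) (hσ : σ ∈ J) (h : ∀ τ ∈ J, τ * σ = σ * τ) :
    σ = 1 := by
  have hmem : (⟨σ, hσ⟩ : J) ∈ Subgroup.center J := by
    rw [Subgroup.mem_center_iff]
    intro g
    exact Subtype.ext (h g g.2)
  rcases (Subgroup.center J).normal_of_characteristic.eq_bot_or_eq_top with h0 | h0
  · rw [h0, Subgroup.mem_bot] at hmem
    exact congrArg Subtype.val hmem
  · exfalso
    apply hcard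
    exact @IsSimpleGroup.prime_card J (Group.commGroupOfCenterEqTop h0) hs

/-- If the second projection of a subgroup of a product is simple and some element of it is
not the second component of an element with first component `1`, then the elements with first
component `1` are trivial. -/
theorem fst_one_trivial {G P : Type*} [Group G] [Group P] (D : Subgroup (G × P))
    [hs : IsSimpleGroup (D.map (MonoidHom.snd G P))]
    (a : P) (ha : a ∈ D.map (MonoidHom.snd G P)) (hna : ((1 : G), a) ∉ D) :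
    ∀ σ : P, ((1 : G), σ) ∈ D → σ = 1 := by
  have hN : ((D.comap (MonoidHom.inr G P)).subgroupOf (D.map (MonoidHom.snd G P))).Normal := by
    constructor
    intro n hn g
    rw [Subgroup.mem_subgroupOf, Subgroup.mem_comap] at hn ⊢
    obtain ⟨d, hd, hg⟩ := g.2
    have h3 := D.mul_mem (D.mul_mem hd hn) (D.inv_mem hd)
    have h4 : d * (MonoidHom.inr G P) (n : P) * d⁻¹
        = (MonoidHom.inr G P) ((g * n * g⁻¹ : D.map (MonoidHom.snd G P)) : P) := by
      apply Prod.ext
      · simp
      · simp [← hg]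
    rw [h4] at h3
    exact h3
  intro σ hσ
  have hσJ : σ ∈ D.map (MonoidHom.snd G P) := ⟨_, hσ, rfl⟩
  rcases hN.eq_bot_or_eq_top with h0 | h0
  · have h5 : (⟨σ, hσJ⟩ : D.map (MonoidHom.snd G P)) ∈
        (D.comap (MonoidHom.inr G P)).subgroupOf (D.map (MonoidHom.snd G P)) := by
      rw [Subgroup.mem_subgroupOf, Subgroup.mem_comap]
      exact hσ
    rw [h0, Subgroup.mem_bot] at h5
    exact congrArg Subtype.val h5
  · exfalso
    apply hna
    have h5 : (⟨a, ha⟩ : D.map (MonoidHom.snd G P)) ∈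
        (D.comap (MonoidHom.inr G P)).subgroupOf (D.map (MonoidHom.snd G P)) := by
      rw [h0]
      exact Subgroup.mem_top _
    rw [Subgroup.mem_subgroupOf, Subgroup.mem_comap] at h5
    exact h5

end Cfsg.Agent.Lib.helper10
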