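import Mathlib
import Cfsg.Agent.Lib.helper10.U9Data
import Cfsg.Agent.Lib.helper10.J3Data

set_option autoImplicit false
set_option maxRecDepth 100000
open scoped Matrix

namespace Cfsg.Agent.Lib.helper10

theorem u9_chkA_c2 : allBelow (fun i => (chkPt u9Ac (j3L0.S.act 0) u9row) (2052 + i)) 1026 = true := by decide +kernel

theorem u9_chkB_c0 : allBelow (fun i => (chkPt u9Bc (j3L0.S.act 2) u9row) (0 + i)) 1026 = true := by decide +kernel

theorem u9_chkB_c4 : allBelow (fun i => (chkPt u9Bc (j3L0.S.act 2) u9row) (4104 + i)) 1026 = true := by decide +kernel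

theorem u9_chkO_c2 : allBelow (fun i => (chkPt u9Oc (fun x => x) u9row) (2052 + i)) 1026 = true := by decide +kernel

end Cfsg.Agent.Lib.helper10
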