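import Mathlib
import Cfsg.Agent.Lib.helper10.U9Alg
import Cfsg.Agent.Lib.helper10.U9Data
import Cfsg.Agent.Lib.helper10.J3Cert
import Cfsg.Agent.Lib.helper10.U9Chk0
import Cfsg.Agent.Lib.helper10.U9Chk1
import Cfsg.Agent.Lib.helper10.U9Chk2
import Cfsg.Agent.Lib.helper10.U9Chk3

set_option autoImplicit false
set_option maxRecDepth 100000
open scoped Matrix

namespace Cfsg.Agent.Lib.helper10

theorem u9_chkA : ∀ x, x < 6156 → (chkPt u9Ac (j3L0.S.act 0) u9row) x = true := by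
  intro x hx
  by_cases h0 : x < 1026
  · exact allFrom_sound (f := chkPt u9Ac (j3L0.S.act 0) u9row) u9_chkA_c0 x (by omega) (by omega)
  by_cases h1 : x < 2052
  · exact allFrom_sound (f := chkPt u9Ac (j3L0.S.act 0) u9row) u9_chkA_c1 x (by omega) (by omega)
  by_cases h2 : x < 3078
  · exact allFrom_sound (f := chkPt u9Ac (j3L0.S.act 0) u9row) u9_chkA_c2 x (by omega) (by omega)
  by_cases h3 : x < 4104
  · exact allFrom_sound (f := chkPt u9Ac (j3L0.S.act 0) u9row) u9_chkA_c3 x (by omega) (by omega)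
  by_cases h4 : x < 5130
  · exact allFrom_sound (f := chkPt u9Ac (j3L0.S.act 0) u9row) u9_chkA_c4 x (by omega) (by omega)
  exact allFrom_sound (f := chkPt u9Ac (j3L0.S.act 0) u9row) u9_chkA_c5 x (by omega) (by omega)

theorem u9_chkB : ∀ x, x < 6156 → (chkPt u9Bc (j3L0.S.act 2) u9row) x = true := by
  intro x hx
  by_cases h0 : x < 1026
  · exact allFrom_sound (f := chkPt u9Bc (j3L0.S.act 2) u9row) u9_chkB_c0 x (by omega) (by omega)
  by_cases h1 : x < 2052
  · exact allFrom_sound (f := chkPt u9Bc (j3L0.S.act 2) u9row) u9_chkB_c1 x (by omega) (by omega)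
  by_cases h2 : x < 3078
  · exact allFrom_sound (f := chkPt u9Bc (j3L0.S.act 2) u9row) u9_chkB_c2 x (by omega) (by omega)
  by_cases h3 : x < 4104
  · exact allFrom_sound (f := chkPt u9Bc (j3L0.S.act 2) u9row) u9_chkB_c3 x (by omega) (by omega)
  by_cases h4 : x < 5130
  · exact allFrom_sound (f := chkPt u9Bc (j3L0.S.act 2) u9row) u9_chkB_c4 x (by omega) (by omega)
  exact allFrom_sound (f := chkPt u9Bc (j3L0.S.act 2) u9row) u9_chkB_c5 x (by omega) (by omega)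

theorem u9_chkO : ∀ x, x < 6156 → (chkPt u9Oc (fun x => x) u9row) x = true := by
  intro x hx
  by_cases h0 : x < 1026
  · exact allFrom_sound (f := chkPt u9Oc (fun x => x) u9row) u9_chkO_c0 x (by omega) (by omega)
  by_cases h1 : x < 2052
  · exact allFrom_sound (f := chkPt u9Oc (fun x => x) u9row) u9_chkO_c1 x (by omega) (by omega)
  by_cases h2 : x < 3078
  · exact allFrom_sound (f := chkPt u9Oc (fun x => x) u9row) u9_chkO_c2 x (by omega) (by omega)
  by_cases h3 : x < 4104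
  · exact allFrom_sound (f := chkPt u9Oc (fun x => x) u9row) u9_chkO_c3 x (by omega) (by omega)
  by_cases h4 : x < 5130
  · exact allFrom_sound (f := chkPt u9Oc (fun x => x) u9row) u9_chkO_c4 x (by omega) (by omega)
  exact allFrom_sound (f := chkPt u9Oc (fun x => x) u9row) u9_chkO_c5 x (by omega) (by omega)

theorem u9A_om : OmC u9Ac := by decide +kernel

theorem u9A2_om : OmC u9A2c := by decide +kernel

theorem u9A4_om : OmC u9A4c := by decide +kernel

theorem u9A8_om : OmC u9A8c := by decide +kernel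

theorem u9A16_om : OmC u9A16c := by decide +kernel

theorem u9B_om : OmC u9Bc := by decide +kernel

theorem u9B2_om : OmC u9B2c := by decide +kernel

theorem u9B4_om : OmC u9B4c := by decide +kernel

theorem u9B8_om : OmC u9B8c := by decide +kernel

theorem u9B16_om : OmC u9B16c := by decide +kernel

theorem u9B18_om : OmC u9B18c := by decide +kernel

theorem u9O_om : OmC u9Oc := by decide +kernel

theorem u9U_om : OmC u9Uc := by decide +kernel

theorem u9V_om : OmC u9Vc := by decide +kernel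

theorem u9S_om : OmC u9Sc := by decide +kernel

theorem u9P0_om : OmC u9P0c := by decide +kernel

theorem u9P1_om : OmC u9P1c := by decide +kernel

theorem u9P2_om : OmC u9P2c := by decide +kernel

theorem u9P3_om : OmC u9P3c := by decide +kernel

theorem u9P4_om : OmC u9P4c := by decide +kernel

theorem u9P5_om : OmC u9P5c := by decide +kernel

theorem u9P6_om : OmC u9P6c := by decide +kernel

theorem u9P7_om : OmC u9P7c := by decide +kernel

theorem u9P8_om : OmC u9P8c := by decide +kernel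

theorem u9P9_om : OmC u9P9c := by decide +kernel

theorem u9Q0_om : OmC u9Q0c := by decide +kernel

theorem u9Q1_om : OmC u9Q1c := by decide +kernel

theorem u9Q2_om : OmC u9Q2c := by decide +kernel

theorem u9Q3_om : OmC u9Q3c := by decide +kernel

theorem u9Q4_om : OmC u9Q4c := by decide +kernel

theorem u9Q5_om : OmC u9Q5c := by decide +kernel

theorem u9Q6_om : OmC u9Q6c := by decide +kernel

theorem u9Q7_om : OmC u9Q7c := by decide +kernel

theorem u9Q8_om : OmC u9Q8c := by decide +kernel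

theorem u9Q9_om : OmC u9Q9c := by decide +kernel

theorem u9_A2 : Mc u9Ac * Mc u9Ac = Mc u9A2c :=
  Mc_mul _ _ _ u9A_om (by decide +kernel)

theorem u9_A4 : Mc u9A2c * Mc u9A2c = Mc u9A4c :=
  Mc_mul _ _ _ u9A2_om (by decide +kernel)

theorem u9_A8 : Mc u9A4c * Mc u9A4c = Mc u9A8c :=
  Mc_mul _ _ _ u9A4_om (by decide +kernel)

theorem u9_A16 : Mc u9A8c * Mc u9A8c = Mc u9A16c :=
  Mc_mul _ _ _ u9A8_om (by decide +kernel)

theorem u9_A17 : Mc u9A16c * Mc u9Ac = 1 := by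
  rw [← Mc_one]
  exact Mc_mul _ _ _ u9A16_om (by decide +kernel)

theorem u9_B2 : Mc u9Bc * Mc u9Bc = Mc u9B2c :=
  Mc_mul _ _ _ u9B_om (by decide +kernel)

theorem u9_B4 : Mc u9B2c * Mc u9B2c = Mc u9B4c :=
  Mc_mul _ _ _ u9B2_om (by decide +kernel)

theorem u9_B8 : Mc u9B4c * Mc u9B4c = Mc u9B8c :=
  Mc_mul _ _ _ u9B4_om (by decide +kernel)

theorem u9_B16 : Mc u9B8c * Mc u9B8c = Mc u9B16c :=
  Mc_mul _ _ _ u9B8_om (by decide +kernel)

theorem u9_B18 : Mc u9B16c * Mc u9B2c = Mc u9B18c :=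
  Mc_mul _ _ _ u9B16_om (by decide +kernel)

theorem u9_B19 : Mc u9B18c * Mc u9Bc = 1 := by
  rw [← Mc_one]
  exact Mc_mul _ _ _ u9B18_om (by decide +kernel)

theorem u9_VU : Mc u9Vc * Mc u9Uc = 1 := by
  rw [← Mc_one]
  exact Mc_mul _ _ _ u9V_om (by decide +kernel)

theorem u9_detA : (Mc u9Ac).det = 1 := det_of_17 _ _ _ _ _ u9_A2 u9_A4 u9_A8 u9_A16 u9_A17

theorem u9_detB : (Mc u9Bc).det = 1 := det_of_19 _ _ _ _ _ _ u9_B2 u9_B4 u9_B8 u9_B16 u9_B18 u9_B19

theorem u9_powA : Mc u9Ac ^ 17 = 1 := pow_of_17 _ _ _ _ _ u9_A2 u9_A4 u9_A8 u9_A16 u9_A17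

theorem u9_powB : Mc u9Bc ^ 19 = 1 := pow_of_19 _ _ _ _ _ _ u9_B2 u9_B4 u9_B8 u9_B16 u9_B18 u9_B19

theorem u9_unitA : (Mc u9Ac)ᵀ * (Mc u9Ac).map (fun x => x ^ 2) = 1 :=
  unit_of_inv _ _ u9_A17 (by decide +kernel)

theorem u9_unitB : (Mc u9Bc)ᵀ * (Mc u9Bc).map (fun x => x ^ 2) = 1 :=
  unit_of_inv _ _ u9_B19 (by decide +kernel)

theorem u9_O : Mc u9Oc = F4.w • (1 : Matrix (Fin 9) (Fin 9) F4) :=
  mat_ext_allEq _ _ (by decide +kernel)

/-- The subgroups of the certificate. -/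
def u9W (i : Fin 6156) : AddSubgroup (Fin 9 → F4) := Wof (basl (u9row i.val))

theorem u9_mapA (i : Fin 6156) : ∀ v ∈ u9W i, Mc u9Ac *ᵥ v ∈ u9W (j3L0.S.L 0 i) := by
  have h := chkPt_sound u9Ac u9A_om (j3L0.S.act 0) u9row i.val (u9_chkA i.val i.2)
  rw [← j3L0.S.hact 0 i] at h
  exact h

theorem u9_mapB (i : Fin 6156) : ∀ v ∈ u9W i, Mc u9Bc *ᵥ v ∈ u9W (j3L0.S.L 2 i) := by
  have h := chkPt_sound u9Bc u9B_om (j3L0.S.act 2) u9row i.val (u9_chkB i.val i.2)
  rw [← j3L0.S.hact 2 i] at h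
  exact h

theorem u9_mapO (i : Fin 6156) : ∀ v ∈ u9W i, Mc u9Oc *ᵥ v ∈ u9W i :=
  chkPt_sound u9Oc u9O_om (fun x => x) u9row i.val (u9_chkO i.val i.2)

theorem u9_permA : j3L0.S.L 0 ^ 17 = 1 := by
  rw [← j3L0.S.pperm_replicate]
  ext x
  rw [j3L0.S.pperm_apply]
  have := j3_ap x.val (Nat.zero_le _) x.2
  simpa using this

theorem u9_permB : j3L0.S.L 2 ^ 19 = 1 := by
  rw [← j3L0.S.pperm_replicate]
  ext x
  rw [j3L0.S.pperm_apply]
  have := j3_bp x.val (Nat.zero_le _) x.2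
  simpa using this

theorem u9_ucode0 : u9Uc 0 = 0xe31 := by decide +kernel

theorem u9_frame0 (M : Matrix (Fin 9) (Fin 9) F4)
    (hM : ∀ i : Fin 6156, ∀ v ∈ u9W i, M *ᵥ v ∈ u9W i) :
    ∃ c : F4, M *ᵥ dec (u9Uc 0) = c • dec (u9Uc 0) :=
  line_of_kills u9P0c u9Q0c (u9Uc 0) (dec 0x1) (basl (u9row 2409)) (basl (u9row 4094))
    u9P0_om u9Q0_om (by decide +kernel) (by decide +kernel)
    (by decide +kernel) _
    (hM ⟨2409, by norm_num⟩ _ (redL_sound (by decide +kernel)))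
    (hM ⟨4094, by norm_num⟩ _ (redL_sound (by decide +kernel)))

theorem u9_ucode1 : u9Uc 2 = 0x155b1 := by decide +kernel

theorem u9_frame1 (M : Matrix (Fin 9) (Fin 9) F4)
    (hM : ∀ i : Fin 6156, ∀ v ∈ u9W i, M *ᵥ v ∈ u9W i) :
    ∃ c : F4, M *ᵥ dec (u9Uc 2) = c • dec (u9Uc 2) :=
  line_of_kills u9P1c u9Q1c (u9Uc 2) (dec 0x1) (basl (u9row 2427)) (basl (u9row 3163))
    u9P1_om u9Q1_om (by decide +kernel) (by decide +kernel)
    (by decide +kernel) _
    (hM ⟨2427, by norm_num⟩ _ (redL_sound (by decide +kernel)))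
    (hM ⟨3163, by norm_num⟩ _ (redL_sound (by decide +kernel)))

theorem u9_ucode2 : u9Uc 4 = 0x1735 := by decide +kernel

theorem u9_frame2 (M : Matrix (Fin 9) (Fin 9) F4)
    (hM : ∀ i : Fin 6156, ∀ v ∈ u9W i, M *ᵥ v ∈ u9W i) :
    ∃ c : F4, M *ᵥ dec (u9Uc 4) = c • dec (u9Uc 4) :=
  line_of_kills u9P2c u9Q2c (u9Uc 4) (dec 0x1) (basl (u9row 738)) (basl (u9row 1709))
    u9P2_om u9Q2_om (by decide +kernel) (by decide +kernel)
    (by decide +kernel) _
    (hM ⟨738, by norm_num⟩ _ (redL_sound (by decide +kernel)))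
    (hM ⟨1709, by norm_num⟩ _ (redL_sound (by decide +kernel)))

theorem u9_ucode3 : u9Uc 6 = 0x15b89 := by decide +kernel

theorem u9_frame3 (M : Matrix (Fin 9) (Fin 9) F4)
    (hM : ∀ i : Fin 6156, ∀ v ∈ u9W i, M *ᵥ v ∈ u9W i) :
    ∃ c : F4, M *ᵥ dec (u9Uc 6) = c • dec (u9Uc 6) :=
  line_of_kills u9P3c u9Q3c (u9Uc 6) (dec 0x1) (basl (u9row 1298)) (basl (u9row 6057))
    u9P3_om u9Q3_om (by decide +kernel) (by decide +kernel)
    (by decide +kernel) _
    (hM ⟨1298, by norm_num⟩ _ (redL_sound (by decide +kernel)))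
    (hM ⟨6057, by norm_num⟩ _ (redL_sound (by decide +kernel)))

theorem u9_ucode4 : u9Uc 8 = 0x723d := by decide +kernel

theorem u9_frame4 (M : Matrix (Fin 9) (Fin 9) F4)
    (hM : ∀ i : Fin 6156, ∀ v ∈ u9W i, M *ᵥ v ∈ u9W i) :
    ∃ c : F4, M *ᵥ dec (u9Uc 8) = c • dec (u9Uc 8) :=
  line_of_kills u9P4c u9Q4c (u9Uc 8) (dec 0x1) (basl (u9row 6060)) (basl (u9row 5771))
    u9P4_om u9Q4_om (by decide +kernel) (by decide +kernel)
    (by decide +kernel) _
    (hM ⟨6060, by norm_num⟩ _ (redL_sound (by decide +kernel)))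
    (hM ⟨5771, by norm_num⟩ _ (redL_sound (by decide +kernel)))

theorem u9_ucode5 : u9Uc 10 = 0x2d895 := by decide +kernel

theorem u9_frame5 (M : Matrix (Fin 9) (Fin 9) F4)
    (hM : ∀ i : Fin 6156, ∀ v ∈ u9W i, M *ᵥ v ∈ u9W i) :
    ∃ c : F4, M *ᵥ dec (u9Uc 10) = c • dec (u9Uc 10) :=
  line_of_kills u9P5c u9Q5c (u9Uc 10) (dec 0x1) (basl (u9row 3208)) (basl (u9row 2105))
    u9P5_om u9Q5_om (by decide +kernel) (by decide +kernel)
    (by decide +kernel) _
    (hM ⟨3208, by norm_num⟩ _ (redL_sound (by decide +kernel)))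
    (hM ⟨2105, by norm_num⟩ _ (redL_sound (by decide +kernel)))

theorem u9_ucode6 : u9Uc 12 = 0x113a1 := by decide +kernel

theorem u9_frame6 (M : Matrix (Fin 9) (Fin 9) F4)
    (hM : ∀ i : Fin 6156, ∀ v ∈ u9W i, M *ᵥ v ∈ u9W i) :
    ∃ c : F4, M *ᵥ dec (u9Uc 12) = c • dec (u9Uc 12) :=
  line_of_kills u9P6c u9Q6c (u9Uc 12) (dec 0x1) (basl (u9row 135)) (basl (u9row 566))
    u9P6_om u9Q6_om (by decide +kernel) (by decide +kernel)
    (by decide +kernel) _
    (hM ⟨135, by norm_num⟩ _ (redL_sound (by decide +kernel)))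
    (hM ⟨566, by norm_num⟩ _ (redL_sound (by decide +kernel)))

theorem u9_ucode7 : u9Uc 14 = 0x27e2d := by decide +kernel

theorem u9_frame7 (M : Matrix (Fin 9) (Fin 9) F4)
    (hM : ∀ i : Fin 6156, ∀ v ∈ u9W i, M *ᵥ v ∈ u9W i) :
    ∃ c : F4, M *ᵥ dec (u9Uc 14) = c • dec (u9Uc 14) :=
  line_of_kills u9P7c u9Q7c (u9Uc 14) (dec 0x1) (basl (u9row 4275)) (basl (u9row 4787))
    u9P7_om u9Q7_om (by decide +kernel) (by decide +kernel)
    (by decide +kernel) _
    (hM ⟨4275, by norm_num⟩ _ (redL_sound (by decide +kernel)))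
    (hM ⟨4787, by norm_num⟩ _ (redL_sound (by decide +kernel)))

theorem u9_ucode8 : u9Uc 16 = 0x28aa9 := by decide +kernel

theorem u9_frame8 (M : Matrix (Fin 9) (Fin 9) F4)
    (hM : ∀ i : Fin 6156, ∀ v ∈ u9W i, M *ᵥ v ∈ u9W i) :
    ∃ c : F4, M *ᵥ dec (u9Uc 16) = c • dec (u9Uc 16) :=
  line_of_kills u9P8c u9Q8c (u9Uc 16) (dec 0x1) (basl (u9row 3889)) (basl (u9row 2928))
    u9P8_om u9Q8_om (by decide +kernel) (by decide +kernel)
    (by decide +kernel) _
    (hM ⟨3889, by norm_num⟩ _ (redL_sound (by decide +kernel)))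
    (hM ⟨2928, by norm_num⟩ _ (redL_sound (by decide +kernel)))

theorem u9_frame9 (M : Matrix (Fin 9) (Fin 9) F4)
    (hM : ∀ i : Fin 6156, ∀ v ∈ u9W i, M *ᵥ v ∈ u9W i) :
    ∃ c : F4, M *ᵥ dec 0x1d671 = c • dec 0x1d671 :=
  line_of_kills u9P9c u9Q9c 0x1d671 (dec 0x1) (basl (u9row 306)) (basl (u9row 4519))
    u9P9_om u9Q9_om (by decide +kernel) (by decide +kernel)
    (by decide +kernel) _
    (hM ⟨306, by norm_num⟩ _ (redL_sound (by decide +kernel)))
    (hM ⟨4519, by norm_num⟩ _ (redL_sound (by decide +kernel)))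

/-- A matrix stabilising all the subgroups of the certificate is a scalar matrix. -/
theorem u9_scalar (M : Matrix (Fin 9) (Fin 9) F4)
    (hM : ∀ i : Fin 6156, ∀ v ∈ u9W i, M *ᵥ v ∈ u9W i) : ∃ c : F4, M = c • 1 := by
  refine scalar_of_frame M (Mc u9Uc) (Mc u9Vc) u9_VU (dec 0x397ed) (by decide +kernel) ?_ ?_
  · intro j
    fin_cases j
    · exact u9_frame0 M hM
    · exact u9_frame1 M hM
    · exact u9_frame2 M hM
    · exact u9_frame3 M hM
    · exact u9_frame4 M hM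
    · exact u9_frame5 M hM
    · exact u9_frame6 M hM
    · exact u9_frame7 M hM
    · exact u9_frame8 M hM
  · rw [mulVec_dec _ u9U_om, show mv u9Uc 0x397ed = 0x1d671 from by decide +kernel]
    exact u9_frame9 M hM

/-- The subgroup of the point `1` is not contained in the subgroup of its image. -/
theorem u9_sep : ¬ ∀ v ∈ u9W ⟨1, by norm_num⟩, v ∈ u9W (j3L0.S.L 0 ⟨1, by norm_num⟩) := by
  intro h
  have h1 : dec 0x203fd ∈ u9W ⟨1, by norm_num⟩ := redL_sound (by decide +kernel)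
  have h2 := h _ h1
  have h3 : ((j3L0.S.L 0 ⟨1, by norm_num⟩ : Fin 6156) : ℕ) = 1689 := by
    rw [j3L0.S.hact]
    decide +kernel
  have h4 : u9W (j3L0.S.L 0 ⟨1, by norm_num⟩) = Wof (basl (u9row 1689)) := by
    unfold u9W
    rw [h3]
  rw [h4] at h2
  have h5 := chkKill_sound u9Sc u9S_om _ (by decide +kernel) _ h2
  rw [mulVec_dec _ u9S_om] at h5
  revert h5
  decide +kernel

end Cfsg.Agent.Lib.helper10
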