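/-
Words of matrices over the field with four elements given by packed columns: the packed action
of a word on a packed vector, the matrix of a word, and a kernel-checkable test that the matrix
of a word whose letters lie in a range of codes is the matrix of a given code; the tested
matrices then belong to every submonoid containing the matrices of the codes of the range.
-/
import Mathlib
import Cfsg.Agent.Lib.helper10.U9Alg

set_option autoImplicit false
open scoped Matrix

namespace Cfsg.Agent.Lib.helper10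

/-- The packed columns of the letter `c` of a list of tables. -/
def tsel (tabs : List ℕ) (c : ℕ) : ℕ → ℕ := fun k => plook 18 (tabs.getD c 0) k

/-- The packed action of a word (the first letter acts last) on a packed vector. -/
def wact (tabs : List ℕ) (w : List ℕ) (x : ℕ) : ℕ :=
  List.rec (motive := fun _ => ℕ) x
    (fun c _ ih => nforce ih fun y => nforce (tabs.getD c 0) fun t => mv (plook 18 t) y) w

theorem wact_nil (tabs : List ℕ) (x : ℕ) : wact tabs [] x = x := rfl

theorem wact_cons (tabs : List ℕ) (c : ℕ) (w : List ℕ) (x : ℕ) :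
    wact tabs (c :: w) x = mv (tsel tabs c) (wact tabs w x) := by
  show nforce (wact tabs w x) (fun y => nforce (tabs.getD c 0) fun t => mv (plook 18 t) y) = _
  rw [nforce_eq, nforce_eq]
  rfl

/-- The matrix of a word. -/
def wmat (tabs : List ℕ) (w : List ℕ) : Matrix (Fin 9) (Fin 9) F4 :=
  (w.map (fun c => Mc (tsel tabs c))).prod

theorem wmat_nil (tabs : List ℕ) : wmat tabs [] = 1 := rfl

theorem wmat_cons (tabs : List ℕ) (c : ℕ) (w : List ℕ) :
    wmat tabs (c :: w) = Mc (tsel tabs c) * wmat tabs w := by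
  simp [wmat]

theorem wmat_mulVec (tabs : List ℕ) (w : List ℕ) (hom : ∀ c ∈ w, OmC (tsel tabs c)) (x : ℕ) :
    wmat tabs w *ᵥ dec x = dec (wact tabs w x) := by
  induction w with
  | nil => rw [wmat_nil, Matrix.one_mulVec, wact_nil]
  | cons c w ih =>
    rw [wmat_cons, wact_cons, ← Matrix.mulVec_mulVec,
      ih (fun a ha => hom a (List.mem_cons_of_mem _ ha)),
      mulVec_dec _ (hom c List.mem_cons_self)]

/-- The matrix of a word from its packed action on the packed basis vectors. -/
theorem wmat_eq (tabs : List ℕ) (w : List ℕ) (T : ℕ → ℕ) (hom : ∀ c ∈ w, OmC (tsel tabs c))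
    (h : ∀ j : Fin 9, wact tabs w (2 ^ (2 * j.val)) = T (2 * j.val)) : wmat tabs w = Mc T := by
  have h1 : wmat tabs w = wmat tabs w * Mc (fun k => 2 ^ k) := by rw [Mc_one, mul_one]
  rw [h1]
  ext i j
  have h2 : (wmat tabs w * Mc (fun k => 2 ^ k)) i j
      = (wmat tabs w *ᵥ dec (2 ^ (2 * j.val))) i := rfl
  rw [h2, wmat_mulVec tabs w hom, h j]
  rfl

theorem wmat_mem (tabs : List ℕ) (w : List ℕ) (S : Submonoid (Matrix (Fin 9) (Fin 9) F4))
    (h : ∀ c ∈ w, Mc (tsel tabs c) ∈ S) : wmat tabs w ∈ S := by
  apply Submonoid.list_prod_mem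
  intro M hM
  obtain ⟨c, hc, rfl⟩ := List.mem_map.mp hM
  exact h c hc

/-- The test that the letters of a word lie in a range and that its matrix is that of `c`. -/
def wchk (tabs : List ℕ) (lo hi : ℕ) (w : List ℕ) (c : ℕ) : Bool :=
  w.all (fun a => Nat.ble lo a && Nat.blt a hi) &&
    (List.range 9).all (fun j => Nat.beq (wact tabs w (2 ^ (2 * j))) (plook 18 (tabs.getD c 0) (2 * j)))

theorem wchk_sound (tabs : List ℕ) (lo hi : ℕ) (w : List ℕ) (c : ℕ)
    (hom : ∀ a, lo ≤ a → a < hi → OmC (tsel tabs a)) (h : wchk tabs lo hi w c = true)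
    (S : Submonoid (Matrix (Fin 9) (Fin 9) F4))
    (hS : ∀ a, lo ≤ a → a < hi → Mc (tsel tabs a) ∈ S) : Mc (tsel tabs c) ∈ S := by
  unfold wchk at h
  rw [Bool.and_eq_true, List.all_eq_true, List.all_eq_true] at h
  have hr : ∀ a ∈ w, lo ≤ a ∧ a < hi := by
    intro a ha
    have := h.1 a ha
    rw [Bool.and_eq_true] at this
    exact ⟨Nat.le_of_ble_eq_true this.1, Nat.le_of_ble_eq_true this.2⟩
  have he : wmat tabs w = Mc (tsel tabs c) := by
    apply wmat_eq tabs w _ (fun a ha => hom a (hr a ha).1 (hr a ha).2)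
    intro j
    have := h.2 j.val (List.mem_range.mpr j.2)
    exact Nat.eq_of_beq_eq_true this
  rw [← he]
  exact wmat_mem tabs w S (fun a ha => hS a (hr a ha).1 (hr a ha).2)

/-- The odd columns of the tables of the codes below `N` are `ω` times the even ones. -/
def omAll (tabs : List ℕ) (N : ℕ) : Prop := ∀ c, c < N → OmC (tsel tabs c)

instance instDecidableOmAll (tabs : List ℕ) (N : ℕ) : Decidable (omAll tabs N) := by
  unfold omAll
  infer_instance

/-- A matrix with a left inverse in a submonoid that is the image of a group lies in it. -/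
theorem inv_mem_map_of_group {G : Type*} [Group G] (f : G →* Matrix (Fin 9) (Fin 9) F4)
    (H : Subgroup G) (x y : Matrix (Fin 9) (Fin 9) F4) (hx : x ∈ H.toSubmonoid.map f)
    (hxy : x * y = 1) : y ∈ H.toSubmonoid.map f := by
  obtain ⟨γ, hγ, rfl⟩ := hx
  refine ⟨γ⁻¹, H.inv_mem hγ, ?_⟩
  calc f γ⁻¹ = f γ⁻¹ * (f γ * y) := by rw [hxy, mul_one]
    _ = y := by rw [← mul_assoc, ← map_mul, inv_mul_cancel, map_one, one_mul]

end Cfsg.Agent.Lib.helper10
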