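/-
Fast products of a matrix over the field with four elements, given by packed columns, with
packed vectors by three table lookups; the packed codes below `2 ^ 18` are the vectors of length
nine; kernel-checkable orbit trees on the packed vectors: every code has an entry with the
number of its orbit, a flag, the letter leading to its parent and its depth.
-/
import Mathlib
import Cfsg.Agent.Lib.helper10.U9Word

set_option autoImplicit false
open scoped Matrix

namespace Cfsg.Agent.Lib.helper10

theorem mvN_xor (cols : ℕ → ℕ) (a b k : ℕ) :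
    mvN cols (a ^^^ b) k = mvN cols a k ^^^ mvN cols b k := by
  induction k with
  | zero =>
    show (0 : ℕ) = 0 ^^^ 0
    decide
  | succ k ih =>
    rw [mvN_succ, mvN_succ, mvN_succ, ih, Nat.testBit_xor]
    cases a.testBit k <;> cases b.testBit k <;>
      simp [Nat.xor_assoc, Nat.xor_comm, Nat.xor_left_comm]

theorem mv_xor (cols : ℕ → ℕ) (a b : ℕ) : mv cols (a ^^^ b) = mv cols a ^^^ mv cols b :=
  mvN_xor cols a b 18

theorem split18 (x : ℕ) :
    x = x % 2 ^ 6 ^^^ 2 ^ 6 * (x / 2 ^ 6 % 2 ^ 6) ^^^ 2 ^ 12 * (x / 2 ^ 12) := by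
  apply Nat.eq_of_testBit_eq
  intro i
  simp only [Nat.testBit_xor, Nat.testBit_mod_two_pow, Nat.testBit_two_pow_mul,
    Nat.testBit_div_two_pow]
  by_cases h1 : i < 6
  · have e1 : ¬ (6 ≤ i) := by omega
    have e2 : ¬ (12 ≤ i) := by omega
    simp [h1, e1, e2]
  · by_cases h2 : i < 12
    · have e1 : 6 ≤ i := by omega
      have e2 : ¬ (12 ≤ i) := by omega
      have e3 : i - 6 < 6 := by omega
      simp [h1, e1, e2, e3]
    · have e1 : 6 ≤ i := by omega
      have e2 : 12 ≤ i := by omega
      have e3 : ¬ (i - 6 < 6) := by omega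
      simp [h1, e1, e2, e3]

/-- The fast product with a packed vector: three lookups in a table of `192` entries. -/
def fmv (T x : ℕ) : ℕ :=
  Nat.xor (Nat.xor (plook 18 T (Nat.mod x 64)) (plook 18 T (Nat.add 64 (Nat.mod (Nat.div x 64) 64))))
    (plook 18 T (Nat.add 128 (Nat.div x 4096)))

/-- The test of a table of fast products. -/
def ctab (T : ℕ) (cols : ℕ → ℕ) : Bool :=
  allBelow (fun c => Nat.beq (plook 18 T c) (mv cols c) &&
    Nat.beq (plook 18 T (64 + c)) (mv cols (64 * c)) &&
    Nat.beq (plook 18 T (128 + c)) (mv cols (4096 * c))) 64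

theorem fmv_eq (T : ℕ) (cols : ℕ → ℕ) (h : ctab T cols = true) (x : ℕ) (hx : x < 2 ^ 18) :
    fmv T x = mv cols x := by
  have h1 := allBelow_sound h
  have k0 := h1 (x % 64) (Nat.mod_lt _ (by norm_num))
  have k1 := h1 (x / 64 % 64) (Nat.mod_lt _ (by norm_num))
  have k2 := h1 (x / 4096) (by omega)
  simp only [Bool.and_eq_true] at k0 k1 k2
  have e0 := Nat.eq_of_beq_eq_true k0.1.1
  have e1 := Nat.eq_of_beq_eq_true k1.1.2
  have e2 := Nat.eq_of_beq_eq_true k2.2
  have hs := split18 x
  norm_num at hs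
  show plook 18 T (x % 64) ^^^ plook 18 T (64 + x / 64 % 64) ^^^ plook 18 T (128 + x / 4096) = _
  rw [e0, e1, e2, ← mv_xor, ← mv_xor, ← hs]

theorem fmv_lt (T x : ℕ) : fmv T x < 2 ^ 18 :=
  Nat.xor_lt_two_pow (Nat.xor_lt_two_pow (plook_lt _ _ _) (plook_lt _ _ _)) (plook_lt _ _ _)

theorem dec_fmv (T : ℕ) (cols : ℕ → ℕ) (hom : OmC cols) (h : ctab T cols = true) (x : ℕ)
    (hx : x < 2 ^ 18) : dec (fmv T x) = Mc cols *ᵥ dec x := by
  rw [fmv_eq T cols h x hx, mulVec_dec cols hom]

theorem F4.ofBits_inj : ∀ a b c d : Bool, F4.ofBits a b = F4.ofBits c d → a = c ∧ b = d := by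
  decide

theorem dec_inj (x y : ℕ) (hx : x < 2 ^ 18) (hy : y < 2 ^ 18) (h : dec x = dec y) : x = y := by
  apply Nat.eq_of_testBit_eq
  intro j
  by_cases hj : j < 18
  · have h1 := congrFun h ⟨j / 2, by omega⟩
    have h2 := F4.ofBits_inj _ _ _ _ h1
    rcases Nat.mod_two_eq_zero_or_one j with h3 | h3
    · have e : 2 * (j / 2) = j := by omega
      have := h2.1
      simp only [e] at this
      exact this
    · have e : 2 * (j / 2) + 1 = j := by omega
      have := h2.2
      simp only [e] at this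
      exact this
  · have hp : 2 ^ 18 ≤ 2 ^ j := Nat.pow_le_pow_right (by norm_num) (by omega)
    rw [Nat.testBit_lt_two_pow (lt_of_lt_of_le hx hp),
      Nat.testBit_lt_two_pow (lt_of_lt_of_le hy hp)]

theorem dec_surj (u : Fin 9 → F4) : ∃ x, x < 2 ^ 18 ∧ dec x = u := by
  have hinj : Function.Injective (fun x : Fin (2 ^ 18) => dec x.val) :=
    fun a b h => Fin.ext (dec_inj _ _ a.2 b.2 h)
  have hcard : Fintype.card (Fin (2 ^ 18)) = Fintype.card (Fin 9 → F4) := by
    rw [Fintype.card_fun, F4.card_eq, Fintype.card_fin, Fintype.card_fin]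
    norm_num
  have hbij := (Fintype.bijective_iff_injective_and_card _).mpr ⟨hinj, hcard⟩
  obtain ⟨a, ha⟩ := hbij.2 u
  exact ⟨a.val, a.2, ha⟩

/-! ### Entries -/

/-- The number of the orbit of an entry. -/
def eOrb (e : ℕ) : ℕ := Nat.land e 3

/-- The flag of an entry. -/
def eRep (e : ℕ) : Bool := Nat.beq (Nat.land (Nat.shiftRight e 2) 1) 1

/-- The letter of an entry. -/
def eLet (e : ℕ) : ℕ := Nat.land (Nat.shiftRight e 3) 3

/-- The depth of an entry. -/
def eDep (e : ℕ) : ℕ := Nat.shiftRight e 5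

theorem eLet_lt (e : ℕ) : eLet e < 4 := by
  have : eLet e ≤ 3 := Nat.and_le_right
  omega

/-- The entry is flagged and in the first orbit. -/
def isRep (e : ℕ) : Bool := Nat.beq (eOrb e) 1 && eRep e

/-- The tree test at the code `x` with entry `e`: the root, or the parent is in the same orbit
at a smaller depth. -/
def tpart (ent : ℕ → ℕ) (ft : ℕ → ℕ) (root : ℕ → ℕ) (e x : ℕ) : Bool :=
  Nat.beq (eOrb e) 0 ||
    cond (Nat.beq (eDep e) 0) (Nat.beq x (root (eOrb e)))
      (nforce (fmv (ft (eLet e)) x) fun p => nforce (ent p) fun e' =>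
        Nat.beq (eOrb e') (eOrb e) && Nat.blt (eDep e') (eDep e))

/-- The closure test at the code `x` with entry `e`: the first orbit is closed under three
matrices, and among the three multiples of a vector of it by the powers of the third one
exactly one is flagged. -/
def cpart (ent : ℕ → ℕ) (fa fb fo : ℕ) (e x : ℕ) : Bool :=
  !(Nat.beq (eOrb e) 1) ||
    (nforce (fmv fa x) (fun ya => Nat.beq (eOrb (ent ya)) 1) &&
      nforce (fmv fb x) (fun yb => Nat.beq (eOrb (ent yb)) 1) &&
      nforce (fmv fo x) fun y => nforce (ent y) fun ey =>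
        nforce (fmv fo y) fun z => nforce (ent z) fun ez =>
          Nat.beq (eOrb ey) 1 && cond (eRep e) (!(isRep ey) && !(isRep ez)) (isRep ey || isRep ez))

/-- The test at the code `x`. -/
def ochk (ent : ℕ → ℕ) (ft : ℕ → ℕ) (root : ℕ → ℕ) (fa fb fo : ℕ) (x : ℕ) : Bool :=
  nforce (ent x) fun e =>
    (Nat.beq x 0 || !(Nat.beq (eOrb e) 0)) && tpart ent ft root e x && cpart ent fa fb fo e x

theorem ochk_spec (ent : ℕ → ℕ) (ft : ℕ → ℕ) (root : ℕ → ℕ) (fa fb fo : ℕ) (x : ℕ)
    (h : ochk ent ft root fa fb fo x = true) :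
    (x ≠ 0 → eOrb (ent x) ≠ 0) ∧ tpart ent ft root (ent x) x = true ∧
      cpart ent fa fb fo (ent x) x = true := by
  unfold ochk at h
  rw [nforce_eq, Bool.and_eq_true, Bool.and_eq_true, Bool.or_eq_true] at h
  refine ⟨?_, h.1.2, h.2⟩
  intro hx ho
  rcases h.1.1 with h1 | h1
  · exact hx (Nat.eq_of_beq_eq_true h1)
  · rw [ho] at h1
    exact absurd h1 (by decide)

/-- Every code with a nonzero orbit number is the image of the root of its orbit under a matrix
of the submonoid. -/
theorem tree_sound (ent : ℕ → ℕ) (ft : ℕ → ℕ) (root : ℕ → ℕ)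
    (S : Submonoid (Matrix (Fin 9) (Fin 9) F4)) (lm li : ℕ → Matrix (Fin 9) (Fin 9) F4)
    (hli : ∀ l, l < 4 → li l ∈ S) (hinv : ∀ l, l < 4 → li l * lm l = 1)
    (hft : ∀ l, l < 4 → ∀ x, x < 2 ^ 18 → dec (fmv (ft l) x) = lm l *ᵥ dec x)
    (h : ∀ x, x < 2 ^ 18 → tpart ent ft root (ent x) x = true) :
    ∀ x, x < 2 ^ 18 → eOrb (ent x) ≠ 0 →
      ∃ M ∈ S, dec x = M *ᵥ dec (root (eOrb (ent x))) := by
  have key : ∀ n x, x < 2 ^ 18 → eDep (ent x) = n → eOrb (ent x) ≠ 0 →
      ∃ M ∈ S, dec x = M *ᵥ dec (root (eOrb (ent x))) := by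
    intro n
    induction n using Nat.strong_induction_on with
    | _ n ih =>
      intro x hx hn ho
      have hx' := h x hx
      unfold tpart at hx'
      rw [Bool.or_eq_true] at hx'
      rcases hx' with h0 | h0
      · exact absurd (Nat.eq_of_beq_eq_true h0) ho
      · by_cases hd : eDep (ent x) = 0
        · have hb : Nat.beq (eDep (ent x)) 0 = true := by rw [hd]; rfl
          rw [hb] at h0
          have hr : x = root (eOrb (ent x)) := Nat.eq_of_beq_eq_true h0
          refine ⟨1, S.one_mem, ?_⟩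
          rw [Matrix.one_mulVec, ← hr]
        · have hb : Nat.beq (eDep (ent x)) 0 = false := by
            cases hbb : Nat.beq (eDep (ent x)) 0
            · rfl
            · exact absurd (Nat.eq_of_beq_eq_true hbb) hd
          rw [hb, cond_false, nforce_eq, nforce_eq, Bool.and_eq_true] at h0
          have ho' := Nat.eq_of_beq_eq_true h0.1
          have hd' : eDep (ent (fmv (ft (eLet (ent x))) x)) < eDep (ent x) :=
            Nat.le_of_ble_eq_true h0.2
          have hl := eLet_lt (ent x)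
          have hp := fmv_lt (ft (eLet (ent x))) x
          obtain ⟨M, hM, hMe⟩ := ih _ (by rw [← hn]; exact hd') _ hp rfl (by rw [ho']; exact ho)
          refine ⟨li (eLet (ent x)) * M, S.mul_mem (hli _ hl) hM, ?_⟩
          rw [← Matrix.mulVec_mulVec, ← ho', ← hMe, hft _ hl x hx, Matrix.mulVec_mulVec,
            hinv _ hl, Matrix.one_mulVec]
  intro x hx ho
  exact key _ x hx rfl ho

end Cfsg.Agent.Lib.helper10
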